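import Groth.Prelude.Def_WeilCoh
import Mathlib

namespace Groth.Agent.H77

open WeilCoh AlgebraicGeometry CategoryTheory

universe u v w

variable {k : Type u} [Field k] {P : ObjectProperty (Over (Spec (CommRingCat.of k)))}
variable {K : Type v} [Field K] (T : TheoryOn.{u, v, w} k P K)

/-- The pairing evaluated. -/
lemma pairing_apply {A : Type w} [Ring A] [Algebra K A] (S S' : Submodule K A) (t : A →ₗ[K] K)
    (x : S) (y : S') : pairing K S S' t x y = t ((x : A) * (y : A)) := rfl

lemma mem_gr_of_eq (Y : P.FullSubcategory) {x : T.H Y} {n m : ℤ} (h : x ∈ T.gr Y n) (e : n = m) :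
    x ∈ T.gr Y m := e ▸ h

/-- Nondegeneracy: classes in `gr Y n` are determined by traces of products with `gr Y m`,
`n + m = 2 dim Y`. -/
lemma eq_of_tr_mul_eq (Y : P.FullSubcategory) (n m : ℤ) (hnm : n + m = 2 * (dim Y.obj.left : ℤ))
    (x y : T.H Y) (hx : x ∈ T.gr Y n) (hy : y ∈ T.gr Y n)
    (h : ∀ b ∈ T.gr Y m, T.tr Y (x * b) = T.tr Y (y * b)) : x = y := by
  have hp := T.duality Y n m hnm
  have hinj := (LinearMap.IsPerfPair.bijective_left (pairing K (T.gr Y n) (T.gr Y m) (T.tr Y))).1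
  have : (⟨x, hx⟩ : T.gr Y n) = ⟨y, hy⟩ := by
    apply hinj
    ext b
    rw [pairing_apply, pairing_apply]
    exact h b b.2
  exact congr_arg Subtype.val this

/-- The defining property of the push-forward. -/
lemma push_spec {X Y : P.FullSubcategory} (f : X ⟶ Y) (i : ℤ) (a : T.gr X i) (b : T.H Y)
    (hb : b ∈ T.gr Y (2 * (dim X.obj.left : ℤ) - i)) :
    T.tr Y ((T.push f i a : T.H Y) * b) = T.tr X ((a : T.H X) * T.pull f b) := by
  haveI := T.duality Y (i + 2 * (dim Y.obj.left : ℤ) - 2 * (dim X.obj.left : ℤ))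
    (2 * (dim X.obj.left : ℤ) - i) (by omega)
  have h1 : pairing K (T.gr Y (i + 2 * (dim Y.obj.left : ℤ) - 2 * (dim X.obj.left : ℤ)))
      (T.gr Y (2 * (dim X.obj.left : ℤ) - i)) (T.tr Y) (T.push f i a) = T.pushFunctional f i a := by
    unfold TheoryOn.push
    simp only [LinearMap.coe_comp, LinearEquiv.coe_coe, Function.comp_apply]
    exact LinearMap.apply_symm_toPerfPair_self _ _
  have h2 := congr_arg (fun φ => φ ⟨b, hb⟩) h1
  exact h2

end Groth.Agent.H77
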