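import Mathlib
import Groth.Agent.H18.QCohLocal

/-!
# A module whose sections over opens of a chart are identified with those of a module on the chart

Generic: `e : X ⟶ P` an open immersion, `lam : F ⟶ e_* T` bijective on sections over opens
contained in the range of `e`; then `F.restrict e ≅ T`.  Consequences for quasi-coherence.
-/

set_option autoImplicit false
universe u
open CategoryTheory CategoryTheory.Limits AlgebraicGeometry Opposite TopologicalSpace
noncomputable section

namespace Groth.Agent.H77.RestrictIso

variable {X P : Scheme.{u}} (e : X ⟶ P) [IsOpenImmersion e]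

/-- the morphism `F.restrict e ⟶ T` adjoint to `lam : F ⟶ e_* T` -/
def adj {F : P.Modules} {T : X.Modules} (lam : F ⟶ (Scheme.Modules.pushforward e).obj T) :
    F.restrict e ⟶ T :=
  (Scheme.Modules.restrictFunctor e).map lam ≫ (Scheme.Modules.restrictAdjunction e).counit.app T

theorem isIso_adj {F : P.Modules} {T : X.Modules} (lam : F ⟶ (Scheme.Modules.pushforward e).obj T)
    (h : ∀ W : P.Opens, W ≤ e.opensRange → Function.Bijective (lam.app W)) :
    IsIso (adj e lam) := by
  rw [Scheme.Modules.Hom.isIso_iff_isIso_app]
  intro V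
  unfold adj
  rw [Scheme.Modules.Hom.comp_app, Scheme.Modules.restrictAdjunction_counit_app_app]
  have h1 : IsIso (((Scheme.Modules.restrictFunctor e).map lam).app V) := by
    have h2 : Function.Bijective (lam.app (e ''ᵁ V)) := h _ (by
      rintro _ ⟨x, -, rfl⟩
      exact ⟨x, rfl⟩)
    rw [ConcreteCategory.isIso_iff_bijective]
    exact h2
  have h3 : IsIso (T.presheaf.map (eqToHom (e.preimage_image_eq V).symm).op) := by
    rw [eqToHom_op, eqToHom_map]
    infer_instance
  exact IsIso.comp_isIso' h1 h3

/-- the isomorphism `F.restrict e ≅ T` -/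
def restrictIso {F : P.Modules} {T : X.Modules} (lam : F ⟶ (Scheme.Modules.pushforward e).obj T)
    (h : ∀ W : P.Opens, W ≤ e.opensRange → Function.Bijective (lam.app W)) :
    F.restrict e ≅ T :=
  haveI := isIso_adj e lam h
  asIso (adj e lam)

/-- transfer of an isomorphism-invariant property of modules from a chart to the open `U`. -/
def restrictιIso (F : P.Modules) (U : P.Opens) (c : (U : Scheme.{u}) ≅ X) (hc : c.hom ≫ e = U.ι) :
    F.restrict U.ι ≅ (F.restrict e).restrict c.hom :=
  (Scheme.Modules.restrictFunctorCongr hc.symm ≪≫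
      Scheme.Modules.restrictFunctorComp c.hom e).app F

theorem isQuasicoherent_restrict_ι {F : P.Modules} {T : X.Modules} [T.IsQuasicoherent]
    (lam : F ⟶ (Scheme.Modules.pushforward e).obj T)
    (h : ∀ W : P.Opens, W ≤ e.opensRange → Function.Bijective (lam.app W))
    (U : P.Opens) (c : (U : Scheme.{u}) ≅ X) (hc : c.hom ≫ e = U.ι) :
    (F.restrict U.ι).IsQuasicoherent := by
  have h1 : (F.restrict e).IsQuasicoherent :=
    (SheafOfModules.isQuasicoherent X.ringCatSheaf).prop_of_iso (restrictIso e lam h).symm
      (inferInstanceAs T.IsQuasicoherent)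
  have h2 : ((F.restrict e).restrict c.hom).IsQuasicoherent := inferInstance
  exact (SheafOfModules.isQuasicoherent (U : Scheme.{u}).ringCatSheaf).prop_of_iso
    (restrictιIso e F U c hc).symm h2

end Groth.Agent.H77.RestrictIso
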