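import Mathlib
import Groth.Prelude.Def_GrMod3
import Groth.Agent.H77.GrModGlue

/-!
# Exactness of `M ↦ M(n)~` on sections over `D₊(f)`
-/

set_option autoImplicit false
universe u

open AlgebraicGeometry CategoryTheory TopologicalSpace Opposite

namespace Groth.Agent.H77.GrModExact

open DirectSum Groth.Agent.H77.GrModGlue

section
variable {A σ : Type u} [CommRing A] [SetLike σ A] [AddSubgroupClass σ A] (𝒜 : ℕ → σ) [GradedRing 𝒜]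
variable {M τ : Type u} [AddCommGroup M] [Module A M] [SetLike τ M] [AddSubgroupClass τ M]
  (ℳ : ℕ → τ) [SetLike.GradedSMul 𝒜 ℳ]

/-- the section `x ↦ m / f ^ K` of `M(n)~` over `D₊(f)` -/
def fracSect (n : ℤ) {d : ℕ} {f : A} (hf : f ∈ 𝒜 d) (K i : ℕ) (m : ℳ i)
    (hdeg : (i : ℤ) = K * d + n) :
    GrMod.sect 𝒜 ℳ n (op (ProjectiveSpectrum.basicOpen 𝒜 f)) :=
  have hfK : f ^ K ∈ 𝒜 (K * d) := by
    have := SetLike.pow_mem_graded K hf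
    simpa [smul_eq_mul] using this
  ⟨fun x => ⟨LocalizedModule.mk (m : M) ⟨f ^ K, fun h =>
      (ProjectiveSpectrum.mem_basicOpen 𝒜 f x.1).mp x.2 (x.1.isPrime.mem_of_pow_mem K h)⟩,
    Submodule.subset_span ⟨i, K * d, m, ⟨f ^ K, hfK⟩, _, by push_cast; exact hdeg, rfl⟩⟩,
   fun x => ⟨ProjectiveSpectrum.basicOpen 𝒜 f, x.2, 𝟙 _, i, K * d, m, ⟨f ^ K, hfK⟩,
     fun y h => (ProjectiveSpectrum.mem_basicOpen 𝒜 f y.1).mp y.2 (y.1.isPrime.mem_of_pow_mem K h),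
     Or.inl (by push_cast; exact hdeg), fun _ => rfl⟩⟩

lemma fracSect_val (n : ℤ) {d : ℕ} {f : A} (hf : f ∈ 𝒜 d) (K i : ℕ) (m : ℳ i)
    (hdeg : (i : ℤ) = K * d + n) (x : ProjectiveSpectrum.basicOpen 𝒜 f) :
    (((fracSect 𝒜 ℳ n hf K i m hdeg).1 x : GrMod.tildeAt 𝒜 ℳ n x.1) :
      GrMod.LocMod 𝒜 (M := M) x.1) =
      LocalizedModule.mk (m : M) (⟨f ^ K, fun h =>
        (ProjectiveSpectrum.mem_basicOpen 𝒜 f x.1).mp x.2 (x.1.isPrime.mem_of_pow_mem K h)⟩ :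
        x.1.asHomogeneousIdeal.toIdeal.primeCompl) := rfl

variable [DirectSum.Decomposition ℳ]

/-- every section over `D₊(f)` is one fraction `m / f ^ k` -/
theorem exists_eq_frac (n : ℤ) {d : ℕ} (hd : 0 < d) {f : A} (hf : f ∈ 𝒜 d)
    (s : GrMod.sect 𝒜 ℳ n (op (ProjectiveSpectrum.basicOpen 𝒜 f))) :
    ∃ (k i : ℕ) (m : ℳ i) (hdeg : (i : ℤ) = k * d + n), s = fracSect 𝒜 ℳ n hf k i m hdeg := by
  have hσ : IsLocFracOn 𝒜 ℳ n f
      (fun y hy => ((s.1 ⟨y, (ProjectiveSpectrum.mem_basicOpen 𝒜 f y).mpr hy⟩ :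
        GrMod.tildeAt 𝒜 ℳ n y) : GrMod.LocMod 𝒜 (M := M) y)) := by
    intro x hx
    obtain ⟨V, hxV, iV, i, j, m, t, nin, hdeg, hval⟩ :=
      s.2 ⟨x, (ProjectiveSpectrum.mem_basicOpen 𝒜 f x).mpr hx⟩
    refine ⟨V.1, V.2, hxV, i, j, m.1, t.1, m.2, t.2, hdeg, ?_⟩
    intro y hy hyV
    exact ⟨nin ⟨y, hyV⟩, hval ⟨y, hyV⟩⟩
  obtain ⟨k, i, m, hm, hdeg, hval⟩ := hσ.exists_global hd hf
  refine ⟨k, i, ⟨m, hm⟩, hdeg, ?_⟩
  refine Subtype.ext (funext fun x => Subtype.ext ?_)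
  rw [fracSect_val]
  exact hval x.1 ((ProjectiveSpectrum.mem_basicOpen 𝒜 f x.1).mp x.2)

end

section Exact

variable {A σ : Type u} [CommRing A] [SetLike σ A] [AddSubgroupClass σ A] (𝒜 : ℕ → σ) [GradedRing 𝒜]
variable {M₁ τ₁ : Type u} [AddCommGroup M₁] [Module A M₁] [SetLike τ₁ M₁] [AddSubgroupClass τ₁ M₁]
    (ℳ₁ : ℕ → τ₁) [SetLike.GradedSMul 𝒜 ℳ₁] [DirectSum.Decomposition ℳ₁]
    {M₂ τ₂ : Type u} [AddCommGroup M₂] [Module A M₂] [SetLike τ₂ M₂] [AddSubgroupClass τ₂ M₂]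
    (ℳ₂ : ℕ → τ₂) [SetLike.GradedSMul 𝒜 ℳ₂] [DirectSum.Decomposition ℳ₂]
    {M₃ τ₃ : Type u} [AddCommGroup M₃] [Module A M₃] [SetLike τ₃ M₃] [AddSubgroupClass τ₃ M₃]
    (ℳ₃ : ℕ → τ₃) [SetLike.GradedSMul 𝒜 ℳ₃] [DirectSum.Decomposition ℳ₃]

omit [SetLike.GradedSMul 𝒜 ℳ₁] [SetLike.GradedSMul 𝒜 ℳ₂] in
/-- a graded map commutes with taking homogeneous components -/
lemma map_decompose (u : M₁ →ₗ[A] M₂) (hu : ∀ (i : ℕ) (m : M₁), m ∈ ℳ₁ i → u m ∈ ℳ₂ i)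
    (m : M₁) (j : ℕ) :
    u ((DirectSum.decompose ℳ₁ m j : ℳ₁ j) : M₁) = ((DirectSum.decompose ℳ₂ (u m) j : ℳ₂ j) : M₂) := by
  classical
  have hsum : u m = ∑ l ∈ (DirectSum.decompose ℳ₁ m).support,
      u ((DirectSum.decompose ℳ₁ m l : ℳ₁ l) : M₁) := by
    conv_lhs => rw [← DirectSum.sum_support_decompose ℳ₁ m]
    rw [map_sum]
  have hmem : ∀ l, u ((DirectSum.decompose ℳ₁ m l : ℳ₁ l) : M₁) ∈ ℳ₂ l := fun l =>
    hu l _ (DirectSum.decompose ℳ₁ m l).2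
  conv_rhs => rw [hsum]
  rw [DirectSum.decompose_sum, DFinsupp.finsetSum_apply, AddSubmonoidClass.coe_finsetSum]
  by_cases hj : j ∈ (DirectSum.decompose ℳ₁ m).support
  · rw [Finset.sum_eq_single j]
    · rw [DirectSum.decompose_of_mem_same ℳ₂ (hmem j)]
    · intro l _ hlj
      exact DirectSum.decompose_of_mem_ne ℳ₂ (hmem l) hlj
    · intro h
      exact absurd hj h
  · rw [Finset.sum_eq_zero]
    · rw [DFinsupp.notMem_support_iff] at hj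
      rw [hj]
      simp
    · intro l hl
      have hlj : l ≠ j := fun h => hj (h ▸ hl)
      exact DirectSum.decompose_of_mem_ne ℳ₂ (hmem l) hlj

theorem exact_sect (u : M₁ →ₗ[A] M₂) (hu : ∀ (i : ℕ) (m : M₁), m ∈ ℳ₁ i → u m ∈ ℳ₂ i)
    (v : M₂ →ₗ[A] M₃) (hv : ∀ (i : ℕ) (m : M₂), m ∈ ℳ₂ i → v m ∈ ℳ₃ i)
    (hex : Function.Exact u v) (n : ℤ) {d : ℕ} (hd : 0 < d) (f : A) (hf : f ∈ 𝒜 d) :
    Function.Exact (GrMod.mapApp u hu n (op (ProjectiveSpectrum.basicOpen 𝒜 f)))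
      (GrMod.mapApp v hv n (op (ProjectiveSpectrum.basicOpen 𝒜 f))) := by
  intro s₂
  constructor
  · intro h0
    obtain ⟨k, i, m, hdeg, rfl⟩ := exists_eq_frac 𝒜 ℳ₂ n hd hf s₂
    -- `v m / f^k = 0` at all points of `D₊(f)`
    have hloc : ∀ x : ProjectiveSpectrum 𝒜, f ∉ x.asHomogeneousIdeal →
        ∃ t : A, t ∉ x.asHomogeneousIdeal ∧ t • v (m : M₂) = 0 := by
      intro x hx
      have hxV : x ∈ ProjectiveSpectrum.basicOpen 𝒜 f := (ProjectiveSpectrum.mem_basicOpen 𝒜 f x).mpr hx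
      have h1 := congrArg (fun s : GrMod.sect 𝒜 ℳ₃ n (op (ProjectiveSpectrum.basicOpen 𝒜 f)) =>
        ((s.1 ⟨x, hxV⟩ : GrMod.tildeAt 𝒜 ℳ₃ n x) : GrMod.LocMod 𝒜 (M := M₃) x)) h0
      change GrMod.locMap v x (LocalizedModule.mk (m : M₂) ⟨f ^ k, _⟩) = 0 at h1
      rw [GrMod.locMap_mk, ← LocalizedModule.zero_mk (1 : x.asHomogeneousIdeal.toIdeal.primeCompl),
        LocalizedModule.mk_eq] at h1
      obtain ⟨t, ht⟩ := h1
      refine ⟨t.1, t.2, ?_⟩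
      have ht' : t.1 • (1 : A) • v (m : M₂) = t.1 • f ^ k • (0 : M₃) := ht
      rw [one_smul, smul_zero, smul_zero] at ht'
      exact ht'
    obtain ⟨N, hN⟩ := exists_pow_smul_eq_zero_of_forall_localized_eq_zero 𝒜 ℳ₃ (hv i _ m.2) hd hf hloc
    have hvN : v (f ^ N • (m : M₂)) = 0 := by rw [map_smul, hN]
    obtain ⟨m₁, hm₁⟩ := (hex _).mp hvN
    have hfN : f ^ N ∈ 𝒜 (N * d) := by
      have := SetLike.pow_mem_graded N hf
      simpa [smul_eq_mul] using this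
    have hmem : f ^ N • (m : M₂) ∈ ℳ₂ (N * d + i) := SetLike.GradedSMul.smul_mem hfN m.2
    have hcomp : u ((DirectSum.decompose ℳ₁ m₁ (N * d + i) : ℳ₁ (N * d + i)) : M₁) =
        f ^ N • (m : M₂) := by
      rw [map_decompose ℳ₁ ℳ₂ u hu, hm₁, DirectSum.decompose_of_mem_same ℳ₂ hmem]
    have hdeg' : ((N * d + i : ℕ) : ℤ) = ((N + k : ℕ) : ℤ) * d + n := by
      push_cast
      rw [hdeg]
      ring
    refine ⟨fracSect 𝒜 ℳ₁ n hf (N + k) (N * d + i) (DirectSum.decompose ℳ₁ m₁ (N * d + i)) hdeg', ?_⟩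
    refine Subtype.ext (funext fun x => Subtype.ext ?_)
    change GrMod.locMap u x.1 (LocalizedModule.mk _ ⟨f ^ (N + k), _⟩) =
      LocalizedModule.mk (m : M₂) ⟨f ^ k, _⟩
    rw [GrMod.locMap_mk, hcomp]
    have hxf : f ∉ x.1.asHomogeneousIdeal := (ProjectiveSpectrum.mem_basicOpen 𝒜 f x.1).mp x.2
    have hfNx : f ^ N ∉ x.1.asHomogeneousIdeal := fun h => hxf (x.1.isPrime.mem_of_pow_mem N h)
    have hfkx : f ^ k ∉ x.1.asHomogeneousIdeal := fun h => hxf (x.1.isPrime.mem_of_pow_mem k h)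
    have := LocalizedModule.mk_cancel_common_left
      (⟨f ^ N, hfNx⟩ : x.1.asHomogeneousIdeal.toIdeal.primeCompl) ⟨f ^ k, hfkx⟩ (m : M₂)
    rw [← this]
    congr 1
    apply Subtype.ext
    exact pow_add f N k
  · rintro ⟨s₁, rfl⟩
    refine Subtype.ext (funext fun x => Subtype.ext ?_)
    change GrMod.locMap v x.1 (GrMod.locMap u x.1 (s₁.1 x).1) = 0
    have hvu : ∀ z, v (u z) = 0 := fun z => (hex (u z)).mpr ⟨z, rfl⟩
    induction (s₁.1 x).1 using LocalizedModule.induction_on with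
    | h m t =>
      rw [GrMod.locMap_mk, GrMod.locMap_mk, hvu, LocalizedModule.zero_mk]

end Exact

end Groth.Agent.H77.GrModExact
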