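import Mathlib
import Groth.Prelude.Def_RelProj3
import Groth.Agent.H77.GrModExact

/-!
# The comparison `M(n)~ ⟶ Φ_* N(n)~` for a bijective semilinear graded map is an isomorphism
-/

set_option autoImplicit false
universe u

open AlgebraicGeometry CategoryTheory TopologicalSpace Opposite
open scoped HomogeneousIdeal

namespace Groth.Agent.H77.GrModComap

open DirectSum Groth.Agent.H77.GrModGlue Groth.Agent.H77.GrModExact

section Decomp

variable {M τ : Type u} [AddCommGroup M] [SetLike τ M] [AddSubgroupClass τ M]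
    (ℳ : ℕ → τ) [DirectSum.Decomposition ℳ]
    {N τ' : Type u} [AddCommGroup N] [SetLike τ' N] [AddSubgroupClass τ' N]
    (𝒩 : ℕ → τ') [DirectSum.Decomposition 𝒩]

/-- an additive graded map commutes with taking homogeneous components -/
lemma map_decompose_add (u : M →+ N) (hu : ∀ (i : ℕ) (m : M), m ∈ ℳ i → u m ∈ 𝒩 i)
    (m : M) (j : ℕ) :
    u ((DirectSum.decompose ℳ m j : ℳ j) : M) = ((DirectSum.decompose 𝒩 (u m) j : 𝒩 j) : N) := by
  classical
  have hsum : u m = ∑ l ∈ (DirectSum.decompose ℳ m).support,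
      u ((DirectSum.decompose ℳ m l : ℳ l) : M) := by
    conv_lhs => rw [← DirectSum.sum_support_decompose ℳ m]
    rw [map_sum]
  have hmem : ∀ l, u ((DirectSum.decompose ℳ m l : ℳ l) : M) ∈ 𝒩 l := fun l =>
    hu l _ (DirectSum.decompose ℳ m l).2
  conv_rhs => rw [hsum]
  rw [DirectSum.decompose_sum, DFinsupp.finsetSum_apply, AddSubmonoidClass.coe_finsetSum]
  by_cases hj : j ∈ (DirectSum.decompose ℳ m).support
  · rw [Finset.sum_eq_single j]
    · rw [DirectSum.decompose_of_mem_same 𝒩 (hmem j)]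
    · intro l _ hlj
      exact DirectSum.decompose_of_mem_ne 𝒩 (hmem l) hlj
    · intro h
      exact absurd hj h
  · rw [Finset.sum_eq_zero]
    · rw [DFinsupp.notMem_support_iff] at hj
      rw [hj]
      simp
    · intro l hl
      have hlj : l ≠ j := fun h => hj (h ▸ hl)
      exact DirectSum.decompose_of_mem_ne 𝒩 (hmem l) hlj

end Decomp

variable {A σ : Type u} [CommRing A] [SetLike σ A] [AddSubgroupClass σ A] {𝒜 : ℕ → σ} [GradedRing 𝒜]
variable {M τ : Type u} [AddCommGroup M] [Module A M] [SetLike τ M] [AddSubgroupClass τ M] {ℳ : ℕ → τ}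
  [SetLike.GradedSMul 𝒜 ℳ] [DirectSum.Decomposition ℳ]
variable {B σ' : Type u} [CommRing B] [SetLike σ' B] [AddSubgroupClass σ' B] {ℬ : ℕ → σ'} [GradedRing ℬ]
variable {N τ' : Type u} [AddCommGroup N] [Module B N] [SetLike τ' N] [AddSubgroupClass τ' N] {𝒩 : ℕ → τ'}
  [SetLike.GradedSMul ℬ 𝒩] [DirectSum.Decomposition 𝒩]
variable (ψ : 𝒜 →+*ᵍ ℬ) (hψ : ℬ₊ ≤ (𝒜₊).map ψ) (v : M →ₛₗ[ψ.toRingHom] N)
  (hv : ∀ (i : ℕ) (m : M), m ∈ ℳ i → v m ∈ 𝒩 i) (n : ℤ)

theorem comapApp_injective {d : ℕ} (hd : 0 < d) {f : A} (hf : f ∈ 𝒜 d)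
    (hinj : Function.Injective v)
    (V : Opens (ProjectiveSpectrum ℬ)) (hV : V = ProjectiveSpectrum.basicOpen ℬ (ψ f))
    (hUV : V.1 ⊆ ProjectiveSpectrum.comap ψ hψ ⁻¹' (ProjectiveSpectrum.basicOpen 𝒜 f).1) :
    Function.Injective (GrMod.comapApp ψ hψ v hv n (ProjectiveSpectrum.basicOpen 𝒜 f) V hUV) := by
  subst hV
  rw [injective_iff_map_eq_zero]
  intro s hs
  obtain ⟨k, i, m, hdeg, rfl⟩ := exists_eq_frac 𝒜 ℳ n hd hf s
  have hψf : ψ f ∈ ℬ d := ψ.map_mem hf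
  have hloc : ∀ y : ProjectiveSpectrum ℬ, ψ f ∉ y.asHomogeneousIdeal →
      ∃ t : B, t ∉ y.asHomogeneousIdeal ∧ t • v (m : M) = 0 := by
    intro y hy
    have hyV : y ∈ ProjectiveSpectrum.basicOpen ℬ (ψ f) :=
      (ProjectiveSpectrum.mem_basicOpen ℬ (ψ f) y).mpr hy
    have h1 := congrArg (fun s : GrMod.sect ℬ 𝒩 n (op (ProjectiveSpectrum.basicOpen ℬ (ψ f))) =>
      ((s.1 ⟨y, hyV⟩ : GrMod.tildeAt ℬ 𝒩 n y) : GrMod.LocMod ℬ (M := N) y)) hs
    change GrMod.locModMap ψ hψ v y (LocalizedModule.mk (m : M) ⟨f ^ k, _⟩) = 0 at h1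
    rw [GrMod.locModMap_mk, ← LocalizedModule.zero_mk (1 : y.asHomogeneousIdeal.toIdeal.primeCompl),
      LocalizedModule.mk_eq] at h1
    obtain ⟨t, ht⟩ := h1
    refine ⟨t.1, t.2, ?_⟩
    have ht' : t.1 • (1 : B) • v (m : M) = t.1 • ψ (f ^ k) • (0 : N) := ht
    rw [one_smul, smul_zero, smul_zero] at ht'
    exact ht'
  obtain ⟨K, hK⟩ := exists_pow_smul_eq_zero_of_forall_localized_eq_zero ℬ 𝒩 (hv i _ m.2) hd hψf hloc
  have hvK : v (f ^ K • (m : M)) = 0 := by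
    rw [LinearMap.map_smulₛₗ]
    change ψ (f ^ K) • v (m : M) = 0
    rw [map_pow]
    exact hK
  have hzero : f ^ K • (m : M) = 0 := hinj (by rw [hvK, map_zero])
  refine Subtype.ext (funext fun x => Subtype.ext ?_)
  rw [fracSect_val]
  have hxf : f ∉ x.1.asHomogeneousIdeal := (ProjectiveSpectrum.mem_basicOpen 𝒜 f x.1).mp x.2
  have hfKx : f ^ K ∉ x.1.asHomogeneousIdeal := fun h => hxf (x.1.isPrime.mem_of_pow_mem K h)
  change LocalizedModule.mk (m : M) _ = 0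
  rw [← LocalizedModule.zero_mk (1 : x.1.asHomogeneousIdeal.toIdeal.primeCompl),
    LocalizedModule.mk_eq]
  refine ⟨⟨f ^ K, hfKx⟩, ?_⟩
  change f ^ K • (1 : A) • (m : M) = f ^ K • f ^ k • (0 : M)
  rw [one_smul, hzero, smul_zero, smul_zero]

theorem comapApp_surjective {d : ℕ} (hd : 0 < d) {f : A} (hf : f ∈ 𝒜 d)
    (hsurj : Function.Surjective v)
    (V : Opens (ProjectiveSpectrum ℬ)) (hV : V = ProjectiveSpectrum.basicOpen ℬ (ψ f))
    (hUV : V.1 ⊆ ProjectiveSpectrum.comap ψ hψ ⁻¹' (ProjectiveSpectrum.basicOpen 𝒜 f).1) :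
    Function.Surjective (GrMod.comapApp ψ hψ v hv n (ProjectiveSpectrum.basicOpen 𝒜 f) V hUV) := by
  subst hV
  intro t
  have hψf : ψ f ∈ ℬ d := ψ.map_mem hf
  obtain ⟨k, i, m', hdeg, rfl⟩ := exists_eq_frac ℬ 𝒩 n hd hψf t
  obtain ⟨m₀, hm₀⟩ := hsurj (m' : N)
  have hvm : v ((DirectSum.decompose ℳ m₀ i : ℳ i) : M) = (m' : N) := by
    have := map_decompose_add ℳ 𝒩 v.toAddMonoidHom hv m₀ i
    change v _ = ((DirectSum.decompose 𝒩 (v m₀) i : 𝒩 i) : N) at this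
    rw [this, hm₀, DirectSum.decompose_of_mem_same 𝒩 m'.2]
  refine ⟨fracSect 𝒜 ℳ n hf k i (DirectSum.decompose ℳ m₀ i) hdeg, ?_⟩
  refine Subtype.ext (funext fun y => Subtype.ext ?_)
  rw [fracSect_val]
  change GrMod.locModMap ψ hψ v y.1 (LocalizedModule.mk _ ⟨f ^ k, _⟩) = _
  rw [GrMod.locModMap_mk]
  rw [hvm]
  congr 1
  exact Subtype.ext (map_pow ψ f k)


section Sheaf

variable (𝒜) in
/-- positive-degree homogeneous basic opens form a basis of `Proj` -/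
theorem isBasis_posBasicOpen :
    Opens.IsBasis {U : Opens (ProjectiveSpectrum 𝒜) | ∃ (d : ℕ) (f : A), 0 < d ∧ f ∈ 𝒜 d ∧
      U = ProjectiveSpectrum.basicOpen 𝒜 f} := by
  classical
  rw [Opens.isBasis_iff_nbhd]
  intro U x hx
  obtain ⟨l, a, ha, hax, haU⟩ := exists_homogeneous_basicOpen_subset 𝒜 x U.2 hx
  obtain ⟨e, g, he, hg, hgx⟩ : ∃ (e : ℕ) (g : A), 0 < e ∧ g ∈ 𝒜 e ∧ g ∉ x.asHomogeneousIdeal := by
    have h1 := x.not_irrelevant_le
    rw [SetLike.not_le_iff_exists] at h1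
    obtain ⟨b, hb, hbx⟩ := h1
    have h2 : ∃ l, (DirectSum.decompose 𝒜 b l : A) ∉ x.asHomogeneousIdeal := by
      by_contra hcon
      push Not at hcon
      apply hbx
      rw [← DirectSum.sum_support_decompose 𝒜 b]
      exact Ideal.sum_mem _ fun l _ => hcon l
    obtain ⟨l, hl⟩ := h2
    have hl0 : l ≠ 0 := by
      rintro rfl
      apply hl
      have h3 : (DirectSum.decompose 𝒜 b 0 : A) = 0 := by
        have := (HomogeneousIdeal.mem_irrelevant_iff 𝒜 b).mp hb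
        rwa [GradedRing.proj_apply] at this
      rw [h3]
      exact zero_mem _
    exact ⟨l, DirectSum.decompose 𝒜 b l, Nat.pos_of_ne_zero hl0, Subtype.prop _, hl⟩
  refine ⟨ProjectiveSpectrum.basicOpen 𝒜 (a * g),
    ⟨l + e, a * g, by omega, SetLike.mul_mem_graded ha hg, rfl⟩, ?_, ?_⟩
  · rw [ProjectiveSpectrum.mem_basicOpen]
    intro h
    rcases x.isPrime.mem_or_mem h with h | h
    · exact hax h
    · exact hgx h
  · intro y hy
    apply haU
    intro hay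
    exact (ProjectiveSpectrum.mem_basicOpen 𝒜 (a * g) y).mp hy (Ideal.mul_mem_right _ _ hay)

set_option backward.isDefEq.respectTransparency false in
theorem isIso_comap (hbij : Function.Bijective v) : IsIso (GrMod.comap ψ hψ v hv n) := by
  rw [Scheme.Modules.Hom.isIso_iff_isIso_app]
  intro U
  let φ := GrMod.comap ψ hψ v hv n
  let F : TopCat.Sheaf Ab (Proj 𝒜) :=
    ⟨(GrMod.tilde 𝒜 ℳ n).presheaf, (GrMod.tilde 𝒜 ℳ n).isSheaf⟩
  let G : TopCat.Sheaf Ab (Proj 𝒜) :=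
    ⟨((Scheme.Modules.pushforward (Proj.map ψ hψ)).obj (GrMod.tilde ℬ 𝒩 n)).presheaf,
      Scheme.Modules.isSheaf _⟩
  let f : F ⟶ G := ⟨φ.mapPresheaf⟩
  have hB := isBasis_posBasicOpen 𝒜
  have hbasis : ∀ W ∈ {U : Opens (ProjectiveSpectrum 𝒜) | ∃ (d : ℕ) (f : A), 0 < d ∧ f ∈ 𝒜 d ∧
      U = ProjectiveSpectrum.basicOpen 𝒜 f}, Function.Bijective (φ.mapPresheaf.app (op W)) := by
    rintro W ⟨d, g, hd, hg, rfl⟩
    have hV : (Proj.map ψ hψ ⁻¹ᵁ (ProjectiveSpectrum.basicOpen 𝒜 g) : Opens (ProjectiveSpectrum ℬ)) =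
        ProjectiveSpectrum.basicOpen ℬ (ψ g) := by
      ext y
      rfl
    exact ⟨comapApp_injective ψ hψ v hv n hd hg hbij.1 _ hV _,
      comapApp_surjective ψ hψ v hv n hd hg hbij.2 _ hV _⟩
  have hb := TopCat.Presheaf.app_bijective_of_stalkFunctor_map_bijective f U (fun x _ =>
    ⟨TopCat.Presheaf.stalkFunctor_map_injective_of_isBasis hB (fun W hW => (hbasis W hW).1) x, ?_⟩)
  · rw [ConcreteCategory.isIso_iff_bijective]
    exact hb
  · intro t
    obtain ⟨W, hxW, hW, s, rfl⟩ := TopCat.Presheaf.exists_mem_germ_eq_of_isBasis hB G.1 x t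
    obtain ⟨s', rfl⟩ := (hbasis W hW).2 s
    exact ⟨TopCat.Presheaf.germ F.1 W x hxW s',
      TopCat.Presheaf.stalkFunctor_map_germ_apply W x hxW f.1 s'⟩

end Sheaf

end Groth.Agent.H77.GrModComap
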