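import Mathlib
import Groth.Prelude.Def_GrMod3
import Groth.Agent.H77.GrModComap

/-!
# Local behaviour of `M ↦ M(n)~` on sections over arbitrary opens of `Proj`
(TN)-vanishing, (TN)-injectivity, local (TN)-surjectivity, local exactness.
-/

set_option autoImplicit false
universe u

open AlgebraicGeometry CategoryTheory TopologicalSpace Opposite
open scoped HomogeneousIdeal

namespace Groth.Agent.H77.GrModLocal

open DirectSum Groth.Agent.H77.GrModGlue Groth.Agent.H77.GrModExact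

section
variable {A σ : Type u} [CommRing A] [SetLike σ A] [AddSubgroupClass σ A] (𝒜 : ℕ → σ) [GradedRing 𝒜]

/-- a homogeneous element of positive degree outside a given relevant prime -/
theorem exists_pos_homogeneous_not_mem (x : ProjectiveSpectrum 𝒜) :
    ∃ (e : ℕ) (g : A), 0 < e ∧ g ∈ 𝒜 e ∧ g ∉ x.asHomogeneousIdeal := by
  classical
  have h1 := x.not_irrelevant_le
  rw [SetLike.not_le_iff_exists] at h1
  obtain ⟨b, hb, hbx⟩ := h1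
  have h2 : ∃ l, (DirectSum.decompose 𝒜 b l : A) ∉ x.asHomogeneousIdeal := by
    by_contra hcon
    push Not at hcon
    apply hbx
    rw [← DirectSum.sum_support_decompose 𝒜 b]
    exact Ideal.sum_mem _ fun l _ => hcon l
  obtain ⟨l, hl⟩ := h2
  have hl0 : l ≠ 0 := by
    rintro rfl
    apply hl
    have h3 : (DirectSum.decompose 𝒜 b 0 : A) = 0 := by
      have := (HomogeneousIdeal.mem_irrelevant_iff 𝒜 b).mp hb
      rwa [GradedRing.proj_apply] at this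
    rw [h3]
    exact zero_mem _
  exact ⟨l, DirectSum.decompose 𝒜 b l, Nat.pos_of_ne_zero hl0, Subtype.prop _, hl⟩

/-- a homogeneous element outside `x` of degree at least `n₀` -/
theorem exists_homogeneous_not_mem_ge (x : ProjectiveSpectrum 𝒜) (n₀ : ℕ) :
    ∃ (e : ℕ) (g : A), n₀ ≤ e ∧ g ∈ 𝒜 e ∧ g ∉ x.asHomogeneousIdeal := by
  obtain ⟨e, g, he, hg, hgx⟩ := exists_pos_homogeneous_not_mem 𝒜 x
  refine ⟨n₀ * e, g ^ n₀, Nat.le_mul_of_pos_right _ he, ?_, fun h => hgx (x.isPrime.mem_of_pow_mem n₀ h)⟩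
  have := SetLike.pow_mem_graded n₀ hg
  simpa [smul_eq_mul] using this

variable {M τ : Type u} [AddCommGroup M] [Module A M] [SetLike τ M] [AddSubgroupClass τ M]
  (ℳ : ℕ → τ) [SetLike.GradedSMul 𝒜 ℳ]

/-- the section `y ↦ m / t` over an open on which `t` is invertible -/
def fracOn (n : ℤ) (W : Opens (ProjectiveSpectrum.top 𝒜)) {i j : ℕ} (m : ℳ i) (t : 𝒜 j)
    (ht : ∀ y : W, (t : A) ∉ y.1.asHomogeneousIdeal) (hdeg : (i : ℤ) = j + n) :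
    GrMod.sect 𝒜 ℳ n (op W) :=
  ⟨fun y => ⟨LocalizedModule.mk (m : M) ⟨(t : A), ht y⟩,
      Submodule.subset_span ⟨i, j, m, t, ht y, hdeg, rfl⟩⟩,
    fun y => ⟨W, y.2, 𝟙 _, i, j, m, t, ht, Or.inl hdeg, fun _ => rfl⟩⟩

lemma fracOn_val (n : ℤ) (W : Opens (ProjectiveSpectrum.top 𝒜)) {i j : ℕ} (m : ℳ i) (t : 𝒜 j)
    (ht : ∀ y : W, (t : A) ∉ y.1.asHomogeneousIdeal) (hdeg : (i : ℤ) = j + n) (y : W) :
    (((fracOn 𝒜 ℳ n W m t ht hdeg).1 y : GrMod.tildeAt 𝒜 ℳ n y.1) :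
      GrMod.LocMod 𝒜 (M := M) y.1) = LocalizedModule.mk (m : M) ⟨(t : A), ht y⟩ := rfl

/-- the value of a section at a point is a single homogeneous fraction -/
lemma exists_frac_at (n : ℤ) {V : Opens (ProjectiveSpectrum.top 𝒜)}
    (s : GrMod.sect 𝒜 ℳ n (op V)) (x : V) :
    ∃ (W : Opens (ProjectiveSpectrum.top 𝒜)) (_ : x.1 ∈ W) (hWV : W ≤ V) (i j : ℕ) (m : ℳ i)
      (t : 𝒜 j) (ht : ∀ y : W, (t : A) ∉ y.1.asHomogeneousIdeal),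
      ((i : ℤ) = j + n ∨ (m : M) = 0) ∧
      ∀ y : W, ((s.1 ⟨y.1, hWV y.2⟩ : GrMod.tildeAt 𝒜 ℳ n y.1) : GrMod.LocMod 𝒜 (M := M) y.1) =
        LocalizedModule.mk (m : M) ⟨(t : A), ht y⟩ := by
  obtain ⟨W, hxW, iW, i, j, m, t, nin, hdeg, hval⟩ := s.2 x
  exact ⟨W, hxW, iW.le, i, j, m, t, nin, hdeg, fun y => hval y⟩

end


section Main
variable {A σ : Type u} [CommRing A] [SetLike σ A] [AddSubgroupClass σ A] (𝒜 : ℕ → σ) [GradedRing 𝒜]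

section one
variable {M τ : Type u} [AddCommGroup M] [Module A M] [SetLike τ M] [AddSubgroupClass τ M]
  (ℳ : ℕ → τ) [SetLike.GradedSMul 𝒜 ℳ]

omit [AddSubgroupClass τ M] in
lemma mk_eq_zero_of_smul_eq_zero {x : ProjectiveSpectrum 𝒜} (m : M)
    (t : x.asHomogeneousIdeal.toIdeal.primeCompl) (g : A) (hg : g ∉ x.asHomogeneousIdeal)
    (h : g • m = 0) : (LocalizedModule.mk m t : GrMod.LocMod 𝒜 (M := M) x) = 0 := by
  rw [← LocalizedModule.zero_mk (1 : x.asHomogeneousIdeal.toIdeal.primeCompl),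
    LocalizedModule.mk_eq]
  refine ⟨⟨g, hg⟩, ?_⟩
  change g • (1 : A) • m = g • (t : A) • (0 : M)
  rw [one_smul, h, smul_zero, smul_zero]

omit [AddSubgroupClass τ M] in
lemma exists_smul_eq_zero_of_mk_eq_zero {x : ProjectiveSpectrum 𝒜} (m : M)
    (t : x.asHomogeneousIdeal.toIdeal.primeCompl)
    (h : (LocalizedModule.mk m t : GrMod.LocMod 𝒜 (M := M) x) = 0) :
    ∃ r : A, r ∉ x.asHomogeneousIdeal ∧ r • m = 0 := by
  rw [← LocalizedModule.zero_mk (1 : x.asHomogeneousIdeal.toIdeal.primeCompl),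
    LocalizedModule.mk_eq] at h
  obtain ⟨r, hr⟩ := h
  refine ⟨r.1, r.2, ?_⟩
  have hr' : r.1 • (1 : A) • m = r.1 • (t : A) • (0 : M) := hr
  rw [one_smul, smul_zero, smul_zero] at hr'
  exact hr'

/-- for a homogeneous `m`, a killing element outside `x` can be taken homogeneous -/
lemma exists_homogeneous_smul_eq_zero [DirectSum.Decomposition ℳ] {x : ProjectiveSpectrum 𝒜}
    {i : ℕ} {m : M} (hm : m ∈ ℳ i) {r : A} (hrx : r ∉ x.asHomogeneousIdeal) (hr : r • m = 0) :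
    ∃ (l : ℕ) (a : A), a ∈ 𝒜 l ∧ a ∉ x.asHomogeneousIdeal ∧ a • m = 0 := by
  classical
  have h2 : ∃ l, (DirectSum.decompose 𝒜 r l : A) ∉ x.asHomogeneousIdeal := by
    by_contra hcon
    push Not at hcon
    apply hrx
    rw [← DirectSum.sum_support_decompose 𝒜 r]
    exact Ideal.sum_mem _ fun l _ => hcon l
  obtain ⟨l, hl⟩ := h2
  exact ⟨l, DirectSum.decompose 𝒜 r l, Subtype.prop _, hl, decompose_smul_eq_zero 𝒜 ℳ hm hr l⟩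

/-- (TN): if the pieces of large degree vanish, so do all sections of `M(n)~` -/
theorem sect_eq_zero_of_tn (n : ℤ) (n₀ : ℕ) (hTN : ∀ k, n₀ ≤ k → ∀ m ∈ ℳ k, m = 0)
    {V : Opens (ProjectiveSpectrum.top 𝒜)} (s : GrMod.sect 𝒜 ℳ n (op V)) : s = 0 := by
  refine Subtype.ext (funext fun x => Subtype.ext ?_)
  obtain ⟨W, hxW, hWV, i, j, m, t, ht, -, hval⟩ := exists_frac_at 𝒜 ℳ n s x
  have h1 := hval ⟨x.1, hxW⟩
  change ((s.1 x : GrMod.tildeAt 𝒜 ℳ n x.1) : GrMod.LocMod 𝒜 (M := M) x.1) = _ at h1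
  rw [h1]
  obtain ⟨e, g, he, hg, hgx⟩ := exists_homogeneous_not_mem_ge 𝒜 x.1 n₀
  have hgm : g • (m : M) ∈ ℳ (e + i) := SetLike.GradedSMul.smul_mem hg m.2
  have h0 : g • (m : M) = 0 := hTN (e + i) (by omega) _ hgm
  exact mk_eq_zero_of_smul_eq_zero 𝒜 _ _ g hgx h0

end one

section two
variable {M τ : Type u} [AddCommGroup M] [Module A M] [SetLike τ M] [AddSubgroupClass τ M]
  (ℳ : ℕ → τ) [SetLike.GradedSMul 𝒜 ℳ]
variable {N τ' : Type u} [AddCommGroup N] [Module A N] [SetLike τ' N] [AddSubgroupClass τ' N]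
  (𝒩 : ℕ → τ') [SetLike.GradedSMul 𝒜 𝒩]
variable (u : M →ₗ[A] N) (hu : ∀ (i : ℕ) (m : M), m ∈ ℳ i → u m ∈ 𝒩 i) (n : ℤ)

/-- (TN)-injective maps induce injective maps on sections over every open -/
theorem mapApp_injective_of_tn [DirectSum.Decomposition 𝒩] (n₀ : ℕ)
    (hinj : ∀ k, n₀ ≤ k → ∀ m ∈ ℳ k, u m = 0 → m = 0)
    (V : Opens (ProjectiveSpectrum.top 𝒜)) :
    Function.Injective (GrMod.mapApp (ℳ := ℳ) (𝒩 := 𝒩) u hu n (op V)) := by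
  rw [injective_iff_map_eq_zero]
  intro s hs
  refine Subtype.ext (funext fun x => Subtype.ext ?_)
  obtain ⟨W, hxW, hWV, i, j, m, t, ht, -, hval⟩ := exists_frac_at 𝒜 ℳ n s x
  have h1 := hval ⟨x.1, hxW⟩
  change ((s.1 x : GrMod.tildeAt 𝒜 ℳ n x.1) : GrMod.LocMod 𝒜 (M := M) x.1) = _ at h1
  rw [h1]
  have h2 := congrArg (fun s' : GrMod.sect 𝒜 𝒩 n (op V) =>
    ((s'.1 x : GrMod.tildeAt 𝒜 𝒩 n x.1) : GrMod.LocMod 𝒜 (M := N) x.1)) hs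
  change GrMod.locMap u x.1 ((s.1 x : GrMod.tildeAt 𝒜 ℳ n x.1) : GrMod.LocMod 𝒜 (M := M) x.1) = 0
    at h2
  rw [h1, GrMod.locMap_mk] at h2
  obtain ⟨r, hrx, hr⟩ := exists_smul_eq_zero_of_mk_eq_zero 𝒜 _ _ h2
  obtain ⟨l, a, ha, hax, ham⟩ := exists_homogeneous_smul_eq_zero 𝒜 𝒩 (hu i _ m.2) hrx hr
  obtain ⟨e, g, he, hg, hgx⟩ := exists_homogeneous_not_mem_ge 𝒜 x.1 n₀
  have hga : g * a ∈ 𝒜 (e + l) := SetLike.mul_mem_graded hg ha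
  have hgax : g * a ∉ x.1.asHomogeneousIdeal := by
    intro h
    rcases x.1.isPrime.mem_or_mem h with h | h
    · exact hgx h
    · exact hax h
  have hmem : (g * a) • (m : M) ∈ ℳ (e + l + i) := SetLike.GradedSMul.smul_mem hga m.2
  have hu0 : u ((g * a) • (m : M)) = 0 := by
    rw [map_smul, mul_smul, ham, smul_zero]
  have h0 : (g * a) • (m : M) = 0 := hinj (e + l + i) (by omega) _ hmem hu0
  exact mk_eq_zero_of_smul_eq_zero 𝒜 _ _ (g * a) hgax h0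

/-- (TN)-surjective maps induce locally surjective maps on sections -/
theorem exists_local_preimage_of_tn (n₀ : ℕ)
    (hsurj : ∀ k, n₀ ≤ k → ∀ m' ∈ 𝒩 k, ∃ m ∈ ℳ k, u m = m')
    {V : Opens (ProjectiveSpectrum.top 𝒜)} (t' : GrMod.sect 𝒜 𝒩 n (op V)) (x : V) :
    ∃ (W : Opens (ProjectiveSpectrum.top 𝒜)) (_ : x.1 ∈ W) (hWV : W ≤ V)
      (s : GrMod.sect 𝒜 ℳ n (op W)), ∀ y : W,
        (((GrMod.mapApp (ℳ := ℳ) (𝒩 := 𝒩) u hu n (op W) s).1 y : GrMod.tildeAt 𝒜 𝒩 n y.1) :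
          GrMod.LocMod 𝒜 (M := N) y.1) =
        ((t'.1 ⟨y.1, hWV y.2⟩ : GrMod.tildeAt 𝒜 𝒩 n y.1) : GrMod.LocMod 𝒜 (M := N) y.1) := by
  obtain ⟨W₀, hxW₀, hW₀V, i, j, m', t, ht, hdeg, hval⟩ := exists_frac_at 𝒜 𝒩 n t' x
  rcases hdeg with hdeg | hm0
  · obtain ⟨e, g, he, hg, hgx⟩ := exists_homogeneous_not_mem_ge 𝒜 x.1 n₀
    have hgm : g • (m' : N) ∈ 𝒩 (e + i) := SetLike.GradedSMul.smul_mem hg m'.2
    obtain ⟨m, hm, hum⟩ := hsurj (e + i) (by omega) _ hgm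
    have hgt : g * (t : A) ∈ 𝒜 (e + j) := SetLike.mul_mem_graded hg t.2
    have hW : ∀ y : (W₀ ⊓ ProjectiveSpectrum.basicOpen 𝒜 g : Opens (ProjectiveSpectrum.top 𝒜)),
        g * (t : A) ∉ y.1.asHomogeneousIdeal := by
      intro y h
      rcases y.1.isPrime.mem_or_mem h with h | h
      · exact (ProjectiveSpectrum.mem_basicOpen 𝒜 g y.1).mp y.2.2 h
      · exact ht ⟨y.1, y.2.1⟩ h
    refine ⟨W₀ ⊓ ProjectiveSpectrum.basicOpen 𝒜 g,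
      ⟨hxW₀, (ProjectiveSpectrum.mem_basicOpen 𝒜 g x.1).mpr hgx⟩, inf_le_left.trans hW₀V,
      fracOn 𝒜 ℳ n _ ⟨m, hm⟩ ⟨g * (t : A), hgt⟩ hW (by push_cast; rw [hdeg]; ring), ?_⟩
    intro y
    change GrMod.locMap u y.1 (LocalizedModule.mk m ⟨g * (t : A), hW y⟩) = _
    rw [GrMod.locMap_mk, hum, hval ⟨y.1, y.2.1⟩]
    have hgy : g ∉ y.1.asHomogeneousIdeal := (ProjectiveSpectrum.mem_basicOpen 𝒜 g y.1).mp y.2.2
    exact LocalizedModule.mk_cancel_common_left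
      (⟨g, hgy⟩ : y.1.asHomogeneousIdeal.toIdeal.primeCompl) ⟨(t : A), ht ⟨y.1, y.2.1⟩⟩ (m' : N)
  · refine ⟨W₀, hxW₀, hW₀V, 0, ?_⟩
    intro y
    rw [map_zero, hval y, hm0, LocalizedModule.zero_mk]
    rfl

end two

section three
variable {M₁ τ₁ : Type u} [AddCommGroup M₁] [Module A M₁] [SetLike τ₁ M₁] [AddSubgroupClass τ₁ M₁]
    (ℳ₁ : ℕ → τ₁) [SetLike.GradedSMul 𝒜 ℳ₁] [DirectSum.Decomposition ℳ₁]
    {M₂ τ₂ : Type u} [AddCommGroup M₂] [Module A M₂] [SetLike τ₂ M₂] [AddSubgroupClass τ₂ M₂]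
    (ℳ₂ : ℕ → τ₂) [SetLike.GradedSMul 𝒜 ℳ₂] [DirectSum.Decomposition ℳ₂]
    {M₃ τ₃ : Type u} [AddCommGroup M₃] [Module A M₃] [SetLike τ₃ M₃] [AddSubgroupClass τ₃ M₃]
    (ℳ₃ : ℕ → τ₃) [SetLike.GradedSMul 𝒜 ℳ₃] [DirectSum.Decomposition ℳ₃]

/-- local exactness of `M ↦ M(n)~` on sections over arbitrary opens -/
theorem exists_local_preimage_of_exact
    (u : M₁ →ₗ[A] M₂) (hu : ∀ (i : ℕ) (m : M₁), m ∈ ℳ₁ i → u m ∈ ℳ₂ i)
    (v : M₂ →ₗ[A] M₃) (hv : ∀ (i : ℕ) (m : M₂), m ∈ ℳ₂ i → v m ∈ ℳ₃ i)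
    (hex : Function.Exact u v) (n : ℤ)
    {V : Opens (ProjectiveSpectrum.top 𝒜)} (t₂ : GrMod.sect 𝒜 ℳ₂ n (op V))
    (h0 : GrMod.mapApp (ℳ := ℳ₂) (𝒩 := ℳ₃) v hv n (op V) t₂ = 0) (x : V) :
    ∃ (W : Opens (ProjectiveSpectrum.top 𝒜)) (_ : x.1 ∈ W) (hWV : W ≤ V)
      (s : GrMod.sect 𝒜 ℳ₁ n (op W)), ∀ y : W,
        (((GrMod.mapApp (ℳ := ℳ₁) (𝒩 := ℳ₂) u hu n (op W) s).1 y : GrMod.tildeAt 𝒜 ℳ₂ n y.1) :
          GrMod.LocMod 𝒜 (M := M₂) y.1) =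
        ((t₂.1 ⟨y.1, hWV y.2⟩ : GrMod.tildeAt 𝒜 ℳ₂ n y.1) : GrMod.LocMod 𝒜 (M := M₂) y.1) := by
  obtain ⟨W₀, hxW₀, hW₀V, i, j, m₂, t, ht, hdeg, hval⟩ := exists_frac_at 𝒜 ℳ₂ n t₂ x
  rcases hdeg with hdeg | hm0
  · have h2 := congrArg (fun s' : GrMod.sect 𝒜 ℳ₃ n (op V) =>
      ((s'.1 x : GrMod.tildeAt 𝒜 ℳ₃ n x.1) : GrMod.LocMod 𝒜 (M := M₃) x.1)) h0
    change GrMod.locMap v x.1
      ((t₂.1 x : GrMod.tildeAt 𝒜 ℳ₂ n x.1) : GrMod.LocMod 𝒜 (M := M₂) x.1) = 0 at h2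
    have h1 := hval ⟨x.1, hxW₀⟩
    change ((t₂.1 x : GrMod.tildeAt 𝒜 ℳ₂ n x.1) : GrMod.LocMod 𝒜 (M := M₂) x.1) = _ at h1
    rw [h1, GrMod.locMap_mk] at h2
    obtain ⟨r, hrx, hr⟩ := exists_smul_eq_zero_of_mk_eq_zero 𝒜 _ _ h2
    obtain ⟨l, a, ha, hax, ham⟩ := exists_homogeneous_smul_eq_zero 𝒜 ℳ₃ (hv i _ m₂.2) hrx hr
    have hva : v (a • (m₂ : M₂)) = 0 := by rw [map_smul, ham]
    obtain ⟨m₁, hm₁⟩ := (hex _).mp hva
    have hmem : a • (m₂ : M₂) ∈ ℳ₂ (l + i) := SetLike.GradedSMul.smul_mem ha m₂.2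
    have hcomp : u ((DirectSum.decompose ℳ₁ m₁ (l + i) : ℳ₁ (l + i)) : M₁) = a • (m₂ : M₂) := by
      rw [map_decompose ℳ₁ ℳ₂ u hu, hm₁, DirectSum.decompose_of_mem_same ℳ₂ hmem]
    have hat : a * (t : A) ∈ 𝒜 (l + j) := SetLike.mul_mem_graded ha t.2
    have hW : ∀ y : (W₀ ⊓ ProjectiveSpectrum.basicOpen 𝒜 a : Opens (ProjectiveSpectrum.top 𝒜)),
        a * (t : A) ∉ y.1.asHomogeneousIdeal := by
      intro y h
      rcases y.1.isPrime.mem_or_mem h with h | h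
      · exact (ProjectiveSpectrum.mem_basicOpen 𝒜 a y.1).mp y.2.2 h
      · exact ht ⟨y.1, y.2.1⟩ h
    refine ⟨W₀ ⊓ ProjectiveSpectrum.basicOpen 𝒜 a,
      ⟨hxW₀, (ProjectiveSpectrum.mem_basicOpen 𝒜 a x.1).mpr hax⟩, inf_le_left.trans hW₀V,
      fracOn 𝒜 ℳ₁ n _ (DirectSum.decompose ℳ₁ m₁ (l + i)) ⟨a * (t : A), hat⟩ hW
        (by push_cast; rw [hdeg]; ring), ?_⟩
    intro y
    change GrMod.locMap u y.1 (LocalizedModule.mk _ ⟨a * (t : A), hW y⟩) = _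
    rw [GrMod.locMap_mk, hcomp, hval ⟨y.1, y.2.1⟩]
    have hay : a ∉ y.1.asHomogeneousIdeal := (ProjectiveSpectrum.mem_basicOpen 𝒜 a y.1).mp y.2.2
    exact LocalizedModule.mk_cancel_common_left
      (⟨a, hay⟩ : y.1.asHomogeneousIdeal.toIdeal.primeCompl) ⟨(t : A), ht ⟨y.1, y.2.1⟩⟩ (m₂ : M₂)
  · refine ⟨W₀, hxW₀, hW₀V, 0, ?_⟩
    intro y
    rw [map_zero, hval y, hm0, LocalizedModule.zero_mk]
    rfl

end three

end Main

end Groth.Agent.H77.GrModLocal
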