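import Mathlib
import Groth.Prelude.Def_RelProj3
import Groth.Agent.H77.GrModLocal
import Groth.Agent.H5.Stalk.Acyclic

/-!
# Exactness properties of the module `(ℳ(n))~` on a relative Proj, from the local (ring-level) statements
-/

set_option autoImplicit false
universe u
open CategoryTheory CategoryTheory.Limits AlgebraicGeometry Opposite TopologicalSpace
open scoped HomogeneousIdeal
noncomputable section

namespace Groth.Agent.H77.RelTildeCore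

section Generic
variable {X : Scheme.{u}}

/-- restriction of sections of a module -/
abbrev mres (M : X.Modules) {W W' : X.Opens} (h : W' ≤ W) : Γ(M, W) ⟶ Γ(M, W') :=
  M.presheaf.map (homOfLE h).op

theorem mres_mres (M : X.Modules) {W W' W'' : X.Opens} (h : W' ≤ W) (h' : W'' ≤ W')
    (x : Γ(M, W)) : mres M h' (mres M h x) = mres M (h'.trans h) x := by
  simp only [mres, ← ConcreteCategory.comp_apply, ← Functor.map_comp]
  rfl

theorem eq_of_locally_eq (F : X.Modules) {W : X.Opens} (s t : Γ(F, W))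
    (h : ∀ x ∈ W, ∃ (V : X.Opens) (hV : V ≤ W), x ∈ V ∧ mres F hV s = mres F hV t) : s = t := by
  choose V hV hxV hst using h
  let Fs : TopCat.Sheaf AddCommGrpCat X.toTopCat := ⟨F.presheaf, F.isSheaf⟩
  refine TopCat.Sheaf.eq_of_locally_eq' Fs (fun x : W => V x.1 x.2) W
    (fun x => homOfLE (hV x.1 x.2)) ?_ s t (fun x => hst x.1 x.2)
  intro x hx
  exact Opens.mem_iSup.mpr ⟨⟨x, hx⟩, hxV x hx⟩

theorem app_mres {F G : X.Modules} (φ : F ⟶ G) {W W' : X.Opens} (h : W' ≤ W) (s : Γ(F, W)) :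
    φ.app W' (mres F h s) = mres G h (φ.app W s) := by
  have := φ.mapPresheaf.naturality (homOfLE h).op
  exact congrArg (fun f => f s) (congrArg (fun f => (f.hom : _ → _)) this)

/-- injectivity on a basis gives a monomorphism -/
theorem mono_of_injective_on_basis {F G : X.Modules} (φ : F ⟶ G)
    (h : ∀ (V : X.Opens) (x : X), x ∈ V → ∃ (W : X.Opens), W ≤ V ∧ x ∈ W ∧
      Function.Injective (φ.app W)) : Mono φ := by
  apply Groth.Agent.H5.Stalk.mono_of_app_injective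
  intro V s t hst
  refine eq_of_locally_eq F s t (fun x hx => ?_)
  obtain ⟨W, hWV, hxW, hinj⟩ := h V x hx
  refine ⟨W, hWV, hxW, hinj ?_⟩
  rw [app_mres, app_mres, hst]

/-- a morphism of modules on a scheme which is locally surjective on sections is an epimorphism -/
theorem epi_of_locally_mem_range {G F : X.Modules} (p : G ⟶ F)
    (h : ∀ (V : X.Opens) (t : Γ(F, V)) (x : X), x ∈ V → ∃ (W : X.Opens) (hW : W ≤ V), x ∈ W ∧
        ∃ s : Γ(G, W), p.app W s = mres F hW t) : Epi p := by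
  have hls : Sheaf.IsLocallySurjective ((SheafOfModules.toSheaf X.ringCatSheaf).map p) := by
    constructor
    intro V t x hx
    obtain ⟨W, hW, hxW, s, hs⟩ := h V t x hx
    exact ⟨W, homOfLE hW, ⟨s, hs⟩, hxW⟩
  exact (SheafOfModules.toSheaf X.ringCatSheaf).epi_of_epi_map inferInstance

/-- exactness from local lifting of sections -/
theorem exact_of_locally (S : ShortComplex X.Modules)
    (h : ∀ (V : X.Opens) (t : Γ(S.X₂, V)), S.g.app V t = 0 → ∀ x : X, x ∈ V →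
      ∃ (W : X.Opens) (hW : W ≤ V), x ∈ W ∧ ∃ s : Γ(S.X₁, W), S.f.app W s = mres S.X₂ hW t) :
    S.Exact := by
  rw [Groth.Agent.H5.Stalk.shortComplex_exact_iff_stalk]
  intro x
  rw [ShortComplex.moduleCat_exact_iff]
  intro x₂ hx₂
  obtain ⟨V, hxV, t, rfl⟩ := S.X₂.presheaf.exists_germ_eq x₂
  change ((Groth.Agent.H5.Stalk.stalkFunctor x).map S.g).hom (S.X₂.presheaf.germ V x hxV t) = 0 at hx₂
  rw [Groth.Agent.H5.Stalk.stalkFunctor_map_germ] at hx₂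
  have h0 : S.X₃.presheaf.germ V x hxV (S.g.app V t) = S.X₃.presheaf.germ V x hxV 0 := by
    rw [hx₂]; exact (map_zero _).symm
  obtain ⟨V', hxV', i₁, i₂, hres⟩ := TopCat.Presheaf.germ_eq _ x hxV hxV _ _ h0
  have hV'V : V' ≤ V := leOfHom i₁
  have hg0 : S.g.app V' (mres S.X₂ hV'V t) = 0 := by
    rw [app_mres]
    have : mres S.X₃ hV'V (S.g.app V t) = S.X₃.presheaf.map i₁.op (S.g.app V t) := rfl
    rw [this, hres, map_zero]
  obtain ⟨W, hW, hxW, s, hs⟩ := h V' (mres S.X₂ hV'V t) hg0 x hxV'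
  refine ⟨S.X₁.presheaf.germ W x hxW s, ?_⟩
  change ((Groth.Agent.H5.Stalk.stalkFunctor x).map S.f).hom (S.X₁.presheaf.germ W x hxW s) = _
  rw [Groth.Agent.H5.Stalk.stalkFunctor_map_germ, hs, mres_mres]
  exact TopCat.Presheaf.germ_res_apply _ (homOfLE (hW.trans hV'V)) x hxW t

/-- a module whose sections over a basis of opens vanish is zero -/
theorem isZero_of_locally_zero (F : X.Modules)
    (h : ∀ (V : X.Opens) (x : X), x ∈ V → ∃ (W : X.Opens), W ≤ V ∧ x ∈ W ∧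
      ∀ s : Γ(F, W), s = 0) : IsZero F := by
  have hz : ∀ (V : X.Opens) (s : Γ(F, V)), s = 0 := by
    intro V s
    refine eq_of_locally_eq F s 0 (fun x hx => ?_)
    obtain ⟨W, hWV, hxW, hW⟩ := h V x hx
    exact ⟨W, hWV, hxW, (hW _).trans (hW _).symm⟩
  rw [IsZero.iff_id_eq_zero]
  ext V s
  exact (hz V _).trans (hz V _).symm

end Generic

section Transfer
variable {Z P : Scheme.{u}} (e : Z ⟶ P) [IsOpenImmersion e] (R : P.Opens)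
  {T₁ T₂ : Z.Modules} (ψ : T₁ ⟶ T₂) {F G : P.Modules}
  (lam : F ⟶ (Scheme.Modules.pushforward e).obj T₁)
  (lam' : G ⟶ (Scheme.Modules.pushforward e).obj T₂)
  (ut : F ⟶ G) (hut : ut ≫ lam' = lam ≫ (Scheme.Modules.pushforward e).map ψ)

include hut in
omit [IsOpenImmersion e] in
theorem lam_ut (W : P.Opens) (s : Γ(F, W)) :
    lam'.app W (ut.app W s) = ψ.app (e ⁻¹ᵁ W) (lam.app W s) := by
  have h := congrArg (fun f => (Scheme.Modules.Hom.app f W) s) hut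
  exact h

include hut in
omit [IsOpenImmersion e] in
/-- injectivity transfers -/
theorem transfer_injective (W : P.Opens)
    (hlam : Function.Injective (lam.app W))
    (hψ : Function.Injective (ψ.app (e ⁻¹ᵁ W))) : Function.Injective (ut.app W) := by
  intro s t hst
  apply hlam
  apply hψ
  rw [← lam_ut e ψ lam lam' ut hut, ← lam_ut e ψ lam lam' ut hut, hst]

omit [IsOpenImmersion e] in
/-- vanishing transfers -/
theorem transfer_zero (W : P.Opens)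
    (hlam : Function.Injective (lam.app W))
    (hT : ∀ s : Γ(T₁, e ⁻¹ᵁ W), s = 0) (s : Γ(F, W)) : s = 0 := by
  apply hlam
  rw [map_zero]
  exact hT _

include hut in
/-- local liftings transfer -/
theorem transfer_lift (hR : ∀ x ∈ R, ∃ y : Z, e.base y = x)
    (hlam : ∀ W : P.Opens, W ≤ R → Function.Surjective (lam.app W))
    (hlam' : ∀ W : P.Opens, W ≤ R → Function.Injective (lam'.app W))
    (V : P.Opens) (hVR : V ≤ R) (t : Γ(G, V)) (x : P) (hx : x ∈ V)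
    (hψ : ∀ y : Z, y ∈ e ⁻¹ᵁ V → ∃ (W₁ : Z.Opens) (hW₁ : W₁ ≤ e ⁻¹ᵁ V), y ∈ W₁ ∧
      ∃ s₁ : Γ(T₁, W₁), ψ.app W₁ s₁ = mres T₂ hW₁ (lam'.app V t)) :
    ∃ (W : P.Opens) (hW : W ≤ V), x ∈ W ∧ ∃ s : Γ(F, W), ut.app W s = mres G hW t := by
  obtain ⟨y, rfl⟩ := hR x (hVR hx)
  obtain ⟨W₁, hW₁, hyW₁, s₁, hs₁⟩ := hψ y hx
  have hpre : e ⁻¹ᵁ (e ''ᵁ W₁) = W₁ := e.preimage_image_eq W₁
  have hWV : e ''ᵁ W₁ ≤ V := by
    rintro _ ⟨z, hz, rfl⟩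
    exact hW₁ hz
  have hle : e ⁻¹ᵁ (e ''ᵁ W₁) ≤ W₁ := le_of_eq hpre
  refine ⟨e ''ᵁ W₁, hWV, ⟨y, hyW₁, rfl⟩, ?_⟩
  obtain ⟨s, hs⟩ := hlam (e ''ᵁ W₁) (hWV.trans hVR) (mres T₁ hle s₁)
  refine ⟨s, hlam' (e ''ᵁ W₁) (hWV.trans hVR) ?_⟩
  rw [lam_ut e ψ lam lam' ut hut, hs, app_mres ψ hle s₁, hs₁, mres_mres, app_mres lam' hWV t]
  rfl

end Transfer

section Absolute
open Groth.Agent.H77.GrModLocal
variable {A σ : Type u} [CommRing A] [SetLike σ A] [AddSubgroupClass σ A] (𝒜 : ℕ → σ) [GradedRing 𝒜]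

section one
variable {M τ : Type u} [AddCommGroup M] [Module A M] [SetLike τ M] [AddSubgroupClass τ M]
  (ℳ : ℕ → τ) [SetLike.GradedSMul 𝒜 ℳ]

theorem tilde_section_eq_zero (n : ℤ) (n₀ : ℕ) (hTN : ∀ k, n₀ ≤ k → ∀ m ∈ ℳ k, m = 0)
    (W : (Proj 𝒜).Opens) (s : Γ(GrMod.tilde 𝒜 ℳ n, W)) : s = 0 :=
  sect_eq_zero_of_tn 𝒜 ℳ n n₀ hTN (V := W) s

end one

section two
variable {M τ : Type u} [AddCommGroup M] [Module A M] [SetLike τ M] [AddSubgroupClass τ M]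
  (ℳ : ℕ → τ) [SetLike.GradedSMul 𝒜 ℳ]
variable {N τ' : Type u} [AddCommGroup N] [Module A N] [SetLike τ' N] [AddSubgroupClass τ' N]
  (𝒩 : ℕ → τ') [SetLike.GradedSMul 𝒜 𝒩]
variable (u : M →ₗ[A] N) (hu : ∀ (i : ℕ) (m : M), m ∈ ℳ i → u m ∈ 𝒩 i) (n : ℤ)

theorem map_app_injective [DirectSum.Decomposition 𝒩] (n₀ : ℕ)
    (hinj : ∀ k, n₀ ≤ k → ∀ m ∈ ℳ k, u m = 0 → m = 0) (W : (Proj 𝒜).Opens) :
    Function.Injective ((GrMod.map 𝒜 (ℳ := ℳ) (𝒩 := 𝒩) u hu n).app W) :=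
  fun _ _ h => mapApp_injective_of_tn 𝒜 ℳ 𝒩 u hu n n₀ hinj W h

theorem map_app_locally_surjective (n₀ : ℕ)
    (hsurj : ∀ k, n₀ ≤ k → ∀ m' ∈ 𝒩 k, ∃ m ∈ ℳ k, u m = m')
    (V : (Proj 𝒜).Opens) (t' : Γ(GrMod.tilde 𝒜 𝒩 n, V)) (y : Proj 𝒜) (hy : y ∈ V) :
    ∃ (W₁ : (Proj 𝒜).Opens) (hW₁ : W₁ ≤ V), y ∈ W₁ ∧
      ∃ s₁ : Γ(GrMod.tilde 𝒜 ℳ n, W₁),
        (GrMod.map 𝒜 (ℳ := ℳ) (𝒩 := 𝒩) u hu n).app W₁ s₁ = mres (GrMod.tilde 𝒜 𝒩 n) hW₁ t' := by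
  obtain ⟨W, hyW, hWV, s, hs⟩ :=
    exists_local_preimage_of_tn 𝒜 ℳ 𝒩 u hu n n₀ hsurj (V := V) t' ⟨y, hy⟩
  exact ⟨W, hWV, hyW, s, Subtype.ext (funext fun z => Subtype.ext (hs z))⟩

end two

section three
variable {M₁ τ₁ : Type u} [AddCommGroup M₁] [Module A M₁] [SetLike τ₁ M₁] [AddSubgroupClass τ₁ M₁]
    (ℳ₁ : ℕ → τ₁) [SetLike.GradedSMul 𝒜 ℳ₁] [DirectSum.Decomposition ℳ₁]
    {M₂ τ₂ : Type u} [AddCommGroup M₂] [Module A M₂] [SetLike τ₂ M₂] [AddSubgroupClass τ₂ M₂]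
    (ℳ₂ : ℕ → τ₂) [SetLike.GradedSMul 𝒜 ℳ₂] [DirectSum.Decomposition ℳ₂]
    {M₃ τ₃ : Type u} [AddCommGroup M₃] [Module A M₃] [SetLike τ₃ M₃] [AddSubgroupClass τ₃ M₃]
    (ℳ₃ : ℕ → τ₃) [SetLike.GradedSMul 𝒜 ℳ₃] [DirectSum.Decomposition ℳ₃]

theorem map_app_locally_exact
    (u : M₁ →ₗ[A] M₂) (hu : ∀ (i : ℕ) (m : M₁), m ∈ ℳ₁ i → u m ∈ ℳ₂ i)
    (v : M₂ →ₗ[A] M₃) (hv : ∀ (i : ℕ) (m : M₂), m ∈ ℳ₂ i → v m ∈ ℳ₃ i)
    (hex : Function.Exact u v) (n : ℤ)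
    (V : (Proj 𝒜).Opens) (t₂ : Γ(GrMod.tilde 𝒜 ℳ₂ n, V))
    (h0 : (GrMod.map 𝒜 (ℳ := ℳ₂) (𝒩 := ℳ₃) v hv n).app V t₂ = 0) (y : Proj 𝒜) (hy : y ∈ V) :
    ∃ (W₁ : (Proj 𝒜).Opens) (hW₁ : W₁ ≤ V), y ∈ W₁ ∧
      ∃ s₁ : Γ(GrMod.tilde 𝒜 ℳ₁ n, W₁),
        (GrMod.map 𝒜 (ℳ := ℳ₁) (𝒩 := ℳ₂) u hu n).app W₁ s₁ = mres (GrMod.tilde 𝒜 ℳ₂ n) hW₁ t₂ := by
  obtain ⟨W, hyW, hWV, s, hs⟩ :=
    exists_local_preimage_of_exact 𝒜 ℳ₁ ℳ₂ ℳ₃ u hu v hv hex n (V := V) t₂ h0 ⟨y, hy⟩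
  exact ⟨W, hWV, hyW, s, Subtype.ext (funext fun z => Subtype.ext (hs z))⟩

end three

end Absolute

section Rel
variable {Y P : Scheme.{u}} (𝒮 : RelProj.QCGrAlg Y) (p : P ⟶ Y)
    (chart : ∀ (U : Y.Opens) (hU : IsAffineOpen U),
      (((p ⁻¹ᵁ U : P.Opens) : Scheme.{u}) ≅ Proj (𝒮.deg U hU)))

omit chart in
theorem exists_chartOpen (V : P.Opens) (x : P) (hx : x ∈ V) :
    ∃ (U : Y.Opens) (_ : IsAffineOpen U) (W : P.Opens), W ≤ V ∧ W ≤ p ⁻¹ᵁ U ∧ x ∈ W := by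
  obtain ⟨U, hU, hxU, -⟩ := exists_isAffineOpen_mem_and_subset (X := Y) (x := p.base x)
    (U := ⊤) trivial
  exact ⟨U, hU, V ⊓ p ⁻¹ᵁ U, inf_le_left, inf_le_right, ⟨hx, hxU⟩⟩

theorem exists_emb_eq (U : Y.Opens) (hU : IsAffineOpen U) (x : P) (hx : x ∈ p ⁻¹ᵁ U) :
    ∃ y : Proj (𝒮.deg U hU), (RelProj.emb p chart U hU).base y = x := by
  have h : (RelProj.emb p chart U hU).opensRange = p ⁻¹ᵁ U := by
    unfold RelProj.emb
    rw [Scheme.Hom.opensRange_comp_of_isIso, Scheme.Opens.opensRange_ι]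
  have hx' : x ∈ (RelProj.emb p chart U hU).opensRange := by rw [h]; exact hx
  exact hx'

/-- (TN) ⇒ `(ℳ(n))~ = 0` -/
theorem isZero_of_isTN (ℳ : RelProj.GrModule 𝒮) (hTN : ℳ.IsTN) (n : ℤ) (F : P.Modules)
    (lam : ∀ (U : Y.Opens) (hU : IsAffineOpen U),
      F ⟶ (Scheme.Modules.pushforward (RelProj.emb p chart U hU)).obj
        (GrMod.tilde (𝒮.deg U hU) (ℳ.deg U hU) n))
    (hF : RelProj.IsRelTilde 𝒮 p chart ℳ n F lam) : IsZero F := by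
  obtain ⟨n₀, hn₀⟩ := hTN
  refine isZero_of_locally_zero F (fun V x hx => ?_)
  obtain ⟨U, hU, W, hWV, hWU, hxW⟩ := exists_chartOpen p V x hx
  refine ⟨W, hWV, hxW, fun s => ?_⟩
  exact transfer_zero (RelProj.emb p chart U hU) (lam U hU) W (hF.bijective U hU W hWU).1
    (fun s => tilde_section_eq_zero (𝒮.deg U hU) (ℳ.deg U hU) n n₀ (hn₀ U hU) _ s) s

end Rel

section RelMaps
variable {Y P : Scheme.{u}} (𝒮 : RelProj.QCGrAlg Y) (p : P ⟶ Y)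
    (chart : ∀ (U : Y.Opens) (hU : IsAffineOpen U),
      (((p ⁻¹ᵁ U : P.Opens) : Scheme.{u}) ≅ Proj (𝒮.deg U hU)))

/-- (TN)-injective ⇒ mono -/
theorem mono_of_tnInjective (ℳ 𝒩 : RelProj.GrModule 𝒮)
    (u : ℳ.mod ⟶ 𝒩.mod) (hu : RelProj.IsGrModHom u)
    (hinj : ∃ n₀ : ℕ, ∀ (U : Y.Opens) (hU : IsAffineOpen U) (k : ℕ), n₀ ≤ k →
      ∀ m ∈ ℳ.deg U hU k, (u.val.app (op U)).hom m = 0 → m = 0)
    (n : ℤ) (F : P.Modules)
    (lam : ∀ (U : Y.Opens) (hU : IsAffineOpen U),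
      F ⟶ (Scheme.Modules.pushforward (RelProj.emb p chart U hU)).obj
        (GrMod.tilde (𝒮.deg U hU) (ℳ.deg U hU) n))
    (hF : RelProj.IsRelTilde 𝒮 p chart ℳ n F lam) (G : P.Modules)
    (lam' : ∀ (U : Y.Opens) (hU : IsAffineOpen U),
      G ⟶ (Scheme.Modules.pushforward (RelProj.emb p chart U hU)).obj
        (GrMod.tilde (𝒮.deg U hU) (𝒩.deg U hU) n))
    (ut : F ⟶ G)
    (hut : ∀ (U : Y.Opens) (hU : IsAffineOpen U),
      ut ≫ lam' U hU =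
        lam U hU ≫ (Scheme.Modules.pushforward (RelProj.emb p chart U hU)).map
          (GrMod.map (𝒮.deg U hU)
            (show ℳ.mod.val.obj (op U) →ₗ[𝒮.presheaf.obj (op U)] 𝒩.mod.val.obj (op U) from
              (u.val.app (op U)).hom)
            (hu U hU) n)) : Mono ut := by
  obtain ⟨n₀, hn₀⟩ := hinj
  refine mono_of_injective_on_basis ut (fun V x hx => ?_)
  obtain ⟨U, hU, W, hWV, hWU, hxW⟩ := exists_chartOpen p V x hx
  refine ⟨W, hWV, hxW, ?_⟩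
  exact transfer_injective (RelProj.emb p chart U hU) _ (lam U hU) (lam' U hU) ut (hut U hU) W
    (hF.bijective U hU W hWU).1
    (map_app_injective (𝒮.deg U hU) (ℳ.deg U hU) (𝒩.deg U hU)
      (show ℳ.mod.val.obj (op U) →ₗ[𝒮.presheaf.obj (op U)] 𝒩.mod.val.obj (op U) from
        (u.val.app (op U)).hom) (hu U hU) n n₀ (hn₀ U hU) _)

/-- (TN)-surjective ⇒ epi -/
theorem epi_of_tnSurjective (ℳ 𝒩 : RelProj.GrModule 𝒮)
    (u : ℳ.mod ⟶ 𝒩.mod) (hu : RelProj.IsGrModHom u)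
    (hsurj : ∃ n₀ : ℕ, ∀ (U : Y.Opens) (hU : IsAffineOpen U) (k : ℕ), n₀ ≤ k →
      ∀ m' ∈ 𝒩.deg U hU k, ∃ m ∈ ℳ.deg U hU k, (u.val.app (op U)).hom m = m')
    (n : ℤ) (F : P.Modules)
    (lam : ∀ (U : Y.Opens) (hU : IsAffineOpen U),
      F ⟶ (Scheme.Modules.pushforward (RelProj.emb p chart U hU)).obj
        (GrMod.tilde (𝒮.deg U hU) (ℳ.deg U hU) n))
    (hF : RelProj.IsRelTilde 𝒮 p chart ℳ n F lam) (G : P.Modules)
    (lam' : ∀ (U : Y.Opens) (hU : IsAffineOpen U),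
      G ⟶ (Scheme.Modules.pushforward (RelProj.emb p chart U hU)).obj
        (GrMod.tilde (𝒮.deg U hU) (𝒩.deg U hU) n))
    (hG : RelProj.IsRelTilde 𝒮 p chart 𝒩 n G lam') (ut : F ⟶ G)
    (hut : ∀ (U : Y.Opens) (hU : IsAffineOpen U),
      ut ≫ lam' U hU =
        lam U hU ≫ (Scheme.Modules.pushforward (RelProj.emb p chart U hU)).map
          (GrMod.map (𝒮.deg U hU)
            (show ℳ.mod.val.obj (op U) →ₗ[𝒮.presheaf.obj (op U)] 𝒩.mod.val.obj (op U) from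
              (u.val.app (op U)).hom)
            (hu U hU) n)) : Epi ut := by
  obtain ⟨n₀, hn₀⟩ := hsurj
  refine epi_of_locally_mem_range ut (fun V t x hx => ?_)
  obtain ⟨U, hU, W, hWV, hWU, hxW⟩ := exists_chartOpen p V x hx
  obtain ⟨W', hW'W, hxW', s, hs⟩ := transfer_lift (RelProj.emb p chart U hU) (p ⁻¹ᵁ U) _
    (lam U hU) (lam' U hU) ut (hut U hU) (exists_emb_eq 𝒮 p chart U hU)
    (fun W hW => (hF.bijective U hU W hW).2) (fun W hW => (hG.bijective U hU W hW).1)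
    W hWU (mres G hWV t) x hxW
    (fun y hy => map_app_locally_surjective (𝒮.deg U hU) (ℳ.deg U hU) (𝒩.deg U hU)
      (show ℳ.mod.val.obj (op U) →ₗ[𝒮.presheaf.obj (op U)] 𝒩.mod.val.obj (op U) from
        (u.val.app (op U)).hom) (hu U hU) n n₀ (hn₀ U hU) _ _ y hy)
  refine ⟨W', hW'W.trans hWV, hxW', s, ?_⟩
  rw [hs, mres_mres]

/-- exactness of `ℳ ↦ (ℳ(n))~` -/
theorem exact_of_exact (ℳ₁ ℳ₂ ℳ₃ : RelProj.GrModule 𝒮)
    (u : ℳ₁.mod ⟶ ℳ₂.mod) (hu : RelProj.IsGrModHom u) (v : ℳ₂.mod ⟶ ℳ₃.mod)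
    (hv : RelProj.IsGrModHom v)
    (hex : ∀ (U : Y.Opens) (hU : IsAffineOpen U),
      Function.Exact (u.val.app (op U)).hom (v.val.app (op U)).hom)
    (n : ℤ) (F₁ F₂ F₃ : P.Modules)
    (lam₁ : ∀ (U : Y.Opens) (hU : IsAffineOpen U),
      F₁ ⟶ (Scheme.Modules.pushforward (RelProj.emb p chart U hU)).obj
        (GrMod.tilde (𝒮.deg U hU) (ℳ₁.deg U hU) n))
    (hF₁ : RelProj.IsRelTilde 𝒮 p chart ℳ₁ n F₁ lam₁)
    (lam₂ : ∀ (U : Y.Opens) (hU : IsAffineOpen U),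
      F₂ ⟶ (Scheme.Modules.pushforward (RelProj.emb p chart U hU)).obj
        (GrMod.tilde (𝒮.deg U hU) (ℳ₂.deg U hU) n))
    (hF₂ : RelProj.IsRelTilde 𝒮 p chart ℳ₂ n F₂ lam₂)
    (lam₃ : ∀ (U : Y.Opens) (hU : IsAffineOpen U),
      F₃ ⟶ (Scheme.Modules.pushforward (RelProj.emb p chart U hU)).obj
        (GrMod.tilde (𝒮.deg U hU) (ℳ₃.deg U hU) n))
    (ut : F₁ ⟶ F₂)
    (hut : ∀ (U : Y.Opens) (hU : IsAffineOpen U),
      ut ≫ lam₂ U hU =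
        lam₁ U hU ≫ (Scheme.Modules.pushforward (RelProj.emb p chart U hU)).map
          (GrMod.map (𝒮.deg U hU)
            (show ℳ₁.mod.val.obj (op U) →ₗ[𝒮.presheaf.obj (op U)] ℳ₂.mod.val.obj (op U) from
              (u.val.app (op U)).hom)
            (hu U hU) n))
    (vt : F₂ ⟶ F₃)
    (hvt : ∀ (U : Y.Opens) (hU : IsAffineOpen U),
      vt ≫ lam₃ U hU =
        lam₂ U hU ≫ (Scheme.Modules.pushforward (RelProj.emb p chart U hU)).map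
          (GrMod.map (𝒮.deg U hU)
            (show ℳ₂.mod.val.obj (op U) →ₗ[𝒮.presheaf.obj (op U)] ℳ₃.mod.val.obj (op U) from
              (v.val.app (op U)).hom)
            (hv U hU) n))
    (w : ut ≫ vt = 0) : (ShortComplex.mk ut vt w).Exact := by
  refine exact_of_locally _ (fun V t ht x hx => ?_)
  change vt.app V t = 0 at ht
  change ∃ (W : P.Opens) (hW : W ≤ V), x ∈ W ∧ ∃ s : Γ(F₁, W), ut.app W s = mres F₂ hW t
  obtain ⟨U, hU, W, hWV, hWU, hxW⟩ := exists_chartOpen p V x hx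
  have ht' : vt.app W (mres F₂ hWV t) = 0 := by rw [app_mres, ht, map_zero]
  have h0 := lam_ut (RelProj.emb p chart U hU) _ (lam₂ U hU) (lam₃ U hU) vt (hvt U hU) W
    (mres F₂ hWV t)
  rw [ht', map_zero] at h0
  obtain ⟨W', hW'W, hxW', s, hs⟩ := transfer_lift (RelProj.emb p chart U hU) (p ⁻¹ᵁ U) _
    (lam₁ U hU) (lam₂ U hU) ut (hut U hU) (exists_emb_eq 𝒮 p chart U hU)
    (fun W hW => (hF₁.bijective U hU W hW).2) (fun W hW => (hF₂.bijective U hU W hW).1)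
    W hWU (mres F₂ hWV t) x hxW
    (fun y hy => map_app_locally_exact (𝒮.deg U hU) (ℳ₁.deg U hU) (ℳ₂.deg U hU) (ℳ₃.deg U hU)
      (show ℳ₁.mod.val.obj (op U) →ₗ[𝒮.presheaf.obj (op U)] ℳ₂.mod.val.obj (op U) from
        (u.val.app (op U)).hom) (hu U hU)
      (show ℳ₂.mod.val.obj (op U) →ₗ[𝒮.presheaf.obj (op U)] ℳ₃.mod.val.obj (op U) from
        (v.val.app (op U)).hom) (hv U hU) (hex U hU) n _ _ h0.symm y hy)
  refine ⟨W', hW'W.trans hWV, hxW', s, ?_⟩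
  rw [hs, mres_mres]

end RelMaps

end Groth.Agent.H77.RelTildeCore
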