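import Mathlib
import Groth.Prelude.Def_RelProj3
import Groth.Agent.H77.RelTildeCore

/-!
# Gluing morphisms of modules on a scheme `P ⟶ Y` from data over the opens lying over affine opens of `Y`
-/

set_option autoImplicit false
universe u
open CategoryTheory CategoryTheory.Limits AlgebraicGeometry Opposite TopologicalSpace
noncomputable section

namespace Groth.Agent.H77.RelGlue

open Groth.Agent.H77.RelTildeCore

section Generic
variable {X : Scheme.{u}}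

theorem mres_self (M : X.Modules) {W : X.Opens} (h : W ≤ W) (x : Γ(M, W)) : mres M h x = x := by
  have : (homOfLE h).op = 𝟙 _ := rfl
  simp only [mres, this, CategoryTheory.Functor.map_id]
  rfl

theorem mres_injective_of_le (M : X.Modules) {W W' : X.Opens} (h : W' ≤ W) (h' : W ≤ W') :
    Function.Injective (mres M h) := by
  intro a b hab
  have := congrArg (mres M h') hab
  rwa [mres_mres, mres_mres, mres_self, mres_self] at this

theorem mres_smul (M : X.Modules) {W W' : X.Opens} (h : W' ≤ W) (a : Γ(X, W)) (x : Γ(M, W)) :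
    mres M h (a • x) = X.presheaf.map (homOfLE h).op a • mres M h x :=
  Scheme.Modules.map_smul M (homOfLE h) a x

end Generic

section Glue
variable {Y P : Scheme.{u}} (p : P ⟶ Y)
  (E₁ E₂ : ∀ (U : Y.Opens), IsAffineOpen U → P.Modules)
  (χ : ∀ (U : Y.Opens) (hU : IsAffineOpen U), E₁ U hU ⟶ E₂ U hU)
  {F G : P.Modules}
  (lam : ∀ (U : Y.Opens) (hU : IsAffineOpen U), F ⟶ E₁ U hU)
  (lam' : ∀ (U : Y.Opens) (hU : IsAffineOpen U), G ⟶ E₂ U hU)

/-- `t` corresponds to `s`, read in the chart over `U` -/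
def Rel (U : Y.Opens) (hU : IsAffineOpen U) (W : P.Opens) (s : Γ(F, W)) (t : Γ(G, W)) : Prop :=
  (lam' U hU).app W t = (χ U hU).app W ((lam U hU).app W s)

variable {E₁ E₂ χ lam lam'}

theorem Rel.res {U : Y.Opens} {hU : IsAffineOpen U} {W : P.Opens} {s : Γ(F, W)} {t : Γ(G, W)}
    (h : Rel E₁ E₂ χ lam lam' U hU W s t) {W' : P.Opens} (hW : W' ≤ W) :
    Rel E₁ E₂ χ lam lam' U hU W' (mres F hW s) (mres G hW t) := by
  unfold Rel at h ⊢
  rw [app_mres, app_mres, app_mres, h]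

theorem Rel.congr {U U' : Y.Opens} (e : U = U') {hU : IsAffineOpen U} {hU' : IsAffineOpen U'}
    {W : P.Opens} {s : Γ(F, W)} {t : Γ(G, W)}
    (h : Rel E₁ E₂ χ lam lam' U hU W s t) : Rel E₁ E₂ χ lam lam' U' hU' W s t := by
  subst e
  exact h

theorem Rel.add {U : Y.Opens} {hU : IsAffineOpen U} {W : P.Opens} {s s' : Γ(F, W)} {t t' : Γ(G, W)}
    (h : Rel E₁ E₂ χ lam lam' U hU W s t) (h' : Rel E₁ E₂ χ lam lam' U hU W s' t') :
    Rel E₁ E₂ χ lam lam' U hU W (s + s') (t + t') := by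
  unfold Rel at h h' ⊢
  rw [map_add, map_add, map_add, h, h']

theorem Rel.smul {U : Y.Opens} {hU : IsAffineOpen U} {W : P.Opens} {s : Γ(F, W)} {t : Γ(G, W)}
    (h : Rel E₁ E₂ χ lam lam' U hU W s t) (a : Γ(P, W)) :
    Rel E₁ E₂ χ lam lam' U hU W (a • s) (a • t) := by
  unfold Rel at h ⊢
  rw [Scheme.Modules.Hom.app_smul, Scheme.Modules.Hom.app_smul, Scheme.Modules.Hom.app_smul, h]

end Glue

section Glue2
variable {Y P : Scheme.{u}} (p : P ⟶ Y)
  (E₁ E₂ : ∀ (U : Y.Opens), IsAffineOpen U → P.Modules)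
  (χ : ∀ (U : Y.Opens) (hU : IsAffineOpen U), E₁ U hU ⟶ E₂ U hU)
  {F G : P.Modules}
  (lam : ∀ (U : Y.Opens) (hU : IsAffineOpen U), F ⟶ E₁ U hU)
  (lam' : ∀ (U : Y.Opens) (hU : IsAffineOpen U), G ⟶ E₂ U hU)
  (hlam' : ∀ (U : Y.Opens) (hU : IsAffineOpen U) (W : P.Opens), W ≤ p ⁻¹ᵁ U →
    Function.Bijective ((lam' U hU).app W))
  (hH : ∀ (U : Y.Opens) (hU : IsAffineOpen U) (r : Γ(Y, U)) (W : P.Opens),
    W ≤ p ⁻¹ᵁ (Y.basicOpen r) → ∀ (s : Γ(F, W)) (t : Γ(G, W)),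
      Rel E₁ E₂ χ lam lam' U hU W s t →
        Rel E₁ E₂ χ lam lam' (Y.basicOpen r) (hU.basicOpen r) W s t)

include hlam' in
theorem rel_unique {U : Y.Opens} {hU : IsAffineOpen U} {W : P.Opens} (hW : W ≤ p ⁻¹ᵁ U)
    {s : Γ(F, W)} {t t' : Γ(G, W)}
    (h : Rel E₁ E₂ χ lam lam' U hU W s t) (h' : Rel E₁ E₂ χ lam lam' U hU W s t') : t = t' :=
  (hlam' U hU W hW).1 (h.trans h'.symm)

include hlam' in
theorem rel_exists {U : Y.Opens} (hU : IsAffineOpen U) {W : P.Opens} (hW : W ≤ p ⁻¹ᵁ U)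
    (s : Γ(F, W)) : ∃ t : Γ(G, W), Rel E₁ E₂ χ lam lam' U hU W s t :=
  (hlam' U hU W hW).2 _

include hlam' hH in
theorem rel_indep {U U' : Y.Opens} {hU : IsAffineOpen U} (hU' : IsAffineOpen U') {W : P.Opens}
    (hW : W ≤ p ⁻¹ᵁ U) (hW' : W ≤ p ⁻¹ᵁ U') {s : Γ(F, W)} {t : Γ(G, W)}
    (h : Rel E₁ E₂ χ lam lam' U hU W s t) : Rel E₁ E₂ χ lam lam' U' hU' W s t := by
  obtain ⟨t', ht'⟩ := rel_exists p E₁ E₂ χ lam lam' hlam' hU' hW' s
  have : t = t' := by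
    refine eq_of_locally_eq G t t' (fun x hx => ?_)
    obtain ⟨f, g, hfg, hxf⟩ := exists_basicOpen_le_affine_inter hU hU' (p.base x) ⟨hW hx, hW' hx⟩
    have hW₁ : W ⊓ p ⁻¹ᵁ (Y.basicOpen f) ≤ W := inf_le_left
    refine ⟨W ⊓ p ⁻¹ᵁ (Y.basicOpen f), hW₁, ⟨hx, hxf⟩, ?_⟩
    have h1 := hH U hU f _ inf_le_right _ _ (h.res hW₁)
    have h2 := hH U' hU' g _ (by rw [← hfg]; exact inf_le_right) _ _ (ht'.res hW₁)
    exact rel_unique p E₁ E₂ χ lam lam' hlam' (by rw [← hfg]; exact inf_le_right)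
      (h1.congr hfg) h2
  rw [this]
  exact ht'

/-- index type: opens of `P` lying over a given affine open of `Y` -/
structure ChartOpen where
  U : Y.Opens
  hU : IsAffineOpen U
  W : P.Opens
  hW : W ≤ p ⁻¹ᵁ U

/-- the underlying open -/
def chartB : ChartOpen p → Opens P := fun i => i.W

theorem isBasis_chartB : Opens.IsBasis (Set.range (chartB p)) := by
  rw [Opens.isBasis_iff_nbhd]
  intro V x hx
  obtain ⟨U, hU, W, hWV, hWU, hxW⟩ := exists_chartOpen p V x hx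
  exact ⟨W, ⟨⟨U, hU, W, hWU⟩, rfl⟩, hxW, hWV⟩

/-- the local map -/
def locFun (i : ChartOpen p) (s : Γ(F, i.W)) : Γ(G, i.W) :=
  (rel_exists p E₁ E₂ χ lam lam' hlam' i.hU i.hW s).choose

theorem locFun_spec (i : ChartOpen p) (s : Γ(F, i.W)) :
    Rel E₁ E₂ χ lam lam' i.U i.hU i.W s (locFun p E₁ E₂ χ lam lam' hlam' i s) :=
  (rel_exists p E₁ E₂ χ lam lam' hlam' i.hU i.hW s).choose_spec

/-- the local map, additive -/
def locHom (i : ChartOpen p) : Γ(F, i.W) →+ Γ(G, i.W) where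
  toFun := locFun p E₁ E₂ χ lam lam' hlam' i
  map_zero' := by
    refine rel_unique p E₁ E₂ χ lam lam' hlam' i.hW (locFun_spec p E₁ E₂ χ lam lam' hlam' i 0) ?_
    unfold Rel
    rw [map_zero, map_zero, map_zero]
  map_add' a b :=
    rel_unique p E₁ E₂ χ lam lam' hlam' i.hW (locFun_spec p E₁ E₂ χ lam lam' hlam' i (a + b))
      ((locFun_spec p E₁ E₂ χ lam lam' hlam' i a).add (locFun_spec p E₁ E₂ χ lam lam' hlam' i b))

end Glue2

section Glue3
variable {Y P : Scheme.{u}} (p : P ⟶ Y)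
  (E₁ E₂ : ∀ (U : Y.Opens), IsAffineOpen U → P.Modules)
  (χ : ∀ (U : Y.Opens) (hU : IsAffineOpen U), E₁ U hU ⟶ E₂ U hU)
  {F G : P.Modules}
  (lam : ∀ (U : Y.Opens) (hU : IsAffineOpen U), F ⟶ E₁ U hU)
  (lam' : ∀ (U : Y.Opens) (hU : IsAffineOpen U), G ⟶ E₂ U hU)
  (hlam' : ∀ (U : Y.Opens) (hU : IsAffineOpen U) (W : P.Opens), W ≤ p ⁻¹ᵁ U →
    Function.Bijective ((lam' U hU).app W))
  (hH : ∀ (U : Y.Opens) (hU : IsAffineOpen U) (r : Γ(Y, U)) (W : P.Opens),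
    W ≤ p ⁻¹ᵁ (Y.basicOpen r) → ∀ (s : Γ(F, W)) (t : Γ(G, W)),
      Rel E₁ E₂ χ lam lam' U hU W s t →
        Rel E₁ E₂ χ lam lam' (Y.basicOpen r) (hU.basicOpen r) W s t)

include hH in
theorem locFun_res (i j : ChartOpen p) (hij : i.W ≤ j.W) (s : Γ(F, j.W)) :
    locFun p E₁ E₂ χ lam lam' hlam' i (mres F hij s) =
      mres G hij (locFun p E₁ E₂ χ lam lam' hlam' j s) := by
  refine rel_unique p E₁ E₂ χ lam lam' hlam' i.hW
    (locFun_spec p E₁ E₂ χ lam lam' hlam' i (mres F hij s)) ?_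
  exact rel_indep p E₁ E₂ χ lam lam' hlam' hH i.hU (hij.trans j.hW) i.hW
    ((locFun_spec p E₁ E₂ χ lam lam' hlam' j s).res hij)

/-- the natural transformation over the basis of chart opens -/
def locNat : (inducedFunctor (chartB p)).op ⋙ F.presheaf ⟶
    (inducedFunctor (chartB p)).op ⋙ G.presheaf where
  app i := AddCommGrpCat.ofHom (locHom p E₁ E₂ χ lam lam' hlam' i.unop)
  naturality i j f := by
    ext s
    exact locFun_res p E₁ E₂ χ lam lam' hlam' hH j.unop i.unop (leOfHom f.unop.hom) s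

/-- the glued morphism of presheaves of abelian groups -/
def gluePre : F.presheaf ⟶ G.presheaf :=
  TopCat.Sheaf.restrictHomEquivHom F.presheaf (⟨G.presheaf, G.isSheaf⟩ : TopCat.Sheaf Ab P.toTopCat)
    (isBasis_chartB p) (locNat p E₁ E₂ χ lam lam' hlam' hH)

theorem gluePre_app (i : ChartOpen p) (s : Γ(F, i.W)) :
    (gluePre p E₁ E₂ χ lam lam' hlam' hH).app (op i.W) s =
      locFun p E₁ E₂ χ lam lam' hlam' i s := by
  have h := TopCat.Sheaf.extend_hom_app F.presheaf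
    (⟨G.presheaf, G.isSheaf⟩ : TopCat.Sheaf Ab P.toTopCat)
    (isBasis_chartB p) (locNat p E₁ E₂ χ lam lam' hlam' hH) i
  exact congrArg (fun f => f s) (congrArg (fun f => (f.hom : _ → _)) h)

theorem gluePre_rel {U : Y.Opens} (hU : IsAffineOpen U) {W : P.Opens} (hW : W ≤ p ⁻¹ᵁ U)
    (s : Γ(F, W)) :
    Rel E₁ E₂ χ lam lam' U hU W s ((gluePre p E₁ E₂ χ lam lam' hlam' hH).app (op W) s) := by
  rw [gluePre_app p E₁ E₂ χ lam lam' hlam' hH ⟨U, hU, W, hW⟩ s]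
  exact locFun_spec p E₁ E₂ χ lam lam' hlam' ⟨U, hU, W, hW⟩ s

theorem gluePre_mres {V V' : P.Opens} (h : V' ≤ V) (s : Γ(F, V)) :
    (gluePre p E₁ E₂ χ lam lam' hlam' hH).app (op V') (mres F h s) =
      mres G h ((gluePre p E₁ E₂ χ lam lam' hlam' hH).app (op V) s) := by
  have := (gluePre p E₁ E₂ χ lam lam' hlam' hH).naturality (homOfLE h).op
  exact congrArg (fun f => f s) (congrArg (fun f => (f.hom : _ → _)) this)

theorem gluePre_smul (V : P.Opens) (a : Γ(P, V)) (s : Γ(F, V)) :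
    (gluePre p E₁ E₂ χ lam lam' hlam' hH).app (op V) (a • s) =
      a • (gluePre p E₁ E₂ χ lam lam' hlam' hH).app (op V) s := by
  refine eq_of_locally_eq G _ _ (fun x hx => ?_)
  obtain ⟨U, hU, W, hWV, hWU, hxW⟩ := exists_chartOpen p V x hx
  refine ⟨W, hWV, hxW, ?_⟩
  rw [← gluePre_mres, mres_smul, mres_smul, ← gluePre_mres]
  exact rel_unique p E₁ E₂ χ lam lam' hlam' hWU
    (gluePre_rel p E₁ E₂ χ lam lam' hlam' hH hU hWU _)
    ((gluePre_rel p E₁ E₂ χ lam lam' hlam' hH hU hWU _).smul _)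

/-- the glued morphism of modules -/
def glue : F ⟶ G :=
  ⟨PresheafOfModules.homMk (gluePre p E₁ E₂ χ lam lam' hlam' hH)
    (fun V a s => gluePre_smul p E₁ E₂ χ lam lam' hlam' hH V.unop a s)⟩

theorem glue_app (W : P.Opens) (s : Γ(F, W)) :
    (glue p E₁ E₂ χ lam lam' hlam' hH).app W s =
      (gluePre p E₁ E₂ χ lam lam' hlam' hH).app (op W) s := rfl

end Glue3

section Glue4
variable {Y P : Scheme.{u}} (p : P ⟶ Y)
  (E₁ E₂ : ∀ (U : Y.Opens), IsAffineOpen U → P.Modules)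
  (χ : ∀ (U : Y.Opens) (hU : IsAffineOpen U), E₁ U hU ⟶ E₂ U hU)
  {F G : P.Modules}
  (lam : ∀ (U : Y.Opens) (hU : IsAffineOpen U), F ⟶ E₁ U hU)
  (lam' : ∀ (U : Y.Opens) (hU : IsAffineOpen U), G ⟶ E₂ U hU)
  (hlam' : ∀ (U : Y.Opens) (hU : IsAffineOpen U) (W : P.Opens), W ≤ p ⁻¹ᵁ U →
    Function.Bijective ((lam' U hU).app W))
  (hH : ∀ (U : Y.Opens) (hU : IsAffineOpen U) (r : Γ(Y, U)) (W : P.Opens),
    W ≤ p ⁻¹ᵁ (Y.basicOpen r) → ∀ (s : Γ(F, W)) (t : Γ(G, W)),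
      Rel E₁ E₂ χ lam lam' U hU W s t →
        Rel E₁ E₂ χ lam lam' (Y.basicOpen r) (hU.basicOpen r) W s t)
  (hK : ∀ (U : Y.Opens) (hU : IsAffineOpen U) (W : P.Opens),
    Function.Injective (mres (E₂ U hU) (inf_le_left : W ⊓ p ⁻¹ᵁ U ≤ W)))

include hK in
theorem glue_comp (U : Y.Opens) (hU : IsAffineOpen U) :
    glue p E₁ E₂ χ lam lam' hlam' hH ≫ lam' U hU = lam U hU ≫ χ U hU := by
  ext W s
  apply hK U hU W
  change mres (E₂ U hU) _ ((lam' U hU).app W ((glue p E₁ E₂ χ lam lam' hlam' hH).app W s)) =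
    mres (E₂ U hU) _ ((χ U hU).app W ((lam U hU).app W s))
  rw [← app_mres, ← app_mres, ← app_mres, ← app_mres, glue_app]
  exact gluePre_rel p E₁ E₂ χ lam lam' hlam' hH hU inf_le_right _

include hlam' in
theorem hom_unique (ut ut' : F ⟶ G)
    (h : ∀ (U : Y.Opens) (hU : IsAffineOpen U), ut ≫ lam' U hU = lam U hU ≫ χ U hU)
    (h' : ∀ (U : Y.Opens) (hU : IsAffineOpen U), ut' ≫ lam' U hU = lam U hU ≫ χ U hU) :
    ut = ut' := by
  ext V s
  refine eq_of_locally_eq G _ _ (fun x hx => ?_)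
  obtain ⟨U, hU, W, hWV, hWU, hxW⟩ := exists_chartOpen p V x hx
  refine ⟨W, hWV, hxW, ?_⟩
  rw [← app_mres, ← app_mres]
  apply (hlam' U hU W hWU).1
  have e1 := congrArg (fun f => (Scheme.Modules.Hom.app f W) (mres F hWV s)) (h U hU)
  have e2 := congrArg (fun f => (Scheme.Modules.Hom.app f W) (mres F hWV s)) (h' U hU)
  exact e1.trans e2.symm

include hlam' hH hK in
/-- existence and uniqueness of the glued morphism -/
theorem existsUnique_glue :
    ∃! ut : F ⟶ G, ∀ (U : Y.Opens) (hU : IsAffineOpen U),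
      ut ≫ lam' U hU = lam U hU ≫ χ U hU :=
  ⟨glue p E₁ E₂ χ lam lam' hlam' hH, glue_comp p E₁ E₂ χ lam lam' hlam' hH hK,
    fun ut' h' => hom_unique p E₁ E₂ χ lam lam' hlam' ut' _ h'
      (glue_comp p E₁ E₂ χ lam lam' hlam' hH hK)⟩

end Glue4

end Groth.Agent.H77.RelGlue
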