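import Mathlib
import Groth.Prelude.Def_RelProj3
import Groth.Agent.H77.RelGlue

/-!
# The morphism `(ℳ(n))~ ⟶ (𝒩(n))~` on a relative Proj induced by a graded homomorphism; uniqueness of `(ℳ(n))~`
-/

set_option autoImplicit false
universe u
open CategoryTheory CategoryTheory.Limits AlgebraicGeometry Opposite TopologicalSpace
open scoped HomogeneousIdeal
noncomputable section

namespace Groth.Agent.H77.RelTildeGlue

open Groth.Agent.H77.RelTildeCore Groth.Agent.H77.RelGlue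

section RingLevel
variable {A σ : Type u} [CommRing A] [SetLike σ A] [AddSubgroupClass σ A] {𝒜 : ℕ → σ} [GradedRing 𝒜]
variable {B σ' : Type u} [CommRing B] [SetLike σ' B] [AddSubgroupClass σ' B] {ℬ : ℕ → σ'}
  [GradedRing ℬ]
variable {M N : Type u} [AddCommGroup M] [Module A M] [AddCommGroup N] [Module A N]
variable {M' N' : Type u} [AddCommGroup M'] [Module B M'] [AddCommGroup N'] [Module B N']
variable (ψ : 𝒜 →+*ᵍ ℬ) (hψ : ℬ₊ ≤ (𝒜₊).map ψ) (vM : M →ₛₗ[ψ.toRingHom] M')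
  (vN : N →ₛₗ[ψ.toRingHom] N') (uA : M →ₗ[A] N) (uB : M' →ₗ[B] N')
  (hcomm : ∀ m, vN (uA m) = uB (vM m))

include hcomm in
theorem locModMap_locMap (y : ProjectiveSpectrum ℬ)
    (q : GrMod.LocMod 𝒜 (M := M) (ProjectiveSpectrum.comap ψ hψ y)) :
    GrMod.locModMap ψ hψ vN y (GrMod.locMap uA _ q) =
      GrMod.locMap uB y (GrMod.locModMap ψ hψ vM y q) := by
  induction q using LocalizedModule.induction_on with
  | h m s =>
    rw [GrMod.locMap_mk, GrMod.locModMap_mk, GrMod.locModMap_mk, GrMod.locMap_mk, hcomm]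

end RingLevel

section Rel
variable {Y P : Scheme.{u}} (𝒮 : RelProj.QCGrAlg Y) (p : P ⟶ Y)
    (chart : ∀ (U : Y.Opens) (hU : IsAffineOpen U),
      (((p ⁻¹ᵁ U : P.Opens) : Scheme.{u}) ≅ Proj (𝒮.deg U hU)))

theorem opensRange_emb (U : Y.Opens) (hU : IsAffineOpen U) :
    (RelProj.emb p chart U hU).opensRange = p ⁻¹ᵁ U := by
  unfold RelProj.emb
  rw [Scheme.Hom.opensRange_comp_of_isIso, Scheme.Opens.opensRange_ι]

theorem emb_mem (U : Y.Opens) (hU : IsAffineOpen U) (z : Proj (𝒮.deg U hU)) :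
    (RelProj.emb p chart U hU).base z ∈ p ⁻¹ᵁ U := by
  rw [← opensRange_emb 𝒮 p chart U hU]
  exact ⟨z, rfl⟩

/-- sections of a direct image along a chart immersion only depend on the part of the open over `U` -/
theorem mres_pushforward_injective (U : Y.Opens) (hU : IsAffineOpen U)
    (T : (Proj (𝒮.deg U hU)).Modules) (W : P.Opens) :
    Function.Injective (mres ((Scheme.Modules.pushforward (RelProj.emb p chart U hU)).obj T)
      (inf_le_left : W ⊓ p ⁻¹ᵁ U ≤ W)) := by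
  have h' : RelProj.emb p chart U hU ⁻¹ᵁ W ≤ RelProj.emb p chart U hU ⁻¹ᵁ (W ⊓ p ⁻¹ᵁ U) :=
    fun z hz => ⟨hz, emb_mem 𝒮 p chart U hU z⟩
  have h : RelProj.emb p chart U hU ⁻¹ᵁ (W ⊓ p ⁻¹ᵁ U) ≤ RelProj.emb p chart U hU ⁻¹ᵁ W :=
    fun z hz => hz.1
  exact mres_injective_of_le T h h'

theorem emb_comap_mem (hP : RelProj.IsRelProj 𝒮 p chart) (U : Y.Opens) (hU : IsAffineOpen U)
    (r : Γ(Y, U)) (W : P.Opens)
    (y : ProjectiveSpectrum (𝒮.deg (Y.basicOpen r) (hU.basicOpen r)))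
    (hy : (RelProj.emb p chart (Y.basicOpen r) (hU.basicOpen r)).base y ∈ W) :
    (RelProj.emb p chart U hU).base (ProjectiveSpectrum.comap
      (𝒮.res hU (hU.basicOpen r) (Y.basicOpen_le r)) (𝒮.irrelevant_le_map U hU r) y) ∈ W := by
  rw [← RelProj.map_res_emb hP U hU r] at hy
  exact hy

end Rel

section RelMap
variable {Y P : Scheme.{u}} (𝒮 : RelProj.QCGrAlg Y) (p : P ⟶ Y)
    (chart : ∀ (U : Y.Opens) (hU : IsAffineOpen U),
      (((p ⁻¹ᵁ U : P.Opens) : Scheme.{u}) ≅ Proj (𝒮.deg U hU)))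
    (hP : RelProj.IsRelProj 𝒮 p chart) (ℳ 𝒩 : RelProj.GrModule 𝒮)
    (u : ℳ.mod ⟶ 𝒩.mod) (hu : RelProj.IsGrModHom u) (n : ℤ)

/-- the `𝒮(U)`-linear map `u(U)` -/
abbrev uAt (U : Y.Opens) : ℳ.mod.val.obj (op U) →ₗ[𝒮.presheaf.obj (op U)] 𝒩.mod.val.obj (op U) :=
  (u.val.app (op U)).hom

theorem res_uAt {U V : Y.Opens} (hU : IsAffineOpen U) (hV : IsAffineOpen V) (i : V ≤ U)
    (m : ℳ.mod.val.obj (op U)) :
    𝒩.res hU hV i (uAt 𝒮 ℳ 𝒩 u U m) = uAt 𝒮 ℳ 𝒩 u V (ℳ.res hU hV i m) :=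
  (PresheafOfModules.naturality_apply u.val (homOfLE i).op m).symm

/-- the target modules -/
abbrev E (𝒦 : RelProj.GrModule 𝒮) (U : Y.Opens) (hU : IsAffineOpen U) : P.Modules :=
  (Scheme.Modules.pushforward (RelProj.emb p chart U hU)).obj
    (GrMod.tilde (𝒮.deg U hU) (𝒦.deg U hU) n)

/-- the chartwise maps -/
abbrev chi (U : Y.Opens) (hU : IsAffineOpen U) : E 𝒮 p chart n ℳ U hU ⟶ E 𝒮 p chart n 𝒩 U hU :=
  (Scheme.Modules.pushforward (RelProj.emb p chart U hU)).map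
    (GrMod.map (𝒮.deg U hU) (uAt 𝒮 ℳ 𝒩 u U) (hu U hU) n)

variable {F G : P.Modules}
    (lam : ∀ (U : Y.Opens) (hU : IsAffineOpen U), F ⟶ E 𝒮 p chart n ℳ U hU)
    (hF : RelProj.IsRelTilde 𝒮 p chart ℳ n F lam)
    (lam' : ∀ (U : Y.Opens) (hU : IsAffineOpen U), G ⟶ E 𝒮 p chart n 𝒩 U hU)
    (hG : RelProj.IsRelTilde 𝒮 p chart 𝒩 n G lam')

include hP hF hG in
theorem rel_basicOpen (U : Y.Opens) (hU : IsAffineOpen U) (r : Γ(Y, U)) (W : P.Opens)
    (s : Γ(F, W)) (t : Γ(G, W))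
    (h : RelGlue.Rel (E 𝒮 p chart n ℳ) (E 𝒮 p chart n 𝒩) (chi 𝒮 p chart ℳ 𝒩 u hu n) lam lam' U hU W s t) :
    RelGlue.Rel (E 𝒮 p chart n ℳ) (E 𝒮 p chart n 𝒩) (chi 𝒮 p chart ℳ 𝒩 u hu n) lam lam'
      (Y.basicOpen r) (hU.basicOpen r) W s t := by
  unfold RelGlue.Rel at h ⊢
  refine Subtype.ext (funext fun y => Subtype.ext ?_)
  have hy' := emb_comap_mem 𝒮 p chart hP U hU r W y.1 y.2
  have c1 := hG.compat U hU r W t y.1 y.2 hy'
  have c2 := hF.compat U hU r W s y.1 y.2 hy'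
  refine c1.trans ?_
  rw [h]
  change GrMod.locModMap _ _ _ y.1 (GrMod.locMap (uAt 𝒮 ℳ 𝒩 u U) _
      (GrMod.val (V := RelProj.emb p chart U hU ⁻¹ᵁ W) ((lam U hU).app W s) ⟨_, hy'⟩)) =
    GrMod.locMap (uAt 𝒮 ℳ 𝒩 u (Y.basicOpen r)) y.1
      (GrMod.val (V := RelProj.emb p chart (Y.basicOpen r) (hU.basicOpen r) ⁻¹ᵁ W)
        ((lam (Y.basicOpen r) (hU.basicOpen r)).app W s) ⟨y.1, y.2⟩)
  rw [c2]
  exact locModMap_locMap _ _ _ _ _ _
    (fun m => res_uAt 𝒮 ℳ 𝒩 u hU (hU.basicOpen r) (Y.basicOpen_le r) m) y.1 _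

include hP hF hG in
/-- existence and uniqueness of `ũ` -/
theorem existsUnique_map :
    ∃! ut : F ⟶ G, ∀ (U : Y.Opens) (hU : IsAffineOpen U),
      ut ≫ lam' U hU = lam U hU ≫ chi 𝒮 p chart ℳ 𝒩 u hu n U hU :=
  existsUnique_glue p (E 𝒮 p chart n ℳ) (E 𝒮 p chart n 𝒩) (chi 𝒮 p chart ℳ 𝒩 u hu n) lam lam'
    (fun U hU W hW => hG.bijective U hU W hW)
    (fun U hU r W _ s t h => rel_basicOpen 𝒮 p chart hP ℳ 𝒩 u hu n lam hF lam' hG U hU r W s t h)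
    (fun U hU W => mres_pushforward_injective 𝒮 p chart U hU _ W)

end RelMap

section RelUnique
variable {Y P : Scheme.{u}} (𝒮 : RelProj.QCGrAlg Y) (p : P ⟶ Y)
    (chart : ∀ (U : Y.Opens) (hU : IsAffineOpen U),
      (((p ⁻¹ᵁ U : P.Opens) : Scheme.{u}) ≅ Proj (𝒮.deg U hU)))
    (hP : RelProj.IsRelProj 𝒮 p chart) (ℳ : RelProj.GrModule 𝒮) (n : ℤ)
    {F F' : P.Modules}
    (lam : ∀ (U : Y.Opens) (hU : IsAffineOpen U), F ⟶ E 𝒮 p chart n ℳ U hU)
    (hF : RelProj.IsRelTilde 𝒮 p chart ℳ n F lam)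
    (lam' : ∀ (U : Y.Opens) (hU : IsAffineOpen U), F' ⟶ E 𝒮 p chart n ℳ U hU)
    (hF' : RelProj.IsRelTilde 𝒮 p chart ℳ n F' lam')

include hP hF hF' in
theorem rel_basicOpen_id (U : Y.Opens) (hU : IsAffineOpen U) (r : Γ(Y, U)) (W : P.Opens)
    (s : Γ(F, W)) (t : Γ(F', W))
    (h : RelGlue.Rel (E 𝒮 p chart n ℳ) (E 𝒮 p chart n ℳ) (fun _ _ => 𝟙 _) lam lam' U hU W s t) :
    RelGlue.Rel (E 𝒮 p chart n ℳ) (E 𝒮 p chart n ℳ) (fun _ _ => 𝟙 _) lam lam'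
      (Y.basicOpen r) (hU.basicOpen r) W s t := by
  unfold RelGlue.Rel at h ⊢
  refine Subtype.ext (funext fun y => Subtype.ext ?_)
  have hy' := emb_comap_mem 𝒮 p chart hP U hU r W y.1 y.2
  have c1 := hF'.compat U hU r W t y.1 y.2 hy'
  have c2 := hF.compat U hU r W s y.1 y.2 hy'
  refine c1.trans ?_
  rw [h]
  exact c2.symm

include hP hF hF' in
theorem existsUnique_id :
    ∃! φ : F ⟶ F', ∀ (U : Y.Opens) (hU : IsAffineOpen U), φ ≫ lam' U hU = lam U hU := by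
  have h := existsUnique_glue p (E 𝒮 p chart n ℳ) (E 𝒮 p chart n ℳ) (fun _ _ => 𝟙 _) lam lam'
    (fun U hU W hW => hF'.bijective U hU W hW)
    (fun U hU r W _ s t h => rel_basicOpen_id 𝒮 p chart hP ℳ n lam hF lam' hF' U hU r W s t h)
    (fun U hU W => mres_pushforward_injective 𝒮 p chart U hU _ W)
  simpa only [Category.comp_id] using h

include hF hF' in
theorem isIso_of_comp_eq (φ : F ⟶ F')
    (h : ∀ (U : Y.Opens) (hU : IsAffineOpen U), φ ≫ lam' U hU = lam U hU) : IsIso φ := by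
  have key : ∀ (U : Y.Opens) (hU : IsAffineOpen U) (W : P.Opens), W ≤ p ⁻¹ᵁ U →
      Function.Bijective (φ.app W) := by
    intro U hU W hW
    have e : ∀ s, (lam' U hU).app W (φ.app W s) = (lam U hU).app W s := fun s =>
      congrArg (fun f => (Scheme.Modules.Hom.app f W) s) (h U hU)
    have b := hF.bijective U hU W hW
    have b' := hF'.bijective U hU W hW
    constructor
    · intro s s' hs
      apply b.1
      rw [← e, ← e, hs]
    · intro t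
      obtain ⟨s, hs⟩ := b.2 ((lam' U hU).app W t)
      exact ⟨s, b'.1 ((e s).trans hs)⟩
  have hmono : Mono φ := by
    refine mono_of_injective_on_basis φ (fun V x hx => ?_)
    obtain ⟨U, hU, W, hWV, hWU, hxW⟩ := exists_chartOpen p V x hx
    exact ⟨W, hWV, hxW, (key U hU W hWU).1⟩
  have hepi : Epi φ := by
    refine epi_of_locally_mem_range φ (fun V t x hx => ?_)
    obtain ⟨U, hU, W, hWV, hWU, hxW⟩ := exists_chartOpen p V x hx
    exact ⟨W, hWV, hxW, (key U hU W hWU).2 _⟩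
  exact isIso_of_mono_of_epi φ

end RelUnique

end Groth.Agent.H77.RelTildeGlue
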