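import Groth.Prelude.Def_GrSyz
import Mathlib

namespace Groth.Agent.H77

open GrSyz MvPolynomial

universe u v

section

variable {k : Type u} [CommRing k] {σ : Type v}

lemma weight_one_eq (d : σ →₀ ℕ) :
    Finsupp.weight (fun _ : σ => (1 : ℤ)) d = ((∑ i ∈ d.support, d i : ℕ) : ℤ) := by
  rw [Finsupp.weight_apply, Finsupp.sum]
  simp

lemma weight_one_nonneg (d : σ →₀ ℕ) : 0 ≤ Finsupp.weight (fun _ : σ => (1 : ℤ)) d := by
  rw [weight_one_eq]
  exact Int.natCast_nonneg _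

lemma eq_zero_of_weight_one_nonpos (d : σ →₀ ℕ)
    (h : Finsupp.weight (fun _ : σ => (1 : ℤ)) d ≤ 0) : d = 0 := by
  rw [weight_one_eq] at h
  have h0 : ∑ i ∈ d.support, d i = 0 := by omega
  ext i
  by_contra hi
  have hmem : i ∈ d.support := Finsupp.mem_support_iff.mpr hi
  have := Finset.sum_eq_zero_iff.mp h0 i hmem
  exact hi this

/-- A homogeneous polynomial of degree `≤ 0` is constant. -/
lemma eq_C_of_mem_stdGr_of_nonpos {p : MvPolynomial σ k} {e : ℤ} (hp : p ∈ stdGr k σ e)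
    (he : e ≤ 0) : p = C (constantCoeff p) := by
  classical
  ext d
  rw [coeff_C]
  by_cases hd : 0 = d
  · rw [if_pos hd, ← hd]
    rfl
  · rw [if_neg hd]
    by_contra hne
    have hw := hp hne
    exact hd (eq_zero_of_weight_one_nonpos d (hw ▸ he)).symm

lemma eq_zero_of_mem_stdGr_of_nonpos {p : MvPolynomial σ k} {e : ℤ} (hp : p ∈ stdGr k σ e)
    (he : e ≤ 0) (h0 : constantCoeff p = 0) : p = 0 := by
  rw [eq_C_of_mem_stdGr_of_nonpos hp he, h0, map_zero]

lemma constantCoeff_eq_zero_of_mem_stdGr_of_ne {p : MvPolynomial σ k} {e : ℤ}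
    (hp : p ∈ stdGr k σ e) (he : e ≠ 0) : constantCoeff p = 0 := by
  by_contra hne
  have hw := hp (d := 0) hne
  rw [map_zero] at hw
  exact he hw.symm

lemma constantCoeff_eq_zero_of_mem_stdGr_of_pos {p : MvPolynomial σ k} {e : ℤ}
    (hp : p ∈ stdGr k σ e) (he : 0 < e) : constantCoeff p = 0 :=
  constantCoeff_eq_zero_of_mem_stdGr_of_ne hp he.ne'

lemma eq_zero_of_mem_stdGr_of_neg {p : MvPolynomial σ k} {e : ℤ}
    (hp : p ∈ stdGr k σ e) (he : e < 0) : p = 0 :=
  eq_zero_of_mem_stdGr_of_nonpos hp he.le (constantCoeff_eq_zero_of_mem_stdGr_of_ne hp he.ne)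

variable (k σ) in
lemma irrel_le_ker_constantCoeff :
    (irrel (stdGr k σ)).toIdeal ≤ RingHom.ker (constantCoeff : MvPolynomial σ k →+* k) := by
  change Ideal.span _ ≤ _
  rw [Ideal.span_le]
  rintro p ⟨n, hn, hp⟩
  exact constantCoeff_eq_zero_of_mem_stdGr_of_pos hp hn

lemma constantCoeff_eq_zero_of_mem_irrel {p : MvPolynomial σ k}
    (hp : p ∈ (irrel (stdGr k σ)).toIdeal) : constantCoeff p = 0 :=
  irrel_le_ker_constantCoeff k σ hp

lemma mem_irrel_of_mem_stdGr_of_pos {p : MvPolynomial σ k} {e : ℤ}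
    (hp : p ∈ stdGr k σ e) (he : 0 < e) : p ∈ (irrel (stdGr k σ)).toIdeal :=
  Ideal.subset_span ⟨e, he, hp⟩

/-- A homogeneous element in the irrelevant ideal of degree `≤ 0` vanishes. -/
lemma eq_zero_of_mem_irrel_of_mem_stdGr_of_nonpos {p : MvPolynomial σ k} {e : ℤ}
    (hp : p ∈ stdGr k σ e) (he : e ≤ 0) (hI : p ∈ (irrel (stdGr k σ)).toIdeal) : p = 0 :=
  eq_zero_of_mem_stdGr_of_nonpos hp he (constantCoeff_eq_zero_of_mem_irrel hI)

end

section Field

variable {k : Type u} [Field k] {σ : Type v}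

/-- A homogeneous element outside the irrelevant ideal is a unit (a nonzero constant). -/
lemma isUnit_of_mem_stdGr_of_not_mem_irrel {p : MvPolynomial σ k} {e : ℤ}
    (hp : p ∈ stdGr k σ e) (hI : p ∉ (irrel (stdGr k σ)).toIdeal) : IsUnit p ∧ e = 0 := by
  have he : e ≤ 0 := by
    by_contra h
    exact hI (mem_irrel_of_mem_stdGr_of_pos hp (not_le.mp h))
  have hC := eq_C_of_mem_stdGr_of_nonpos hp he
  have hne : constantCoeff p ≠ 0 := by
    intro h0
    apply hI
    rw [eq_zero_of_mem_stdGr_of_nonpos hp he h0]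
    exact Ideal.zero_mem _
  refine ⟨?_, ?_⟩
  · rw [hC]
    exact (IsUnit.mk0 _ hne).map C
  · have hw := hp (d := 0) hne
    rw [map_zero] at hw
    exact hw.symm

end Field

end Groth.Agent.H77
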