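import Groth.Prelude.Def_GrSyz
import Groth.Agent.H77.Irrel
import Mathlib

namespace Groth.Agent.H77

open GrSyz DirectSum MvPolynomial

universe u

set_option linter.unusedSectionVars false

variable {k : Type u} [Field k] {σ : Type}

/-- The degree `a` component of a polynomial. -/
noncomputable def comp (a : ℤ) (w : MvPolynomial σ k) : MvPolynomial σ k :=
  ((decompose (stdGr k σ) w) a : MvPolynomial σ k)

lemma comp_mem (a : ℤ) (w : MvPolynomial σ k) : comp a w ∈ stdGr k σ a := SetLike.coe_mem _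

lemma comp_add (a : ℤ) (w w' : MvPolynomial σ k) : comp a (w + w') = comp a w + comp a w' := by
  unfold comp
  rw [decompose_add, DirectSum.add_apply, Submodule.coe_add]

lemma comp_zero (a : ℤ) : comp a (0 : MvPolynomial σ k) = 0 := by
  unfold comp
  rw [decompose_zero, DirectSum.zero_apply, Submodule.coe_zero]

lemma comp_of_mem_same {a : ℤ} {w : MvPolynomial σ k} (hw : w ∈ stdGr k σ a) : comp a w = w :=
  decompose_of_mem_same _ hw

lemma comp_of_mem_ne {a b : ℤ} {w : MvPolynomial σ k} (hw : w ∈ stdGr k σ a) (h : a ≠ b) :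
    comp b w = 0 :=
  decompose_of_mem_ne _ hw h

lemma comp_mul_of_left_mem {e : ℤ} {a : MvPolynomial σ k} (ha : a ∈ stdGr k σ e) (d : ℤ)
    (w : MvPolynomial σ k) : comp (e + d) (a * w) = a * comp d w :=
  coe_decompose_mul_add_of_left_mem _ ha

lemma sum_comp (w : MvPolynomial σ k) : ∃ T : Finset ℤ, ∑ a ∈ T, comp a w = w := by
  classical
  exact ⟨_, sum_support_decompose (stdGr k σ) w⟩

/-- An element outside the irrelevant ideal has a unit as degree zero component. -/
lemma isUnit_comp_zero_of_not_mem_irrel {w : MvPolynomial σ k}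
    (hw : w ∉ (irrel (stdGr k σ)).toIdeal) : IsUnit (comp 0 w) := by
  by_contra hu
  have h0 : comp 0 w ∈ (irrel (stdGr k σ)).toIdeal := by
    by_contra h
    exact hu (isUnit_of_mem_stdGr_of_not_mem_irrel (comp_mem 0 w) h).1
  apply hw
  obtain ⟨T, hT⟩ := sum_comp w
  rw [← hT]
  apply Ideal.sum_mem
  intro a _
  rcases lt_trichotomy a 0 with ha | ha | ha
  · rw [eq_zero_of_mem_stdGr_of_neg (comp_mem a w) ha]
    exact Ideal.zero_mem _
  · rw [ha]; exact h0
  · exact mem_irrel_of_mem_stdGr_of_pos (comp_mem a w) ha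

/-- A grading on a module given by projections onto the homogeneous components. -/
structure GrProj (k : Type u) [Field k] (σ : Type) (N : Type*) [AddCommGroup N]
    [Module (MvPolynomial σ k) N] where
  π : ℤ → N →+ N
  fin : ∀ x, ∃ T : Finset ℤ, ∑ d ∈ T, π d x = x
  smul : ∀ (e d : ℤ) (a : MvPolynomial σ k), a ∈ stdGr k σ e → ∀ x, π (e + d) (a • x) = a • π d x
  idem : ∀ d d' x, π d (π d' x) = if d = d' then π d x else 0

variable {N : Type*} [AddCommGroup N] [Module (MvPolynomial σ k) N] (P : GrProj k σ N)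

lemma GrProj.proj_of_homog {g : N} {δ : ℤ} (hg : P.π δ g = g) (d : ℤ) :
    P.π d g = if d = δ then g else 0 := by
  conv_lhs => rw [← hg]
  rw [P.idem]
  by_cases h : d = δ
  · rw [if_pos h, if_pos h, h, hg]
  · rw [if_neg h, if_neg h]

lemma GrProj.proj_smul_of_homog {g : N} {δ : ℤ} (hg : P.π δ g = g) (w : MvPolynomial σ k)
    (e : ℤ) : P.π e (w • g) = comp (e - δ) w • g := by
  induction w using DirectSum.Decomposition.inductionOn (stdGr k σ) with
  | zero => simp [comp_zero]
  | @homogeneous a' w =>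
    have e1 : e = a' + (e - a') := by ring
    conv_lhs => rw [e1]
    rw [P.smul a' (e - a') w w.2, P.proj_of_homog hg]
    by_cases h : e - a' = δ
    · rw [if_pos h]
      have : a' = e - δ := by omega
      rw [comp_of_mem_same (this ▸ w.2)]
    · rw [if_neg h, smul_zero, comp_of_mem_ne w.2 (by omega), zero_smul]
  | add w w' hw hw' =>
    rw [add_smul, map_add, hw, hw', comp_add, add_smul]

/-- Homogeneous generating families indexed by `Fin n`. -/
def IsHomGen (N' : Submodule (MvPolynomial σ k) N) (n : ℕ) : Prop :=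
  ∃ (δ : Fin n → ℤ) (g : Fin n → N), (∀ j, P.π (δ j) (g j) = g j) ∧
    Submodule.span (MvPolynomial σ k) (Set.range g) = N'

lemma exists_isHomGen (N' : Submodule (MvPolynomial σ k) N) (hfg : N'.FG)
    (hst : ∀ d, ∀ x ∈ N', P.π d x ∈ N') : ∃ n, IsHomGen P N' n := by
  classical
  obtain ⟨s, hs⟩ := hfg
  choose T hT using P.fin
  let G : Finset N := s.biUnion (fun u => (T u).image (fun d => P.π d u))
  have hGhom : ∀ x ∈ G, ∃ d, P.π d x = x := by
    intro x hx
    obtain ⟨u, _, hx⟩ := Finset.mem_biUnion.mp hx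
    obtain ⟨d, _, rfl⟩ := Finset.mem_image.mp hx
    exact ⟨d, by rw [P.idem, if_pos rfl]⟩
  have hGspan : Submodule.span (MvPolynomial σ k) (G : Set N) = N' := by
    apply le_antisymm
    · rw [Submodule.span_le]
      intro x hx
      obtain ⟨u, hu, hx⟩ := Finset.mem_biUnion.mp (Finset.mem_coe.mp hx)
      obtain ⟨d, _, rfl⟩ := Finset.mem_image.mp hx
      apply hst
      rw [← hs]
      exact Submodule.subset_span hu
    · rw [← hs, Submodule.span_le]
      intro u hu
      rw [SetLike.mem_coe, ← hT u]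
      apply Submodule.sum_mem
      intro d hd
      apply Submodule.subset_span
      rw [Finset.mem_coe]
      exact Finset.mem_biUnion.mpr ⟨u, hu, Finset.mem_image.mpr ⟨d, hd, rfl⟩⟩
  choose! δ hδ using hGhom
  refine ⟨G.card, fun j => δ (G.equivFin.symm j : N), fun j => (G.equivFin.symm j : N), ?_, ?_⟩
  · intro j
    exact hδ _ (G.equivFin.symm j).2
  · rw [← hGspan]
    congr 1
    ext x
    constructor
    · rintro ⟨j, rfl⟩
      exact (G.equivFin.symm j).2
    · intro hx
      exact ⟨G.equivFin ⟨x, hx⟩, by simp⟩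

/-- A homogeneous generating family of minimal cardinality has all relations in the irrelevant
ideal. -/
theorem exists_minimal_homGen (N' : Submodule (MvPolynomial σ k) N) (hfg : N'.FG)
    (hst : ∀ d, ∀ x ∈ N', P.π d x ∈ N') :
    ∃ (n : ℕ) (δ : Fin n → ℤ) (g : Fin n → N), (∀ j, P.π (δ j) (g j) = g j) ∧
      Submodule.span (MvPolynomial σ k) (Set.range g) = N' ∧
      ∀ w : Fin n → MvPolynomial σ k, ∑ j, w j • g j = 0 →
        ∀ j, w j ∈ (irrel (stdGr k σ)).toIdeal := by
  classical
  have hex := exists_isHomGen P N' hfg hst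
  suffices key : ∀ n : ℕ, IsHomGen P N' n → (∀ m < n, ¬ IsHomGen P N' m) →
      ∃ (δ : Fin n → ℤ) (g : Fin n → N), (∀ j, P.π (δ j) (g j) = g j) ∧
      Submodule.span (MvPolynomial σ k) (Set.range g) = N' ∧
      ∀ w : Fin n → MvPolynomial σ k, ∑ j, w j • g j = 0 →
        ∀ j, w j ∈ (irrel (stdGr k σ)).toIdeal from
    ⟨Nat.find hex, key _ (Nat.find_spec hex) (fun m hm => Nat.find_min hex hm)⟩
  rintro n ⟨δ, g, hhom, hspan⟩ hmin
  refine ⟨δ, g, hhom, hspan, ?_⟩
  intro w hw j0
  by_contra hnot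
  -- n = m + 1
  obtain ⟨m, hm⟩ : ∃ m, n = m + 1 := ⟨n - 1, by have := j0.2; omega⟩
  subst hm
  apply hmin m (Nat.lt_succ_self m)
  refine ⟨δ ∘ j0.succAbove, g ∘ j0.succAbove, fun i => hhom _, ?_⟩
  -- apply the projection of degree δ j0 to the relation
  have hrel : ∑ j, comp (δ j0 - δ j) (w j) • g j = 0 := by
    have := congr_arg (P.π (δ j0)) hw
    rw [map_sum, map_zero] at this
    rw [← this]
    apply Finset.sum_congr rfl
    intro j _
    rw [P.proj_smul_of_homog (hhom j)]
  rw [Fin.sum_univ_succAbove _ j0, sub_self] at hrel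
  obtain ⟨u, hu⟩ := isUnit_comp_zero_of_not_mem_irrel hnot
  have hg0 : g j0 = -(↑u⁻¹ : MvPolynomial σ k) •
      ∑ i, comp (δ j0 - δ (j0.succAbove i)) (w (j0.succAbove i)) • g (j0.succAbove i) := by
    have h3 := eq_neg_of_add_eq_zero_left hrel
    rw [neg_smul, ← smul_neg, ← h3, ← hu, smul_smul, Units.inv_mul, one_smul]
  have hg0mem : g j0 ∈ Submodule.span (MvPolynomial σ k) (Set.range (g ∘ j0.succAbove)) := by
    rw [hg0]
    apply Submodule.smul_mem
    apply Submodule.sum_mem
    intro i _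
    apply Submodule.smul_mem
    apply Submodule.subset_span
    exact ⟨i, rfl⟩
  apply le_antisymm
  · rw [← hspan]
    apply Submodule.span_mono
    rintro _ ⟨i, rfl⟩
    exact ⟨_, rfl⟩
  · rw [← hspan, Submodule.span_le]
    rintro _ ⟨j, rfl⟩
    by_cases hj : j = j0
    · rw [hj]; exact hg0mem
    · obtain ⟨i, rfl⟩ := Fin.exists_succAbove_eq hj
      exact Submodule.subset_span ⟨i, rfl⟩

end Groth.Agent.H77
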