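import Mathlib
open CategoryTheory
open scoped TensorProduct

universe u
namespace Groth.Agent.H77.TorRes

variable {S : Type u} [CommRing S] {M : Type u} [AddCommGroup M] [Module S M]
  (rk : ℕ → ℕ) (d : ∀ i, (Fin (rk (i+1)) → S) →ₗ[S] (Fin (rk i) → S))
  (aug : (Fin (rk 0) → S) →ₗ[S] M)

/-- the complex of free modules -/
noncomputable def cx (hs : ∀ i, LinearMap.range (d (i+1)) ≤ LinearMap.ker (d i)) :
    ChainComplex (ModuleCat.{u} S) ℕ :=
  ChainComplex.of (fun n => ModuleCat.of S (Fin (rk n) → S)) (fun n => ModuleCat.ofHom (d n))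
    (fun n => by
      apply ModuleCat.hom_ext
      apply LinearMap.ext
      intro x
      have : d (n+1) x ∈ LinearMap.ker (d n) := hs n ⟨x, rfl⟩
      simpa using this)

variable (hs : ∀ i, LinearMap.range (d (i+1)) ≤ LinearMap.ker (d i))

lemma cx_X (n : ℕ) : (cx rk d hs).X n = ModuleCat.of S (Fin (rk n) → S) := rfl

lemma cx_d (n : ℕ) : (cx rk d hs).d (n+1) n = ModuleCat.ofHom (d n) := by
  simp [cx]

noncomputable def π (h0 : LinearMap.range (d 0) ≤ LinearMap.ker aug) :
    cx rk d hs ⟶ (ChainComplex.single₀ (ModuleCat.{u} S)).obj (ModuleCat.of S M) :=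
  ((cx rk d hs).toSingle₀Equiv _).symm ⟨ModuleCat.ofHom aug, by
    rw [cx_d]
    apply ModuleCat.hom_ext
    apply LinearMap.ext
    intro x
    have : d 0 x ∈ LinearMap.ker aug := h0 ⟨x, rfl⟩
    exact this⟩

lemma π_f_zero (h0 : LinearMap.range (d 0) ≤ LinearMap.ker aug) :
    (π rk d aug hs h0).f 0 = ModuleCat.ofHom aug :=
  ChainComplex.toSingle₀Equiv_symm_apply_f_zero _ _

set_option backward.defeqAttrib.useBackward true in
set_option backward.isDefEq.respectTransparency false in
lemma quasiIso_π (haug : Function.Surjective aug) (h0 : LinearMap.ker aug = LinearMap.range (d 0))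
    (hs' : ∀ i, LinearMap.ker (d i) = LinearMap.range (d (i+1))) :
    QuasiIso (π rk d aug (fun i => (hs' i).ge) h0.ge) where
  quasiIsoAt m := by
    induction m with
    | zero =>
      rw [ChainComplex.quasiIsoAt₀_iff, ShortComplex.quasiIso_iff_of_zeros' _ rfl rfl rfl]
      constructor
      · rw [ShortComplex.moduleCat_exact_iff_range_eq_ker]
        dsimp
        rw [π_f_zero, cx_d]
        exact h0.symm
      · dsimp
        rw [π_f_zero, ModuleCat.epi_iff_surjective]
        exact haug
    | succ m _ =>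
      rw [quasiIsoAt_iff_exactAt' (hL := ChainComplex.exactAt_succ_single_obj ..),
          HomologicalComplex.exactAt_iff' _ (m + 2) (m + 1) m (by simp) (by simp)]
      rw [ShortComplex.moduleCat_exact_iff_range_eq_ker]
      dsimp
      rw [cx_d, cx_d]
      exact (hs' m).symm


/-- The projective resolution attached to the data. -/
noncomputable def projRes (haug : Function.Surjective aug)
    (h0 : LinearMap.ker aug = LinearMap.range (d 0))
    (hs' : ∀ i, LinearMap.ker (d i) = LinearMap.range (d (i+1))) :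
    ProjectiveResolution (ModuleCat.of S M) where
  complex := cx rk d (fun i => (hs' i).ge)
  projective := fun n => by
    rw [cx_X]
    exact (IsProjective.iff_projective _).mp inferInstance
  π := π rk d aug (fun i => (hs' i).ge) h0.ge
  quasiIso := quasiIso_π rk d aug haug h0 hs'

lemma lTensor_eq_zero (𝔪 : Ideal S) {a b : ℕ} (f : (Fin a → S) →ₗ[S] (Fin b → S))
    (hf : ∀ v i, f v i ∈ 𝔪) : LinearMap.lTensor (S ⧸ 𝔪) f = 0 := by
  apply TensorProduct.ext'
  intro x v
  simp only [LinearMap.lTensor_tmul, LinearMap.zero_apply]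
  have hv : f v = ∑ i, f v i • (Pi.single i 1 : Fin b → S) := by
    conv_lhs => rw [← Finset.univ_sum_single (f v)]
    apply Finset.sum_congr rfl
    intro i _
    rw [← Pi.single_smul, smul_eq_mul, mul_one]
  rw [hv, TensorProduct.tmul_sum]
  apply Finset.sum_eq_zero
  intro i _
  rw [TensorProduct.tmul_smul, TensorProduct.smul_tmul']
  obtain ⟨y, rfl⟩ := Ideal.Quotient.mk_surjective x
  have : f v i • (Ideal.Quotient.mk 𝔪 y) = 0 := by
    rw [Algebra.smul_def, Ideal.Quotient.algebraMap_eq, ← map_mul, Ideal.Quotient.eq_zero_iff_mem]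
    exact 𝔪.mul_mem_right _ (hf v i)
  rw [this, TensorProduct.zero_tmul]

/-- homology of a complex with zero differentials -/
noncomputable def homologyIsoOfZero {C : Type*} [Category C] [Abelian C] (K : ChainComplex C ℕ)
    (hK : ∀ i j, K.d i j = 0) (n : ℕ) : K.homology n ≅ K.X n :=
  (ShortComplex.HomologyData.ofZeros (K.sc n) (hK _ _) (hK _ _)).left.homologyIso

open MonoidalCategory in
theorem length_tor (𝔪 : Ideal S) [h𝔪 : 𝔪.IsMaximal] (hmin : ∀ i v b, (d i v) b ∈ 𝔪)
    (haug : Function.Surjective aug)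
    (h0 : LinearMap.ker aug = LinearMap.range (d 0))
    (hs' : ∀ i, LinearMap.ker (d i) = LinearMap.range (d (i+1))) (n : ℕ) :
    Module.length S (((Tor (ModuleCat.{u} S) n).obj (ModuleCat.of S (S ⧸ 𝔪))).obj
      (ModuleCat.of S M)) = (rk n : ℕ∞) := by
  let P := projRes rk d aug haug h0 hs'
  let F := (tensoringLeft (ModuleCat.{u} S)).obj (ModuleCat.of S (S ⧸ 𝔪))
  let e1 := P.isoLeftDerivedObj F n
  have hzero : ∀ i j, ((F.mapHomologicalComplex _).obj P.complex).d i j = 0 := by
    intro i j
    rw [Functor.mapHomologicalComplex_obj_d]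
    by_cases hij : j + 1 = i
    · subst hij
      have : P.complex.d (j + 1) j = ModuleCat.ofHom (d j) := cx_d rk d (fun i => (hs' i).ge) j
      rw [this]
      apply ModuleCat.hom_ext
      change LinearMap.lTensor (S ⧸ 𝔪) (d j) = 0
      exact lTensor_eq_zero 𝔪 (d j) (hmin j)
    · have : P.complex.d i j = 0 := P.complex.shape i j hij
      rw [this]
      exact Functor.map_zero _ _ _
  let e2 := homologyIsoOfZero _ hzero n
  let e : ↑(((Tor (ModuleCat.{u} S) n).obj (ModuleCat.of S (S ⧸ 𝔪))).obj (ModuleCat.of S M)) ≃ₗ[S]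
      ((S ⧸ 𝔪) ⊗[S] (Fin (rk n) → S)) := (e1 ≪≫ e2).toLinearEquiv
  rw [e.length_eq, (TensorProduct.piScalarRight S S (S ⧸ 𝔪) (Fin (rk n))).length_eq,
    Module.length_pi]
  have : IsSimpleModule S (S ⧸ 𝔪) := by
    rw [isSimpleModule_iff_isCoatom]
    exact Ideal.isMaximal_def.mp h𝔪
  rw [Module.length_eq_one]
  simp

end Groth.Agent.H77.TorRes
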