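import Groth.Prelude.Def_GrSyz
import Groth.Agent.H77.TorRes
import Groth.Agent.H77.MinGen
import Mathlib

namespace Groth.Agent.H77

open GrSyz MvPolynomial CategoryTheory

universe u

variable {k : Type u} [Field k] {σ : Type}

lemma comp_zero_sub_eq_zero (w : MvPolynomial σ k) : comp 0 (w - comp 0 w) = 0 := by
  have h : comp 0 w = comp 0 (w - comp 0 w) + comp 0 (comp 0 w) := by
    rw [← comp_add, sub_add_cancel]
  rw [comp_of_mem_same (comp_mem 0 w)] at h
  exact (add_eq_right.mp h.symm)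

lemma sub_comp_zero_mem_irrel (w : MvPolynomial σ k) :
    w - comp 0 w ∈ (irrel (stdGr k σ)).toIdeal := by
  by_contra h
  have := isUnit_comp_zero_of_not_mem_irrel h
  rw [comp_zero_sub_eq_zero] at this
  exact not_isUnit_zero this

instance irrel_isMaximal : ((irrel (stdGr k σ)).toIdeal).IsMaximal := by
  rw [Ideal.isMaximal_iff]
  refine ⟨?_, ?_⟩
  · intro h1
    have := constantCoeff_eq_zero_of_mem_irrel h1
    rw [map_one] at this
    exact one_ne_zero this
  · intro J w hle hw hwJ
    have hu := isUnit_comp_zero_of_not_mem_irrel hw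
    have hc : comp 0 w ∈ J := by
      have : comp 0 w = w - (w - comp 0 w) := by ring
      rw [this]
      exact J.sub_mem hwJ (hle (sub_comp_zero_mem_irrel w))
    exact (Ideal.eq_top_of_isUnit_mem J hc hu) ▸ Submodule.mem_top

theorem main36 (r : ℕ)
    (M : Type u) [AddCommGroup M] [Module k M] [Module (MvPolynomial (Fin (r + 1)) k) M]
    [IsScalarTower k (MvPolynomial (Fin (r + 1)) k) M] [Module.Finite (MvPolynomial (Fin (r + 1)) k) M]
    (ℳ : ℤ → Submodule k M) [DirectSum.Decomposition ℳ] [SetLike.GradedSMul (GrSyz.stdGr k (Fin (r + 1))) ℳ]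
    (F : GrSyz.FreeRes (GrSyz.stdGr k (Fin (r + 1))) ℳ) (hF : F.IsMinimal (GrSyz.irrel (GrSyz.stdGr k (Fin (r + 1)))).toIdeal) (i : ℕ) :
    Module.length (MvPolynomial (Fin (r + 1)) k)
        (((CategoryTheory.Tor (ModuleCat.{u} (MvPolynomial (Fin (r + 1)) k)) i).obj
            (ModuleCat.of (MvPolynomial (Fin (r + 1)) k) ((MvPolynomial (Fin (r + 1)) k) ⧸ (GrSyz.irrel (GrSyz.stdGr k (Fin (r + 1)))).toIdeal))).obj
          (ModuleCat.of (MvPolynomial (Fin (r + 1)) k) M)) = (F.rk i : ℕ∞) := by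
  apply TorRes.length_tor F.rk F.dLin F.augLin (GrSyz.irrel (GrSyz.stdGr k (Fin (r + 1)))).toIdeal
  · intro j v b
    change (Matrix.mulVec (F.d j) v) b ∈ _
    rw [Matrix.mulVec, dotProduct]
    apply Ideal.sum_mem
    intro c _
    exact Ideal.mul_mem_right _ _ (hF j b c)
  · exact F.aug_surjective
  · exact F.exact_zero
  · exact F.exact_succ

end Groth.Agent.H77
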