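import Groth.Prelude.Def_GrSyz
import Mathlib

namespace Groth.Agent.H77

open GrSyz Module MvPolynomial

universe u

section

variable (k : Type u) [Field k] (r : ℕ)

/-- exponent vectors of degree `n` -/
def expSet (n : ℤ) : Set (Fin (r + 1) →₀ ℕ) := {d | Finsupp.weight (fun _ : Fin (r + 1) => (1 : ℤ)) d = n}

lemma mem_expSet (n : ℤ) (d : Fin (r + 1) →₀ ℕ) :
    d ∈ expSet r n ↔ ((∑ i, d i : ℕ) : ℤ) = n := by
  unfold expSet
  rw [Set.mem_ofPred_eq, Finsupp.weight_apply, Finsupp.sum_fintype _ _ (by simp)]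
  simp

lemma expSet_neg (n : ℤ) (hn : n < 0) : expSet r n = ∅ := by
  ext d
  rw [mem_expSet]
  simp only [Set.mem_empty_iff_false, iff_false]
  omega

lemma expSet_nonneg (n : ℕ) :
    expSet r (n : ℤ) = ↑((Finset.univ : Finset (Fin (r + 1))).finsuppAntidiag n) := by
  ext d
  rw [mem_expSet, Finset.mem_coe, Finset.mem_finsuppAntidiag]
  simp only [Finset.subset_univ, and_true]
  exact Nat.cast_inj

lemma expSet_finite (n : ℤ) : (expSet r n).Finite := by
  by_cases hn : n < 0
  · rw [expSet_neg r n hn]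
    exact Set.finite_empty
  · obtain ⟨m, rfl⟩ := Int.eq_ofNat_of_zero_le (not_lt.mp hn)
    rw [expSet_nonneg]
    exact Finset.finite_toSet _

lemma ncard_expSet (n : ℤ) :
    (expSet r n).ncard = if 0 ≤ n then Nat.choose (r + n.toNat) r else 0 := by
  by_cases hn : n < 0
  · rw [expSet_neg r n hn, if_neg (by omega)]
    simp
  · obtain ⟨m, rfl⟩ := Int.eq_ofNat_of_zero_le (not_lt.mp hn)
    rw [expSet_nonneg, if_pos (by omega), Set.ncard_coe_finset,
      Finset.card_finsuppAntidiag_nat_eq_choose]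
    simp only [Finset.card_univ, Fintype.card_fin, Int.toNat_natCast]
    rw [show r + 1 + m - 1 = r + m by omega, Nat.choose_symm_add]

lemma stdGr_eq (n : ℤ) : stdGr k (Fin (r + 1)) n = restrictSupport k (expSet r n) := by
  unfold stdGr
  rw [weightedHomogeneousSubmodule_eq_finsupp_supported]
  rfl

instance stdGr_finite (n : ℤ) : Module.Finite k (stdGr k (Fin (r + 1)) n) := by
  rw [stdGr_eq]
  have := (expSet_finite r n).to_subtype
  exact Module.Finite.of_basis (basisRestrictSupport k (expSet r n))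

lemma finrank_stdGr (n : ℤ) :
    finrank k (stdGr k (Fin (r + 1)) n) = if 0 ≤ n then Nat.choose (r + n.toNat) r else 0 := by
  rw [stdGr_eq, Module.finrank_eq_nat_card_basis (basisRestrictSupport k (expSet r n)),
    ← ncard_expSet]
  rfl

end

end Groth.Agent.H77
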