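import Mathlib

namespace Groth.Agent.H77

open Polynomial

/-- The polynomial `n ↦ C(n + r, r)`. -/
noncomputable def hilbPoly (r : ℕ) : ℚ[X] :=
  C (1 / (r.factorial : ℚ)) * (ascPochhammer ℚ r).comp (X + 1)

lemma hilbPoly_eval (r : ℕ) (n : ℤ) (hn : -(r : ℤ) ≤ n) :
    (hilbPoly r).eval (n : ℚ) =
      (((if 0 ≤ n then ((Nat.choose (r + n.toNat) r : ℕ) : ℤ) else 0) : ℤ) : ℚ) := by
  unfold hilbPoly
  rw [eval_mul, eval_C, eval_comp, eval_add, eval_X, eval_one]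
  by_cases h : 0 ≤ n
  · obtain ⟨t, rfl⟩ := Int.eq_ofNat_of_zero_le h
    rw [if_pos h]
    have e : ((t : ℤ) : ℚ) + 1 = ((t + 1 : ℕ) : ℚ) := by push_cast; ring
    rw [e, ascPochhammer_nat_eq_natCast_ascFactorial, Nat.ascFactorial_eq_factorial_mul_choose]
    have hr : (r.factorial : ℚ) ≠ 0 := Nat.cast_ne_zero.mpr r.factorial_ne_zero
    simp only [Int.toNat_natCast, Int.cast_natCast, Nat.cast_mul]
    rw [add_comm r t]
    field_simp
  · rw [if_neg h]
    obtain ⟨j, hj⟩ : ∃ j : ℕ, n = -((j : ℤ) + 1) := ⟨(-n - 1).toNat, by omega⟩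
    have hjr : j < r := by omega
    have e : (n : ℚ) + 1 = -(j : ℚ) := by
      rw [hj]; push_cast; ring
    rw [e, ascPochhammer_eval_neg_coe_nat_of_lt hjr]
    simp

end Groth.Agent.H77
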