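import Groth.Prelude.Def_GrSyz
import Groth.Agent.H77.MinGen
import Mathlib

namespace Groth.Agent.H77

open GrSyz DirectSum MvPolynomial

universe u

set_option linter.unusedSectionVars false

variable {k : Type u} [Field k] {σ : Type}

/-- sums of components over large enough finsets -/
lemma sum_comp' (w : MvPolynomial σ k) :
    ∃ T : Finset ℤ, ∀ T' : Finset ℤ, T ⊆ T' → ∑ a ∈ T', comp a w = w := by
  classical
  refine ⟨(decompose (stdGr k σ) w).support, ?_⟩
  intro T' hT'
  rw [← Finset.sum_subset hT']
  · exact sum_support_decompose (stdGr k σ) w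
  · intro a _ ha
    unfold comp
    rw [DFinsupp.notMem_support_iff.mp ha]
    rfl

/-- The grading of a free module with shifted degrees. -/
noncomputable def freeProj {n : ℕ} (δ : Fin n → ℤ) : GrProj k σ (Fin n → MvPolynomial σ k) where
  π d :=
    { toFun := fun v b => comp (d - δ b) (v b)
      map_zero' := by
        funext b
        exact comp_zero _
      map_add' := by
        intro v v'
        funext b
        exact comp_add _ _ _ }
  fin v := by
    classical
    choose T hT using fun b => sum_comp' (v b)
    refine ⟨Finset.univ.biUnion (fun b => (T b).image (fun a => a + δ b)), ?_⟩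
    funext b
    rw [Finset.sum_apply]
    change ∑ d ∈ _, comp (d - δ b) (v b) = v b
    set U := Finset.univ.biUnion (fun b => (T b).image (fun a => a + δ b)) with hU
    have h1 : ∑ d ∈ U, comp (d - δ b) (v b) = ∑ a ∈ U.image (fun d => d - δ b), comp a (v b) := by
      rw [Finset.sum_image]
      intro x _ y _ hxy
      have : x - δ b = y - δ b := hxy
      omega
    rw [h1]
    apply hT b
    intro a ha
    rw [Finset.mem_image]
    refine ⟨a + δ b, ?_, by ring⟩
    rw [hU, Finset.mem_biUnion]
    exact ⟨b, Finset.mem_univ b, Finset.mem_image.mpr ⟨a, ha, rfl⟩⟩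
  smul e d a ha v := by
    funext b
    change comp (e + d - δ b) (a * v b) = a * comp (d - δ b) (v b)
    have : e + d - δ b = e + (d - δ b) := by ring
    rw [this, comp_mul_of_left_mem ha]
  idem d d' v := by
    funext b
    change comp (d - δ b) (comp (d' - δ b) (v b)) = _
    by_cases h : d = d'
    · rw [if_pos h, h, comp_of_mem_same (comp_mem _ _)]
      rfl
    · rw [if_neg h, comp_of_mem_ne (comp_mem _ _) (by omega)]
      rfl

lemma freeProj_apply {n : ℕ} (δ : Fin n → ℤ) (d : ℤ) (v : Fin n → MvPolynomial σ k) (b : Fin n) :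
    (freeProj δ).π d v b = comp (d - δ b) (v b) := rfl

/-- a homogeneous family defines a graded linear map -/
lemma linearCombination_proj {N : Type*} [AddCommGroup N] [Module (MvPolynomial σ k) N]
    (P : GrProj k σ N) {n : ℕ} (δ : Fin n → ℤ) (g : Fin n → N)
    (hg : ∀ b, P.π (δ b) (g b) = g b) (d : ℤ) (w : Fin n → MvPolynomial σ k) :
    Fintype.linearCombination (MvPolynomial σ k) g ((freeProj δ).π d w) =
      P.π d (Fintype.linearCombination (MvPolynomial σ k) g w) := by
  rw [Fintype.linearCombination_apply, Fintype.linearCombination_apply, map_sum]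
  apply Finset.sum_congr rfl
  intro b _
  rw [P.proj_smul_of_homog (hg b), freeProj_apply]

lemma ker_linearCombination_stable {N : Type*} [AddCommGroup N] [Module (MvPolynomial σ k) N]
    (P : GrProj k σ N) {n : ℕ} (δ : Fin n → ℤ) (g : Fin n → N)
    (hg : ∀ b, P.π (δ b) (g b) = g b) (d : ℤ) (w : Fin n → MvPolynomial σ k)
    (hw : w ∈ LinearMap.ker (Fintype.linearCombination (MvPolynomial σ k) g)) :
    (freeProj δ).π d w ∈ LinearMap.ker (Fintype.linearCombination (MvPolynomial σ k) g) := by
  rw [LinearMap.mem_ker] at hw ⊢
  rw [linearCombination_proj P δ g hg, hw, map_zero]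

/-- the matrix whose columns are the `g b` -/
def colMatrix {n n' : ℕ} (g : Fin n' → (Fin n → MvPolynomial σ k)) :
    Matrix (Fin n) (Fin n') (MvPolynomial σ k) := fun a b => g b a

lemma mulVecLin_colMatrix {n n' : ℕ} (g : Fin n' → (Fin n → MvPolynomial σ k)) :
    Matrix.mulVecLin (colMatrix g) = Fintype.linearCombination (MvPolynomial σ k) g := by
  apply LinearMap.ext
  intro w
  funext a
  rw [Matrix.mulVecLin_apply, Fintype.linearCombination_apply, Finset.sum_apply]
  simp only [Matrix.mulVec, dotProduct, colMatrix, Pi.smul_apply, smul_eq_mul]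
  apply Finset.sum_congr rfl
  intro b _
  ring

section Module

variable {M : Type u} [AddCommGroup M] [Module k M] [Module (MvPolynomial σ k) M]
  [IsScalarTower k (MvPolynomial σ k) M]
  (ℳ : ℤ → Submodule k M) [DirectSum.Decomposition ℳ] [SetLike.GradedSMul (stdGr k σ) ℳ]

/-- The grading of a graded module, via projections. -/
noncomputable def modProj : GrProj k σ M where
  π d :=
    { toFun := fun x => ((decompose ℳ x) d : M)
      map_zero' := by rw [decompose_zero]; rfl
      map_add' := by
        intro x y
        rw [decompose_add, DirectSum.add_apply, Submodule.coe_add] }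
  fin x := by
    classical
    exact ⟨_, sum_support_decompose ℳ x⟩
  smul e d a ha x := by
    change ((decompose ℳ (a • x)) (e + d) : M) = a • ((decompose ℳ x) d : M)
    induction x using DirectSum.Decomposition.inductionOn ℳ with
    | zero => simp
    | @homogeneous j x =>
      have hmem : a • (x : M) ∈ ℳ (e + j) := SetLike.GradedSMul.smul_mem ha x.2
      by_cases h : j = d
      · subst h
        rw [decompose_of_mem_same ℳ hmem, decompose_of_mem_same ℳ x.2]
      · rw [decompose_of_mem_ne ℳ hmem (by omega), decompose_of_mem_ne ℳ x.2 h, smul_zero]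
    | add x y hx hy =>
      rw [smul_add, decompose_add, decompose_add, DirectSum.add_apply, DirectSum.add_apply,
        Submodule.coe_add, Submodule.coe_add, smul_add, hx, hy]
  idem d d' x := by
    change ((decompose ℳ ((decompose ℳ x) d' : M)) d : M) = _
    by_cases h : d = d'
    · rw [if_pos h, h, decompose_of_mem_same ℳ (SetLike.coe_mem _)]
      rfl
    · rw [if_neg h, decompose_of_mem_ne ℳ (SetLike.coe_mem _) (Ne.symm h)]

lemma modProj_apply (d : ℤ) (x : M) :
    (modProj (k := k) (σ := σ) ℳ).π d x = ((decompose ℳ x) d : M) := rfl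

end Module

section Stage

variable (k σ)

/-- A stage of the construction: a graded submodule of a free module contained in `𝔪 Sⁿ`. -/
structure Stage where
  n : ℕ
  δ : Fin n → ℤ
  K : Submodule (MvPolynomial σ k) (Fin n → MvPolynomial σ k)
  stable : ∀ d, ∀ v ∈ K, (freeProj δ).π d v ∈ K
  inm : ∀ v ∈ K, ∀ b, v b ∈ (irrel (stdGr k σ)).toIdeal

variable {k σ}

/-- The data of a minimal graded surjection onto the submodule of a stage. -/
structure StepData (s : Stage k σ) where
  n' : ℕ
  δ' : Fin n' → ℤ
  D : Matrix (Fin s.n) (Fin n') (MvPolynomial σ k)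
  D_mem : ∀ a b, D a b ∈ stdGr k σ (δ' b - s.δ a)
  range_eq : LinearMap.range (Matrix.mulVecLin D) = s.K
  ker_m : ∀ v ∈ LinearMap.ker (Matrix.mulVecLin D), ∀ b, v b ∈ (irrel (stdGr k σ)).toIdeal
  ker_stable : ∀ d, ∀ v ∈ LinearMap.ker (Matrix.mulVecLin D),
    (freeProj δ').π d v ∈ LinearMap.ker (Matrix.mulVecLin D)

variable [Finite σ]

theorem nonempty_stepData (s : Stage k σ) : Nonempty (StepData s) := by
  have hfg : s.K.FG := IsNoetherian.noetherian s.K
  obtain ⟨n', δ', g, hhom, hspan, hrel⟩ :=
    exists_minimal_homGen (freeProj s.δ) s.K hfg s.stable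
  refine ⟨⟨n', δ', colMatrix g, ?_, ?_, ?_, ?_⟩⟩
  · intro a b
    have := congr_fun (hhom b) a
    rw [freeProj_apply] at this
    change g b a ∈ _
    rw [← this]
    exact comp_mem _ _
  · rw [mulVecLin_colMatrix, Fintype.range_linearCombination, hspan]
  · intro v hv
    rw [mulVecLin_colMatrix, LinearMap.mem_ker, Fintype.linearCombination_apply] at hv
    exact hrel v hv
  · intro d v hv
    rw [mulVecLin_colMatrix] at hv ⊢
    exact ker_linearCombination_stable (freeProj s.δ) δ' g hhom d v hv

noncomputable def stepData (s : Stage k σ) : StepData s := Classical.choice (nonempty_stepData s)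

noncomputable def next (s : Stage k σ) : Stage k σ where
  n := (stepData s).n'
  δ := (stepData s).δ'
  K := LinearMap.ker (Matrix.mulVecLin (stepData s).D)
  stable := (stepData s).ker_stable
  inm := (stepData s).ker_m

noncomputable def stage (s0 : Stage k σ) : ℕ → Stage k σ
  | 0 => s0
  | (i + 1) => next (stage s0 i)

end Stage

end Groth.Agent.H77
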