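import Mathlib.CategoryTheory.Adjunction.Limits
import Mathlib.CategoryTheory.Limits.Preserves.Basic

set_option autoImplicit false
open CategoryTheory CategoryTheory.Limits

namespace Groth.Agent.H77.AdjColim

universe v₁ v₂ v₃ u₁ u₂ u₃

variable {C : Type u₁} [Category.{v₁} C] {𝒟 : Type u₂} [Category.{v₂} 𝒟]
  {J : Type u₃} [Category.{v₃} J]

/-- A right adjoint whose left adjoint is fully faithful (unit iso) preserves colimits of diagrams
all of whose objects have invertible counit. -/
theorem preservesColimit_of_isIso_counit {F : C ⥤ 𝒟} {G : 𝒟 ⥤ C} (adj : F ⊣ G) [IsIso adj.unit]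
    (D : J ⥤ 𝒟) (hD : ∀ j, IsIso (adj.counit.app (D.obj j))) [HasColimit (D ⋙ G)] :
    PreservesColimit D G := by
  have : PreservesColimit (D ⋙ G) F :=
    adj.leftAdjoint_preservesColimits.preservesColimitsOfShape.preservesColimit
  let c₀ := colimit.cocone (D ⋙ G)
  have : ∀ j, IsIso ((Functor.whiskerLeft D adj.counit).app j) := fun j => hD j
  have : IsIso (Functor.whiskerLeft D adj.counit) := NatIso.isIso_of_isIso_app _
  let α : (D ⋙ G) ⋙ F ≅ D :=
    Functor.associator _ _ _ ≪≫ asIso (Functor.whiskerLeft D adj.counit) ≪≫ D.rightUnitor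
  let c₁ : Cocone D := (Cocone.precompose α.inv).obj (F.mapCocone c₀)
  have hc₁ : IsColimit c₁ :=
    (IsColimit.precomposeInvEquiv α _).symm (isColimitOfPreserves F (colimit.isColimit _))
  refine preservesColimit_of_preserves_colimit_cocone hc₁ ?_
  refine IsColimit.ofIsoColimit (colimit.isColimit (D ⋙ G))
    (Cocone.ext (asIso (adj.unit.app c₀.pt)) ?_)
  intro j
  have h1 : G.map (α.inv.app j) = adj.unit.app (G.obj (D.obj j)) := by
    have h2 : adj.unit.app (G.obj (D.obj j)) ≫ G.map (adj.counit.app (D.obj j)) = 𝟙 _ :=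
      adj.right_triangle_components _
    have h3 : G.map (α.inv.app j) ≫ G.map (adj.counit.app (D.obj j)) = 𝟙 _ := by
      rw [← G.map_comp]
      have : α.inv.app j ≫ adj.counit.app (D.obj j) = 𝟙 _ := by
        simp [α]
      rw [this, G.map_id]
    have : IsIso (G.map (adj.counit.app (D.obj j))) := inferInstance
    exact (cancel_mono (G.map (adj.counit.app (D.obj j)))).1 (h3.trans h2.symm)
  change (colimit.cocone (D ⋙ G)).ι.app j ≫ adj.unit.app c₀.pt =
    G.map (α.inv.app j ≫ F.map (c₀.ι.app j))
  rw [G.map_comp, h1]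
  exact (adj.unit.naturality (c₀.ι.app j))

end Groth.Agent.H77.AdjColim
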