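import Mathlib
import Groth.Prelude.Def_GrMod3
import Groth.Agent.H77.AlphaBij

/-!
# Eventual generation of `n ↦ Γ(Proj, M(n)~)` over a ring generated in degree one (helper77)
-/

set_option autoImplicit false
set_option linter.unusedSectionVars false
universe u

open AlgebraicGeometry CategoryTheory TopologicalSpace Opposite
open scoped HomogeneousIdeal

namespace Groth.Agent.H77.AlphaGen

open DirectSum Groth.Agent.H77.GrTorsion

variable {A σ : Type u} [CommRing A] [SetLike σ A] [AddSubgroupClass σ A] (𝒜 : ℕ → σ) [GradedRing 𝒜]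
variable {M τ : Type u} [AddCommGroup M] [Module A M] [SetLike τ M] [AddSubgroupClass τ M]
  (ℳ : ℕ → τ) [SetLike.GradedSMul 𝒜 ℳ] [DirectSum.Decomposition ℳ]

/-- the products `a • m'`, `a ∈ 𝒜 e`, `m' ∈ ℳ k` -/
def prodSet (e k : ℕ) : Set M := {y | ∃ a ∈ 𝒜 e, ∃ m' ∈ ℳ k, y = a • m'}

/-- (TF) and generation of the irrelevant ideal in degree one: `ℳ (n + 1) = 𝒜 1 • ℳ n` for large `n` -/
theorem exists_gen_one [IsNoetherianRing A]
    (hgen : (𝒜₊).toIdeal = Ideal.span (𝒜 1 : Set A))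
    (hTF : ∃ k : ℕ, (Submodule.span A (⋃ i ∈ Set.Ici k, (ℳ i : Set M))).FG) :
    ∃ k₁ : ℕ, ∀ n : ℕ, k₁ ≤ n → ∀ m ∈ ℳ (n + 1), m ∈ AddSubgroup.closure (prodSet 𝒜 ℳ 1 n) := by
  classical
  obtain ⟨k₀, hTF⟩ := hTF
  -- finitely many generators of degree one
  have hfg : ((𝒜₊).toIdeal).FG := (isNoetherianRing_iff_ideal_fg A).mp inferInstance _
  rw [hgen] at hfg
  obtain ⟨s, hsub, hspan⟩ := (Submodule.fg_span_iff_fg_span_finset_subset _).mp hfg
  have hs : ∀ b ∈ s, b ∈ 𝒜 ((fun _ : A => 1) b) := fun b hb => hsub hb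
  -- finitely many homogeneous generators of `M'`
  obtain ⟨G, hGsub, hGspan⟩ := (Submodule.fg_span_iff_fg_span_finset_subset _).mp hTF
  have hdeg : ∀ g : M, ∃ i : ℕ, g ∈ G → g ∈ ℳ i := by
    intro g
    by_cases hg : g ∈ G
    · have := hGsub hg
      simp only [Set.mem_iUnion, Set.mem_Ici, SetLike.mem_coe, exists_prop] at this
      obtain ⟨i, -, hi⟩ := this
      exact ⟨i, fun _ => hi⟩
    · exact ⟨0, fun h => absurd h hg⟩
  choose dg hdg using hdeg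
  refine ⟨max k₀ (G.sup dg), fun n hn m hm => ?_⟩
  have hn1 : k₀ ≤ n := le_trans (le_max_left _ _) hn
  have hn2 : G.sup dg ≤ n := le_trans (le_max_right _ _) hn
  have hmem : m ∈ Submodule.span A (G : Set M) := by
    rw [← hGspan]
    refine Submodule.subset_span ?_
    simp only [Set.mem_iUnion, Set.mem_Ici, SetLike.mem_coe, exists_prop]
    exact ⟨n + 1, by omega, hm⟩
  have hdn : ∀ g ∈ G, dg g ≤ n + 1 := fun g hg => by
    have := Finset.le_sup (f := dg) hg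
    omega
  obtain ⟨c, hc⟩ := Groth.Agent.H77.GrModTN.eq_sum_decompose_smul 𝒜 ℳ G dg hdg hdn hm hmem
  rw [hc]
  refine AddSubgroup.sum_mem _ fun g hg => ?_
  have h1 : dg g ≤ n := le_trans (Finset.le_sup (f := dg) hg) hn2
  set r : A := (DirectSum.decompose 𝒜 (c g) (n + 1 - dg g) : A) with hr
  have hrmem : r ∈ 𝒜 (n + 1 - dg g) := SetLike.coe_mem _
  have hrirr : r ∈ (𝒜₊).toIdeal :=
    HomogeneousIdeal.mem_irrelevant_of_mem 𝒜 (by omega) hrmem
  have hrspan : r ∈ Submodule.span A (s : Set A) := by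
    rw [← hspan]; rw [hgen] at hrirr; exact hrirr
  obtain ⟨c', hc'⟩ := Groth.Agent.H77.GrModTN.eq_sum_decompose_smul 𝒜 𝒜 s (fun _ => 1) hs
    (fun _ _ => by omega) hrmem hrspan
  rw [hc', Finset.sum_smul]
  refine AddSubgroup.sum_mem _ fun b hb => ?_
  refine AddSubgroup.subset_closure ⟨b, hsub hb,
    (DirectSum.decompose 𝒜 (c' b) (n + 1 - dg g - 1) : A) • g, ?_, ?_⟩
  · have h2 : (DirectSum.decompose 𝒜 (c' b) (n + 1 - dg g - 1) : A) • g ∈
        ℳ ((n + 1 - dg g - 1) + dg g) :=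
      SetLike.GradedSMul.smul_mem (DirectSum.decompose 𝒜 (c' b) (n + 1 - dg g - 1)).2 (hdg g hg)
    have h3 : (n + 1 - dg g - 1) + dg g = n := by omega
    rwa [h3] at h2
  · rw [smul_eq_mul, mul_comm, mul_smul]

/-- `ℳ (k + e) = 𝒜 e • ℳ k` for large `k` and all `e` -/
theorem exists_gen [IsNoetherianRing A]
    (hgen : (𝒜₊).toIdeal = Ideal.span (𝒜 1 : Set A))
    (hTF : ∃ k : ℕ, (Submodule.span A (⋃ i ∈ Set.Ici k, (ℳ i : Set M))).FG) :
    ∃ k₁ : ℕ, ∀ k : ℕ, k₁ ≤ k → ∀ e : ℕ, ∀ m ∈ ℳ (k + e),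
      m ∈ AddSubgroup.closure (prodSet 𝒜 ℳ e k) := by
  obtain ⟨k₁, hk₁⟩ := exists_gen_one 𝒜 ℳ hgen hTF
  refine ⟨k₁, fun k hk e => ?_⟩
  induction e with
  | zero =>
    intro m hm
    exact AddSubgroup.subset_closure ⟨1, SetLike.GradedOne.one_mem, m, hm, (one_smul _ _).symm⟩
  | succ e ih =>
    have key : ∀ b ∈ 𝒜 1, ∀ y ∈ AddSubgroup.closure (prodSet 𝒜 ℳ e k),
        b • y ∈ AddSubgroup.closure (prodSet 𝒜 ℳ (e + 1) k) := by
      intro b hb y hy
      induction hy using AddSubgroup.closure_induction with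
      | mem y' hy' =>
        obtain ⟨a, ha, m', hm', rfl⟩ := hy'
        refine AddSubgroup.subset_closure ⟨b * a, ?_, m', hm', by rw [mul_smul]⟩
        have h3 : b * a ∈ 𝒜 (1 + e) := SetLike.mul_mem_graded hb ha
        exact (add_comm 1 e) ▸ h3
      | zero => rw [smul_zero]; exact zero_mem _
      | add x y _ _ hx hy => rw [smul_add]; exact add_mem hx hy
      | neg x _ hx => rw [smul_neg]; exact neg_mem hx
    intro m hm
    have h1 := hk₁ (k + e) (by omega) m hm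
    clear hm
    induction h1 using AddSubgroup.closure_induction with
    | mem y hy =>
      obtain ⟨b, hb, m'', hm'', rfl⟩ := hy
      exact key b hb m'' (ih m'' hm'')
    | zero => exact zero_mem _
    | add x y _ _ hx hy => exact add_mem hx hy
    | neg x _ hx => exact neg_mem hx

omit [DirectSum.Decomposition ℳ] in
/-- a global section of `M(z)~`, `z = n`, with values `m / 1` -/
theorem exists_sect_of_mem (z : ℤ) (n : ℕ) (hz : z = n) (m : ℳ n) :
    ∃ sec : GrMod.sect 𝒜 ℳ z (op ⊤), ∀ x : (⊤ : Opens (ProjectiveSpectrum.top 𝒜)),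
      ((sec.1 x : GrMod.tildeAt 𝒜 ℳ z x.1) : GrMod.LocMod 𝒜 (M := M) x.1) =
        LocalizedModule.mk (m : M) 1 := by
  subst hz
  exact ⟨GrMod.globalOf 𝒜 ℳ m, fun _ => rfl⟩

omit [DirectSum.Decomposition ℳ] in
/-- when `α_n` is surjective every global section of `M(z)~`, `z = n`, is `m / 1` -/
theorem exists_mem_of_sect (z : ℤ) (n : ℕ) (hz : z = n)
    (hsurj : Function.Surjective (GrMod.alpha 𝒜 ℳ n)) (sec : GrMod.sect 𝒜 ℳ z (op ⊤)) :
    ∃ m : ℳ n, ∀ x : (⊤ : Opens (ProjectiveSpectrum.top 𝒜)),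
      ((sec.1 x : GrMod.tildeAt 𝒜 ℳ z x.1) : GrMod.LocMod 𝒜 (M := M) x.1) =
        LocalizedModule.mk (m : M) 1 := by
  subst hz
  obtain ⟨m, hm⟩ := hsurj sec
  refine ⟨m, fun x => ?_⟩
  rw [← hm]
  rfl

/-- eventual generation of the graded module of sections -/
theorem iSup_range_smulSect_eq_top [IsNoetherianRing A]
    (hgen : (𝒜₊).toIdeal = Ideal.span (𝒜 1 : Set A))
    (hTF : ∃ k : ℕ, (Submodule.span A (⋃ i ∈ Set.Ici k, (ℳ i : Set M))).FG) :
    ∃ k : ℕ, ∀ e : ℕ,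
      (⨆ a : 𝒜 e, (GrMod.smulSect 𝒜 ℳ a (k : ℤ)
        (op (⊤ : Opens (ProjectiveSpectrum.top 𝒜)))).range) = ⊤ := by
  obtain ⟨N, hN⟩ := Groth.Agent.H77.AlphaBij.alpha_bijective 𝒜 ℳ hTF
  obtain ⟨k₁, hk₁⟩ := exists_gen 𝒜 ℳ hgen hTF
  refine ⟨max N k₁, fun e => ?_⟩
  set k : ℕ := max N k₁ with hk
  rw [eq_top_iff]
  intro t _
  have hz : ((k : ℤ) + (e : ℤ)) = ((k + e : ℕ) : ℤ) := by push_cast; rfl
  obtain ⟨m, hm⟩ := exists_mem_of_sect 𝒜 ℳ _ (k + e) hz
    (hN (k + e) (le_trans (le_max_left _ _) (Nat.le_add_right _ _))).2 t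
  have hmcl := hk₁ k (le_max_right _ _) e m m.2
  -- the induction
  have key : ∀ y ∈ AddSubgroup.closure (prodSet 𝒜 ℳ e k), y ∈ ℳ (k + e) ∧
      ∀ t' : GrMod.sect 𝒜 ℳ ((k : ℤ) + (e : ℤ)) (op ⊤),
        (∀ x : (⊤ : Opens (ProjectiveSpectrum.top 𝒜)),
          ((t'.1 x : GrMod.tildeAt 𝒜 ℳ _ x.1) : GrMod.LocMod 𝒜 (M := M) x.1) =
            LocalizedModule.mk y 1) →
        t' ∈ ⨆ a : 𝒜 e, (GrMod.smulSect 𝒜 ℳ a (k : ℤ)
          (op (⊤ : Opens (ProjectiveSpectrum.top 𝒜)))).range := by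
    intro y hy
    induction hy using AddSubgroup.closure_induction with
    | mem y hy =>
      obtain ⟨a, ha, m', hm', rfl⟩ := hy
      refine ⟨?_, fun t' ht' => ?_⟩
      · have h1 : a • m' ∈ ℳ (e + k) := SetLike.GradedSMul.smul_mem ha hm'
        exact (add_comm e k) ▸ h1
      · refine AddSubgroup.mem_iSup_of_mem ⟨a, ha⟩
          ⟨GrMod.globalOf 𝒜 ℳ ⟨m', hm'⟩, ?_⟩
        refine Subtype.ext (funext fun x => Subtype.ext ?_)
        rw [ht' x, GrMod.smulSect_apply_coe, GrMod.globalOf_apply_coe,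
          LocalizedModule.mk_smul_mk, one_mul]
    | zero =>
      refine ⟨zero_mem _, fun t' ht' => ?_⟩
      have : t' = 0 := by
        refine Subtype.ext (funext fun x => Subtype.ext ?_)
        rw [ht' x, LocalizedModule.zero_mk]
        rfl
      rw [this]
      exact zero_mem _
    | add y y' _ _ hy hy' =>
      refine ⟨add_mem hy.1 hy'.1, fun t' ht' => ?_⟩
      obtain ⟨t₁, ht₁⟩ := exists_sect_of_mem 𝒜 ℳ _ (k + e) hz ⟨y, hy.1⟩
      obtain ⟨t₂, ht₂⟩ := exists_sect_of_mem 𝒜 ℳ _ (k + e) hz ⟨y', hy'.1⟩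
      have : t' = t₁ + t₂ := by
        refine Subtype.ext (funext fun x => Subtype.ext ?_)
        rw [ht' x]
        change _ = ((t₁.1 x : GrMod.tildeAt 𝒜 ℳ _ x.1) : GrMod.LocMod 𝒜 (M := M) x.1) +
          ((t₂.1 x : GrMod.tildeAt 𝒜 ℳ _ x.1) : GrMod.LocMod 𝒜 (M := M) x.1)
        rw [ht₁ x, ht₂ x]
        exact (LocalizedModule.mkLinearMap _ M).map_add y y'
      rw [this]
      exact add_mem (hy.2 t₁ ht₁) (hy'.2 t₂ ht₂)
    | neg y _ hy =>
      refine ⟨neg_mem hy.1, fun t' ht' => ?_⟩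
      obtain ⟨t₁, ht₁⟩ := exists_sect_of_mem 𝒜 ℳ _ (k + e) hz ⟨y, hy.1⟩
      have : t' = -t₁ := by
        refine Subtype.ext (funext fun x => Subtype.ext ?_)
        rw [ht' x]
        change _ = -((t₁.1 x : GrMod.tildeAt 𝒜 ℳ _ x.1) : GrMod.LocMod 𝒜 (M := M) x.1)
        rw [ht₁ x]
        exact (LocalizedModule.mkLinearMap _ M).map_neg y
      rw [this]
      exact neg_mem (hy.2 t₁ ht₁)
  exact (key m hmcl).2 t hm

end Groth.Agent.H77.AlphaGen
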