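import Groth.Prelude.Def_GrSyz
import Mathlib

namespace Groth.Agent.H77

open GrSyz

universe u

set_option linter.unusedSectionVars false

variable {R : Type u} [CommRing R] {σ' : Type u} [SetLike σ' R] [AddSubgroupClass σ' R]
  {𝒜 : ℤ → σ'} [GradedRing 𝒜]
  {M : Type u} [AddCommGroup M] [Module R M] {τ : Type u} [SetLike τ M] [AddSubgroupClass τ M]
  {ℳ : ℤ → τ} [DirectSum.Decomposition ℳ] [SetLike.GradedSMul 𝒜 ℳ] (F : FreeRes 𝒜 ℳ)

/-- All degrees of basis vectors of the first `m + 1` terms. -/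
def degSet (m : ℕ) : Finset ℤ :=
  (Finset.range (m + 1)).biUnion (fun i => Finset.univ.image (F.deg i))

lemma deg_mem_degSet {m i : ℕ} (hi : i ∈ Finset.range (m + 1)) (b : Fin (F.rk i)) :
    F.deg i b ∈ degSet F m := by
  unfold degSet
  rw [Finset.mem_biUnion]
  exact ⟨i, hi, Finset.mem_image_of_mem _ (Finset.mem_univ b)⟩

lemma betti_eq_zero {m i : ℕ} (hi : i ∈ Finset.range (m + 1)) {j : ℤ} (hj : j ∉ degSet F m) :
    F.betti i j = 0 := by
  unfold FreeRes.betti
  rw [Finset.card_eq_zero, Finset.filter_eq_empty_iff]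
  intro b _ hb
  exact hj (hb ▸ deg_mem_degSet F hi b)

/-- Alternating sum of Betti numbers in degree `j`. -/
def altBetti (m : ℕ) (j : ℤ) : ℤ :=
  ∑ i ∈ Finset.range (m + 1), (-1 : ℤ) ^ i * (F.betti i j : ℤ)

lemma altBetti_eq_zero {m : ℕ} {j : ℤ} (hj : j ∉ degSet F m) : altBetti F m j = 0 := by
  unfold altBetti
  apply Finset.sum_eq_zero
  intro i hi
  rw [betti_eq_zero F hi hj]
  simp

lemma sum_betti_mul {m i : ℕ} (hi : i ∈ Finset.range (m + 1)) (g : ℤ → ℤ) :
    ∑ j ∈ degSet F m, (F.betti i j : ℤ) * g j = ∑ b : Fin (F.rk i), g (F.deg i b) := by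
  rw [← Finset.sum_fiberwise_of_maps_to (s := Finset.univ) (t := degSet F m) (g := F.deg i)
    (fun b _ => deg_mem_degSet F hi b) (fun b => g (F.deg i b))]
  apply Finset.sum_congr rfl
  intro j _
  rw [Finset.sum_congr rfl (g := fun _ => g j) (by
    intro b hb
    rw [(Finset.mem_filter.mp hb).2])]
  rw [Finset.sum_const, nsmul_eq_mul]
  rfl

lemma sum_altBetti_mul (m : ℕ) (g : ℤ → ℤ) :
    ∑ j ∈ degSet F m, altBetti F m j * g j =
      ∑ i ∈ Finset.range (m + 1), (-1 : ℤ) ^ i * ∑ b : Fin (F.rk i), g (F.deg i b) := by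
  unfold altBetti
  simp_rw [Finset.sum_mul]
  rw [Finset.sum_comm]
  apply Finset.sum_congr rfl
  intro i hi
  rw [← sum_betti_mul F hi g, Finset.mul_sum]
  apply Finset.sum_congr rfl
  intro j _
  ring

lemma finsum_altBetti_mul (m : ℕ) (g : ℤ → ℤ) :
    ∑ᶠ j : ℤ, altBetti F m j * g j =
      ∑ i ∈ Finset.range (m + 1), (-1 : ℤ) ^ i * ∑ b : Fin (F.rk i), g (F.deg i b) := by
  rw [← sum_altBetti_mul]
  apply finsum_eq_sum_of_support_subset
  intro j hj
  by_contra h
  rw [Finset.mem_coe] at h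
  rw [Function.mem_support, altBetti_eq_zero F h, zero_mul] at hj
  exact hj rfl

end Groth.Agent.H77
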