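import Mathlib

set_option autoImplicit false
set_option linter.unusedSectionVars false

namespace Groth.Agent.H77.BialgDesc

open scoped TensorProduct

universe u

section Coord

variable {K : Type u} [Field K] {S T : Type u} [CommRing S] [Algebra K S] [CommRing T]
  [Algebra K T] {A : Type u} [CommRing A] [Algebra K A] {ι : Type u} (e : Module.Basis ι K A)

lemma repr_map (ρ : S →ₐ[K] T) (y : S ⊗[K] A) (α : ι) :
    (Algebra.TensorProduct.basis T e).repr
        (Algebra.TensorProduct.map ρ (AlgHom.id K A) y) α =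
      ρ ((Algebra.TensorProduct.basis S e).repr y α) := by
  induction y using TensorProduct.induction_on with
  | zero => simp
  | tmul s a =>
    rw [Algebra.TensorProduct.map_tmul, Algebra.TensorProduct.basis_repr_tmul,
      Algebra.TensorProduct.basis_repr_tmul]
    simp only [AlgHom.coe_id, id_eq, Finsupp.smul_apply, Finsupp.mapRange_apply, smul_eq_mul,
      map_mul, AlgHom.commutes]
  | add x y hx hy =>
    rw [map_add, map_add, Finsupp.add_apply, hx, hy, map_add, Finsupp.add_apply, map_add]

end Coord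

section Descend

variable (K : Type u) [Field K] (ιv ιe : Type u) [Finite ιv] [Finite ιe]
    (Kv : ιv → Type u) [∀ i, CommRing (Kv i)] [∀ i, Algebra K (Kv i)]
    (Ke : ιe → Type u) [∀ k, CommRing (Ke k)] [∀ k, Algebra K (Ke k)]
    (l r : ιe → ιv) (ρl : ∀ k, Kv (l k) →ₐ[K] Ke k) (ρr : ∀ k, Kv (r k) →ₐ[K] Ke k)
    (hlim : ∀ x : (∀ i, Kv i), (∀ k, ρl k (x (l k)) = ρr k (x (r k))) →
      ∃! a : K, ∀ i, algebraMap K (Kv i) a = x i)

include hlim in
theorem exists_nontrivial : ∃ i₀ : ιv, Nontrivial (Kv i₀) := by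
  by_contra hcon
  push Not at hcon
  have hsub : ∀ i, Subsingleton (Kv i) := hcon
  obtain ⟨a, -, hu⟩ := hlim (fun _ => 0) (fun k => by simp)
  have h0 := hu 0 (fun i => Subsingleton.elim _ _)
  have h1 := hu 1 (fun i => Subsingleton.elim _ _)
  exact zero_ne_one (h0.trans h1.symm)

include hlim in
theorem descend_elem (A : Type u) [CommRing A] [Algebra K A]
    (y : ∀ i, Kv i ⊗[K] A)
    (hy : ∀ k, Algebra.TensorProduct.map (ρl k) (AlgHom.id K A) (y (l k)) =
      Algebra.TensorProduct.map (ρr k) (AlgHom.id K A) (y (r k))) :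
    ∃ a : A, ∀ i, y i = 1 ⊗ₜ[K] a := by
  classical
  let e := Module.Free.chooseBasis K A
  let c : ∀ i, Module.Free.ChooseBasisIndex K A → Kv i := fun i α =>
    (Algebra.TensorProduct.basis (Kv i) e).repr (y i) α
  have hc : ∀ α k, ρl k (c (l k) α) = ρr k (c (r k) α) := by
    intro α k
    rw [← repr_map, ← repr_map, hy k]
  choose a ha hauniq using fun α => hlim (fun i => c i α) (hc α)
  have hfin : {α | a α ≠ 0}.Finite := by
    apply Set.Finite.subset (Set.finite_iUnion fun i : ιv =>
      ((Algebra.TensorProduct.basis (Kv i) e).repr (y i)).support.finite_toSet)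
    intro α hα
    rw [Set.mem_iUnion]
    by_contra hcon
    push Not at hcon
    apply hα
    symm
    apply hauniq α 0
    intro i
    have : c i α = 0 := by
      have := hcon i
      rw [Finset.mem_coe, Finsupp.mem_support_iff, not_not] at this
      exact this
    rw [map_zero, this]
  let af : Module.Free.ChooseBasisIndex K A →₀ K := Finsupp.ofSupportFinite a hfin
  refine ⟨e.repr.symm af, fun i => ?_⟩
  apply (Algebra.TensorProduct.basis (Kv i) e).repr.injective
  ext α
  rw [Algebra.TensorProduct.basis_repr_tmul]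
  simp only [one_smul, Finsupp.mapRange_apply, LinearEquiv.apply_symm_apply]
  change c i α = algebraMap K (Kv i) (a α)
  exact (ha α i).symm

end Descend

section Inj

variable {K : Type u} [Field K]

/-- tensoring with a nonzero vector is injective -/
lemma tmul_left_injective {V W : Type u} [AddCommGroup V] [Module K V] [AddCommGroup W]
    [Module K W] (v₀ : V) (hv₀ : v₀ ≠ 0) : Function.Injective (fun w : W => v₀ ⊗ₜ[K] w) := by
  have hinj : Function.Injective (LinearMap.toSpanSingleton K V v₀) := by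
    intro a b hab
    simp only [LinearMap.toSpanSingleton_apply] at hab
    exact smul_left_injective K hv₀ hab
  have h2 := Module.Flat.rTensor_preserves_injective_linearMap (M := W)
    (LinearMap.toSpanSingleton K V v₀) hinj
  intro w w' hww
  apply (TensorProduct.lid K W).symm.injective
  apply h2
  simpa using hww

end Inj

section Main

open Coalgebra

variable (K : Type u) [Field K] (ιv ιe : Type u) [Finite ιv] [Finite ιe]
    (Kv : ιv → Type u) [∀ i, CommRing (Kv i)] [∀ i, Algebra K (Kv i)]
    (Ke : ιe → Type u) [∀ k, CommRing (Ke k)] [∀ k, Algebra K (Ke k)]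
    (l r : ιe → ιv) (ρl : ∀ k, Kv (l k) →ₐ[K] Ke k) (ρr : ∀ k, Kv (r k) →ₐ[K] Ke k)
    (hlim : ∀ x : (∀ i, Kv i), (∀ k, ρl k (x (l k)) = ρr k (x (r k))) →
      ∃! a : K, ∀ i, algebraMap K (Kv i) a = x i)
    (A B : Type u) [CommRing A] [CommRing B] [Bialgebra K A] [Bialgebra K B]
    (u : ∀ i, (Kv i ⊗[K] B) ≃ₐc[Kv i] (Kv i ⊗[K] A))
    (hu : ∀ (k : ιe) (b : B),
      Algebra.TensorProduct.map (ρl k) (AlgHom.id K A) (u (l k) (1 ⊗ₜ[K] b)) =
        Algebra.TensorProduct.map (ρr k) (AlgHom.id K A) (u (r k) (1 ⊗ₜ[K] b)))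

include hlim hu in
theorem main11 : ∃! v : B ≃ₐc[K] A, ∀ (i : ιv) (b : B), u i (1 ⊗ₜ[K] b) = 1 ⊗ₜ[K] v b := by
  obtain ⟨i₀, hi₀⟩ := exists_nontrivial K ιv ιe Kv Ke l r ρl ρr hlim
  have hinjK : Function.Injective (algebraMap K (Kv i₀)) := (algebraMap K (Kv i₀)).injective
  have hJ : ∀ (C : Type u) [AddCommGroup C] [Module K C],
      Function.Injective (fun c : C => (1 : Kv i₀) ⊗ₜ[K] c) :=
    fun C _ _ => tmul_left_injective (1 : Kv i₀) one_ne_zero
  choose v hv using fun b => descend_elem K ιv ιe Kv Ke l r ρl ρr hlim A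
    (fun i => u i (1 ⊗ₜ b)) (fun k => hu k b)
  -- linear
  let vLin : B →ₗ[K] A :=
    { toFun := v
      map_add' := fun b b' => by
        apply hJ A
        change (1 : Kv i₀) ⊗ₜ[K] v (b + b') = 1 ⊗ₜ[K] (v b + v b')
        rw [← hv, TensorProduct.tmul_add, map_add, hv, hv, TensorProduct.tmul_add]
      map_smul' := fun c b => by
        apply hJ A
        change (1 : Kv i₀) ⊗ₜ[K] v (c • b) = 1 ⊗ₜ[K] (c • v b)
        rw [← hv, TensorProduct.tmul_smul, algebra_compatible_smul (Kv i₀) c, map_smul, hv,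
          ← algebra_compatible_smul (Kv i₀) c, TensorProduct.tmul_smul] }
  have hvLin : ∀ b, vLin b = v b := fun b => rfl
  let vAlg : B →ₐ[K] A := AlgHom.ofLinearMap vLin
    (by
      apply hJ A
      change (1 : Kv i₀) ⊗ₜ[K] v 1 = 1 ⊗ₜ[K] 1
      rw [← hv, ← Algebra.TensorProduct.one_def, map_one, Algebra.TensorProduct.one_def])
    (fun b b' => by
      apply hJ A
      change (1 : Kv i₀) ⊗ₜ[K] v (b * b') = 1 ⊗ₜ[K] (v b * v b')
      have e1 : (1 : Kv i₀) ⊗ₜ[K] (b * b') = (1 ⊗ₜ b) * (1 ⊗ₜ b') := by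
        rw [Algebra.TensorProduct.tmul_mul_tmul, one_mul]
      rw [← hv, e1, map_mul, hv, hv, Algebra.TensorProduct.tmul_mul_tmul, one_mul])
  have hvAlg : ∀ b, vAlg b = v b := fun b => rfl
  -- counit
  have hcounit : (Bialgebra.counitAlgHom K A).comp vAlg = Bialgebra.counitAlgHom K B := by
    ext b
    apply hinjK
    change algebraMap K (Kv i₀) (counit (v b)) = algebraMap K (Kv i₀) (counit b)
    have e1 : ∀ (C : Type u) [CommRing C] [Bialgebra K C] (c : C),
        counit (R := Kv i₀) ((1 : Kv i₀) ⊗ₜ[K] c) = algebraMap K (Kv i₀) (counit c) := by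
      intro C _ _ c
      rw [TensorProduct.counit_tmul, CommSemiring.counit_apply, Algebra.algebraMap_eq_smul_one]
    rw [← e1 A, ← e1 B, ← hv, CoalgHomClass.counit_comp_apply]
  -- comul
  have hcomul : (Algebra.TensorProduct.map vAlg vAlg).comp (Bialgebra.comulAlgHom K B) =
      (Bialgebra.comulAlgHom K A).comp vAlg := by
    ext b
    change Algebra.TensorProduct.map vAlg vAlg (comul b) = comul (v b)
    let S := Kv i₀
    have key1 : ∀ (C : Type u) [CommRing C] [Bialgebra K C] (c : C),
        comul (R := S) ((1 : S) ⊗ₜ[K] c) =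
          TensorProduct.AlgebraTensorModule.tensorTensorTensorComm K S K S S S C C
            (((1 : S) ⊗ₜ[S] (1 : S)) ⊗ₜ[K] comul c) := by
      intro C _ _ c
      rw [TensorProduct.comul_tmul, CommSemiring.comul_apply]
    have key2 : ∀ z : B ⊗[K] B,
        TensorProduct.map ((u i₀ : (S ⊗[K] B) →ₗ[S] (S ⊗[K] A))) (u i₀ : (S ⊗[K] B) →ₗ[S] (S ⊗[K] A))
          (TensorProduct.AlgebraTensorModule.tensorTensorTensorComm K S K S S S B B
            (((1 : S) ⊗ₜ[S] (1 : S)) ⊗ₜ[K] z)) =
          TensorProduct.AlgebraTensorModule.tensorTensorTensorComm K S K S S S A A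
            (((1 : S) ⊗ₜ[S] (1 : S)) ⊗ₜ[K] (Algebra.TensorProduct.map vAlg vAlg z)) := by
      intro z
      induction z using TensorProduct.induction_on with
      | zero => simp
      | tmul b₁ b₂ =>
        rw [TensorProduct.AlgebraTensorModule.tensorTensorTensorComm_tmul,
          Algebra.TensorProduct.map_tmul,
          TensorProduct.AlgebraTensorModule.tensorTensorTensorComm_tmul, TensorProduct.map_tmul]
        change (u i₀ (1 ⊗ₜ b₁)) ⊗ₜ[S] (u i₀ (1 ⊗ₜ b₂)) = _
        rw [hv, hv]
        rfl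
      | add x y hx hy =>
        rw [TensorProduct.tmul_add, map_add, map_add, hx, hy, map_add, TensorProduct.tmul_add,
          map_add]
    have h3 : TensorProduct.AlgebraTensorModule.tensorTensorTensorComm K S K S S S A A
        (((1 : S) ⊗ₜ[S] (1 : S)) ⊗ₜ[K] (Algebra.TensorProduct.map vAlg vAlg (comul b))) =
        TensorProduct.AlgebraTensorModule.tensorTensorTensorComm K S K S S S A A
          (((1 : S) ⊗ₜ[S] (1 : S)) ⊗ₜ[K] comul (v b)) := by
      rw [← key2, ← key1 B, ← key1 A, ← hv]
      exact CoalgHomClass.map_comp_comul_apply (u i₀) _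
    have h4 := (TensorProduct.AlgebraTensorModule.tensorTensorTensorComm K S K S S S A A).injective h3
    have hne : ((1 : S) ⊗ₜ[S] (1 : S)) ≠ 0 := by
      intro h0
      have := congr_arg (TensorProduct.lid S S) h0
      simp at this
    exact tmul_left_injective _ hne h4
  -- bijective
  have hbij : Function.Bijective vAlg := by
    have hff : Module.FaithfullyFlat K (Kv i₀) := inferInstance
    have h1 : Function.Bijective (vLin.lTensor (Kv i₀)) := by
      have : ∀ x, vLin.lTensor (Kv i₀) x = u i₀ x := by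
        intro x
        induction x using TensorProduct.induction_on with
        | zero => simp
        | tmul s b =>
          rw [LinearMap.lTensor_tmul, hvLin]
          have : s ⊗ₜ[K] b = s • ((1 : Kv i₀) ⊗ₜ[K] b) := by
            rw [TensorProduct.smul_tmul', smul_eq_mul, mul_one]
          rw [this, map_smul, hv, TensorProduct.smul_tmul', smul_eq_mul, mul_one]
        | add x y hx hy => rw [map_add, map_add, hx, hy]
      have hfun : ⇑(vLin.lTensor (Kv i₀)) = ⇑(u i₀) := funext this
      rw [hfun]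
      exact (u i₀).bijective
    exact (Module.FaithfullyFlat.lTensor_bijective_iff_bijective K (Kv i₀) vLin).mp h1
  refine ⟨BialgEquiv.ofBijective (BialgHom.ofAlgHom vAlg hcounit hcomul) hbij, ?_, ?_⟩
  · intro i b
    exact hv b i
  · intro v' hv'
    apply BialgEquiv.ext
    intro b
    apply hJ A
    change (1 : Kv i₀) ⊗ₜ[K] v' b = 1 ⊗ₜ[K] v b
    rw [← hv', ← hv]

end Main

end Groth.Agent.H77.BialgDesc
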