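import Groth.Prelude.Def_W4c2azumayainvolQEt
import Mathlib

namespace Groth.Agent.H77.RInvB

open RInv

universe u v

set_option linter.unusedSectionVars false
set_option linter.style.haveILetI false

variable {S : Type u} {R : Type v} [CommRing S] [CommRing R] [Algebra S R]
  (lam : R ≃+* R) (hlam : Function.Involutive lam) (hS : RInv.IsFixedRing S R lam)
include hlam hS

lemma fix_algebraMap (s : S) : lam (algebraMap S R s) = algebraMap S R s :=
  (hS.2 _).mpr ⟨s, rfl⟩

lemma exists_tr (x : R) : ∃ t : S, algebraMap S R t = x + lam x :=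
  (hS.2 _).mp (by rw [map_add, hlam x, add_comm])

lemma exists_nm (x : R) : ∃ n : S, algebraMap S R n = x * lam x :=
  (hS.2 _).mp (by rw [map_mul, hlam x, mul_comm])

lemma nontrivial [Nontrivial S] : Nontrivial R := by
  refine ⟨⟨0, 1, ?_⟩⟩
  intro h01
  have : algebraMap S R 0 = algebraMap S R 1 := by rw [map_zero, map_one]; exact h01
  exact zero_ne_one (hS.1 this)

lemma mem_jacobson_iff (x : R) : x ∈ Ring.jacobson R ↔ ∀ y, IsUnit (x * y + 1) := by
  rw [← Ideal.jacobson_bot]
  exact Ideal.mem_jacobson_bot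

lemma jacobson_stable {x : R} (hx : x ∈ Ring.jacobson R) : lam x ∈ Ring.jacobson R := by
  rw [mem_jacobson_iff lam hlam hS] at hx ⊢
  intro y
  have := (hx (lam y)).map lam
  rwa [map_add, map_mul, hlam y, map_one] at this

variable [IsLocalRing S]

/-- The maximal ideal of the local fixed ring lies in every maximal ideal. -/
lemma algebraMap_mem_of_mem_maximalIdeal (M : Ideal R) [hM : M.IsMaximal] {s : S}
    (hs : s ∈ IsLocalRing.maximalIdeal S) : algebraMap S R s ∈ M := by
  by_contra hnot
  obtain ⟨y, m, hm, hym⟩ := hM.exists_inv hnot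
  -- hym : y * algebraMap s + m = 1
  obtain ⟨t, ht⟩ := exists_tr lam hlam hS y
  obtain ⟨n, hn⟩ := exists_nm lam hlam hS y
  -- the norm of m = 1 - y s is 1 - s t + s^2 n, a unit of S
  have hunit : IsUnit (1 - s * t + s * s * n) := by
    have h1 : s * t - s * s * n ∈ IsLocalRing.maximalIdeal S := by
      have : s * t - s * s * n = s * (t - s * n) := by ring
      rw [this]
      exact Ideal.mul_mem_right _ _ hs
    have : (1 - s * t + s * s * n) = 1 - (s * t - s * s * n) := by ring
    rw [this]
    by_contra hnu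
    have h2 := (IsLocalRing.mem_maximalIdeal _).mpr hnu
    have h3 := Ideal.add_mem _ h2 h1
    rw [sub_add_cancel] at h3
    exact (Ideal.ne_top_iff_one _).mp (IsLocalRing.maximalIdeal.isMaximal S).ne_top h3
  have hm' : m = 1 - y * algebraMap S R s := by rw [← hym]; ring
  have hnorm : m * lam m = algebraMap S R (1 - s * t + s * s * n) := by
    rw [hm', map_sub, map_one, map_mul, fix_algebraMap lam hlam hS]
    simp only [map_sub, map_add, map_mul, map_one, ht, hn]
    ring
  have : IsUnit (m * lam m) := by rw [hnorm]; exact hunit.map _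
  have hmu : IsUnit m := isUnit_of_mul_isUnit_left this
  exact hM.ne_top (Ideal.eq_top_of_isUnit_mem _ hm hmu)

/-- An anti-invariant element outside the Jacobson radical is a unit. -/
lemma isUnit_of_anti_of_notMem_jacobson {w : R} (hw : lam w = -w)
    (hnj : w ∉ Ring.jacobson R) : IsUnit w := by
  rw [Ring.jacobson_eq_sInf_isMaximal, Ideal.mem_sInf] at hnj
  push Not at hnj
  obtain ⟨M, hM, hwM⟩ := hnj
  have hM : M.IsMaximal := hM
  haveI : M.IsMaximal := hM
  obtain ⟨s, hs⟩ := exists_nm lam hlam hS w
  rw [hw] at hs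
  by_cases hsu : IsUnit s
  · have : IsUnit (w * -w) := by rw [← hs]; exact hsu.map _
    exact isUnit_of_mul_isUnit_left this
  · exfalso
    have hsm : s ∈ IsLocalRing.maximalIdeal S := (IsLocalRing.mem_maximalIdeal _).mpr hsu
    have := algebraMap_mem_of_mem_maximalIdeal lam hlam hS M hsm
    rw [hs] at this
    rcases hM.isPrime.mem_or_mem this with h | h
    · exact hwM h
    · exact hwM (by simpa using M.neg_mem h)

/-- If the involution is trivial modulo the Jacobson radical, the ring is local. -/
lemma isLocalRing_of_forall_mem_jacobson (h : ∀ r : R, lam r - r ∈ Ring.jacobson R) :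
    IsLocalRing R := by
  haveI := nontrivial lam hlam hS
  apply IsLocalRing.of_unique_max_ideal
  obtain ⟨M, hM⟩ := Ideal.exists_maximal R
  refine ⟨M, hM, ?_⟩
  intro M' hM'
  haveI : M.IsMaximal := hM
  haveI : M'.IsMaximal := hM'
  symm
  apply hM.eq_of_le hM'.ne_top
  intro x hx
  -- x ∈ M; show x ∈ M'
  obtain ⟨s, hs⟩ := exists_nm lam hlam hS x
  have hsm : s ∈ IsLocalRing.maximalIdeal S := by
    rw [IsLocalRing.mem_maximalIdeal]
    intro hsu
    have : IsUnit (x * lam x) := by rw [← hs]; exact hsu.map _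
    exact hM.ne_top (Ideal.eq_top_of_isUnit_mem _ hx (isUnit_of_mul_isUnit_left this))
  have h1 := algebraMap_mem_of_mem_maximalIdeal lam hlam hS M' hsm
  rw [hs] at h1
  rcases hM'.isPrime.mem_or_mem h1 with h2 | h2
  · exact h2
  · have h3 : lam x - x ∈ M' := Ring.jacobson_le_of_isMaximal M' (h x)
    have : x = lam x - (lam x - x) := by ring
    rw [this]
    exact M'.sub_mem h2 h3

end Groth.Agent.H77.RInvB

namespace Groth.Agent.H77.RInvB

open RInv

universe u v

variable {S : Type u} {R : Type v} [CommRing S] [CommRing R] [Algebra S R]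
  (lam : R ≃+* R) (hlam : Function.Involutive lam) (hS : RInv.IsFixedRing S R lam)
  [IsLocalRing S]
include hlam hS

/-- There are at most two maximal ideals, exchanged by the involution. -/
lemma eq_or_eq_comap_of_isMaximal (M M' : Ideal R) [hM : M.IsMaximal] [hM' : M'.IsMaximal] :
    M' = M ∨ M' = M.comap (lam : R →+* R) := by
  by_contra hcon
  push Not at hcon
  obtain ⟨h1, h2⟩ := hcon
  have : (M.comap (lam : R →+* R)).IsMaximal :=
    Ideal.comap_isMaximal_of_surjective (lam : R →+* R) lam.surjective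
  have hx : ∃ x ∈ M', x ∉ M := by
    by_contra hc
    push Not at hc
    exact h1 (hM'.eq_of_le hM.ne_top hc)
  have hy : ∃ y ∈ M', lam y ∉ M := by
    by_contra hc
    push Not at hc
    apply h2
    apply hM'.eq_of_le (Ideal.IsMaximal.ne_top inferInstance)
    intro y hy
    exact hc y hy
  obtain ⟨x, hxM', hxM⟩ := hx
  obtain ⟨y, hyM', hyM⟩ := hy
  obtain ⟨w, hwM', hwM, hlwM⟩ : ∃ w ∈ M', w ∉ M ∧ lam w ∉ M := by
    by_cases hlx : lam x ∈ M
    · by_cases hyM2 : y ∈ M
      · refine ⟨x + y, M'.add_mem hxM' hyM', ?_, ?_⟩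
        · intro h
          exact hxM (by simpa using M.sub_mem h hyM2)
        · intro h
          rw [map_add] at h
          exact hyM (by simpa using M.sub_mem h hlx)
      · exact ⟨y, hyM', hyM2, hyM⟩
    · exact ⟨x, hxM', hxM, hlx⟩
  obtain ⟨s, hs⟩ := exists_nm lam hlam hS w
  have hsm : s ∈ IsLocalRing.maximalIdeal S := by
    rw [IsLocalRing.mem_maximalIdeal]
    intro hsu
    have : IsUnit (w * lam w) := by rw [← hs]; exact hsu.map _
    exact hM'.ne_top (Ideal.eq_top_of_isUnit_mem _ hwM' (isUnit_of_mul_isUnit_left this))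
  have h3 := algebraMap_mem_of_mem_maximalIdeal lam hlam hS M hsm
  rw [hs] at h3
  rcases hM.isPrime.mem_or_mem h3 with h4 | h4
  · exact hwM h4
  · exact hlwM h4

end Groth.Agent.H77.RInvB
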