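import Mathlib
import Groth.Agent.S15573
import Groth.Agent.S15574
import Groth.Agent.S15576
import Groth.Agent.S15577
import Groth.Agent.S15586

/-!
# Branch locus of a ring with involution
-/

set_option autoImplicit false
universe u v

noncomputable section

namespace Groth.Agent.H77.Branch

open scoped TensorProduct
open RInv

variable {S : Type u} {R : Type v} [CommRing S] [CommRing R] [Algebra S R]
  (lam : R ≃+* R) (hlam : Function.Involutive lam) (hS : RInv.IsFixedRing S R lam)

include hS in
lemma lam_algebraMap (s : S) : lam (algebraMap S R s) = algebraMap S R s :=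
  (hS.2 _).mpr ⟨s, rfl⟩

/-- `lam` as an `S`-algebra automorphism -/
def lamA : R ≃ₐ[S] R := AlgEquiv.ofRingEquiv (f := lam) (lam_algebraMap lam hS)

lemma lamA_apply (x : R) : lamA lam hS x = lam x := rfl

lemma lamA_toRingEquiv : (lamA lam hS).toRingEquiv = lam := by
  ext x
  rfl

variable (S' : Type u) [CommRing S'] [Algebra S S']

/-- the base-changed involution on `S' ⊗ R` -/
def lam' : (S' ⊗[S] R) ≃+* (S' ⊗[S] R) :=
  (Algebra.TensorProduct.congr (AlgEquiv.refl : S' ≃ₐ[S] S') (lamA lam hS)).toRingEquiv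

lemma lam'_tmul (s : S') (x : R) : lam' lam hS S' (s ⊗ₜ x) = s ⊗ₜ lam x := rfl

include hlam in
lemma lam'_involutive : Function.Involutive (lam' lam hS S') := by
  intro t
  induction t using TensorProduct.induction_on with
  | zero => rw [map_zero, map_zero]
  | tmul s x => rw [lam'_tmul, lam'_tmul, hlam x]
  | add a b ha hb => rw [map_add, map_add, ha, hb]

include hlam in
lemma isFixedRing' [Module.Flat S S'] : RInv.IsFixedRing S' (S' ⊗[S] R) (lam' lam hS S') := by
  have h := Groth.Agent.S15586.result S R S' (lamA lam hS)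
    (by intro x; exact hlam x) (by rw [lamA_toRingEquiv]; exact hS) (Or.inl inferInstance)
  exact h


section AtPrime

variable (p : PrimeSpectrum S)

include hlam hS in
/-- if `(lam r - r)^2 = f ∈ S` with `f ∉ p`, then `S_p ⊗ R` is quadratic etale over `S_p` -/
lemma isQuadEtale_atPrime_of_sq (r : R) (f : S) (hf : algebraMap S R f = (lam r - r) ^ 2)
    (hfp : f ∉ p.asIdeal) :
    RInv.IsQuadEtale (Localization.AtPrime p.asIdeal) (Localization.AtPrime p.asIdeal ⊗[S] R) := by
  refine Groth.Agent.S15573.result (Localization.AtPrime p.asIdeal)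
    (Localization.AtPrime p.asIdeal ⊗[S] R) (lam' lam hS (Localization.AtPrime p.asIdeal))
    (lam'_involutive lam hlam hS _) (isFixedRing' lam hlam hS _) ⟨(1 : Localization.AtPrime p.asIdeal) ⊗ₜ r, ?_⟩
  rw [lam'_tmul, ← TensorProduct.tmul_sub]
  have hunit : IsUnit (algebraMap S (Localization.AtPrime p.asIdeal) f) :=
    IsLocalization.map_units (M := p.asIdeal.primeCompl) (Localization.AtPrime p.asIdeal) ⟨f, hfp⟩
  have hsq : ((1 : Localization.AtPrime p.asIdeal) ⊗ₜ[S] (r - lam r)) ^ 2 =
      algebraMap (Localization.AtPrime p.asIdeal) (Localization.AtPrime p.asIdeal ⊗[S] R)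
        (algebraMap S (Localization.AtPrime p.asIdeal) f) := by
    rw [Algebra.TensorProduct.tmul_pow, one_pow, Algebra.TensorProduct.algebraMap_apply,
      Algebra.algebraMap_self, RingHom.id_apply]
    have : (r - lam r) ^ 2 = algebraMap S R f := by rw [hf]; ring
    rw [this, Algebra.algebraMap_eq_smul_one f, Algebra.algebraMap_eq_smul_one f,
      TensorProduct.tmul_smul, TensorProduct.smul_tmul']
  have h2 : IsUnit (((1 : Localization.AtPrime p.asIdeal) ⊗ₜ[S] (r - lam r)) ^ 2) := by
    rw [hsq]
    exact hunit.map _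
  exact (isUnit_pow_iff two_ne_zero).mp h2

end AtPrime

include hlam hS in
/-- S15588 -/
theorem main88 (W : Set (PrimeSpectrum S))
    (hW : W = {p : PrimeSpectrum S | ¬ RInv.IsQuadEtale (Localization.AtPrime p.asIdeal)
      (Localization.AtPrime p.asIdeal ⊗[S] R)}) (r : R) :
    lam r - r ∈ ((PrimeSpectrum.vanishingIdeal W).map (algebraMap S R)).radical := by
  have hu : lam (lam r - r) = -(lam r - r) := by
    rw [map_sub, hlam r]
    ring
  have hfix : lam ((lam r - r) ^ 2) = (lam r - r) ^ 2 := by
    rw [map_pow, hu]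
    ring
  obtain ⟨f, hf⟩ := (hS.2 _).mp hfix
  have hfI : f ∈ PrimeSpectrum.vanishingIdeal W := by
    rw [PrimeSpectrum.mem_vanishingIdeal]
    intro p hp
    by_contra hfp
    rw [hW] at hp
    exact hp (isQuadEtale_atPrime_of_sq lam hlam hS p r f hf hfp)
  refine ⟨2, ?_⟩
  rw [← hf]
  exact Ideal.mem_map_of_mem _ hfI

end Groth.Agent.H77.Branch
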