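import Mathlib
import Groth.Agent.H77.Branch

/-!
# Branch points of a ring with involution: characterization
-/

set_option autoImplicit false
universe u v

noncomputable section

namespace Groth.Agent.H77.Branch2

open scoped TensorProduct
open RInv Groth.Agent.H77.Branch

variable {S : Type u} {R : Type v} [CommRing S] [CommRing R] [Algebra S R]
  (lam : R ≃+* R) (hlam : Function.Involutive lam) (hS : RInv.IsFixedRing S R lam)

include hlam hS in
/-- `R` is integral over the fixed ring of an involution -/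
lemma isIntegral_of_isFixedRing : Algebra.IsIntegral S R := by
  constructor
  intro x
  have h1 : lam (x + lam x) = x + lam x := by rw [map_add, hlam x]; ring
  have h2 : lam (x * lam x) = x * lam x := by rw [map_mul, hlam x]; ring
  obtain ⟨a, ha⟩ := (hS.2 _).mp h1
  obtain ⟨b, hb⟩ := (hS.2 _).mp h2
  refine ⟨Polynomial.X ^ 2 + (Polynomial.C (-a) * Polynomial.X + Polynomial.C b), ?_, ?_⟩
  · exact Polynomial.monic_X_pow_add (lt_of_le_of_lt Polynomial.degree_linear_le (by norm_num))
  · simp only [Polynomial.eval₂_add, Polynomial.eval₂_pow, Polynomial.eval₂_X, Polynomial.eval₂_mul,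
      Polynomial.eval₂_C, Polynomial.eval₂_neg, map_neg, ha, hb]
    ring

section AtPrime

variable (p : PrimeSpectrum S) (q' : PrimeSpectrum R)

/-- the fraction field of `R/q'` -/
abbrev KK : Type v := FractionRing (R ⧸ q'.asIdeal)

/-- `R → Frac(R/q')` -/
def g₀ : R →+* KK q' :=
  (algebraMap (R ⧸ q'.asIdeal) (KK q')).comp (Ideal.Quotient.mk q'.asIdeal)

lemma g₀_eq_zero_iff (x : R) : g₀ q' x = 0 ↔ x ∈ q'.asIdeal := by
  change algebraMap (R ⧸ q'.asIdeal) (KK q') (Ideal.Quotient.mk q'.asIdeal x) = 0 ↔ _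
  rw [map_eq_zero_iff _ (IsFractionRing.injective (R ⧸ q'.asIdeal) (KK q')),
    Ideal.Quotient.eq_zero_iff_mem]

lemma algebraMap_KK (s : S) : algebraMap S (KK q') s = g₀ q' (algebraMap S R s) := by
  rw [IsScalarTower.algebraMap_apply S (R ⧸ q'.asIdeal) (KK q'),
    IsScalarTower.algebraMap_apply S R (R ⧸ q'.asIdeal)]
  rfl

/-- a ring hom from `S_p ⊗ R` to a field attached to a prime of `R` over `p` -/
lemma exists_hom_to_field
    (hq' : q'.asIdeal.comap (algebraMap S R) = p.asIdeal) :
    ∃ (ψ : (Localization.AtPrime p.asIdeal ⊗[S] R) →+* KK q'),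
      (∀ x : R, ψ (1 ⊗ₜ x) = 0 ↔ x ∈ q'.asIdeal) ∧
      (∀ s : Localization.AtPrime p.asIdeal,
        ψ (s ⊗ₜ 1) = 0 ↔ s ∈ IsLocalRing.maximalIdeal (Localization.AtPrime p.asIdeal)) := by
  let g : R →ₐ[S] KK q' :=
    (IsScalarTower.toAlgHom S (R ⧸ q'.asIdeal) (KK q')).comp (Ideal.Quotient.mkₐ S q'.asIdeal)
  have hg : ∀ x, g x = g₀ q' x := fun x => rfl
  have hunit : ∀ y : p.asIdeal.primeCompl, IsUnit ((Algebra.ofId S (KK q')) y) := by
    intro y
    rw [isUnit_iff_ne_zero]
    change algebraMap S (KK q') y ≠ 0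
    rw [algebraMap_KK, Ne, g₀_eq_zero_iff]
    intro h
    have hy : (y : S) ∈ q'.asIdeal.comap (algebraMap S R) := h
    rw [hq'] at hy
    exact y.2 hy
  let f : Localization.AtPrime p.asIdeal →ₐ[S] KK q' :=
    IsLocalization.liftAlgHom (M := p.asIdeal.primeCompl) (f := Algebra.ofId S (KK q')) hunit
  let ψ : (Localization.AtPrime p.asIdeal ⊗[S] R) →ₐ[S] KK q' :=
    Algebra.TensorProduct.lift f g (fun _ _ => mul_comm _ _)
  refine ⟨ψ.toRingHom, ?_, ?_⟩
  · intro x
    change ψ (1 ⊗ₜ x) = 0 ↔ _
    rw [Algebra.TensorProduct.lift_tmul, map_one, one_mul, hg]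
    exact g₀_eq_zero_iff q' x
  · intro s
    change ψ (s ⊗ₜ 1) = 0 ↔ _
    rw [Algebra.TensorProduct.lift_tmul, map_one, mul_one]
    obtain ⟨a, b, rfl⟩ := IsLocalization.exists_mk'_eq p.asIdeal.primeCompl s
    rw [IsLocalization.AtPrime.mk'_mem_maximal_iff (Localization.AtPrime p.asIdeal) p.asIdeal a b]
    change IsLocalization.lift hunit (IsLocalization.mk' _ a b) = 0 ↔ _
    rw [IsLocalization.lift_mk'_spec, mul_zero]
    change algebraMap S (KK q') a = 0 ↔ _
    rw [algebraMap_KK, g₀_eq_zero_iff, ← hq']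
    rfl

end AtPrime


section Main

variable (p : PrimeSpectrum S)

lemma one_tmul_algebraMap (s : S) :
    ((1 : Localization.AtPrime p.asIdeal) ⊗ₜ[S] (algebraMap S R s)) =
      (algebraMap S (Localization.AtPrime p.asIdeal) s) ⊗ₜ[S] (1 : R) := by
  rw [Algebra.algebraMap_eq_smul_one s, Algebra.algebraMap_eq_smul_one s,
    TensorProduct.tmul_smul, TensorProduct.smul_tmul']

lemma algebraMap_T (s : Localization.AtPrime p.asIdeal) :
    algebraMap (Localization.AtPrime p.asIdeal) (Localization.AtPrime p.asIdeal ⊗[S] R) s =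
      s ⊗ₜ[S] (1 : R) := by
  rw [Algebra.TensorProduct.algebraMap_apply, Algebra.algebraMap_self, RingHom.id_apply]

include hlam hS in
/-- S15587 -/
theorem main87 :
    ¬ RInv.IsQuadEtale (Localization.AtPrime p.asIdeal) (Localization.AtPrime p.asIdeal ⊗[S] R) ↔
      ∃ q : PrimeSpectrum R, q.asIdeal.comap (algebraMap S R) = p.asIdeal ∧
        (∀ q' : PrimeSpectrum R, q'.asIdeal.comap (algebraMap S R) = p.asIdeal → q' = q) ∧
        ∀ r : R, lam r - r ∈ q.asIdeal := by
  have hLinv : Function.Involutive (lam' lam hS (Localization.AtPrime p.asIdeal)) :=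
    lam'_involutive lam hlam hS _
  have hLfix : RInv.IsFixedRing (Localization.AtPrime p.asIdeal)
      (Localization.AtPrime p.asIdeal ⊗[S] R) (lam' lam hS (Localization.AtPrime p.asIdeal)) :=
    isFixedRing' lam hlam hS _
  have hint : Algebra.IsIntegral (Localization.AtPrime p.asIdeal)
      (Localization.AtPrime p.asIdeal ⊗[S] R) :=
    isIntegral_of_isFixedRing _ hLinv hLfix
  constructor
  · intro hnq
    have hjac : ∀ t : Localization.AtPrime p.asIdeal ⊗[S] R,
        lam' lam hS (Localization.AtPrime p.asIdeal) t - t ∈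
          Ring.jacobson (Localization.AtPrime p.asIdeal ⊗[S] R) := by
      by_contra h
      push_neg at h
      exact hnq (Groth.Agent.S15576.result _ _ _ hLinv hLfix h)
    obtain ⟨hloc, -⟩ := Groth.Agent.S15577.result _ _ _ hLinv hLfix hjac
    have hcomapSp : (IsLocalRing.maximalIdeal (Localization.AtPrime p.asIdeal ⊗[S] R)).comap
        (algebraMap (Localization.AtPrime p.asIdeal) (Localization.AtPrime p.asIdeal ⊗[S] R)) =
        IsLocalRing.maximalIdeal (Localization.AtPrime p.asIdeal) := by
      have hmax := Ideal.isMaximal_comap_of_isIntegral_of_isMaximal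
        (R := Localization.AtPrime p.asIdeal)
        (IsLocalRing.maximalIdeal (Localization.AtPrime p.asIdeal ⊗[S] R))
      exact IsLocalRing.eq_maximalIdeal hmax
    have hmemSp : ∀ s : Localization.AtPrime p.asIdeal,
        s ⊗ₜ[S] (1 : R) ∈ IsLocalRing.maximalIdeal (Localization.AtPrime p.asIdeal ⊗[S] R) ↔
          s ∈ IsLocalRing.maximalIdeal (Localization.AtPrime p.asIdeal) := by
      intro s
      rw [← hcomapSp, Ideal.mem_comap, algebraMap_T]
    let ι : R →+* (Localization.AtPrime p.asIdeal ⊗[S] R) :=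
      (Algebra.TensorProduct.includeRight :
        R →ₐ[S] (Localization.AtPrime p.asIdeal ⊗[S] R)).toRingHom
    have hι : ∀ x : R, ι x = (1 : Localization.AtPrime p.asIdeal) ⊗ₜ[S] x := fun x => rfl
    let q : PrimeSpectrum R :=
      ⟨(IsLocalRing.maximalIdeal (Localization.AtPrime p.asIdeal ⊗[S] R)).comap ι,
        Ideal.comap_isPrime _ _⟩
    have hqmem : ∀ x : R, x ∈ q.asIdeal ↔ (1 : Localization.AtPrime p.asIdeal) ⊗ₜ[S] x ∈
        IsLocalRing.maximalIdeal (Localization.AtPrime p.asIdeal ⊗[S] R) := fun x => Iff.rfl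
    refine ⟨q, ?_, ?_, ?_⟩
    · ext s
      rw [Ideal.mem_comap, hqmem, one_tmul_algebraMap, hmemSp,
        IsLocalization.AtPrime.to_map_mem_maximal_iff (Localization.AtPrime p.asIdeal) p.asIdeal s]
    · intro q' hq'
      obtain ⟨ψ, hψ1, hψ2⟩ := exists_hom_to_field p q' hq'
      have hprime : (RingHom.ker ψ).IsPrime := RingHom.ker_isPrime ψ
      have hcomap : (RingHom.ker ψ).comap
          (algebraMap (Localization.AtPrime p.asIdeal) (Localization.AtPrime p.asIdeal ⊗[S] R)) =
          IsLocalRing.maximalIdeal (Localization.AtPrime p.asIdeal) := by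
        ext s
        rw [Ideal.mem_comap, RingHom.mem_ker, algebraMap_T, hψ2]
      have hmax : (RingHom.ker ψ).IsMaximal := by
        apply Ideal.isMaximal_of_isIntegral_of_isMaximal_comap
          (R := Localization.AtPrime p.asIdeal)
        rw [hcomap]
        exact IsLocalRing.maximalIdeal.isMaximal _
      have hker : RingHom.ker ψ =
          IsLocalRing.maximalIdeal (Localization.AtPrime p.asIdeal ⊗[S] R) :=
        IsLocalRing.eq_maximalIdeal hmax
      apply PrimeSpectrum.ext
      ext x
      rw [hqmem, ← hker, RingHom.mem_ker, hψ1]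
    · intro r
      rw [hqmem, TensorProduct.tmul_sub, ← lam'_tmul lam hS (Localization.AtPrime p.asIdeal),
        ← IsLocalRing.ringJacobson_eq_maximalIdeal]
      exact hjac _
  · rintro ⟨q, hq, -, htriv⟩ hQE
    haveI : IsLocalRing (Localization.AtPrime p.asIdeal) := inferInstance
    obtain ⟨t, ht⟩ := Groth.Agent.S15574.result _ _ _ hLinv hLfix hQE
    obtain ⟨ψ, hψ1, hψ2⟩ := exists_hom_to_field p q hq
    have hzero : ∀ t : Localization.AtPrime p.asIdeal ⊗[S] R,
        ψ (t - lam' lam hS (Localization.AtPrime p.asIdeal) t) = 0 := by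
      intro t
      induction t using TensorProduct.induction_on with
      | zero => rw [map_zero, sub_zero, map_zero]
      | tmul s x =>
        rw [lam'_tmul, ← TensorProduct.tmul_sub]
        have h1 : s ⊗ₜ[S] (x - lam x) =
            (s ⊗ₜ[S] (1 : R)) * ((1 : Localization.AtPrime p.asIdeal) ⊗ₜ[S] (x - lam x)) := by
          rw [Algebra.TensorProduct.tmul_mul_tmul, mul_one, one_mul]
        have h2 : ψ ((1 : Localization.AtPrime p.asIdeal) ⊗ₜ[S] (x - lam x)) = 0 := by
          rw [hψ1]
          have := htriv x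
          rw [← neg_sub] at this
          exact (Ideal.neg_mem_iff _).mp this
        rw [h1, map_mul, h2, mul_zero]
      | add a b ha hb =>
        have : a + b - lam' lam hS (Localization.AtPrime p.asIdeal) (a + b) =
            (a - lam' lam hS (Localization.AtPrime p.asIdeal) a) +
              (b - lam' lam hS (Localization.AtPrime p.asIdeal) b) := by
          rw [map_add]; ring
        rw [this, map_add, ha, hb, add_zero]
    have := ht.map ψ
    rw [hzero] at this
    exact not_isUnit_zero this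

end Main

end Groth.Agent.H77.Branch2
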