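import Mathlib
import Groth.Agent.H77.Branch2

/-!
# Branch locus of a ring with involution: the reduced preimage maps homeomorphically
-/

set_option autoImplicit false
universe u v

noncomputable section

namespace Groth.Agent.H77.Branch3

open scoped TensorProduct
open RInv Groth.Agent.H77.Branch Groth.Agent.H77.Branch2

variable {S : Type u} {R : Type v} [CommRing S] [CommRing R] [Algebra S R]
  (lam : R ≃+* R) (hlam : Function.Involutive lam) (hS : RInv.IsFixedRing S R lam)

include hlam hS in
/-- contraction of `rad(IR)` is `I` for radical `I` -/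
lemma comap_radical_map_le (I : Ideal S) (hI : I.IsRadical) :
    ((I.map (algebraMap S R)).radical).comap (algebraMap S R) ≤ I := by
  have hint : Algebra.IsIntegral S R := isIntegral_of_isFixedRing lam hlam hS
  intro s hs
  rw [Ideal.mem_comap] at hs
  rw [← hI.radical, Ideal.radical_eq_sInf, Ideal.mem_sInf]
  rintro p ⟨hIp, hp⟩
  obtain ⟨Q, -, hQ, hQp⟩ := Ideal.exists_ideal_over_prime_of_isIntegral p (⊥ : Ideal R)
    (by rw [Ideal.comap_bot_of_injective (algebraMap S R) hS.1]; exact bot_le)
  have h1 : I.map (algebraMap S R) ≤ Q := by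
    rw [Ideal.map_le_iff_le_comap, hQp]
    exact hIp
  have h2 : (I.map (algebraMap S R)).radical ≤ Q := hQ.radical_le_iff.mpr h1
  have h3 : algebraMap S R s ∈ Q := h2 hs
  rw [← hQp]
  exact h3

include hlam hS in
/-- if `lam ≡ id` mod `J ≤ Q2`, primes over comparable primes are comparable -/
lemma le_of_comap_le (J : Ideal R) (hJ : ∀ r : R, lam r - r ∈ J) (Q1 Q2 : Ideal R) [Q2.IsPrime]
    (h2 : J ≤ Q2) (h : Q1.comap (algebraMap S R) ≤ Q2.comap (algebraMap S R)) : Q1 ≤ Q2 := by
  intro x hx
  have hfix : lam (x * lam x) = x * lam x := by rw [map_mul, hlam x]; ring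
  obtain ⟨s, hs⟩ := (hS.2 _).mp hfix
  have hs1 : s ∈ Q1.comap (algebraMap S R) := by
    rw [Ideal.mem_comap, hs]
    exact Q1.mul_mem_right _ hx
  have hs2 : algebraMap S R s ∈ Q2 := h hs1
  rw [hs] at hs2
  rcases Ideal.IsPrime.mem_or_mem inferInstance hs2 with h' | h'
  · exact h'
  · have : x = lam x - (lam x - x) := by ring
    rw [this]
    exact Q2.sub_mem h' (h2 (hJ x))

include hlam hS in
/-- S15589 -/
theorem main89 (W : Set (PrimeSpectrum S))
    (hW : W = {p : PrimeSpectrum S | ¬ RInv.IsQuadEtale (Localization.AtPrime p.asIdeal)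
      (Localization.AtPrime p.asIdeal ⊗[S] R)})
    (J : Ideal R) (hJ : J = ((PrimeSpectrum.vanishingIdeal W).map (algebraMap S R)).radical)
    (hIJ : PrimeSpectrum.vanishingIdeal W ≤ J.comap (algebraMap S R)) :
    IsHomeomorph (PrimeSpectrum.comap (Ideal.quotientMap J (algebraMap S R) hIJ)) ∧
      (IsUnit (2 : S) → Function.Bijective (Ideal.quotientMap J (algebraMap S R) hIJ)) := by
  have hJmem : ∀ r : R, lam r - r ∈ J := by
    intro r
    rw [hJ]
    exact main88 lam hlam hS W hW r
  have hint : Algebra.IsIntegral S R := isIntegral_of_isFixedRing lam hlam hS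
  have hcomm : (Ideal.quotientMap J (algebraMap S R) hIJ).comp
      (Ideal.Quotient.mk (PrimeSpectrum.vanishingIdeal W)) =
      (Ideal.Quotient.mk J).comp (algebraMap S R) := Ideal.quotientMap_comp_mk hIJ
  have hφint : (Ideal.quotientMap J (algebraMap S R) hIJ).IsIntegral := by
    apply RingHom.IsIntegral.tower_top (Ideal.Quotient.mk (PrimeSpectrum.vanishingIdeal W))
    rw [hcomm]
    exact RingHom.IsIntegral.trans _ _ hint.isIntegral
      (RingHom.isIntegral_of_surjective _ Ideal.Quotient.mk_surjective)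
  have hφinj : Function.Injective (Ideal.quotientMap J (algebraMap S R) hIJ) := by
    apply Ideal.quotientMap_injective'
    rw [hJ]
    exact comap_radical_map_le lam hlam hS _ (PrimeSpectrum.isRadical_vanishingIdeal W)
  refine ⟨?_, ?_⟩
  · rw [isHomeomorph_iff_continuous_isClosedMap_bijective]
    refine ⟨PrimeSpectrum.continuous_comap _, PrimeSpectrum.isClosedMap_comap_of_isIntegral _ hφint,
      ?_, hφint.comap_surjective hφinj⟩
    intro Q1 Q2 h12
    -- pull back to `R`
    have hcm : ∀ Q : PrimeSpectrum (R ⧸ J),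
        (Q.asIdeal.comap (Ideal.Quotient.mk J)).comap (algebraMap S R) =
          ((PrimeSpectrum.comap (Ideal.quotientMap J (algebraMap S R) hIJ) Q).asIdeal).comap
            (Ideal.Quotient.mk (PrimeSpectrum.vanishingIdeal W)) := by
      intro Q
      rw [PrimeSpectrum.comap_asIdeal, Ideal.comap_comap, Ideal.comap_comap, hcomm]
    have hJle : ∀ Q : PrimeSpectrum (R ⧸ J), J ≤ Q.asIdeal.comap (Ideal.Quotient.mk J) := by
      intro Q x hx
      rw [Ideal.mem_comap, Ideal.Quotient.eq_zero_iff_mem.mpr hx]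
      exact Q.asIdeal.zero_mem
    have heq : (Q1.asIdeal.comap (Ideal.Quotient.mk J)).comap (algebraMap S R) =
        (Q2.asIdeal.comap (Ideal.Quotient.mk J)).comap (algebraMap S R) := by
      rw [hcm, hcm, h12]
    have hle12 : Q1.asIdeal.comap (Ideal.Quotient.mk J) ≤ Q2.asIdeal.comap (Ideal.Quotient.mk J) :=
      le_of_comap_le lam hlam hS J hJmem _ _ (hJle Q2) heq.le
    have hle21 : Q2.asIdeal.comap (Ideal.Quotient.mk J) ≤ Q1.asIdeal.comap (Ideal.Quotient.mk J) :=
      le_of_comap_le lam hlam hS J hJmem _ _ (hJle Q1) heq.ge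
    apply PrimeSpectrum.ext
    exact Ideal.comap_injective_of_surjective _ Ideal.Quotient.mk_surjective
      (le_antisymm hle12 hle21)
  · intro h2
    refine ⟨hφinj, ?_⟩
    intro y
    obtain ⟨r, rfl⟩ := Ideal.Quotient.mk_surjective y
    have hfix : lam (r + lam r) = r + lam r := by rw [map_add, hlam r]; ring
    obtain ⟨s, hs⟩ := (hS.2 _).mp hfix
    obtain ⟨u, hu⟩ := h2
    refine ⟨Ideal.Quotient.mk _ (s * ↑u⁻¹), ?_⟩
    rw [Ideal.quotientMap_mk, Ideal.Quotient.eq, map_mul, hs]
    have hu2 : algebraMap S R (↑u⁻¹ : S) * 2 = 1 := by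
      have : (↑u⁻¹ : S) * 2 = 1 := by rw [← hu]; exact u.inv_mul
      rw [← map_ofNat (algebraMap S R) 2, ← map_mul, this, map_one]
    have : (r + lam r) * algebraMap S R (↑u⁻¹ : S) - r =
        (lam r - r) * algebraMap S R (↑u⁻¹ : S) := by
      have e : r = r * (algebraMap S R (↑u⁻¹ : S) * 2) := by rw [hu2, mul_one]
      calc (r + lam r) * algebraMap S R (↑u⁻¹ : S) - r
          = (r + lam r) * algebraMap S R (↑u⁻¹ : S) - r * (algebraMap S R (↑u⁻¹ : S) * 2) := by
            rw [← e]
        _ = (lam r - r) * algebraMap S R (↑u⁻¹ : S) := by ring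
    rw [this]
    exact J.mul_mem_right _ (hJmem r)

end Groth.Agent.H77.Branch3
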