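import Groth.Agent.H77.PushColim
import Groth.Agent.H44.QCohEpi
import Groth.Agent.H44.FiniteSections
import Mathlib.CategoryTheory.Limits.ConcreteCategory.Basic
import Mathlib.Algebra.Category.Grp.FilteredColimits

set_option autoImplicit false
universe u
open CategoryTheory CategoryTheory.Limits AlgebraicGeometry Opposite TopologicalSpace
noncomputable section

namespace Groth.Agent.H77.ColimEpi

open Groth.Agent.H77.PushColim

variable {X : Scheme.{u}} {J : Type u} [SmallCategory J] [IsFiltered J]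

/-- sections of a filtered colimit of quasi-coherent modules over an affine open come from a stage -/
theorem exists_rep (D : J ⥤ X.Modules) (hD : ∀ j, (D.obj j).IsQuasicoherent) (c : Cocone D)
    (hc : IsColimit c) {W : X.Opens} (hW : IsAffineOpen W) (g : Γ(c.pt, W)) :
    ∃ (j : J) (y : Γ(D.obj j, W)), (c.ι.app j).app W y = g := by
  have hp : PreservesColimit D (secAb W) := preservesColimit_secAb hW D hD
  have hc' : IsColimit ((secAb W).mapCocone c) := isColimitOfPreserves (secAb W) hc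
  obtain ⟨j, y, hy⟩ := Concrete.isColimit_exists_rep (D ⋙ secAb W) hc' g
  exact ⟨j, y, hy⟩

theorem exists_finite_affine_cover [CompactSpace X] :
    ∃ t : Finset X.affineOpens, ∀ x : X, ∃ W ∈ t, x ∈ W.1 := by
  obtain ⟨t, ht⟩ := isCompact_univ.elim_finite_subcover (fun W : X.affineOpens => (W.1 : Set X))
    (fun W => W.1.isOpen) (fun x _ => by
      obtain ⟨_, ⟨W, hW, rfl⟩, hxW, -⟩ :=
        X.isBasis_affineOpens.exists_subset_of_mem_open (Set.mem_univ x) isOpen_univ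
      exact Set.mem_iUnion.mpr ⟨⟨W, hW⟩, hxW⟩)
  refine ⟨t, fun x => ?_⟩
  have := ht (Set.mem_univ x)
  simp only [Set.mem_iUnion, exists_prop] at this
  exact this


section Range

/-- the image of a morphism of modules on sections, as a submodule -/
def rangeSub {M N : X.Modules} (φ : M ⟶ N) (W : X.Opens) : Submodule Γ(X, W) Γ(N, W) where
  carrier := Set.range (φ.app W)
  add_mem' := by
    rintro _ _ ⟨a, rfl⟩ ⟨b, rfl⟩
    exact ⟨a + b, map_add (φ.app W).hom a b⟩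
  zero_mem' := ⟨0, map_zero (φ.app W).hom⟩
  smul_mem' := by
    rintro r _ ⟨a, rfl⟩
    exact ⟨r • a, Scheme.Modules.Hom.app_smul φ r a⟩

theorem mem_rangeSub {M N : X.Modules} (φ : M ⟶ N) (W : X.Opens) (x : Γ(N, W)) :
    x ∈ rangeSub φ W ↔ ∃ a, φ.app W a = x := Iff.rfl

theorem rangeSub_comp_le {M M' N : X.Modules} (ψ : M ⟶ M') (φ : M' ⟶ N) (W : X.Opens) :
    rangeSub (ψ ≫ φ) W ≤ rangeSub φ W := by
  rintro _ ⟨a, rfl⟩
  exact ⟨ψ.app W a, rfl⟩

end Range

section Main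

variable (D : J ⥤ X.Modules) (hD : ∀ j, (D.obj j).IsQuasicoherent) (c : Cocone D)
  (hc : IsColimit c) [c.pt.IsQuasicoherent] (F : X.Modules) [F.IsQuasicoherent] (u : c.pt ⟶ F)

include hD hc in
theorem exists_le_rangeSub [Epi u] {W : X.Opens} (hW : IsAffineOpen W)
    (N : Submodule Γ(X, W) Γ(F, W)) (hN : N.FG) :
    ∃ j₀ : J, ∀ j : J, Nonempty (j₀ ⟶ j) → N ≤ rangeSub (c.ι.app j ≫ u) W := by
  induction N, hN using Submodule.fg_induction with
  | singleton x =>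
    obtain ⟨g, rfl⟩ := Groth.Agent.H44.app_surjective_of_epi u hW x
    obtain ⟨j₁, y, rfl⟩ := exists_rep D hD c hc hW g
    refine ⟨j₁, fun j ⟨a⟩ => ?_⟩
    rw [Submodule.span_singleton_le_iff_mem]
    refine ⟨(D.map a).app W y, ?_⟩
    have h1 : D.map a ≫ c.ι.app j = c.ι.app j₁ := c.w a
    rw [← h1]
    rfl
  | sup N₁ N₂ _ _ h₁ h₂ =>
    obtain ⟨j₁, hj₁⟩ := h₁
    obtain ⟨j₂, hj₂⟩ := h₂
    refine ⟨IsFiltered.max j₁ j₂, fun j ⟨a⟩ => ?_⟩
    exact sup_le (hj₁ j ⟨IsFiltered.leftToMax j₁ j₂ ≫ a⟩) (hj₂ j ⟨IsFiltered.rightToMax j₁ j₂ ≫ a⟩)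

include hD hc in
theorem exists_surjective [Epi u] [SheafOfModules.IsFiniteType.{u} (R := X.ringCatSheaf) F]
    (t : Finset X.affineOpens) :
    ∃ j₀ : J, ∀ j : J, Nonempty (j₀ ⟶ j) → ∀ W ∈ t,
      Function.Surjective ((c.ι.app j ≫ u).app W.1) := by
  classical
  induction t using Finset.induction with
  | empty =>
    obtain ⟨j₀⟩ : Nonempty J := IsFiltered.nonempty
    exact ⟨j₀, fun _ _ W hW => absurd hW (Finset.notMem_empty W)⟩
  | insert W t _ ih =>
    obtain ⟨j₁, hj₁⟩ := ih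
    have hfin : Module.Finite Γ(X, W.1) Γ(F, W.1) :=
      Groth.Agent.H44.finite_sections_of_isFiniteType F W.2
    obtain ⟨j₂, hj₂⟩ := exists_le_rangeSub D hD c hc F u W.2 ⊤ hfin.fg_top
    refine ⟨IsFiltered.max j₁ j₂, fun j ⟨a⟩ W' hW' => ?_⟩
    rcases Finset.mem_insert.1 hW' with rfl | hW'
    · intro x
      exact hj₂ j ⟨IsFiltered.rightToMax j₁ j₂ ≫ a⟩ (Submodule.mem_top : x ∈ ⊤)
    · exact hj₁ j ⟨IsFiltered.leftToMax j₁ j₂ ≫ a⟩ W' hW'

include hD hc in
theorem epi_iff_eventually_epi [CompactSpace X]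
    [SheafOfModules.IsFiniteType.{u} (R := X.ringCatSheaf) F] :
    Epi u ↔ ∃ j₀ : J, ∀ j : J, Nonempty (j₀ ⟶ j) → Epi (c.ι.app j ≫ u) := by
  constructor
  · intro hu
    obtain ⟨t, ht⟩ := exists_finite_affine_cover (X := X)
    obtain ⟨j₀, hj₀⟩ := exists_surjective D hD c hc F u t
    refine ⟨j₀, fun j hj => ?_⟩
    have := hD j
    refine Groth.Agent.H44.epi_of_surjective_on_cover _ (fun W : t => W.1.1) ?_ (fun W => W.1.2)
      (fun W => hj₀ j hj W.1 W.2)
    intro x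
    obtain ⟨W, hW, hx⟩ := ht x
    exact ⟨⟨W, hW⟩, hx⟩
  · rintro ⟨j₀, h⟩
    have := h j₀ ⟨𝟙 _⟩
    exact epi_of_epi (c.ι.app j₀) u

end Main

end Groth.Agent.H77.ColimEpi
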