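import Mathlib

/-!
# Compactness characterisations of finite / finitely presented modules
-/

set_option autoImplicit false
universe u

namespace Groth.Agent.H77.Compact

open CategoryTheory CategoryTheory.Limits

noncomputable section

variable (R : Type u) [CommRing R] (N : Type u) [AddCommGroup N] [Module R N]

/-- finitely generated submodules -/
abbrev FGSub : Type u := {N' : Submodule R N // N'.FG}

instance : SemilatticeSup (FGSub R N) := Subtype.semilatticeSup (fun _ _ hx hy => hx.sup hy)

instance : Nonempty (FGSub R N) := ⟨⟨⊥, Submodule.fg_bot⟩⟩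

/-- the diagram of quotients `N ⧸ N'` -/
def quotDiagram : FGSub R N ⥤ ModuleCat.{u} R where
  obj N' := ModuleCat.of R (N ⧸ N'.1)
  map {X Y} f := ModuleCat.ofHom (Submodule.factor (leOfHom f))
  map_id X := by
    ext x
    rfl
  map_comp f g := by
    ext x
    rfl

/-- bottom element -/
def bot' : FGSub R N := ⟨⊥, Submodule.fg_bot⟩

/-- the quotient map to the bottom piece -/
def q₀ : ModuleCat.of R N ⟶ (quotDiagram R N).obj (bot' R N) :=
  ModuleCat.ofHom (Submodule.mkQ ⊥)

lemma q₀_comp_ι : q₀ R N ≫ colimit.ι (quotDiagram R N) (bot' R N) = 0 := by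
  ext n
  let k : FGSub R N := ⟨Submodule.span R {n}, Submodule.fg_span_singleton n⟩
  have hle : bot' R N ≤ k := bot_le (a := (k.1))
  have hw := colimit.w (quotDiagram R N) (homOfLE hle)
  rw [← hw]
  change (colimit.ι (quotDiagram R N) k).hom (Submodule.Quotient.mk n : N ⧸ k.1) = 0
  have : (Submodule.Quotient.mk n : N ⧸ k.1) = 0 := by
    rw [Submodule.Quotient.mk_eq_zero]
    exact Submodule.mem_span_singleton_self n
  rw [this]
  exact map_zero (colimit.ι (quotDiagram R N) k).hom

theorem finite_of_injective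
    (h : ∀ (J : Type u) [SmallCategory J] [IsFiltered J] (F : J ⥤ ModuleCat.{u} R),
      Function.Injective (colimit.post F (coyoneda.obj (Opposite.op (ModuleCat.of R N))))) :
    Module.Finite R N := by
  let F := quotDiagram R N
  let G := coyoneda.obj (Opposite.op (ModuleCat.of R N))
  have hinj := h (FGSub R N) F
  let x₀ : colimit (F ⋙ G) := colimit.ι (F ⋙ G) (bot' R N) (q₀ R N)
  let x₁ : colimit (F ⋙ G) := colimit.ι (F ⋙ G) (bot' R N) (0 : ModuleCat.of R N ⟶ F.obj (bot' R N))
  have h0 : colimit.post F G x₀ = colimit.post F G x₁ := by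
    have e := colimit.ι_post F G (bot' R N)
    have e0 := types_congr_hom e (q₀ R N)
    have e1 := types_congr_hom e (0 : ModuleCat.of R N ⟶ F.obj (bot' R N))
    rw [types_comp_apply] at e0 e1
    rw [e0, e1]
    change q₀ R N ≫ colimit.ι F (bot' R N) = 0 ≫ colimit.ι F (bot' R N)
    rw [q₀_comp_ι, zero_comp]
  have h1 : x₀ = x₁ := hinj h0
  obtain ⟨k, f, g, hk⟩ := (Types.FilteredColimit.colimit_eq_iff (F ⋙ G)).mp h1
  have hk' : q₀ R N ≫ F.map f = 0 := by
    have : q₀ R N ≫ F.map f = 0 ≫ F.map g := hk
    rw [this, zero_comp]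
  have htop : k.1 = ⊤ := by
    rw [eq_top_iff]
    intro n _
    have := congrArg (fun φ => φ.hom n) hk'
    change (Submodule.Quotient.mk n : N ⧸ k.1) = 0 at this
    exact (Submodule.Quotient.mk_eq_zero _).mp this
  exact ⟨htop ▸ k.2⟩

end

end Groth.Agent.H77.Compact
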