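import Mathlib

/-!
# Every module is a direct limit of finitely presented modules
-/

set_option autoImplicit false
universe u

namespace Groth.Agent.H77.FPLim

open Module

noncomputable section

variable {R : Type u} [CommRing R] {M : Type u} [AddCommGroup M] [Module R M]
variable {F : Type u} [AddCommGroup F] [Module R F] (π : F →ₗ[R] M)
variable {κ : Type u} (supp : Finset κ → Submodule R F)

/-- index type: finite subset of generators + finitely generated submodule of relations -/
structure Idx where
  s : Finset κ
  N : Submodule R F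
  fg : N.FG
  le_ker : N ≤ LinearMap.ker π
  le_supp : N ≤ supp s

variable {π supp}

instance : Preorder (Idx π supp) := Preorder.lift (fun a => (a.s, a.N))

instance : Nonempty (Idx π supp) := ⟨⟨∅, ⊥, Submodule.fg_bot, bot_le, bot_le⟩⟩

lemma isDirected (hmono : Monotone supp) : IsDirected (Idx π supp) (· ≤ ·) where
  directed a b := by
    classical
    refine ⟨⟨a.s ∪ b.s, a.N ⊔ b.N, a.fg.sup b.fg, sup_le a.le_ker b.le_ker, ?_⟩, ?_, ?_⟩
    · exact sup_le (a.le_supp.trans (hmono Finset.subset_union_left))
        (b.le_supp.trans (hmono Finset.subset_union_right))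
    · exact ⟨Finset.subset_union_left, le_sup_left⟩
    · exact ⟨Finset.subset_union_right, le_sup_right⟩

/-- relations as a submodule of `supp a.s` -/
abbrev N' (a : Idx π supp) : Submodule R (supp a.s) := (a.N).comap (supp a.s).subtype

/-- the finitely presented pieces -/
abbrev G (a : Idx π supp) : Type u := (supp a.s) ⧸ (N' a)

variable (hmono : Monotone supp)

/-- transition maps -/
def f (a b : Idx π supp) (h : a ≤ b) : G a →ₗ[R] G b :=
  Submodule.mapQ (N' a) (N' b) (Submodule.inclusion (hmono h.1)) (by
    intro x hx
    exact h.2 hx)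

lemma f_mk {a b : Idx π supp} (h : a ≤ b) (x : supp a.s) :
    f hmono a b h (Submodule.Quotient.mk x) =
      Submodule.Quotient.mk (Submodule.inclusion (hmono h.1) x) :=
  rfl

lemma directedSystem :
    DirectedSystem (G (π := π) (supp := supp)) (fun i j h => f hmono i j h) where
  map_self i x := by
    induction x using Submodule.Quotient.induction_on with
    | H x => rfl
  map_map i j k hij hjk x := by
    induction x using Submodule.Quotient.induction_on with
    | H x => rfl

lemma finitePresentation (hfp : ∀ s, Module.FinitePresentation R (supp s)) (a : Idx π supp) :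
    Module.FinitePresentation R (G a) := by
  have := hfp a.s
  refine Module.finitePresentation_of_surjective (N' a).mkQ (Submodule.mkQ_surjective _) ?_
  rw [Submodule.ker_mkQ]
  refine Submodule.fg_of_fg_map_injective (supp a.s).subtype (supp a.s).injective_subtype ?_
  rw [Submodule.map_comap_eq, Submodule.range_subtype, inf_eq_right.mpr a.le_supp]
  exact a.fg

/-- the maps to `M` -/
def g (a : Idx π supp) : G a →ₗ[R] M :=
  Submodule.liftQ (N' a) (π ∘ₗ (supp a.s).subtype) (by
    intro x hx
    exact a.le_ker hx)

lemma g_mk (a : Idx π supp) (x : supp a.s) : g a (Submodule.Quotient.mk x) = π (x : F) := rfl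

lemma g_f {a b : Idx π supp} (h : a ≤ b) (x : G a) : g b (f hmono a b h x) = g a x := by
  induction x using Submodule.Quotient.induction_on with
  | H x => rfl

open Classical in
/-- the comparison map -/
def toM : Module.DirectLimit (G (π := π) (supp := supp)) (f hmono) →ₗ[R] M :=
  Module.DirectLimit.lift R (Idx π supp) G (f hmono) g (fun _ _ h x => g_f hmono h x)

open Classical in
lemma toM_surjective (hπ : Function.Surjective π) (hcov : ∀ x : F, ∃ s, x ∈ supp s) :
    Function.Surjective (toM (π := π) hmono) := by
  intro m
  obtain ⟨x, rfl⟩ := hπ m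
  obtain ⟨s, hs⟩ := hcov x
  let a : Idx π supp := ⟨s, ⊥, Submodule.fg_bot, bot_le, bot_le⟩
  refine ⟨Module.DirectLimit.of R (Idx π supp) G (f hmono) a (Submodule.Quotient.mk ⟨x, hs⟩), ?_⟩
  rw [toM, Module.DirectLimit.lift_of, g_mk]

open Classical in
lemma toM_injective : Function.Injective (toM (π := π) hmono) := by
  have := isDirected (π := π) hmono
  rw [injective_iff_map_eq_zero]
  intro z hz
  obtain ⟨a, x, rfl⟩ := Module.DirectLimit.exists_of z
  obtain ⟨y, rfl⟩ := Submodule.Quotient.mk_surjective _ x
  rw [toM, Module.DirectLimit.lift_of, g_mk] at hz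
  let b : Idx π supp := ⟨a.s, a.N ⊔ Submodule.span R {(y : F)},
    a.fg.sup (Submodule.fg_span_singleton _),
    sup_le a.le_ker (by
      rw [Submodule.span_singleton_le_iff_mem]
      exact hz),
    sup_le a.le_supp (by
      rw [Submodule.span_singleton_le_iff_mem]
      exact y.2)⟩
  have hab : a ≤ b := ⟨le_refl _, le_sup_left⟩
  rw [← Module.DirectLimit.of_f (hij := hab), f_mk]
  have : (Submodule.Quotient.mk (Submodule.inclusion (hmono hab.1) y) : G b) = 0 := by
    rw [Submodule.Quotient.mk_eq_zero]
    change (y : F) ∈ a.N ⊔ Submodule.span R {(y : F)}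
    exact Submodule.mem_sup_right (Submodule.mem_span_singleton_self _)
  rw [this, map_zero]

include hmono in
theorem main_aux (hπ : Function.Surjective π) (hcov : ∀ x : F, ∃ s, x ∈ supp s)
    (hfp : ∀ s, Module.FinitePresentation R (supp s)) :
    ∃ (ι : Type u) (_ : Preorder ι) (_ : IsDirected ι (· ≤ ·)) (_ : Nonempty ι)
      (_ : DecidableEq ι) (G : ι → Type u) (_ : ∀ i, AddCommGroup (G i))
      (_ : ∀ i, Module R (G i)) (f : ∀ i j, i ≤ j → G i →ₗ[R] G j)
      (_ : DirectedSystem G fun i j h => f i j h),
      (∀ i, Module.FinitePresentation R (G i)) ∧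
        Nonempty (Module.DirectLimit G f ≃ₗ[R] M) := by
  classical
  exact ⟨Idx π supp, inferInstance, isDirected hmono, inferInstance, inferInstance, G,
    inferInstance, inferInstance, f hmono, directedSystem hmono, finitePresentation hfp,
    ⟨LinearEquiv.ofBijective (toM hmono) ⟨toM_injective hmono, toM_surjective hmono hπ hcov⟩⟩⟩

lemma fp_of_equiv {S : Submodule R F} {σ : Type u} [Finite σ] (e : S ≃ₗ[R] (σ →₀ R)) :
    Module.FinitePresentation R S :=
  @Module.FinitePresentation.of_equiv R (σ →₀ R) S _ _ _ _ _ e.symm inferInstance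

end

theorem main28 (R : Type u) [CommRing R] (M : Type u) [AddCommGroup M] [Module R M] :
    ∃ (ι : Type u) (_ : Preorder ι) (_ : IsDirected ι (· ≤ ·)) (_ : Nonempty ι)
      (_ : DecidableEq ι) (G : ι → Type u) (_ : ∀ i, AddCommGroup (G i))
      (_ : ∀ i, Module R (G i)) (f : ∀ i j, i ≤ j → G i →ₗ[R] G j)
      (_ : DirectedSystem G fun i j h => f i j h),
      (∀ i, Module.FinitePresentation R (G i)) ∧
        Nonempty (Module.DirectLimit G f ≃ₗ[R] M) := by
  classical
  let π : (M →₀ R) →ₗ[R] M := Finsupp.linearCombination R (id : M → M)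
  let supp : Finset M → Submodule R (M →₀ R) := fun s => Finsupp.supported R R (s : Set M)
  have hmono : Monotone supp := fun s t h =>
    Finsupp.supported_mono (Finset.coe_subset.mpr h)
  have hπ : Function.Surjective π := by
    intro m
    exact ⟨Finsupp.single m 1, by simp [π]⟩
  have hcov : ∀ x : M →₀ R, ∃ s, x ∈ supp s := fun x =>
    ⟨x.support, by
      change x ∈ Finsupp.supported R R (x.support : Set M)
      rw [Finsupp.mem_supported]⟩
  refine main_aux (π := π) (supp := supp) hmono hπ hcov ?_
  intro s
  have : Finite (s : Set M) := s.finite_toSet.to_subtype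
  exact fp_of_equiv (Finsupp.supportedEquivFinsupp (s : Set M))

end Groth.Agent.H77.FPLim
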