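import Mathlib
import Groth.Agent.H77.FPLim

/-!
# Compactness characterisation of finitely presented modules
-/

set_option autoImplicit false
universe u

namespace Groth.Agent.H77.CompactFP

open CategoryTheory CategoryTheory.Limits
open Groth.Agent.H77.FPLim

lemma fp_of_retract {R : Type u} [CommRing R] {P N : Type u} [AddCommGroup P] [Module R P]
    [AddCommGroup N] [Module R N] [Module.FinitePresentation R P]
    (φ : N →ₗ[R] P) (p : P →ₗ[R] N) (h : ∀ n, p (φ n) = n) : Module.FinitePresentation R N := by
  refine Module.finitePresentation_of_surjective p (fun n => ⟨φ n, h n⟩) ?_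
  have hker : LinearMap.ker p = LinearMap.range (LinearMap.id - φ ∘ₗ p) := by
    ext x
    rw [LinearMap.mem_ker, LinearMap.mem_range]
    constructor
    · intro hx
      exact ⟨x, by simp [hx]⟩
    · rintro ⟨y, rfl⟩
      simp [h]
  rw [hker, LinearMap.range_eq_map]
  exact Module.Finite.fg_top.map _

noncomputable section

variable {R : Type u} [CommRing R] {M : Type u} [AddCommGroup M] [Module R M]
variable {F : Type u} [AddCommGroup F] [Module R F] {π : F →ₗ[R] M}
variable {κ : Type u} {supp : Finset κ → Submodule R F} (hmono : Monotone supp)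

/-- the diagram of finitely presented modules -/
def diagram : Idx π supp ⥤ ModuleCat.{u} R where
  obj a := ModuleCat.of R (G a)
  map {a b} h := ModuleCat.ofHom (f hmono a b (leOfHom h))
  map_id a := by
    ext x
    rfl
  map_comp h h' := by
    ext x
    rfl

lemma diagram_map_apply {a b : Idx π supp} (h : a ⟶ b) (x : G a) :
    ((diagram (π := π) hmono).map h).hom x = f hmono a b (leOfHom h) x := rfl

/-- the cocone with point `M` -/
def cocone : Cocone (diagram (π := π) hmono) where
  pt := ModuleCat.of R M
  ι :=
    { app a := ModuleCat.ofHom (g a)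
      naturality a b h := by
        ext x
        change g b (f hmono a b (leOfHom h) x) = g a x
        exact g_f hmono _ x }

variable (hπ : Function.Surjective π) (hcov : ∀ x : F, ∃ s, x ∈ supp s)

open Classical in
/-- the comparison equivalence -/
def toMEquiv : Module.DirectLimit (G (π := π) (supp := supp)) (f hmono) ≃ₗ[R] M :=
  LinearEquiv.ofBijective (toM hmono) ⟨toM_injective hmono, toM_surjective hmono hπ hcov⟩

open Classical in
lemma toMEquiv_of (a : Idx π supp) (x : G a) :
    toMEquiv hmono hπ hcov (Module.DirectLimit.of R (Idx π supp) G (f hmono) a x) = g a x := by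
  change toM hmono _ = _
  rw [toM, Module.DirectLimit.lift_of]

/-- legs of a cocone as linear maps -/
def leg (s : Cocone (diagram (π := π) hmono)) (a : Idx π supp) : G a →ₗ[R] s.pt :=
  (s.ι.app a).hom

lemma leg_f (s : Cocone (diagram (π := π) hmono)) (a b : Idx π supp) (h : a ≤ b) (x : G a) :
    leg hmono s b (f hmono a b h x) = leg hmono s a x := by
  have := s.w (homOfLE h)
  exact congrArg (fun φ => φ.hom x) this

open Classical in
/-- the descent map out of the direct limit -/
def descDL (s : Cocone (diagram (π := π) hmono)) :
    Module.DirectLimit (G (π := π) (supp := supp)) (f hmono) →ₗ[R] s.pt :=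
  Module.DirectLimit.lift R (Idx π supp) G (f hmono) (leg hmono s) (leg_f hmono s)

open Classical in
lemma descDL_of (s : Cocone (diagram (π := π) hmono)) (a : Idx π supp) (x : G a) :
    descDL hmono s (Module.DirectLimit.of R (Idx π supp) G (f hmono) a x) = leg hmono s a x := by
  rw [descDL, Module.DirectLimit.lift_of]

/-- the descent map out of `M` -/
def descLin (s : Cocone (diagram (π := π) hmono)) : M →ₗ[R] s.pt :=
  descDL hmono s ∘ₗ (toMEquiv hmono hπ hcov).symm.toLinearMap

open Classical in
lemma descLin_g (s : Cocone (diagram (π := π) hmono)) (a : Idx π supp) (x : G a) :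
    descLin hmono hπ hcov s (g a x) = leg hmono s a x := by
  rw [descLin, LinearMap.comp_apply, ← toMEquiv_of hmono hπ hcov a x]
  change descDL hmono s ((toMEquiv hmono hπ hcov).symm (toMEquiv hmono hπ hcov _)) = _
  rw [LinearEquiv.symm_apply_apply, descDL_of]

open Classical in
lemma descLin_uniq (s : Cocone (diagram (π := π) hmono)) (m : M →ₗ[R] s.pt)
    (hm : ∀ a (x : G a), m (g a x) = leg hmono s a x) : m = descLin hmono hπ hcov s := by
  have := isDirected (π := π) hmono
  ext x
  obtain ⟨z, rfl⟩ := (toMEquiv hmono hπ hcov).surjective x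
  induction z using Module.DirectLimit.induction_on with
  | ih a y =>
    rw [toMEquiv_of, hm, descLin_g]

/-- the cocone is colimiting -/
def isColimit : IsColimit (cocone (π := π) hmono) where
  desc s := ModuleCat.ofHom (descLin hmono hπ hcov s)
  fac s a := by
    ext x
    exact descLin_g hmono hπ hcov s a x
  uniq s m hm := by
    apply ModuleCat.hom_ext
    exact descLin_uniq hmono hπ hcov s m.hom
      (fun a x => congrArg (fun φ => φ.hom x) (hm a))

include hmono hπ hcov in
theorem fp_of_bijective_aux (hfp : ∀ s, Module.FinitePresentation R (supp s))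
    (h : ∀ (J : Type u) [SmallCategory J] [IsFiltered J] (F : J ⥤ ModuleCat.{u} R),
      Function.Surjective (colimit.post F (coyoneda.obj (Opposite.op (ModuleCat.of R M))))) :
    Module.FinitePresentation R M := by
  have hdir := isDirected (π := π) hmono
  let D := diagram (π := π) hmono
  let Gc := coyoneda.obj (Opposite.op (ModuleCat.of R M))
  let e : colimit D ≅ ModuleCat.of R M :=
    colimit.isoColimitCocone ⟨cocone hmono, isColimit hmono hπ hcov⟩
  obtain ⟨y, hy⟩ := h (Idx π supp) D e.inv
  obtain ⟨a, φ, rfl⟩ := Types.jointly_surjective' y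
  have e0 := types_congr_hom (colimit.ι_post D Gc a) φ
  rw [types_comp_apply] at e0
  have hφ : φ ≫ colimit.ι D a = e.inv := by
    rw [← hy, e0]
    rfl
  have hret : φ ≫ ModuleCat.ofHom (g a) = 𝟙 _ := by
    have h1 : colimit.ι D a ≫ e.hom = ModuleCat.ofHom (g a) :=
      colimit.isoColimitCocone_ι_hom ⟨cocone hmono, isColimit hmono hπ hcov⟩ a
    rw [← h1, ← Category.assoc, hφ, Iso.inv_hom_id]
  have hfpa := finitePresentation hfp a
  exact @fp_of_retract R _ (G a) M _ _ _ _ hfpa φ.hom (g a)
    (fun n => congrArg (fun ψ => ψ.hom n) hret)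

end

theorem fp_of_bijective (R : Type u) [CommRing R] (N : Type u) [AddCommGroup N] [Module R N]
    (h : ∀ (J : Type u) [SmallCategory J] [IsFiltered J] (F : J ⥤ ModuleCat.{u} R),
      Function.Bijective (colimit.post F (coyoneda.obj (Opposite.op (ModuleCat.of R N))))) :
    Module.FinitePresentation R N := by
  classical
  let π : (N →₀ R) →ₗ[R] N := Finsupp.linearCombination R (id : N → N)
  let supp : Finset N → Submodule R (N →₀ R) := fun s => Finsupp.supported R R (s : Set N)
  have hmono : Monotone supp := fun s t h =>
    Finsupp.supported_mono (Finset.coe_subset.mpr h)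
  have hπ : Function.Surjective π := by
    intro m
    exact ⟨Finsupp.single m 1, by simp [π]⟩
  have hcov : ∀ x : N →₀ R, ∃ s, x ∈ supp s := fun x =>
    ⟨x.support, by
      change x ∈ Finsupp.supported R R (x.support : Set N)
      rw [Finsupp.mem_supported]⟩
  refine fp_of_bijective_aux (π := π) (supp := supp) hmono hπ hcov ?_ (fun J _ _ F => (h J F).2)
  intro s
  have : Finite (s : Set N) := s.finite_toSet.to_subtype
  exact fp_of_equiv (Finsupp.supportedEquivFinsupp (s : Set N))

end Groth.Agent.H77.CompactFP
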