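import Mathlib

/-!
# Comparison theorem for a complex of projectives mapping to a resolution
(no projectivity assumption on the target, no exactness assumption on the source)
-/

set_option autoImplicit false
universe v u

namespace Groth.Agent.H77.Compare

open CategoryTheory CategoryTheory.Limits CategoryTheory.Category

noncomputable section

variable {C : Type u} [Category.{v} C] [Abelian C]
variable {Y Z : C} (f : Y ⟶ Z) (P Q : ChainComplex C ℕ)
  (εP : P ⟶ (ChainComplex.single₀ C).obj Y) (εQ : Q ⟶ (ChainComplex.single₀ C).obj Z)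

@[reassoc (attr := simp)]
lemma d_comp_ε : Q.d 1 0 ≫ εQ.f 0 = 0 := by
  rw [← εQ.comm 1 0, HomologicalComplex.single_obj_d, comp_zero]

lemma ε_f_succ (n : ℕ) : εQ.f (n + 1) = 0 :=
  (HomologicalComplex.isZero_single_obj_X _ _ _ _ (by simp)).eq_of_tgt _ _

variable [QuasiIso εQ]

set_option backward.defeqAttrib.useBackward true in
set_option backward.isDefEq.respectTransparency false in
lemma exact₀_epi : (ShortComplex.mk (Q.d 1 0) (εQ.f 0) (d_comp_ε Q εQ)).Exact ∧ Epi (εQ.f 0) := by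
  have h : QuasiIsoAt εQ 0 := inferInstance
  rw [ChainComplex.quasiIsoAt₀_iff,
    ShortComplex.quasiIso_iff_of_zeros' _ (by simp) (by simp) (by simp)] at h
  exact h

lemma exact₀ : (ShortComplex.mk (Q.d 1 0) (εQ.f 0) (d_comp_ε Q εQ)).Exact := (exact₀_epi Q εQ).1

lemma epi₀ : Epi (εQ.f 0) := (exact₀_epi Q εQ).2

include εQ in
lemma exact_succ (n : ℕ) : (ShortComplex.mk _ _ (Q.d_comp_d (n + 2) (n + 1) n)).Exact := by
  have h : Q.ExactAt (n + 1) := by
    rw [← quasiIsoAt_iff_exactAt' εQ (n + 1) (ChainComplex.exactAt_succ_single_obj _ _)]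
    infer_instance
  exact ((HomologicalComplex.exactAt_iff' _ (n + 2) (n + 1) n)
    (by simp only [ChainComplex.prev]; rfl) (by simp)).1 h

variable [∀ n, Projective (P.X n)]

set_option backward.isDefEq.respectTransparency false in
/-- degree zero of the lift -/
def liftFZero : P.X 0 ⟶ Q.X 0 :=
  haveI := epi₀ Q εQ
  Projective.factorThru (εP.f 0 ≫ f) (εQ.f 0)

set_option backward.isDefEq.respectTransparency false in
lemma liftFZero_comp : liftFZero f P Q εP εQ ≫ εQ.f 0 = εP.f 0 ≫ f := by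
  have := epi₀ Q εQ
  exact Projective.factorThru_comp _ _

set_option backward.isDefEq.respectTransparency false in
/-- degree one of the lift -/
def liftFOne : P.X 1 ⟶ Q.X 1 :=
  (exact₀ Q εQ).liftFromProjective (P.d 1 0 ≫ liftFZero f P Q εP εQ) (by
    dsimp
    rw [assoc, liftFZero_comp, ← assoc, d_comp_ε, zero_comp])

lemma liftFOne_zero_comm :
    liftFOne f P Q εP εQ ≫ Q.d 1 0 = P.d 1 0 ≫ liftFZero f P Q εP εQ := by
  apply (exact₀ Q εQ).liftFromProjective_comp

/-- inductive step of the lift -/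
def liftFSucc (n : ℕ) (g : P.X n ⟶ Q.X n) (g' : P.X (n + 1) ⟶ Q.X (n + 1))
    (w : g' ≫ Q.d (n + 1) n = P.d (n + 1) n ≫ g) :
    Σ' g'' : P.X (n + 2) ⟶ Q.X (n + 2), g'' ≫ Q.d (n + 2) (n + 1) = P.d (n + 2) (n + 1) ≫ g' :=
  ⟨(exact_succ Q εQ n).liftFromProjective (P.d (n + 2) (n + 1) ≫ g') (by simp [w]),
    (exact_succ Q εQ n).liftFromProjective_comp _ _⟩

/-- the lift -/
def lift : P ⟶ Q :=
  ChainComplex.mkHom _ _ (liftFZero f P Q εP εQ) (liftFOne f P Q εP εQ)
    (liftFOne_zero_comm f P Q εP εQ)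
    fun n ⟨g, g', w⟩ => ⟨(liftFSucc P Q εQ n g g' w).1, (liftFSucc P Q εQ n g g' w).2⟩

set_option backward.isDefEq.respectTransparency.types false in
theorem lift_commutes : lift f P Q εP εQ ≫ εQ = εP ≫ (ChainComplex.single₀ C).map f := by
  ext
  simp [lift]
  exact liftFZero_comp f P Q εP εQ

section Homotopy

variable {P Q}
variable (φ : P ⟶ Q) (comm : φ ≫ εQ = 0)

/-- An auxiliary definition for `liftHomotopyZero`. -/
def liftHomotopyZeroZero : P.X 0 ⟶ Q.X 1 :=
  (exact₀ Q εQ).liftFromProjective (φ.f 0)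
    (congr_fun (congr_arg HomologicalComplex.Hom.f comm) 0)

@[reassoc (attr := simp)]
lemma liftHomotopyZeroZero_comp :
    liftHomotopyZeroZero εQ φ comm ≫ Q.d 1 0 = φ.f 0 :=
  (exact₀ Q εQ).liftFromProjective_comp _ _

/-- An auxiliary definition for `liftHomotopyZero`. -/
def liftHomotopyZeroOne : P.X 1 ⟶ Q.X 2 :=
  (exact_succ Q εQ 0).liftFromProjective (φ.f 1 - P.d 1 0 ≫ liftHomotopyZeroZero εQ φ comm)
    (by rw [Preadditive.sub_comp, assoc, HomologicalComplex.Hom.comm,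
              liftHomotopyZeroZero_comp, sub_self])

@[reassoc (attr := simp)]
lemma liftHomotopyZeroOne_comp :
    liftHomotopyZeroOne εQ φ comm ≫ Q.d 2 1 =
      φ.f 1 - P.d 1 0 ≫ liftHomotopyZeroZero εQ φ comm :=
  (exact_succ Q εQ 0).liftFromProjective_comp _ _

/-- An auxiliary definition for `liftHomotopyZero`. -/
def liftHomotopyZeroSucc (n : ℕ) (g : P.X n ⟶ Q.X (n + 1))
    (g' : P.X (n + 1) ⟶ Q.X (n + 2))
    (w : φ.f (n + 1) = P.d (n + 1) n ≫ g + g' ≫ Q.d (n + 2) (n + 1)) :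
    P.X (n + 2) ⟶ Q.X (n + 3) :=
  (exact_succ Q εQ (n + 1)).liftFromProjective (φ.f (n + 2) - P.d _ _ ≫ g') (by simp [w])

@[reassoc (attr := simp)]
lemma liftHomotopyZeroSucc_comp (n : ℕ) (g : P.X n ⟶ Q.X (n + 1))
    (g' : P.X (n + 1) ⟶ Q.X (n + 2))
    (w : φ.f (n + 1) = P.d (n + 1) n ≫ g + g' ≫ Q.d (n + 2) (n + 1)) :
    liftHomotopyZeroSucc εQ φ n g g' w ≫ Q.d (n + 3) (n + 2) =
      φ.f (n + 2) - P.d _ _ ≫ g' :=
  (exact_succ Q εQ (n + 1)).liftFromProjective_comp _ _

/-- Any lift of the zero morphism is homotopic to zero. -/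
def liftHomotopyZero : Homotopy φ 0 :=
  Homotopy.mkInductive _ (liftHomotopyZeroZero εQ φ comm) (by simp)
    (liftHomotopyZeroOne εQ φ comm) (by simp) fun n ⟨g, g', w⟩ =>
    ⟨liftHomotopyZeroSucc εQ φ n g g' w, by simp⟩

/-- Two lifts of the same morphism are homotopic. -/
def liftHomotopy (g h : P ⟶ Q) (g_comm : g ≫ εQ = εP ≫ (ChainComplex.single₀ C).map f)
    (h_comm : h ≫ εQ = εP ≫ (ChainComplex.single₀ C).map f) : Homotopy g h :=
  Homotopy.equivSubZero.invFun (liftHomotopyZero εQ _ (by simp [g_comm, h_comm]))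

end Homotopy

end

end Groth.Agent.H77.Compare
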