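import Mathlib

set_option autoImplicit false
open Polynomial

namespace Groth.Agent.H77

theorem rev_one' : reverse (1 : ℂ[X]) = 1 := by
  rw [← C_1, reverse_C]
theorem rev_X' : reverse (X : ℂ[X]) = 1 := by
  have := reverse_X_mul (1 : ℂ[X])
  rwa [mul_one, rev_one'] at this

theorem key25 (s : Multiset ℂ) (hs : ∀ z ∈ s, ‖z‖ = 1) :
    reverse ((s.map (fun z => X - C z)).prod) =
      (-1) ^ (Multiset.card s) * C (s.prod) *
        ((s.map (fun z => X - C ((starRingEnd ℂ) z))).prod) := by
  induction s using Multiset.induction with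
  | empty => simp [rev_one']
  | cons z t ih =>
    have hz : ‖z‖ = 1 := hs z (Multiset.mem_cons_self z t)
    have ht := ih (fun w hw => hs w (Multiset.mem_cons_of_mem hw))
    rw [Multiset.map_cons, Multiset.prod_cons, reverse_mul_of_domain, ht, Multiset.map_cons,
      Multiset.prod_cons, Multiset.prod_cons, Multiset.card_cons]
    have hzz : z * (starRingEnd ℂ) z = 1 := by
      rw [Complex.mul_conj, Complex.normSq_eq_norm_sq, hz]; simp
    have hrev : reverse (X - C z) = -(C z) * (X - C ((starRingEnd ℂ) z)) := by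
      have : (X - C z : ℂ[X]) = X + C (-z) := by rw [C_neg]; ring
      rw [this, reverse_add_C]
      simp only [rev_X', natDegree_X, pow_one]
      have : (C z * C ((starRingEnd ℂ) z) : ℂ[X]) = 1 := by rw [← C_mul, hzz, C_1]
      rw [C_neg]
      linear_combination (-1 : ℂ[X]) * this
    rw [hrev, C_mul]
    ring

theorem main25 (L : Type*) [Field L] (ι : L →+* ℂ)
    {r : ℕ} (M : Matrix (Fin r) (Fin r) L)
    (hM : ∀ z ∈ ((Matrix.charpoly M).map ι).roots, ‖z‖ = 1) (n : ℕ) :
    (ι ((Matrix.fromBlocks M 0 0 (M⁻¹).transpose).charpoly.coeff n)).im = 0 := by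
  classical
  have h1 : (Matrix.fromBlocks M 0 0 (M⁻¹).transpose).charpoly = M.charpoly * (M⁻¹).charpoly := by
    rw [Matrix.charpoly_fromBlocks_zero₁₂, Matrix.charpoly_transpose]
  set P : ℂ[X] := M.charpoly.map ι with hP
  have hPmonic : P.Monic := (Matrix.charpoly_monic M).map ι
  have hdet : M.det ≠ 0 := by
    intro h0
    have hc0 : M.charpoly.coeff 0 = 0 := by
      have := Matrix.det_eq_sign_charpoly_coeff M
      rw [h0] at this
      have hu : ((-1 : L) ^ Fintype.card (Fin r)) ≠ 0 := pow_ne_zero _ (by norm_num)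
      exact (mul_eq_zero.mp this.symm).resolve_left hu
    have hroot : (0 : ℂ) ∈ P.roots := by
      rw [mem_roots hPmonic.ne_zero, IsRoot, ← coeff_zero_eq_eval_zero, hP, coeff_map, hc0,
        map_zero]
    have := hM 0 hroot
    simp at this
  have hunit : IsUnit M := by
    rw [Matrix.isUnit_iff_isUnit_det]
    exact isUnit_iff_ne_zero.mpr hdet
  have hinv := Matrix.charpoly_inv M hunit
  rw [← Matrix.reverse_charpoly] at hinv
  -- map to ℂ
  have hrevmap : (M.charpoly.reverse).map ι = P.reverse := by
    rw [hP, reverse, reverse, natDegree_map, reflect_map]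
  set Q : ℂ[X] := (M⁻¹).charpoly.map ι with hQ
  have hQmonic : Q.Monic := (Matrix.charpoly_monic _).map ι
  have hsplit : P.Splits := IsAlgClosed.splits P
  have hPprod : P = (P.roots.map (fun z => X - C z)).prod := by
    have := hsplit.eq_prod_roots_of_monic hPmonic
    exact this
  have hkey := key25 P.roots hM
  rw [← hPprod] at hkey
  have hconj : (P.roots.map (fun z => X - C ((starRingEnd ℂ) z))).prod = P.map (starRingEnd ℂ) := by
    conv_rhs => rw [hPprod]
    rw [Polynomial.map_multiset_prod, Multiset.map_map]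
    congr 1
    apply Multiset.map_congr rfl
    intro z _
    simp
  rw [hconj] at hkey
  have hQeq : Q = C (ι ((-1) ^ Fintype.card (Fin r) * Ring.inverse M.det) * ((-1) ^ Multiset.card P.roots * P.roots.prod)) *
      P.map (starRingEnd ℂ) := by
    rw [hQ, hinv, Polynomial.map_mul, hrevmap, hkey]
    simp only [Polynomial.map_mul, Polynomial.map_pow, Polynomial.map_neg, Polynomial.map_one,
      Polynomial.map_C, map_mul, map_pow, map_neg, map_one]
    ring
  have hPc_monic : (P.map (starRingEnd ℂ)).Monic := hPmonic.map _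
  set c : ℂ := ι ((-1) ^ Fintype.card (Fin r) * Ring.inverse M.det) * ((-1) ^ Multiset.card P.roots * P.roots.prod) with hc
  have hc1 : c = 1 := by
    have h2 := congr_arg leadingCoeff hQeq
    rw [leadingCoeff_mul, leadingCoeff_C, hQmonic.leadingCoeff, hPc_monic.leadingCoeff, mul_one] at h2
    exact h2.symm
  rw [hc1, C_1, one_mul] at hQeq
  have hcoef : ι ((Matrix.fromBlocks M 0 0 (M⁻¹).transpose).charpoly.coeff n) =
      (P * P.map (starRingEnd ℂ)).coeff n := by
    rw [h1, ← coeff_map, Polynomial.map_mul, ← hQ, hQeq]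
  clear_value P Q c
  have hcc : (starRingEnd ℂ).comp (starRingEnd ℂ) = RingHom.id ℂ := by
    ext z; simp
  have hRR : (P.map (starRingEnd ℂ)).map (starRingEnd ℂ) = P := by
    rw [Polynomial.map_map, hcc, Polynomial.map_id]
  rw [hcoef, ← Complex.conj_eq_iff_im, ← coeff_map, Polynomial.map_mul, hRR, mul_comm]

end Groth.Agent.H77
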