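import Mathlib
import Groth.Prelude.Def_RelSpec2
import Groth.Agent.H44.PullUnit
import Groth.Agent.H44.QCohEpi
import Groth.Agent.H8.PushQCoh

/-!
# The direct image along an affine morphism is fully faithful on quasi-coherent modules (helper77)

`Hom(F, G) → Hom_{f_* O_X}(f_* F, f_* G)` is bijective for `f` affine, `F`, `G` quasi-coherent.  The counit `f^* f_* F ⟶ F` is an
epimorphism and the adjoint of an `f_* O_X`-linear map kills its kernel.
-/

set_option autoImplicit false
set_option linter.unusedSectionVars false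
universe u

open CategoryTheory CategoryTheory.Limits AlgebraicGeometry Opposite TopologicalSpace Scheme.Modules

noncomputable section

namespace Groth.Agent.H77.DirImgFF

open Groth.Agent.H18 Groth.Agent.H12.QCohIso Groth.Agent.H12.QCohAbelian

section Zero
variable {X : Scheme.{u}}

/-- a morphism out of a quasi-coherent module that kills the sections over an affine open cover is zero -/
theorem hom_eq_zero_of_app_eq_zero {K G : X.Modules} [K.IsQuasicoherent] (θ : K ⟶ G) {ι : Type*}
    (U : ι → X.Opens) (hU : ∀ x : X, ∃ i, x ∈ U i) (hUa : ∀ i, IsAffineOpen (U i))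
    (h0 : ∀ i (t : Γ(K, U i)), θ.app (U i) t = 0) : θ = 0 := by
  apply Scheme.Modules.hom_ext
  intro W
  apply AddCommGrpCat.hom_ext
  apply AddMonoidHom.ext
  intro s
  change θ.app W s = 0
  apply modules_eq_of_locally_eq G (θ.app W s) 0
  intro x hxW
  obtain ⟨i, hxi⟩ := hU x
  obtain ⟨r, hr, hxr⟩ := (hUa i).exists_basicOpen_le ⟨x, hxW⟩ hxi
  refine ⟨X.basicOpen r, hr, hxr, ?_⟩
  rw [map_zero]
  have hD : X.basicOpen r ≤ U i := X.basicOpen_le r
  obtain ⟨n, t, ht⟩ := exists_pow_smul_eq_res_of_isQuasicoherent K (hUa i) r (mres K hr s)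
  have hu : IsUnit (X.presheaf.map (homOfLE hD).op r) := RingedSpace.isUnit_res_basicOpen _ r
  have hu' : IsUnit ((X.presheaf.map (homOfLE hD).op r) ^ n) := hu.pow n
  obtain ⟨v, hv⟩ := hu'
  rw [← hv] at ht
  have h1 : mres G hr (θ.app W s) = θ.app (X.basicOpen r) (mres K hr s) :=
    (Groth.Agent.H44.hom_app_resLE θ hr s).symm
  have h2 : θ.app (X.basicOpen r) (mres K hD t) = 0 := by
    rw [show mres K hD t = K.presheaf.map (homOfLE hD).op t from rfl,
      Groth.Agent.H44.hom_app_resLE θ hD t, h0 i t, map_zero]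
  have h3 : (v : Γ(X, X.basicOpen r)) • θ.app (X.basicOpen r) (mres K hr s) = 0 := by
    rw [← Scheme.Modules.Hom.app_smul, ht, h2]
  rw [h1]
  calc θ.app (X.basicOpen r) (mres K hr s)
      = (v⁻¹ : (Γ(X, X.basicOpen r))ˣ) • (v • θ.app (X.basicOpen r) (mres K hr s)) := by
        rw [smul_smul, inv_mul_cancel, one_smul]
    _ = 0 := by
        rw [show (v • θ.app (X.basicOpen r) (mres K hr s)) =
          ((v : Γ(X, X.basicOpen r)) • θ.app (X.basicOpen r) (mres K hr s)) from rfl, h3, smul_zero]

end Zero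

section Main
variable {X S : Scheme.{u}} (f : X ⟶ S) [IsAffineHom f] (F : X.Modules) [F.IsQuasicoherent]

/-- `ε (η s) = s` on sections -/
theorem counit_app_unit_app (W : S.Opens) (t : Γ(F, f ⁻¹ᵁ W)) :
    ((pullbackPushforwardAdjunction f).counit.app F).app (f ⁻¹ᵁ W)
      (((pullbackPushforwardAdjunction f).unit.app ((pushforward f).obj F)).app W t) = t := by
  have h := (pullbackPushforwardAdjunction f).right_triangle_components F
  have h2 := congr($(h).app W t)
  exact h2

instance : ((pushforward f).obj F).IsQuasicoherent :=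
  Groth.Agent.H8.isQuasicoherent_pushforward_of_isAffineHom f F

/-- the counit `f^* f_* F ⟶ F` is an epimorphism for `f` affine and `F` quasi-coherent -/
theorem epi_counit : Epi ((pullbackPushforwardAdjunction f).counit.app F) := by
  haveI : ((pushforward f ⋙ Scheme.Modules.pullback f).obj F).IsQuasicoherent :=
    inferInstanceAs ((Scheme.Modules.pullback f).obj ((pushforward f).obj F)).IsQuasicoherent
  haveI : ((𝟭 X.Modules).obj F).IsQuasicoherent := inferInstanceAs F.IsQuasicoherent
  refine Groth.Agent.H44.epi_of_surjective_on_cover _ (fun W : S.affineOpens => f ⁻¹ᵁ W.1) ?_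
    (fun W => W.2.preimage f) ?_
  · intro x
    obtain ⟨_, ⟨W, hW : IsAffineOpen W, rfl⟩, hxW, -⟩ :=
      S.isBasis_affineOpens.exists_subset_of_mem_open (Set.mem_univ (f.base x)) isOpen_univ
    exact ⟨⟨W, hW⟩, hxW⟩
  · intro W t
    exact ⟨_, counit_app_unit_app f F W.1 t⟩

variable (G : X.Modules)

/-- the adjoint `ψ` of `φ'` satisfies `ψ (η s) = φ' s` on sections -/
theorem homEquiv_symm_app_unit_app (φ' : (pushforward f).obj F ⟶ (pushforward f).obj G) (W : S.Opens)
    (t : Γ(F, f ⁻¹ᵁ W)) :
    (((pullbackPushforwardAdjunction f).homEquiv _ _).symm φ').app (f ⁻¹ᵁ W)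
      (((pullbackPushforwardAdjunction f).unit.app ((pushforward f).obj F)).app W t) =
      φ'.app W t := by
  have h := (pullbackPushforwardAdjunction f).homEquiv_unit
    (f := ((pullbackPushforwardAdjunction f).homEquiv _ _).symm φ')
  rw [Equiv.apply_symm_apply] at h
  have h2 := congr($(h).app W t)
  exact h2.symm

/-- on sections over the preimage of an affine open, a morphism `ψ : f^* f_* F ⟶ G` with `ψ (η t) = Φ t` for an
`O_X(f⁻¹ W)`-linear `Φ` is `Φ ∘ ε` -/
theorem app_eq_comp_counit (ψ : (Scheme.Modules.pullback f).obj ((pushforward f).obj F) ⟶ G) {W : S.Opens}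
    (hW : IsAffineOpen W) (Φ : Γ(F, f ⁻¹ᵁ W) →+ Γ(G, f ⁻¹ᵁ W))
    (hΦ : ∀ t : Γ(F, f ⁻¹ᵁ W), ψ.app (f ⁻¹ᵁ W)
      (((pullbackPushforwardAdjunction f).unit.app ((pushforward f).obj F)).app W t) = Φ t)
    (hlin : ∀ (b : Γ(X, f ⁻¹ᵁ W)) (s : Γ(F, f ⁻¹ᵁ W)), Φ (b • s) = b • Φ s)
    (x : Γ((Scheme.Modules.pullback f).obj ((pushforward f).obj F), f ⁻¹ᵁ W)) :
    ψ.app (f ⁻¹ᵁ W) x = Φ (((pullbackPushforwardAdjunction f).counit.app F).app (f ⁻¹ᵁ W) x) := by
  have hV : IsAffineOpen (f ⁻¹ᵁ W) := hW.preimage f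
  letI := (f.appLE W (f ⁻¹ᵁ W) le_rfl).hom.toAlgebra
  set e := Groth.Agent.H44.pullbackSectionsEquiv f ((pushforward f).obj F) hV hW le_rfl with he
  obtain ⟨z, rfl⟩ := e.symm.surjective x
  induction z using TensorProduct.induction_on with
  | zero => simp only [map_zero]
  | tmul b m =>
    have h0 : e (Groth.Agent.H44.pullSectLE f ((pushforward f).obj F) W (f ⁻¹ᵁ W) le_rfl m) =
        (1 : Γ(X, f ⁻¹ᵁ W)) ⊗ₜ[Γ(S, W)] m :=
      Groth.Agent.H44.pullbackSectionsEquiv_pullSectLE f ((pushforward f).obj F) hV hW le_rfl m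
    have h1 : e.symm (b ⊗ₜ[Γ(S, W)] m) =
        b • Groth.Agent.H44.pullSectLE f ((pushforward f).obj F) W (f ⁻¹ᵁ W) le_rfl m := by
      rw [LinearEquiv.symm_apply_eq, _root_.map_smul, h0, TensorProduct.smul_tmul', smul_eq_mul,
        mul_one]
    rw [h1, Groth.Agent.H44.pullSectLE_self, Scheme.Modules.Hom.app_smul,
      Scheme.Modules.Hom.app_smul, hlin]
    congr 1
    erw [hΦ, counit_app_unit_app]
  | add z z' hz hz' =>
    simp only [map_add]
    rw [hz, hz']

variable [G.IsQuasicoherent]

/-- the direct image along an affine morphism is fully faithful on quasi-coherent modules -/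
theorem dirImg_map_bijective :
    Function.Bijective
      ((AMod.dirImg f).map : (F ⟶ G) → ((AMod.dirImg f).obj F ⟶ (AMod.dirImg f).obj G)) := by
  have hepi := epi_counit f F
  constructor
  · intro u v h
    have h' : (pushforward f).map u = (pushforward f).map v :=
      congrArg (AMod.toOS (RelSpec.QCAlg.directImage f)).map h
    have hu := (pullbackPushforwardAdjunction f).counit.naturality u
    have hv := (pullbackPushforwardAdjunction f).counit.naturality v
    simp only [Functor.comp_map, Functor.id_map] at hu hv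
    rw [h'] at hu
    rw [← cancel_epi ((pullbackPushforwardAdjunction f).counit.app F), ← hu, ← hv]
  · intro φ
    set φ' : (pushforward f).obj F ⟶ (pushforward f).obj G :=
      (AMod.toOS (RelSpec.QCAlg.directImage f)).map φ with hφ'
    set ψ := ((pullbackPushforwardAdjunction f).homEquiv _ _).symm φ' with hψ
    haveI : ((Scheme.Modules.pullback f).obj ((pushforward f).obj F)).IsQuasicoherent := inferInstance
    haveI : ((pushforward f ⋙ Scheme.Modules.pullback f).obj F).IsQuasicoherent :=
      inferInstanceAs ((Scheme.Modules.pullback f).obj ((pushforward f).obj F)).IsQuasicoherent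
    haveI : ((𝟭 X.Modules).obj F).IsQuasicoherent := inferInstanceAs F.IsQuasicoherent
    haveI : (kernel ((pullbackPushforwardAdjunction f).counit.app F)).IsQuasicoherent :=
      isQuasicoherent_kernel _
    have hK : kernel.ι ((pullbackPushforwardAdjunction f).counit.app F) ≫ ψ = 0 := by
      refine hom_eq_zero_of_app_eq_zero _ (fun W : S.affineOpens => f ⁻¹ᵁ W.1) ?_
        (fun W => W.2.preimage f) ?_
      · intro x
        obtain ⟨_, ⟨W, hW : IsAffineOpen W, rfl⟩, hxW, -⟩ :=
          S.isBasis_affineOpens.exists_subset_of_mem_open (Set.mem_univ (f.base x)) isOpen_univ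
        exact ⟨⟨W, hW⟩, hxW⟩
      · intro W t
        let Φ : Γ(F, f ⁻¹ᵁ W.1) →+ Γ(G, f ⁻¹ᵁ W.1) := (φ'.app W.1).hom
        have hΦ : ∀ t : Γ(F, f ⁻¹ᵁ W.1), ψ.app (f ⁻¹ᵁ W.1)
            (((pullbackPushforwardAdjunction f).unit.app ((pushforward f).obj F)).app W.1 t) = Φ t :=
          fun t => homEquiv_symm_app_unit_app f F G φ' W.1 t
        have hlin : ∀ (b : Γ(X, f ⁻¹ᵁ W.1)) (s : Γ(F, f ⁻¹ᵁ W.1)), Φ (b • s) = b • Φ s := by
          intro b s
          exact (φ.val.app (op W.1)).hom.map_smul b s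
        rw [Scheme.Modules.Hom.comp_app]
        change ψ.app (f ⁻¹ᵁ W.1) ((kernel.ι ((pullbackPushforwardAdjunction f).counit.app F)).app
          (f ⁻¹ᵁ W.1) t) = 0
        rw [app_eq_comp_counit f F G ψ W.2 Φ hΦ hlin]
        have h0 : ((pullbackPushforwardAdjunction f).counit.app F).app (f ⁻¹ᵁ W.1)
            ((kernel.ι ((pullbackPushforwardAdjunction f).counit.app F)).app (f ⁻¹ᵁ W.1) t) = 0 := by
          have := kernel.condition ((pullbackPushforwardAdjunction f).counit.app F)
          exact congr($(this).app (f ⁻¹ᵁ W.1) t)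
        rw [h0, map_zero]
    refine ⟨Abelian.epiDesc _ ψ hK, ?_⟩
    have hfac := Abelian.comp_epiDesc ((pullbackPushforwardAdjunction f).counit.app F) ψ hK
    apply SheafOfModules.hom_ext
    apply PresheafOfModules.hom_ext
    intro W
    apply ModuleCat.hom_ext
    apply LinearMap.ext
    intro t
    change (Abelian.epiDesc _ ψ hK).app (f ⁻¹ᵁ W.unop) t = φ'.app W.unop t
    have h1 := counit_app_unit_app f F W.unop t
    have h2 := homEquiv_symm_app_unit_app f F G φ' W.unop t
    have h3 := congr($(hfac).app (f ⁻¹ᵁ W.unop)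
      (((pullbackPushforwardAdjunction f).unit.app ((pushforward f).obj F)).app W.unop t))
    rw [Scheme.Modules.Hom.comp_app] at h3
    change (Abelian.epiDesc _ ψ hK).app (f ⁻¹ᵁ W.unop)
      (((pullbackPushforwardAdjunction f).counit.app F).app (f ⁻¹ᵁ W.unop) _) = _ at h3
    rw [h1] at h3
    rw [h3]
    exact h2

end Main

end Groth.Agent.H77.DirImgFF
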