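import Groth.Agent.H77.AdjColim
import Mathlib.AlgebraicGeometry.Modules.Tilde
import Mathlib.Algebra.Category.ModuleCat.Colimits
import Groth.Agent.H30.QCohColimit
import Groth.Agent.H8.PushQCoh
import Groth.Agent.H12.QCohIso
import Groth.Agent.H31.SheafOfModulesToSheaf
import Groth.Prelude.Def_RelSpec2

set_option autoImplicit false
universe u
open CategoryTheory CategoryTheory.Limits AlgebraicGeometry Opposite TopologicalSpace
noncomputable section

namespace Groth.Agent.H77.PushColim

/-- sections over `U`, as an additive-group valued functor -/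
def secAb {X : Scheme.{u}} (U : X.Opens) : X.Modules ⥤ Ab.{u} :=
  Scheme.Modules.toPresheaf X ⋙ (evaluation _ _).obj (op U)

theorem secAb_obj {X : Scheme.{u}} (U : X.Opens) (M : X.Modules) : (secAb U).obj M = Γ(M, U) := rfl

theorem secAb_map {X : Scheme.{u}} (U : X.Opens) {M N : X.Modules} (φ : M ⟶ N) :
    (secAb U).map φ = φ.app U := rfl

variable {R : CommRingCat.{u}} {J : Type u} [SmallCategory J]

theorem preservesColimit_moduleSpecΓFunctor (D : J ⥤ (Spec R).Modules)
    (hD : ∀ j, (D.obj j).IsQuasicoherent) : PreservesColimit D (moduleSpecΓFunctor (R := R)) := by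
  refine AdjColim.preservesColimit_of_isIso_counit (tilde.adjunction (R := R)) D (fun j => ?_)
  have := hD j
  change IsIso (D.obj j).fromTildeΓ
  infer_instance

def secTopIso : moduleSpecΓFunctor (R := R) ⋙ forget₂ (ModuleCat R) Ab.{u} ≅
    secAb (X := Spec R) ⊤ :=
  NatIso.ofComponents (fun M => Iso.refl _) (fun f => by rfl)

theorem preservesColimit_secAb_top (D : J ⥤ (Spec R).Modules)
    (hD : ∀ j, (D.obj j).IsQuasicoherent) : PreservesColimit D (secAb (X := Spec R) ⊤) := by
  have := preservesColimit_moduleSpecΓFunctor D hD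
  have : PreservesColimit D (moduleSpecΓFunctor (R := R) ⋙ forget₂ (ModuleCat R) Ab.{u}) :=
    inferInstance
  exact preservesColimit_of_natIso D secTopIso


section General

variable {X : Scheme.{u}} {J : Type u} [SmallCategory J]

def secRestrictIso {U : X.Opens} (hU : IsAffineOpen U) :
    Scheme.Modules.restrictFunctor hU.fromSpec ⋙ secAb (X := Spec Γ(X, U)) ⊤ ≅
      secAb (hU.fromSpec ''ᵁ ⊤) :=
  NatIso.ofComponents (fun M => Iso.refl _) (fun f => by rfl)

theorem preservesColimit_secAb {U : X.Opens} (hU : IsAffineOpen U) (D : J ⥤ X.Modules)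
    (hD : ∀ j, (D.obj j).IsQuasicoherent) : PreservesColimit D (secAb U) := by
  have key : ∀ V : X.Opens, V = U → PreservesColimit D (secAb V) → PreservesColimit D (secAb U) := by
    rintro V rfl h; exact h
  refine key (hU.fromSpec ''ᵁ ⊤) ?_ ?_
  · rw [Scheme.Hom.image_top_eq_opensRange, hU.opensRange_fromSpec]
  · have h1 : PreservesColimit D (Scheme.Modules.restrictFunctor hU.fromSpec) :=
      (Scheme.Modules.restrictAdjunction hU.fromSpec).leftAdjoint_preservesColimits.preservesColimitsOfShape.preservesColimit
    have h2 : PreservesColimit (D ⋙ Scheme.Modules.restrictFunctor hU.fromSpec)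
        (secAb (X := Spec Γ(X, U)) ⊤) :=
      preservesColimit_secAb_top _ (fun j => by
        have := hD j
        exact inferInstanceAs ((Scheme.Modules.restrictFunctor hU.fromSpec).obj (D.obj j)).IsQuasicoherent)
    have h3 : PreservesColimit D
        (Scheme.Modules.restrictFunctor hU.fromSpec ⋙ secAb (X := Spec Γ(X, U)) ⊤) :=
      inferInstance
    exact preservesColimit_of_natIso D (secRestrictIso hU)

end General


section Push

variable {X S : Scheme.{u}} {J : Type u} [SmallCategory J]

theorem isIso_of_comp_post {C₁ C₂ C₃ : Type (u+1)} [Category.{u} C₁] [Category.{u} C₂] [Category.{u} C₃]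
    (D : J ⥤ C₁) (G : C₁ ⥤ C₂) (H : C₂ ⥤ C₃) [HasColimit D] [HasColimit (D ⋙ G)]
    [HasColimit ((D ⋙ G) ⋙ H)] [PreservesColimit (D ⋙ G) H] [PreservesColimit D (G ⋙ H)] :
    IsIso (H.map (colimit.post D G)) := by
  have e := colimit.post_post D G H
  have h1 : IsIso (colimit.post (D ⋙ G) H) := inferInstance
  have h2 : IsIso (colimit.post D (G ⋙ H)) := by
    have : HasColimit (D ⋙ G ⋙ H) := ‹HasColimit ((D ⋙ G) ⋙ H)›
    infer_instance
  exact IsIso.of_isIso_fac_left e

theorem preservesColimit_pushforward (f : X ⟶ S) [IsAffineHom f]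
    (D : J ⥤ X.Modules) (hD : ∀ j, (D.obj j).IsQuasicoherent) :
    PreservesColimit D (Scheme.Modules.pushforward f) := by
  have hq1 : (colimit (D ⋙ Scheme.Modules.pushforward f)).IsQuasicoherent :=
    Groth.Agent.H30.QCohColimit.isQuasicoherent_colimit _ (fun j => by
      have := hD j
      exact Groth.Agent.H8.isQuasicoherent_pushforward_of_isAffineHom f (D.obj j))
  have hq0 : (colimit D).IsQuasicoherent :=
    Groth.Agent.H30.QCohColimit.isQuasicoherent_colimit _ hD
  have hq2 : ((Scheme.Modules.pushforward f).obj (colimit D)).IsQuasicoherent :=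
    Groth.Agent.H8.isQuasicoherent_pushforward_of_isAffineHom f (colimit D)
  have : IsIso (colimit.post D (Scheme.Modules.pushforward f)) := by
    refine Groth.Agent.H12.QCohIso.isIso_of_bijective_on_cover _
      (fun W : S.affineOpens => (W : S.Opens)) ?_ (fun W => W.2) (fun W => ?_)
    · intro x
      obtain ⟨_, ⟨W, hW, rfl⟩, hxW, -⟩ :=
        S.isBasis_affineOpens.exists_subset_of_mem_open (Set.mem_univ x) isOpen_univ
      exact ⟨⟨W, hW⟩, hxW⟩
    · have h1 : PreservesColimit (D ⋙ Scheme.Modules.pushforward f) (secAb (W : S.Opens)) :=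
        preservesColimit_secAb W.2 _ (fun j => by
          have := hD j
          exact Groth.Agent.H8.isQuasicoherent_pushforward_of_isAffineHom f (D.obj j))
      have h2 : PreservesColimit D (Scheme.Modules.pushforward f ⋙ secAb (W : S.Opens)) :=
        preservesColimit_secAb (W.2.preimage f) D hD
      have h3 := isIso_of_comp_post D (Scheme.Modules.pushforward f) (secAb (W : S.Opens))
      exact (ConcreteCategory.isIso_iff_bijective _).1 h3
  exact preservesColimit_of_isIso_post _ _

end Push


section AModPart

variable {X S : Scheme.{u}} {J : Type u} [SmallCategory J]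

def dirImgToSheafIso (f : X ⟶ S) [QuasiCompact f] [QuasiSeparated f] :
    AMod.dirImg f ⋙ SheafOfModules.toSheaf.{u} (AMod.ringSheaf (RelSpec.QCAlg.directImage f)) ≅
      Scheme.Modules.pushforward f ⋙ SheafOfModules.toSheaf.{u} S.ringCatSheaf :=
  NatIso.ofComponents (fun M => Iso.refl _) (fun φ => by rfl)

theorem preservesColimit_dirImg (f : X ⟶ S) [IsAffineHom f]
    (D : J ⥤ X.Modules) (hD : ∀ j, (D.obj j).IsQuasicoherent) :
    PreservesColimit D (AMod.dirImg f) := by
  have h1 : PreservesColimit D (Scheme.Modules.pushforward f) := preservesColimit_pushforward f D hD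
  have h2 : PreservesColimitsOfSize.{u, u} (SheafOfModules.toSheaf.{u} S.ringCatSheaf) :=
    Groth.Agent.H31.toSheaf_preservesColimits _
  have h3 : PreservesColimit D
      (Scheme.Modules.pushforward f ⋙ SheafOfModules.toSheaf.{u} S.ringCatSheaf) := by
    have h2' : PreservesColimit (D ⋙ Scheme.Modules.pushforward f)
        (SheafOfModules.toSheaf.{u} S.ringCatSheaf) :=
      h2.preservesColimitsOfShape.preservesColimit
    exact comp_preservesColimit _ _
  have h4 : PreservesColimit D (AMod.dirImg f ⋙
      SheafOfModules.toSheaf.{u} (AMod.ringSheaf (RelSpec.QCAlg.directImage f))) :=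
    preservesColimit_of_natIso D (dirImgToSheafIso f).symm
  have h5 : PreservesColimitsOfSize.{u, u}
      (SheafOfModules.toSheaf.{u} (AMod.ringSheaf (RelSpec.QCAlg.directImage f))) :=
    Groth.Agent.H31.toSheaf_preservesColimits _
  have h6 : ReflectsColimit (D ⋙ AMod.dirImg f)
      (SheafOfModules.toSheaf.{u} (AMod.ringSheaf (RelSpec.QCAlg.directImage f))) :=
    reflectsColimit_of_reflectsIsomorphisms _ _
  exact preservesColimit_of_reflects_of_preserves (AMod.dirImg f)
    (SheafOfModules.toSheaf.{u} (AMod.ringSheaf (RelSpec.QCAlg.directImage f)))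

end AModPart

end Groth.Agent.H77.PushColim
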