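import Mathlib
import Groth.Prelude.Def_RelSpec2
import Groth.Agent.H77.DirImgFF
import Groth.Agent.H77.PushColim

set_option autoImplicit false
set_option linter.unusedSectionVars false
set_option linter.style.haveILetI false
universe u
open CategoryTheory CategoryTheory.Limits AlgebraicGeometry Opposite TopologicalSpace Scheme.Modules
open TensorProduct
noncomputable section

namespace Groth.Agent.H77.DirImgEss

variable {X S : Scheme.{u}} (f : X ⟶ S) [IsAffineHom f]
variable (M : AMod (RelSpec.QCAlg.directImage f))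

/-- the underlying `O_S`-module -/
abbrev und : S.Modules := (AMod.toOS (RelSpec.QCAlg.directImage f)).obj M

/-- sections of `M` -/
abbrev MS (W : S.Opens) : Type u := M.val.obj (op W)

instance (W : S.Opens) : Module Γ(X, f ⁻¹ᵁ W) (MS f M W) :=
  (M.val.obj (op W)).isModule

/-- identification of sections -/
def toMS (W : S.Opens) (n : Γ(und f M, W)) : MS f M W := n

def ofMS (W : S.Opens) (m : MS f M W) : Γ(und f M, W) := m

theorem toMS_smul (W : S.Opens) (r : Γ(S, W)) (n : Γ(und f M, W)) :
    toMS f M W (r • n) = (f.app W r) • toMS f M W n := rfl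

theorem toMS_add (W : S.Opens) (n n' : Γ(und f M, W)) :
    toMS f M W (n + n') = toMS f M W n + toMS f M W n' := rfl

/-- restriction in `M` -/
def resM {W W' : S.Opens} (h : W' ≤ W) (m : MS f M W) : MS f M W' :=
  M.val.map (homOfLE h).op m

theorem resM_smul {W W' : S.Opens} (h : W' ≤ W) (b : Γ(X, f ⁻¹ᵁ W)) (m : MS f M W) :
    resM f M h (b • m) = (X.presheaf.map (homOfLE (f.preimage_mono h)).op b) • resM f M h m :=
  PresheafOfModules.map_smul M.val (homOfLE h).op b m

theorem toMS_res {W W' : S.Opens} (h : W' ≤ W) (n : Γ(und f M, W)) :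
    toMS f M W' ((und f M).presheaf.map (homOfLE h).op n) = resM f M h (toMS f M W n) := rfl


section Action

/-- `toMS` as an additive map -/
def toMSHom (W : S.Opens) : Γ(und f M, W) →+ MS f M W := AddMonoidHom.id _

theorem toMSHom_apply (W : S.Opens) (n : Γ(und f M, W)) : toMSHom f M W n = toMS f M W n := rfl

/-- the bi-additive scalar multiplication -/
def smulBil (W : S.Opens) : Γ(X, f ⁻¹ᵁ W) →+ (Γ(und f M, W) →+ MS f M W) :=
  (AddMonoidHom.compHom' (toMSHom f M W)).comp
    (Module.toAddMonoidEnd Γ(X, f ⁻¹ᵁ W) (MS f M W) : Γ(X, f ⁻¹ᵁ W) →+* AddMonoid.End (MS f M W)).toAddMonoidHom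

theorem smulBil_apply (W : S.Opens) (b : Γ(X, f ⁻¹ᵁ W)) (n : Γ(und f M, W)) :
    smulBil f M W b n = b • toMS f M W n := rfl

/-- the multiplication map `B(W) ⊗ N(W) → M(W)` -/
def mulMap (W : S.Opens) :
    letI := (f.appLE W (f ⁻¹ᵁ W) le_rfl).hom.toAlgebra
    Γ(X, f ⁻¹ᵁ W) ⊗[Γ(S, W)] Γ(und f M, W) →+ MS f M W :=
  letI := (f.appLE W (f ⁻¹ᵁ W) le_rfl).hom.toAlgebra
  TensorProduct.liftAddHom (smulBil f M W)
    (by
      intro r b n
      rw [smulBil_apply, smulBil_apply, toMS_smul, smul_smul, Algebra.smul_def, mul_comm]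
      have h : algebraMap Γ(S, W) Γ(X, f ⁻¹ᵁ W) r = (f.app W).hom r :=
        congrArg (fun g => g.hom r) (Scheme.Hom.appLE_eq_app f)
      rw [h])

theorem mulMap_tmul (W : S.Opens) (b : Γ(X, f ⁻¹ᵁ W)) (n : Γ(und f M, W)) :
    letI := (f.appLE W (f ⁻¹ᵁ W) le_rfl).hom.toAlgebra
    mulMap f M W (b ⊗ₜ[Γ(S, W)] n) = b • toMS f M W n := rfl

end Action


section Act

variable [(und f M).IsQuasicoherent]

/-- the pulled back module `f^* N` -/
abbrev PP : X.Modules := (Scheme.Modules.pullback f).obj (und f M)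

theorem symm_tmul {W : S.Opens} (hW : IsAffineOpen W) (b : Γ(X, f ⁻¹ᵁ W)) (n : Γ(und f M, W)) :
    letI := (f.appLE W (f ⁻¹ᵁ W) le_rfl).hom.toAlgebra
    (Groth.Agent.H44.pullbackSectionsEquiv f (und f M) (hW.preimage f) hW le_rfl).symm
      (b ⊗ₜ[Γ(S, W)] n) = b • OmegaSh.pullSect f (und f M) W n := by
  letI := (f.appLE W (f ⁻¹ᵁ W) le_rfl).hom.toAlgebra
  have h0 := Groth.Agent.H44.pullbackSectionsEquiv_pullSectLE f (und f M) (hW.preimage f) hW le_rfl n
  rw [Groth.Agent.H44.pullSectLE_self] at h0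
  rw [LinearEquiv.symm_apply_eq, _root_.map_smul, h0, TensorProduct.smul_tmul', smul_eq_mul, mul_one]

theorem exists_act {W : S.Opens} (hW : IsAffineOpen W) :
    ∃ a : Γ(PP f M, f ⁻¹ᵁ W) →+ MS f M W, ∀ (b : Γ(X, f ⁻¹ᵁ W)) (n : Γ(und f M, W)),
      a (b • OmegaSh.pullSect f (und f M) W n) = b • toMS f M W n := by
  letI := (f.appLE W (f ⁻¹ᵁ W) le_rfl).hom.toAlgebra
  refine ⟨(mulMap f M W).comp
    (Groth.Agent.H44.pullbackSectionsEquiv f (und f M) (hW.preimage f) hW
      le_rfl).toLinearMap.toAddMonoidHom, fun b n => ?_⟩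
  rw [← symm_tmul f M hW b n]
  change mulMap f M W ((Groth.Agent.H44.pullbackSectionsEquiv f (und f M) (hW.preimage f) hW le_rfl)
    ((Groth.Agent.H44.pullbackSectionsEquiv f (und f M) (hW.preimage f) hW le_rfl).symm
      (b ⊗ₜ[Γ(S, W)] n))) = _
  rw [LinearEquiv.apply_symm_apply]
  rfl

/-- the action map on sections over the preimage of an affine open -/
def act {W : S.Opens} (hW : IsAffineOpen W) : Γ(PP f M, f ⁻¹ᵁ W) →+ MS f M W :=
  (exists_act f M hW).choose

theorem act_smul_pullSect {W : S.Opens} (hW : IsAffineOpen W) (b : Γ(X, f ⁻¹ᵁ W))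
    (n : Γ(und f M, W)) :
    act f M hW (b • OmegaSh.pullSect f (und f M) W n) = b • toMS f M W n :=
  (exists_act f M hW).choose_spec b n

/-- induction principle for sections of `f^* N` over the preimage of an affine open -/
theorem sect_induction {W : S.Opens} (hW : IsAffineOpen W) {C : Γ(PP f M, f ⁻¹ᵁ W) → Prop}
    (h0 : C 0) (hadd : ∀ x y, C x → C y → C (x + y))
    (hgen : ∀ (b : Γ(X, f ⁻¹ᵁ W)) (n : Γ(und f M, W)), C (b • OmegaSh.pullSect f (und f M) W n))
    (x : Γ(PP f M, f ⁻¹ᵁ W)) : C x := by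
  letI := (f.appLE W (f ⁻¹ᵁ W) le_rfl).hom.toAlgebra
  obtain ⟨z, rfl⟩ :=
    (Groth.Agent.H44.pullbackSectionsEquiv f (und f M) (hW.preimage f) hW le_rfl).symm.surjective x
  induction z using TensorProduct.induction_on with
  | zero => rw [map_zero]; exact h0
  | tmul b n => rw [symm_tmul]; exact hgen b n
  | add z z' hz hz' => rw [map_add]; exact hadd _ _ hz hz'

theorem act_smul {W : S.Opens} (hW : IsAffineOpen W) (b : Γ(X, f ⁻¹ᵁ W))
    (x : Γ(PP f M, f ⁻¹ᵁ W)) : act f M hW (b • x) = b • act f M hW x := by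
  induction x using sect_induction f M hW with
  | h0 => rw [smul_zero, map_zero, smul_zero]
  | hadd x y hx hy => rw [smul_add, map_add, hx, hy, map_add, smul_add]
  | hgen b' n => rw [smul_smul, act_smul_pullSect, act_smul_pullSect, smul_smul]

end Act


section Nat

variable [(und f M).IsQuasicoherent]

theorem resM_add {W W' : S.Opens} (h : W' ≤ W) (m m' : MS f M W) :
    resM f M h (m + m') = resM f M h m + resM f M h m' :=
  map_add (M.val.map (homOfLE h).op).hom m m'

theorem resM_zero {W W' : S.Opens} (h : W' ≤ W) : resM f M h (0 : MS f M W) = 0 :=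
  map_zero (M.val.map (homOfLE h).op).hom

theorem act_res {W W' : S.Opens} (hW : IsAffineOpen W) (hW' : IsAffineOpen W') (h : W' ≤ W)
    (x : Γ(PP f M, f ⁻¹ᵁ W)) :
    resM f M h (act f M hW x) =
      act f M hW' ((PP f M).presheaf.map (homOfLE (f.preimage_mono h)).op x) := by
  induction x using sect_induction f M hW with
  | h0 => rw [map_zero, map_zero, map_zero, resM_zero]
  | hadd x y hx hy => rw [map_add, resM_add, hx, hy, map_add, map_add]
  | hgen b n =>
    rw [act_smul_pullSect, resM_smul, Scheme.Modules.map_smul, ← OmegaSh.pullSect_map,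
      act_smul_pullSect, toMS_res]

end Nat


section Sheaf

variable [(und f M).IsQuasicoherent]

/-- the affine opens as a basis family -/
abbrev Bas : S.affineOpens → Opens S := fun W => W.1

theorem isBasis_Bas : Opens.IsBasis (Set.range (Bas (S := S))) := by
  have : Set.range (Bas (S := S)) = S.affineOpens := by
    ext U; constructor
    · rintro ⟨W, rfl⟩; exact W.2
    · intro hU; exact ⟨⟨U, hU⟩, rfl⟩
  rw [this]; exact S.isBasis_affineOpens

/-- source presheaf -/
abbrev srcP : TopCat.Presheaf Ab.{u} S := ((AMod.dirImg f).obj (PP f M)).val.presheaf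

/-- target sheaf -/
abbrev tgtS : TopCat.Sheaf Ab.{u} S := ⟨M.val.presheaf, M.isSheaf⟩

/-- the action as a morphism in `Ab` -/
def actHom {W : S.Opens} (hW : IsAffineOpen W) : (srcP f M).obj (op W) ⟶ (tgtS f M).1.obj (op W) :=
  AddCommGrpCat.ofHom (act f M hW)

theorem actHom_apply {W : S.Opens} (hW : IsAffineOpen W) (x : Γ(PP f M, f ⁻¹ᵁ W)) :
    actHom f M hW x = act f M hW x := rfl

theorem actHom_naturality {W W' : S.Opens} (hW : IsAffineOpen W) (hW' : IsAffineOpen W')
    (i : W' ⟶ W) :
    (srcP f M).map i.op ≫ actHom f M hW' = actHom f M hW ≫ (tgtS f M).1.map i.op := by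
  ext x
  exact (act_res f M hW hW' (leOfHom i) x).symm

/-- the action on the affine basis as a natural transformation -/
def actNat : (inducedFunctor (Bas (S := S))).op ⋙ srcP f M ⟶
    (inducedFunctor (Bas (S := S))).op ⋙ (tgtS f M).1 where
  app W := actHom f M W.unop.2
  naturality W W' g :=
    actHom_naturality f M W.unop.2 W'.unop.2 ((inducedFunctor (Bas (S := S))).map g.unop)

/-- the action as a morphism of abelian presheaves -/
def actPre : srcP f M ⟶ (tgtS f M).1 :=
  TopCat.Sheaf.restrictHomEquivHom (srcP f M) (tgtS f M) isBasis_Bas (actNat f M)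

theorem actPre_app {W : S.Opens} (hW : IsAffineOpen W) (x : Γ(PP f M, f ⁻¹ᵁ W)) :
    (actPre f M).app (op W) x = act f M hW x := by
  have := TopCat.Sheaf.extend_hom_app (srcP f M) (tgtS f M) isBasis_Bas (actNat f M) ⟨W, hW⟩
  exact congrArg (fun g => g.hom x) this

end Sheaf

section Lin

variable [(und f M).IsQuasicoherent]

theorem actPre_res {U W : S.Opens} (i : W ⟶ U) (x : Γ(PP f M, f ⁻¹ᵁ U)) :
    (actPre f M).app (op W) ((PP f M).presheaf.map (homOfLE (f.preimage_mono (leOfHom i))).op x) =
      resM f M (leOfHom i) ((actPre f M).app (op U) x) :=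
  congrArg (fun g => g.hom x) ((actPre f M).naturality i.op)

theorem exists_affine_le (U : S.Opens) (y : S) (hy : y ∈ U) :
    ∃ W : S.Opens, IsAffineOpen W ∧ y ∈ W ∧ W ≤ U := by
  obtain ⟨_, ⟨W, hW, rfl⟩, hyW, hWU⟩ := S.isBasis_affineOpens.exists_subset_of_mem_open hy U.2
  exact ⟨W, hW, hyW, hWU⟩

/-- two sections of `M` agreeing on all affine opens inside `U` are equal -/
theorem MS_ext {U : S.Opens} (s t : MS f M U)
    (h : ∀ (W : S.Opens) (_ : IsAffineOpen W) (hWU : W ≤ U), resM f M hWU s = resM f M hWU t) :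
    s = t := by
  let ι := {W : S.Opens // IsAffineOpen W ∧ W ≤ U}
  refine TopCat.Sheaf.eq_of_locally_eq' (tgtS f M) (fun W : ι => W.1) U
    (fun W => homOfLE W.2.2) ?_ s t (fun W => h W.1 W.2.1 W.2.2)
  intro y hy
  obtain ⟨W, hW, hyW, hWU⟩ := exists_affine_le U y hy
  exact Opens.mem_iSup.mpr ⟨⟨W, hW, hWU⟩, hyW⟩

theorem actPre_smul (U : S.Opens) (b : Γ(X, f ⁻¹ᵁ U)) (x : Γ(PP f M, f ⁻¹ᵁ U)) :
    (actPre f M).app (op U) (b • x) = b • (show MS f M U from (actPre f M).app (op U) x) := by
  apply MS_ext f M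
  intro W hW hWU
  have h1 := actPre_res f M (homOfLE hWU) (b • x)
  have h2 := actPre_res f M (homOfLE hWU) x
  rw [resM_smul]
  refine h1.symm.trans ?_
  rw [Scheme.Modules.map_smul, actPre_app f M hW, act_smul, ← actPre_app f M hW]
  exact congrArg _ h2

end Lin


section Mor

variable [(und f M).IsQuasicoherent]

/-- the action morphism `f_* f^* N ⟶ M` of modules over `f_* O_X` -/
def actMor : (AMod.dirImg f).obj (PP f M) ⟶ M :=
  ⟨PresheafOfModules.homMk (actPre f M) (fun U r m => actPre_smul f M U.unop r m)⟩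

theorem actMor_app (U : S.Opens) (x : Γ(PP f M, f ⁻¹ᵁ U)) :
    (actMor f M).val.app (op U) x = (actPre f M).app (op U) x := rfl

theorem actPre_pullSect (U : S.Opens) (n : Γ(und f M, U)) :
    (actPre f M).app (op U) (OmegaSh.pullSect f (und f M) U n) = toMS f M U n := by
  apply MS_ext f M
  intro W hW hWU
  have h1 := actPre_res f M (homOfLE hWU) (OmegaSh.pullSect f (und f M) U n)
  refine h1.symm.trans ?_
  rw [← OmegaSh.pullSect_map, actPre_app f M hW]
  have h2 := act_smul_pullSect f M hW 1 ((und f M).presheaf.map (homOfLE hWU).op n)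
  rw [one_smul, one_smul] at h2
  exact h2

/-- the unit `N ⟶ f_* f^* N` followed by the action is the identity -/
theorem unit_comp_actMor :
    (Scheme.Modules.pullbackPushforwardAdjunction f).unit.app (und f M) ≫
      (AMod.toOS (RelSpec.QCAlg.directImage f)).map (actMor f M) = 𝟙 (und f M) := by
  apply Scheme.Modules.hom_ext
  intro U
  apply AddCommGrpCat.hom_ext
  apply AddMonoidHom.ext
  intro n
  exact actPre_pullSect f M U n

instance toOS_faithful (B : RelSpec.QCAlg S) : (AMod.toOS B).Faithful where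
  map_injective {M₁ M₂ φ ψ} h := by
    apply SheafOfModules.hom_ext
    apply PresheafOfModules.hom_ext
    intro U
    apply ModuleCat.hom_ext
    apply LinearMap.ext
    intro x
    have h1 := congrArg (fun θ => (SheafOfModules.Hom.val θ).app U) h
    exact congrArg (fun (θ : ((AMod.toOS B).obj M₁).val.obj U ⟶ ((AMod.toOS B).obj M₂).val.obj U) =>
      θ.hom x) h1

theorem epi_actMor : Epi (actMor f M) := by
  have h1 : IsSplitEpi ((AMod.toOS (RelSpec.QCAlg.directImage f)).map (actMor f M)) :=
    IsSplitEpi.mk' ⟨_, unit_comp_actMor f M⟩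
  have h2 : Epi ((AMod.toOS (RelSpec.QCAlg.directImage f)).map (actMor f M)) := inferInstance
  exact (AMod.toOS (RelSpec.QCAlg.directImage f)).epi_of_epi_map h2

end Mor


section Kernel

/-- the forgetful functor from `S.Modules` to abelian sheaves -/
abbrev tS (S : Scheme.{u}) : S.Modules ⥤ Sheaf (Opens.grothendieckTopology S) AddCommGrpCat.{u} :=
  SheafOfModules.toSheaf.{u} S.ringCatSheaf

/-- forgetting to abelian sheaves factors through `toOS` -/
def toOSToSheafIso (B : RelSpec.QCAlg S) :
    AMod.toOS B ⋙ tS S ≅ SheafOfModules.toSheaf.{u} (AMod.ringSheaf B) :=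
  NatIso.ofComponents (fun _ => Iso.refl _) (fun _ => by rfl)

instance (B : RelSpec.QCAlg S) : (AMod.toOS B).Additive :=
  inferInstanceAs (SheafOfModules.restrictScalars (AMod.strHom B)).Additive

theorem preservesKernels_toOS (B : RelSpec.QCAlg S) :
    PreservesLimitsOfShape WalkingParallelPair (AMod.toOS B) := by
  have h1' : PreservesLimitsOfShape WalkingParallelPair
      (SheafOfModules.toSheaf.{u} (AMod.ringSheaf B)) := inferInstance
  have h2 : PreservesLimitsOfShape WalkingParallelPair (AMod.toOS B ⋙ tS S) :=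
    preservesLimitsOfShape_of_natIso (toOSToSheafIso B).symm
  have h3' : PreservesLimitsOfShape WalkingParallelPair (tS S) :=
    inferInstanceAs (PreservesLimitsOfShape WalkingParallelPair
      (SheafOfModules.toSheaf.{u} S.ringCatSheaf))
  have h5 : (tS S).ReflectsIsomorphisms :=
    inferInstanceAs (SheafOfModules.toSheaf.{u} S.ringCatSheaf).ReflectsIsomorphisms
  have h4 : ReflectsLimitsOfShape WalkingParallelPair (tS S) :=
    reflectsLimitsOfShape_of_reflectsIsomorphisms
  exact preservesLimitsOfShape_of_reflects_of_preserves (AMod.toOS B) (tS S)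

variable [(und f M).IsQuasicoherent]

instance : (PP f M).IsQuasicoherent :=
  inferInstanceAs ((Scheme.Modules.pullback f).obj (und f M)).IsQuasicoherent

theorem isQuasicoherent_kernel_actMor : (und f (kernel (actMor f M))).IsQuasicoherent := by
  have := preservesKernels_toOS (RelSpec.QCAlg.directImage f)
  let e : (AMod.toOS (RelSpec.QCAlg.directImage f)).obj (kernel (actMor f M)) ≅
      kernel ((AMod.toOS (RelSpec.QCAlg.directImage f)).map (actMor f M)) :=
    PreservesKernel.iso _ _
  have hq : ((Scheme.Modules.pushforward f).obj (PP f M)).IsQuasicoherent :=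
    Groth.Agent.H8.isQuasicoherent_pushforward_of_isAffineHom f (PP f M)
  have hq' : ((AMod.toOS (RelSpec.QCAlg.directImage f)).obj
      ((AMod.dirImg f).obj (PP f M))).IsQuasicoherent := hq
  have hk : (kernel ((AMod.toOS (RelSpec.QCAlg.directImage f)).map (actMor f M))).IsQuasicoherent :=
    Groth.Agent.H12.QCohAbelian.isQuasicoherent_kernel _
  exact Groth.Agent.H12.QCohAbelian.isQuasicoherent_of_iso e.symm

end Kernel


section Final

instance : (AMod.dirImg f).PreservesZeroMorphisms where
  map_zero _ _ := rfl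

/-- the direct image preserves colimits of quasi-coherent diagrams of small shape -/
theorem preservesColimit_dirImg_small {J : Type} [SmallCategory J] (D : J ⥤ X.Modules)
    (hD : ∀ j, (D.obj j).IsQuasicoherent) : PreservesColimit D (AMod.dirImg f) := by
  let e := ULiftHomULiftCategory.equiv.{u, u} J
  have : PreservesColimit (e.inverse ⋙ D) (AMod.dirImg f) :=
    Groth.Agent.H77.PushColim.preservesColimit_dirImg f _ (fun j => hD _)
  exact Functor.Final.preservesColimit_of_comp e.inverse

variable [(und f M).IsQuasicoherent]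

/-- essential surjectivity of the direct image on quasi-coherent modules -/
theorem exists_dirImg_iso :
    ∃ F : X.Modules, F.IsQuasicoherent ∧ Nonempty ((AMod.dirImg f).obj F ≅ M) := by
  -- first epi
  have hepi₀ : Epi (actMor f M) := epi_actMor f M
  -- its kernel
  let K := kernel (actMor f M)
  have hK : (und f K).IsQuasicoherent := isQuasicoherent_kernel_actMor f M
  have hepi₁ : Epi (actMor f K) := epi_actMor f K
  -- the composite comes from a map of quasi-coherent modules
  obtain ⟨ψ, hψ⟩ := (Groth.Agent.H77.DirImgFF.dirImg_map_bijective f (PP f K) (PP f M)).2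
    (actMor f K ≫ kernel.ι (actMor f M))
  refine ⟨cokernel ψ, Groth.Agent.H12.QCohAbelian.isQuasicoherent_cokernel ψ, ⟨?_⟩⟩
  -- the direct image preserves this cokernel
  have hpres : PreservesColimit (parallelPair ψ 0) (AMod.dirImg f) := by
    apply preservesColimit_dirImg_small
    rintro (_ | _)
    · exact inferInstanceAs (PP f K).IsQuasicoherent
    · exact inferInstanceAs (PP f M).IsQuasicoherent
  let e1 : (AMod.dirImg f).obj (cokernel ψ) ≅ cokernel ((AMod.dirImg f).map ψ) :=
    PreservesCokernel.iso (AMod.dirImg f) ψ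
  let e2 : cokernel ((AMod.dirImg f).map ψ) ≅ cokernel (actMor f K ≫ kernel.ι (actMor f M)) :=
    cokernelIsoOfEq hψ
  let e3 : cokernel (actMor f K ≫ kernel.ι (actMor f M)) ≅ cokernel (kernel.ι (actMor f M)) :=
    cokernelEpiComp _ _
  have hcok := Abelian.epiIsCokernelOfKernel _ (kernelIsKernel (actMor f M))
  let e4 : cokernel (kernel.ι (actMor f M)) ≅ M :=
    (cokernelIsCokernel (kernel.ι (actMor f M))).coconePointUniqueUpToIso hcok
  exact e1 ≪≫ e2 ≪≫ e3 ≪≫ e4

end Final

end Groth.Agent.H77.DirImgEss
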