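import Groth.Agent.H34.ModPushFT
import Groth.Agent.H44.FiniteSections
import Groth.Agent.H18.QCohLocalize
import Groth.Prelude.Def_RelSpec2
import Mathlib.AlgebraicGeometry.Morphisms.Affine

/-!
# Finite type and direct image along an affine morphism

For `f : X ⟶ S` affine and `F` quasi-coherent on `X`: `F` is of finite type iff `f_* F` is of finite
type as a module over `f_* O_X`.
-/

set_option autoImplicit false
universe u
open CategoryTheory CategoryTheory.Limits AlgebraicGeometry Opposite TopologicalSpace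
noncomputable section
open Groth.Agent.H34.ModPushFT Groth.Agent.H45 Groth.Agent.H18 Groth.Agent.H44

namespace Groth.Agent.H77.DirImgFT

variable {X S : Scheme.{u}}

theorem ft_iff_X (F : X.Modules) :
    SheafOfModules.IsFiniteType.{u} (R := X.ringCatSheaf) F ↔
      ∀ x : X, ∃ (U : X.Opens) (_ : x ∈ U) (K : Type u) (_ : Fintype K)
        (e : K → Γ(F, U)), TopGen (O := X.sheaf) F U e :=
  isFiniteType_iff_topGen (O := X.sheaf) F

theorem ft_iff_B (B : RelSpec.QCAlg S) (M : AMod B) :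
    SheafOfModules.IsFiniteType.{u} (R := AMod.ringSheaf B) M ↔
      ∀ x : S, ∃ (U : S.Opens) (_ : x ∈ U) (K : Type u) (_ : Fintype K)
        (e : K → M.val.obj (op U)), TopGen (O := ⟨B.presheaf, B.isSheaf⟩) M U e :=
  isFiniteType_iff_topGen (O := ⟨B.presheaf, B.isSheaf⟩) M

theorem topGen_X_iff (F : X.Modules) (U : X.Opens) {K : Type u} [Fintype K] (e : K → Γ(F, U)) :
    TopGen (O := X.sheaf) F U e ↔
      ∀ (U' : X.Opens) (hU' : U' ≤ U) (s : Γ(F, U')) (y : X), y ∈ U' →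
        ∃ (U'' : X.Opens) (hU'' : U'' ≤ U'), y ∈ U'' ∧ ∃ r : K → Γ(X, U''),
          mres F hU'' s = ∑ a, r a • mres F (hU''.trans hU') (e a) :=
  Iff.rfl

theorem topGen_S_iff (f : X ⟶ S) [QuasiCompact f] [QuasiSeparated f] (F : X.Modules) (U : S.Opens)
    {K : Type u} [Fintype K] (e : K → Γ(F, f ⁻¹ᵁ U)) :
    TopGen (O := ⟨(RelSpec.QCAlg.directImage f).presheaf, (RelSpec.QCAlg.directImage f).isSheaf⟩)
      ((AMod.dirImg f).obj F) U e ↔
      ∀ (U' : S.Opens) (hU' : U' ≤ U) (s : Γ(F, f ⁻¹ᵁ U')) (y : S), y ∈ U' →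
        ∃ (U'' : S.Opens) (hU'' : U'' ≤ U'), y ∈ U'' ∧ ∃ r : K → Γ(X, f ⁻¹ᵁ U''),
          mres F (f.preimage_mono hU'') s =
            ∑ a, r a • mres F (f.preimage_mono (hU''.trans hU')) (e a) :=
  Iff.rfl

theorem res_res {A B C : X.Opens} (hBA : B ≤ A) (hCB : C ≤ B) (h : Γ(X, A)) :
    X.presheaf.map (homOfLE hCB).op (X.presheaf.map (homOfLE hBA).op h) =
      X.presheaf.map (homOfLE (hCB.trans hBA)).op h := by
  rw [← ConcreteCategory.comp_apply, ← Functor.map_comp]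
  rfl

theorem exists_unit {A V : X.Opens} (h : Γ(X, A)) (hV : V ≤ X.basicOpen h) :
    ∃ u : Γ(X, V), u * X.presheaf.map (homOfLE (hV.trans (X.basicOpen_le h))).op h = 1 := by
  have h1 := X.toRingedSpace.isUnit_res_basicOpen h
  have h2 : IsUnit (X.presheaf.map (homOfLE hV).op
      (X.presheaf.map (homOfLE (X.basicOpen_le h)).op h)) := h1.map _
  rw [res_res] at h2
  obtain ⟨u, hu⟩ := h2.exists_left_inv
  exact ⟨u, hu⟩

theorem core (F : X.Modules) [F.IsQuasicoherent] {A : X.Opens} (hA : IsAffineOpen A) (h : Γ(X, A))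
    {U' : X.Opens} (hU' : X.basicOpen h ≤ U') (t : Γ(F, U')) :
    ∃ (n : ℕ) (x' : Γ(F, A)), ∀ (V : X.Opens) (hV : V ≤ X.basicOpen h) (u : Γ(X, V)),
      u * X.presheaf.map (homOfLE (hV.trans (X.basicOpen_le h))).op h = 1 →
      mres F (hV.trans hU') t = u ^ n • mres F (hV.trans (X.basicOpen_le h)) x' := by
  obtain ⟨n, x', hx⟩ := exists_pow_smul_eq_res_of_isQuasicoherent F hA h (mres F hU' t)
  refine ⟨n, x', fun V hV u hu => ?_⟩
  have h1 := congrArg (mres F hV) hx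
  rw [mres_smul, mres_mres, mres_mres, map_pow, res_res] at h1
  rw [← h1, smul_smul, ← mul_pow, hu, one_pow, one_smul]

theorem mres_sum (F : X.Modules) {W W' : X.Opens} (h : W' ≤ W) {ι : Type*} (s : Finset ι)
    (x : ι → Γ(F, W)) : mres F h (∑ i ∈ s, x i) = ∑ i ∈ s, mres F h (x i) :=
  map_sum (mres F h).hom x s

theorem exists_affine_nhd (s : S) (U : S.Opens) (hs : s ∈ U) :
    ∃ W : S.Opens, IsAffineOpen W ∧ s ∈ W ∧ W ≤ U := by
  obtain ⟨_, ⟨W, hW, rfl⟩, hsW, hWU⟩ := S.isBasis_affineOpens.exists_subset_of_mem_open hs U.2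
  exact ⟨W, hW, hsW, hWU⟩

theorem ft_of_dirImg_ft (f : X ⟶ S) [IsAffineHom f] (F : X.Modules) [F.IsQuasicoherent]
    (hM : SheafOfModules.IsFiniteType.{u} (R := AMod.ringSheaf (RelSpec.QCAlg.directImage f))
      ((AMod.dirImg f).obj F)) :
    SheafOfModules.IsFiniteType.{u} (R := X.ringCatSheaf) F := by
  rw [ft_iff_X]
  rw [ft_iff_B] at hM
  intro x
  obtain ⟨U, hxU, K, hK, e, he⟩ := hM (f x)
  rw [topGen_S_iff] at he
  obtain ⟨W, hW, hsW, hWU⟩ := exists_affine_nhd (f x) U hxU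
  have hA : IsAffineOpen (f ⁻¹ᵁ W) := hW.preimage f
  refine ⟨f ⁻¹ᵁ W, hsW, K, hK, fun a => mres F (f.preimage_mono hWU) (e a), ?_⟩
  rw [topGen_X_iff]
  intro U' hU' t y hy
  obtain ⟨h, hhU', hyh⟩ := hA.exists_basicOpen_le ⟨y, hy⟩ (hU' hy)
  obtain ⟨n, x', H⟩ := core F hA h hhU' t
  obtain ⟨U'', hU'', hyU'', r, hr⟩ := he W hWU x' (f y) (hU' hy)
  have hV : X.basicOpen h ⊓ f ⁻¹ᵁ U'' ≤ X.basicOpen h := inf_le_left
  have hV2 : X.basicOpen h ⊓ f ⁻¹ᵁ U'' ≤ f ⁻¹ᵁ U'' := inf_le_right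
  obtain ⟨u, hu⟩ := exists_unit h hV
  refine ⟨X.basicOpen h ⊓ f ⁻¹ᵁ U'', hV.trans hhU', ⟨hyh, hyU''⟩,
    fun a => u ^ n * X.presheaf.map (homOfLE hV2).op (r a), ?_⟩
  rw [H _ hV u hu]
  have h1 := congrArg (mres F hV2) hr
  rw [mres_mres, mres_sum] at h1
  rw [h1, Finset.smul_sum]
  refine Finset.sum_congr rfl (fun a _ => ?_)
  rw [mres_smul, mres_mres, mres_mres, smul_smul]

theorem dirImg_ft_of_ft (f : X ⟶ S) [IsAffineHom f] (F : X.Modules) [F.IsQuasicoherent]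
    [SheafOfModules.IsFiniteType.{u} (R := X.ringCatSheaf) F] :
    SheafOfModules.IsFiniteType.{u} (R := AMod.ringSheaf (RelSpec.QCAlg.directImage f))
      ((AMod.dirImg f).obj F) := by
  rw [ft_iff_B]
  intro s
  obtain ⟨W, hW, hsW, -⟩ := exists_affine_nhd s ⊤ trivial
  have hA : IsAffineOpen (f ⁻¹ᵁ W) := hW.preimage f
  have hfin : Module.Finite Γ(X, f ⁻¹ᵁ W) Γ(F, f ⁻¹ᵁ W) := finite_sections_of_isFiniteType F hA
  obtain ⟨m, g, hg⟩ := Module.Finite.exists_fin (R := Γ(X, f ⁻¹ᵁ W)) (M := Γ(F, f ⁻¹ᵁ W))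
  have hg' : Submodule.span Γ(X, f ⁻¹ᵁ W)
      (Set.range (fun a : ULift.{u} (Fin m) => g a.down)) = ⊤ := by
    have : Set.range (fun a : ULift.{u} (Fin m) => g a.down) = Set.range g :=
      (Equiv.ulift.surjective.range_comp g)
    rw [this, hg]
  refine ⟨W, hsW, ULift.{u} (Fin m), inferInstance, fun a => g a.down, ?_⟩
  rw [topGen_S_iff]
  intro U' hU' t y hy
  obtain ⟨g₀, hg₀U', hyg₀⟩ := hW.exists_basicOpen_le ⟨y, hy⟩ (hU' hy)
  have hpre : f ⁻¹ᵁ S.basicOpen g₀ = X.basicOpen (f.app W g₀) := f.preimage_basicOpen g₀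
  have hD : X.basicOpen (f.app W g₀) ≤ f ⁻¹ᵁ U' := by
    rw [← hpre]; exact f.preimage_mono hg₀U'
  obtain ⟨n, x', H⟩ := core F hA (f.app W g₀) hD t
  have hV : f ⁻¹ᵁ S.basicOpen g₀ ≤ X.basicOpen (f.app W g₀) := hpre.le
  obtain ⟨u, hu⟩ := exists_unit (f.app W g₀) hV
  have hx' : x' ∈ Submodule.span Γ(X, f ⁻¹ᵁ W)
      (Set.range (fun a : ULift.{u} (Fin m) => g a.down)) := by rw [hg']; trivial
  obtain ⟨c, hc⟩ := (Submodule.mem_span_range_iff_exists_fun _).1 hx'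
  refine ⟨S.basicOpen g₀, hg₀U', hyg₀,
    fun a => u ^ n * X.presheaf.map (homOfLE (hV.trans (X.basicOpen_le _))).op (c a), ?_⟩
  rw [H _ hV u hu, ← hc, mres_sum, Finset.smul_sum]
  refine Finset.sum_congr rfl (fun a _ => ?_)
  rw [mres_smul, smul_smul]

end Groth.Agent.H77.DirImgFT
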