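import Mathlib

/-!
# Eilenberg–Watts for functors `F : Mod_A ⥤ Mod_B` (two rings)
-/

set_option autoImplicit false
set_option linter.unusedSectionVars false
universe u

noncomputable section

namespace Groth.Agent.H77.EW2R

open CategoryTheory CategoryTheory.Limits TensorProduct

variable {A B : Type u} [CommRing A] [CommRing B]
  (F : ModuleCat.{u} A ⥤ ModuleCat.{u} B) [F.Additive]

/-- multiplication by `a` on `A` as an endomorphism of `of A A` -/
abbrev ρ (a : A) : ModuleCat.of A A ⟶ ModuleCat.of A A := a • 𝟙 (ModuleCat.of A A)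

lemma ρ_hom_apply (a b : A) : (ρ a).hom b = a * b := rfl

lemma ρ_comp (a b : A) : ρ a ≫ ρ b = ρ (a * b) := by
  ext
  change b * (a * 1) = (a * b) * 1
  ring

/-- the type synonym `F(A)` carrying both module structures -/
def KMod : Type u := F.obj (ModuleCat.of A A)

instance : AddCommGroup (KMod F) := inferInstanceAs (AddCommGroup (F.obj (ModuleCat.of A A)))
instance : Module B (KMod F) := inferInstanceAs (Module B (F.obj (ModuleCat.of A A)))

/-- the underlying additive endomorphism of multiplication by `a` -/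
def act (a : A) : KMod F →ₗ[B] KMod F := (F.map (ρ a)).hom

lemma act_one : act F 1 = LinearMap.id := by
  unfold act
  rw [ρ, one_smul, F.map_id]
  rfl

lemma act_mul (a b : A) : act F (a * b) = act F a ∘ₗ act F b := by
  unfold act
  rw [mul_comm, ← ρ_comp, F.map_comp]
  rfl

lemma act_add (a b : A) : act F (a + b) = act F a + act F b := by
  unfold act
  rw [ρ, add_smul, F.map_add]
  rfl

lemma act_zero : act F 0 = 0 := by
  unfold act
  rw [ρ, zero_smul, F.map_zero]
  rfl

instance : Module A (KMod F) where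
  smul a x := act F a x
  one_smul x := by change act F 1 x = x; rw [act_one]; rfl
  mul_smul a b x := by change act F (a * b) x = act F a (act F b x); rw [act_mul]; rfl
  smul_zero a := map_zero (act F a)
  smul_add a x y := map_add (act F a) x y
  add_smul a b x := by change act F (a + b) x = act F a x + act F b x; rw [act_add]; rfl
  zero_smul x := by change act F 0 x = 0; rw [act_zero]; rfl

lemma smul_def (a : A) (x : KMod F) : a • x = act F a x := rfl

instance : SMulCommClass A B (KMod F) where
  smul_comm a b x := map_smul (act F a) b x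

/-- `θ_m : A → M`, `a ↦ a • m`. -/
abbrev θ (M : ModuleCat.{u} A) (m : M) : ModuleCat.of A A ⟶ M :=
  ModuleCat.ofHom (LinearMap.toSpanSingleton A M m)

lemma θ_hom_apply (M : ModuleCat.{u} A) (m : M) (a : A) : (θ M m).hom a = a • m := rfl

lemma θ_comp {M N : ModuleCat.{u} A} (g : M ⟶ N) (m : M) : θ M m ≫ g = θ N (g.hom m) := by
  ext
  change g.hom ((1 : A) • m) = (1 : A) • g.hom m
  rw [map_smul]

lemma θ_add (M : ModuleCat.{u} A) (m m' : M) : θ M (m + m') = θ M m + θ M m' := by
  ext
  change (1 : A) • (m + m') = (1 : A) • m + (1 : A) • m'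
  rw [smul_add]

lemma θ_zero (M : ModuleCat.{u} A) : θ M (0 : M) = 0 := by
  ext
  change (1 : A) • (0 : M) = 0
  rw [smul_zero]

lemma θ_smul (M : ModuleCat.{u} A) (a : A) (m : M) : θ M (a • m) = ρ a ≫ θ M m := by
  ext
  change (1 : A) • (a • m) = (a * 1) • m
  rw [one_smul, mul_one]

lemma θ_self (a : A) : θ (ModuleCat.of A A) a = ρ a := by
  ext
  change (1 : A) • a = a * 1
  rw [smul_eq_mul, one_mul, mul_one]

/-- the biadditive map underlying `t_M` -/
def tBi (M : ModuleCat.{u} A) : KMod F →+ M →+ F.obj M where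
  toFun x :=
    { toFun := fun m => (F.map (θ M m)).hom x
      map_zero' := by rw [θ_zero, F.map_zero]; rfl
      map_add' := fun m m' => by rw [θ_add, F.map_add]; rfl }
  map_zero' := by
    ext m
    exact map_zero (F.map (θ M m)).hom
  map_add' x y := by
    ext m
    exact map_add (F.map (θ M m)).hom x y

lemma tBi_apply (M : ModuleCat.{u} A) (x : KMod F) (m : M) :
    tBi F M x m = (F.map (θ M m)).hom x := rfl

/-- the additive map `t_M : F(A) ⊗_A M → F(M)` -/
def tAdd (M : ModuleCat.{u} A) : KMod F ⊗[A] M →+ F.obj M :=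
  TensorProduct.liftAddHom (tBi F M) (by
    intro a x m
    rw [tBi_apply, tBi_apply, θ_smul, F.map_comp]
    rfl)

lemma tAdd_tmul (M : ModuleCat.{u} A) (x : KMod F) (m : M) :
    tAdd F M (x ⊗ₜ m) = (F.map (θ M m)).hom x := rfl

/-- the canonical `B`-linear map `t_M : F(A) ⊗_A M → F(M)`. -/
def tMap (M : ModuleCat.{u} A) : KMod F ⊗[A] M →ₗ[B] F.obj M where
  toFun := tAdd F M
  map_add' := map_add (tAdd F M)
  map_smul' b z := by
    induction z using TensorProduct.induction_on with
    | zero => simp
    | tmul x m =>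
      rw [TensorProduct.smul_tmul', tAdd_tmul, tAdd_tmul]
      exact map_smul (F.map (θ M m)).hom b x
    | add z w hz hw => rw [smul_add, map_add, hz, hw, map_add, smul_add]

lemma tMap_tmul (M : ModuleCat.{u} A) (x : KMod F) (m : M) :
    tMap F M (x ⊗ₜ m) = (F.map (θ M m)).hom x := rfl

theorem tMap_natural {M N : ModuleCat.{u} A} (g : M ⟶ N) (z : KMod F ⊗[A] M) :
    (F.map g).hom (tMap F M z) = tMap F N (g.hom.lTensor _ z) := by
  induction z using TensorProduct.induction_on with
  | zero => simp
  | tmul x m =>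
    rw [tMap_tmul, LinearMap.lTensor_tmul, tMap_tmul, ← θ_comp, F.map_comp]
    rfl
  | add z w hz hw => rw [map_add, map_add, hz, hw, map_add, map_add]


section Coprod

variable [∀ J : Type u, PreservesColimitsOfShape (Discrete J) F]

/-- the `B`-linear map `x ↦ x ⊗ single j 1` -/
def legLin (J : Type u) (j : J) : KMod F →ₗ[B] KMod F ⊗[A] (J →₀ A) where
  toFun x := x ⊗ₜ Finsupp.single j 1
  map_add' x y := TensorProduct.add_tmul x y _
  map_smul' _ _ := rfl

theorem tMap_finsupp_bijective (J : Type u) :
    Function.Bijective (tMap F (ModuleCat.of A (J →₀ A))) := by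
  have Q : IsColimit (F.mapCocone (ModuleCat.finsuppCocone A A J)) :=
    isColimitOfPreserves F (ModuleCat.finsuppCoconeIsColimit A A J)
  let sc : Cocone (Discrete.functor (fun _ : J => ModuleCat.of A A) ⋙ F) :=
    { pt := ModuleCat.of B (KMod F ⊗[A] (J →₀ A))
      ι := Discrete.natTrans (fun j => ModuleCat.ofHom (legLin F J j.as)) }
  let s₀ : F.obj (ModuleCat.of A (J →₀ A)) ⟶ ModuleCat.of B (KMod F ⊗[A] (J →₀ A)) := Q.desc sc
  let s : ↑(F.obj (ModuleCat.of A (J →₀ A))) →ₗ[B] KMod F ⊗[A] (J →₀ A) := s₀.hom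
  have hs : ∀ (j : J) (y : KMod F),
      s ((F.map (ModuleCat.ofHom (Finsupp.lsingle j : A →ₗ[A] (J →₀ A)))).hom y) =
        y ⊗ₜ Finsupp.single j 1 := by
    intro j y
    have := Q.fac sc ⟨j⟩
    exact congrArg (fun f => f.hom y) this
  have hθ : ∀ (j : J) (a : A), θ (ModuleCat.of A (J →₀ A)) (Finsupp.single j a) =
      ρ a ≫ ModuleCat.ofHom (Finsupp.lsingle j : A →ₗ[A] (J →₀ A)) := by
    intro j a
    apply ModuleCat.hom_ext
    apply LinearMap.ext
    intro b
    change b • Finsupp.single j a = Finsupp.single j (a * b)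
    rw [Finsupp.smul_single, smul_eq_mul, mul_comm]
  have ht : ∀ (j : J) (a : A) (x : KMod F),
      tMap F (ModuleCat.of A (J →₀ A)) (x ⊗ₜ Finsupp.single j a) =
        (F.map (ModuleCat.ofHom (Finsupp.lsingle j : A →ₗ[A] (J →₀ A)))).hom (a • x) := by
    intro j a x
    rw [tMap_tmul, hθ, F.map_comp]
    rfl
  have hst : ∀ z, s (tMap F (ModuleCat.of A (J →₀ A)) z) = z := by
    intro z
    induction z using TensorProduct.induction_on with
    | zero => rw [map_zero, map_zero]
    | tmul x f =>
      induction f using Finsupp.induction_linear with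
      | zero => rw [TensorProduct.tmul_zero, map_zero, map_zero]
      | add f g hf hg => rw [TensorProduct.tmul_add, map_add, map_add, hf, hg]
      | single j a =>
        rw [ht, hs, TensorProduct.smul_tmul, Finsupp.smul_single, smul_eq_mul, mul_one]
    | add z w hz hw => rw [map_add, map_add, hz, hw]
  let tH : ModuleCat.of B (KMod F ⊗[A] (J →₀ A)) ⟶ F.obj (ModuleCat.of A (J →₀ A)) :=
    ModuleCat.ofHom (tMap F (ModuleCat.of A (J →₀ A)))
  have hts : s₀ ≫ tH = 𝟙 _ := by
    apply Q.hom_ext
    rintro ⟨j⟩
    apply ModuleCat.hom_ext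
    apply LinearMap.ext
    intro y
    change tMap F (ModuleCat.of A (J →₀ A))
      (s ((F.map (ModuleCat.ofHom (Finsupp.lsingle j : A →ₗ[A] (J →₀ A)))).hom y)) =
        (F.map (ModuleCat.ofHom (Finsupp.lsingle j : A →ₗ[A] (J →₀ A)))).hom y
    rw [hs, ht, one_smul]
  constructor
  · intro z w h
    rw [← hst z, ← hst w, h]
  · intro y
    refine ⟨s y, ?_⟩
    exact congrArg (fun f => f.hom y) hts

end Coprod

/-- if `p : L → M` with `t_L` surjective and `F p` surjective, then `t_M` is surjective. -/
theorem tMap_surjective_of_cover {L M : ModuleCat.{u} A} (p : L ⟶ M)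
    (hL : Function.Surjective (tMap F L)) (hp : Function.Surjective (F.map p).hom) :
    Function.Surjective (tMap F M) := by
  intro y
  obtain ⟨w, rfl⟩ := hp y
  obtain ⟨v, rfl⟩ := hL w
  exact ⟨p.hom.lTensor _ v, (tMap_natural F p v).symm⟩

/-- the chase -/
theorem tMap_injective_of_shortExact (S : ShortComplex (ModuleCat.{u} A)) (hS : S.ShortExact)
    (hT : (S.map F).Exact) (h₁ : Function.Surjective (tMap F S.X₁))
    (h₂ : Function.Injective (tMap F S.X₂)) : Function.Injective (tMap F S.X₃) := by
  rw [injective_iff_map_eq_zero]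
  intro z hz
  have hg : Function.Surjective S.g.hom := hS.moduleCat_surjective_g
  obtain ⟨y, rfl⟩ := LinearMap.lTensor_surjective (KMod F) hg z
  have h1 : (F.map S.g).hom (tMap F S.X₂ y) = 0 := by
    rw [tMap_natural, hz]
  rw [ShortComplex.moduleCat_exact_iff] at hT
  obtain ⟨w, hw⟩ := hT (tMap F S.X₂ y) h1
  obtain ⟨v, rfl⟩ := h₁ w
  have h2 : tMap F S.X₂ (S.f.hom.lTensor _ v) = tMap F S.X₂ y := by
    rw [← tMap_natural]
    exact hw
  have h3 := h₂ h2
  rw [← h3, ← LinearMap.comp_apply, ← LinearMap.lTensor_comp]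
  have : S.g.hom ∘ₗ S.f.hom = 0 := by
    rw [← ModuleCat.hom_comp, S.zero]
    rfl
  rw [this, LinearMap.lTensor_zero, LinearMap.zero_apply]

/-- the standard free cover `A^(M) → M`. -/
abbrev pres (M : ModuleCat.{u} A) : (M →₀ A) →ₗ[A] M := Finsupp.linearCombination A (id : M → M)

/-- the standard free presentation of a module as a short complex. -/
def presSC (M : ModuleCat.{u} A) : ShortComplex (ModuleCat.{u} A) :=
  ShortComplex.mk (X₁ := ModuleCat.of A (LinearMap.ker (pres M)))
    (X₂ := ModuleCat.of A (M →₀ A)) (X₃ := M)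
    (ModuleCat.ofHom (LinearMap.ker (pres M)).subtype)
    (ModuleCat.ofHom (pres M))
    (by
      apply ModuleCat.hom_ext
      apply LinearMap.ext
      intro x
      exact x.2)

theorem presSC_shortExact (M : ModuleCat.{u} A) : (presSC M).ShortExact := by
  have hinj : Function.Injective (presSC M).f.hom :=
    (LinearMap.ker (pres M)).injective_subtype
  have hsurj : Function.Surjective (presSC M).g.hom :=
    Finsupp.linearCombination_id_surjective A M
  refine ShortComplex.ShortExact.mk' ?_ ((ModuleCat.mono_iff_injective _).mpr hinj)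
    ((ModuleCat.epi_iff_surjective _).mpr hsurj)
  rw [ShortComplex.moduleCat_exact_iff]
  intro x hx
  exact ⟨(⟨x, hx⟩ : LinearMap.ker (pres M)), rfl⟩

section Main

variable [∀ J : Type u, PreservesColimitsOfShape (Discrete J) F] [PreservesFiniteColimits F]

theorem tMap_surjective (M : ModuleCat.{u} A) : Function.Surjective (tMap F M) := by
  have hepi : Epi (presSC M).g := (presSC_shortExact M).epi_g
  have : Epi (F.map (presSC M).g) := inferInstance
  exact tMap_surjective_of_cover F (L := (presSC M).X₂) (M := M) (presSC M).g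
    (tMap_finsupp_bijective F M).2
    ((ModuleCat.epi_iff_surjective (F.map (presSC M).g)).mp this)

theorem tMap_bijective (M : ModuleCat.{u} A) : Function.Bijective (tMap F M) :=
  ⟨show Function.Injective (tMap F (presSC M).X₃) from
      tMap_injective_of_shortExact F (presSC M) (presSC_shortExact M)
        ((presSC_shortExact M).exact.map_of_epi_of_preservesCokernel F
          (presSC_shortExact M).epi_g inferInstance)
        (tMap_surjective F _) (tMap_finsupp_bijective F M).1,
    tMap_surjective F M⟩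

/-- the `B`-linear isomorphism `F(A) ⊗_A M ≃ F(M)` -/
def η (M : ModuleCat.{u} A) : (KMod F ⊗[A] M) ≃ₗ[B] F.obj M :=
  LinearEquiv.ofBijective (tMap F M) (tMap_bijective F M)

lemma η_apply (M : ModuleCat.{u} A) (z : KMod F ⊗[A] M) : η F M z = tMap F M z := rfl

end Main


lemma additive_of_preservesFiniteColimits (G : ModuleCat.{u} A ⥤ ModuleCat.{u} B)
    [PreservesFiniteColimits G] : G.Additive :=
  (additiveFunctor_iff G).mp
    (rightExactFunctor_le_additiveFunctor _ _ G ((rightExactFunctor_iff G).mpr inferInstance))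

/-- S2204 -/
theorem main2204 (G : ModuleCat.{u} A ⥤ ModuleCat.{u} B) [PreservesFiniteColimits G]
    (hsum : ∀ J : Type u, PreservesColimitsOfShape (Discrete J) G) :
    ∃ (K : Type u) (_ : AddCommGroup K) (_ : Module A K) (_ : Module B K) (_ : SMulCommClass A B K)
      (η : ∀ M : ModuleCat.{u} A, (K ⊗[A] M) ≃ₗ[B] G.obj M),
      ∀ (M N : ModuleCat.{u} A) (f : M ⟶ N) (x : K ⊗[A] M),
        η N (LinearMap.lTensor K f.hom x) = G.map f (η M x) := by
  have : G.Additive := additive_of_preservesFiniteColimits G
  have := hsum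
  exact ⟨KMod G, inferInstance, inferInstance, inferInstance, inferInstance, η G,
    fun M N f x => (tMap_natural G f x).symm⟩

end Groth.Agent.H77.EW2R
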