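import Mathlib
import Groth.Agent.H77.EW2R

/-!
# Eilenberg–Watts, natural transformations (two rings)
-/

set_option autoImplicit false
set_option linter.unusedSectionVars false
universe u

noncomputable section

namespace Groth.Agent.H77.EW2RNat

open CategoryTheory CategoryTheory.Limits TensorProduct
open Groth.Agent.H77.EW2R

variable {A B : Type u} [CommRing A] [CommRing B]
  (F F' : ModuleCat.{u} A ⥤ ModuleCat.{u} B) [F.Additive] [F'.Additive]

section Uniq

variable [∀ J : Type u, PreservesColimitsOfShape (Discrete J) F] [PreservesFiniteColimits F]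

theorem natTrans_ext (t t' : F ⟶ F')
    (h : t.app (ModuleCat.of A A) = t'.app (ModuleCat.of A A)) : t = t' := by
  ext M : 2
  apply ModuleCat.hom_ext
  apply LinearMap.ext
  intro y
  obtain ⟨z, rfl⟩ := tMap_surjective F M y
  induction z using TensorProduct.induction_on with
  | zero => rw [map_zero, map_zero, map_zero]
  | tmul x m =>
    rw [tMap_tmul]
    have h1 := congrArg (fun f => f.hom x) (t.naturality (θ M m))
    have h2 := congrArg (fun f => f.hom x) (t'.naturality (θ M m))
    have h3 : (t.app (ModuleCat.of A A)).hom x = (t'.app (ModuleCat.of A A)).hom x := by rw [h]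
    change (t.app M).hom ((F.map (θ M m)).hom x) =
      (F'.map (θ M m)).hom ((t.app (ModuleCat.of A A)).hom x) at h1
    change (t'.app M).hom ((F.map (θ M m)).hom x) =
      (F'.map (θ M m)).hom ((t'.app (ModuleCat.of A A)).hom x) at h2
    rw [h1, h2, h3]
  | add z w hz hw => rw [map_add, map_add, map_add, hz, hw]

end Uniq

section Exist

variable [∀ J : Type u, PreservesColimitsOfShape (Discrete J) F] [PreservesFiniteColimits F]

variable {F F'}
variable (φ : F.obj (ModuleCat.of A A) ⟶ F'.obj (ModuleCat.of A A))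
  (hφ : ∀ a : A, F.map (ρ a) ≫ φ = φ ≫ F'.map (ρ a))

/-- `φ` as an `A`-linear map -/
def φA : KMod F →ₗ[A] KMod F' where
  toFun x := φ.hom x
  map_add' x y := map_add φ.hom x y
  map_smul' a x := by
    have := congrArg (fun f => f.hom x) (hφ a)
    exact this

lemma φA_apply (x : KMod F) : φA φ hφ x = φ.hom x := rfl

/-- `φ ⊗ id` as a `B`-linear map -/
def phiTensor (M : ModuleCat.{u} A) : KMod F ⊗[A] M →ₗ[B] KMod F' ⊗[A] M where
  toFun := (φA φ hφ).rTensor M
  map_add' := map_add _
  map_smul' b z := by
    induction z using TensorProduct.induction_on with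
    | zero => simp
    | tmul x m =>
      rw [TensorProduct.smul_tmul', LinearMap.rTensor_tmul, LinearMap.rTensor_tmul,
        RingHom.id_apply, TensorProduct.smul_tmul', φA_apply, φA_apply]
      congr 1
      exact map_smul φ.hom b x
    | add z w hz hw => rw [smul_add, map_add, hz, hw, map_add, smul_add]

lemma phiTensor_apply (M : ModuleCat.{u} A) (z : KMod F ⊗[A] M) :
    phiTensor φ hφ M z = (φA φ hφ).rTensor M z := rfl

/-- component of the natural transformation extending `φ` -/
def tApp (M : ModuleCat.{u} A) : F.obj M ⟶ F'.obj M :=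
  ModuleCat.ofHom ((tMap F' M) ∘ₗ (phiTensor φ hφ M) ∘ₗ (η F M).symm.toLinearMap)

lemma tApp_tMap (M : ModuleCat.{u} A) (z : KMod F ⊗[A] M) :
    (tApp φ hφ M).hom (tMap F M z) = tMap F' M ((φA φ hφ).rTensor M z) := by
  change tMap F' M (phiTensor φ hφ M ((η F M).symm (tMap F M z))) = _
  rw [← η_apply F M z, LinearEquiv.symm_apply_apply, phiTensor_apply]

/-- the natural transformation extending `φ` -/
def extendNat : F ⟶ F' where
  app M := tApp φ hφ M
  naturality M N g := by
    apply ModuleCat.hom_ext
    apply LinearMap.ext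
    intro y
    obtain ⟨z, rfl⟩ := tMap_surjective F M y
    change (tApp φ hφ N).hom ((F.map g).hom (tMap F M z)) =
      (F'.map g).hom ((tApp φ hφ M).hom (tMap F M z))
    rw [tMap_natural, tApp_tMap, tApp_tMap, tMap_natural, ← LinearMap.comp_apply,
      ← LinearMap.comp_apply, LinearMap.rTensor_comp_lTensor, LinearMap.lTensor_comp_rTensor]

lemma tMap_self_one (G : ModuleCat.{u} A ⥤ ModuleCat.{u} B) [G.Additive] (y : KMod G) :
    tMap G (ModuleCat.of A A) (y ⊗ₜ (1 : A)) = y := by
  rw [tMap_tmul, θ_self]
  exact one_smul A y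

lemma extendNat_app_self : (extendNat φ hφ).app (ModuleCat.of A A) = φ := by
  apply ModuleCat.hom_ext
  apply LinearMap.ext
  intro y
  change (tApp φ hφ (ModuleCat.of A A)).hom y = φ.hom y
  have hy : y = tMap F (ModuleCat.of A A) ((y : KMod F) ⊗ₜ (1 : A)) := (tMap_self_one F y).symm
  rw [hy, tApp_tMap, LinearMap.rTensor_tmul, tMap_self_one, φA_apply, tMap_self_one]

end Exist

section Main

variable [∀ J : Type u, PreservesColimitsOfShape (Discrete J) F] [PreservesFiniteColimits F]

theorem exists_natTrans_iff (φ : F.obj (ModuleCat.of A A) ⟶ F'.obj (ModuleCat.of A A)) :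
    (∃ t : F ⟶ F', t.app (ModuleCat.of A A) = φ) ↔
      ∀ a : A, F.map (ρ a) ≫ φ = φ ≫ F'.map (ρ a) := by
  constructor
  · rintro ⟨t, rfl⟩ a
    exact t.naturality (ρ a)
  · intro hφ
    exact ⟨extendNat φ hφ, extendNat_app_self φ hφ⟩

end Main

end Groth.Agent.H77.EW2RNat
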