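import Mathlib

set_option autoImplicit false

namespace Groth.Agent.H77.EtPts

open CategoryTheory AlgebraicGeometry

universe u

/-- an element of an extension of an algebraically closed field which is integral lies in it -/
lemma mem_range_of_isIntegral {K Ω : Type*} [Field K] [Field Ω] [Algebra K Ω] [IsAlgClosed K]
    {x : Ω} (hx : IsIntegral K x) : x ∈ (algebraMap K Ω).range :=
  minpoly.mem_range_of_degree_eq_one K x
    (IsAlgClosed.degree_eq_one_of_irreducible K (minpoly.irreducible hx))

theorem part1 (K Ω : Type u) [Field K] [Field Ω] [Algebra K Ω] :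
    Epi (Spec.map (CommRingCat.ofHom (algebraMap K Ω))) := by
  have hflat : Flat (Spec.map (CommRingCat.ofHom (algebraMap K Ω))) := by
    rw [HasRingHomProperty.Spec_iff (P := @Flat)]
    rw [CommRingCat.hom_ofHom, RingHom.flat_algebraMap_iff]
    infer_instance
  have hsurj : Surjective (Spec.map (CommRingCat.ofHom (algebraMap K Ω))) := by
    constructor
    intro x
    refine ⟨(default : PrimeSpectrum Ω), Subsingleton.elim (α := PrimeSpectrum K) _ _⟩
  exact Flat.epi_of_flat_of_surjective _

theorem part2 (k K Ω : Type u) [Field k] [Field K] [Field Ω] [Algebra k K] [IsAlgClosed K]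
    [Algebra K Ω] [Algebra k Ω] [IsScalarTower k K Ω]
    (Z : Scheme.{u}) (f : Z ⟶ Spec (CommRingCat.of k)) [AlgebraicGeometry.Etale f]
    (h : Spec (CommRingCat.of Ω) ⟶ Z)
    (hh : h ≫ f = Spec.map (CommRingCat.ofHom (algebraMap k Ω))) :
    ∃ g : Spec (CommRingCat.of K) ⟶ Z, g ≫ f = Spec.map (CommRingCat.ofHom (algebraMap k K)) ∧
      Spec.map (CommRingCat.ofHom (algebraMap K Ω)) ≫ g = h := by
  let p₀ : Spec (CommRingCat.of Ω) := (default : PrimeSpectrum Ω)
  obtain ⟨U, hU, hzU, -⟩ := exists_isAffineOpen_mem_and_subset (x := h p₀) (U := ⊤) trivial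
  have hrange : Set.range h ⊆ Set.range hU.fromSpec := by
    rw [hU.range_fromSpec]
    rintro _ ⟨p, rfl⟩
    have : p = p₀ := Subsingleton.elim (α := PrimeSpectrum Ω) _ _
    rw [this]
    exact hzU
  let l := IsOpenImmersion.lift hU.fromSpec h hrange
  have hl : l ≫ hU.fromSpec = h := IsOpenImmersion.lift_fac _ _ _
  let ψ : Γ(Z, U) ⟶ CommRingCat.of Ω := Spec.preimage l
  have hψ : Spec.map ψ = l := Spec.map_preimage l
  let a₀ : CommRingCat.of k ⟶ Γ(Z, U) := Spec.preimage (hU.fromSpec ≫ f)
  have ha₀ : Spec.map a₀ = hU.fromSpec ≫ f := Spec.map_preimage _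
  have hcomp : a₀ ≫ ψ = CommRingCat.ofHom (algebraMap k Ω) := by
    apply Spec.map_injective
    rw [Spec.map_comp, hψ, ha₀, ← Category.assoc, hl, hh]
  have het : a₀.hom.Etale := by
    rw [← HasRingHomProperty.Spec_iff (P := @Etale), ha₀]
    infer_instance
  algebraize [a₀.hom]
  have hfin : Module.Finite k Γ(Z, U) := Algebra.FormallyUnramified.finite_of_free k Γ(Z, U)
  have hint : ∀ a : Γ(Z, U), ψ.hom a ∈ (algebraMap K Ω).range := by
    intro a
    apply mem_range_of_isIntegral
    have h1 : IsIntegral k a := Algebra.IsIntegral.isIntegral a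
    have h2 : IsIntegral k (ψ.hom a) := by
      let ψ' : Γ(Z, U) →ₐ[k] Ω :=
        { ψ.hom with
          commutes' := fun c => by
            have := congr_arg (fun φ => φ.hom c) hcomp
            exact this }
      exact h1.map ψ'
    exact h2.tower_top
  let ρ : K →+* Ω := algebraMap K Ω
  let e : K ≃+* ρ.range := RingEquiv.ofBijective ρ.rangeRestrict
    ⟨fun x y hxy => ρ.injective (congr_arg Subtype.val hxy), ρ.rangeRestrict_surjective⟩
  let χ : Γ(Z, U) →+* K := e.symm.toRingHom.comp (ψ.hom.codRestrict ρ.range hint)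
  have hχ : ∀ a, ρ (χ a) = ψ.hom a := by
    intro a
    have : (e (χ a) : Ω) = ψ.hom a := by
      change (e (e.symm _) : Ω) = _
      rw [e.apply_symm_apply]
      rfl
    exact this
  refine ⟨Spec.map (CommRingCat.ofHom χ) ≫ hU.fromSpec, ?_, ?_⟩
  · rw [Category.assoc, ← ha₀, ← Spec.map_comp]
    congr 1
    ext c
    apply ρ.injective
    change ρ (χ (a₀.hom c)) = ρ (algebraMap k K c)
    rw [hχ]
    have := congr_arg (fun φ => φ.hom c) hcomp
    change ψ.hom (a₀.hom c) = algebraMap k Ω c at this
    rw [this]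
    exact IsScalarTower.algebraMap_apply k K Ω c
  · rw [← Category.assoc, ← Spec.map_comp, ← hl, ← hψ]
    congr 2
    ext a
    exact hχ a

end Groth.Agent.H77.EtPts
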