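import Mathlib

namespace Groth.Agent.H77

open Module

/-- Euler characteristic of a finite exact sequence of finite-dimensional vector spaces
`… → V 2 → V 1 → V 0 → W → 0`. -/
theorem euler_char {k : Type*} [Field k] {V : ℕ → Type*} [∀ i, AddCommGroup (V i)]
    [∀ i, Module k (V i)] [∀ i, FiniteDimensional k (V i)]
    {W : Type*} [AddCommGroup W] [Module k W]
    (f : ∀ i, V (i + 1) →ₗ[k] V i) (g : V 0 →ₗ[k] W) (hg : Function.Surjective g)
    (h0 : LinearMap.ker g = LinearMap.range (f 0))
    (hs : ∀ i, LinearMap.ker (f i) = LinearMap.range (f (i + 1)))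
    (m : ℕ) (hm : ∀ i, m < i → finrank k (V i) = 0) :
    (finrank k W : ℤ) = ∑ i ∈ Finset.range (m + 1), (-1 : ℤ) ^ i * (finrank k (V i) : ℤ) := by
  have key : ∀ n : ℕ, ∑ i ∈ Finset.range (n + 1), (-1 : ℤ) ^ i * (finrank k (V i) : ℤ) =
      (finrank k W : ℤ) + (-1 : ℤ) ^ n * (finrank k (LinearMap.range (f n)) : ℤ) := by
    intro n
    induction n with
    | zero =>
      have h1 := LinearMap.finrank_range_add_finrank_ker g
      have h2 : finrank k (LinearMap.range g) = finrank k W := by
        rw [LinearMap.range_eq_top.mpr hg, finrank_top]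
      rw [h2, h0] at h1
      simp only [zero_add, Finset.range_one, Finset.sum_singleton, pow_zero, one_mul]
      omega
    | succ n ih =>
      rw [Finset.sum_range_succ, ih]
      have h1 := LinearMap.finrank_range_add_finrank_ker (f n)
      rw [hs n] at h1
      have h2 : (finrank k (V (n + 1)) : ℤ) = (finrank k (LinearMap.range (f n)) : ℤ) +
          (finrank k (LinearMap.range (f (n + 1))) : ℤ) := by
        exact_mod_cast h1.symm
      rw [h2, pow_succ]
      ring
  rw [key m]
  have h3 : finrank k (LinearMap.range (f m)) = 0 := by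
    have h4 := LinearMap.finrank_range_le (f m)
    rw [hm (m + 1) (Nat.lt_succ_self m)] at h4
    omega
  rw [h3]
  simp

end Groth.Agent.H77
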