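import Groth.Agent.H77.PushColim
import Groth.Agent.H45.SheafTensor.Basic
import Groth.Agent.H71.QCoh.TensorQCohLite
import Groth.Prelude.Def_QCohCat
import Groth.Prelude.Def_DDual2

set_option autoImplicit false
universe u
open CategoryTheory CategoryTheory.Limits AlgebraicGeometry Opposite TopologicalSpace
noncomputable section

namespace Groth.Agent.H77.FKColim

section Tensor

variable {X : Scheme.{u}}

/-- `DCoh.tensorRightMod M` is `- ⊗ M` for the bifunctor `ModSite.tensorBi`. -/
def tensorRightModIso' (M : X.Modules) :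
    DCoh.tensorRightMod M ≅ (ModSite.tensorBi X.sheaf).flip.obj M :=
  NatIso.ofComponents (fun _ => Iso.refl _) (by
    intro A B f
    simp
    rfl)

theorem preservesColimits_tensorRightMod (M : X.Modules) :
    PreservesColimitsOfSize.{u, u} (DCoh.tensorRightMod M) := by
  have h := Groth.Agent.H45.preservesColimits_tensorBi_flip_obj (O := X.sheaf) M
  exact @preservesColimits_of_natIso _ _ _ _ _ _ (tensorRightModIso' M).symm h

theorem isQuasicoherent_tensorRightMod (M N : X.Modules) [M.IsQuasicoherent] [N.IsQuasicoherent] :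
    ((DCoh.tensorRightMod M).obj N).IsQuasicoherent :=
  Groth.Agent.H71.QCohLite.isQuasicoherent_tensorMod N M

end Tensor


section Closed

variable (X : Scheme.{u})

instance isClosedUnderColimitsOfShape_isQCoh (J : Type u) [SmallCategory J] :
    (QCohCat.isQCoh X).IsClosedUnderColimitsOfShape J where
  colimitsOfShape_le := by
    rintro M ⟨h⟩
    have := h.hasColimit
    have h1 : (colimit h.diag).IsQuasicoherent :=
      Groth.Agent.H30.QCohColimit.isQuasicoherent_colimit h.diag h.prop_diag_obj
    have h1' : (colimit.cocone h.diag).pt.IsQuasicoherent := h1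
    exact Groth.Agent.H12.QCohAbelian.isQuasicoherent_of_iso
      ((colimit.isColimit h.diag).coconePointUniqueUpToIso h.isColimit)

theorem preservesColimit_ι {J : Type u} [SmallCategory J] (D : J ⥤ QCohCat.QCoh X) :
    PreservesColimit D (ObjectProperty.ι (QCohCat.isQCoh X)) := inferInstance

end Closed

section Main

variable (R : Type u) [CommRing R] (X Y : Scheme.{u}) [X.Over (Spec (.of R))]
  [Y.Over (Spec (.of R))] [IsAffine X]
  (K : (Limits.pullback (X ↘ Spec (.of R)) (Y ↘ Spec (.of R))).Modules) [K.IsQuasicoherent]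

theorem isAffineHom_snd : IsAffineHom (Limits.pullback.snd (X ↘ Spec (.of R)) (Y ↘ Spec (.of R))) :=
  MorphismProperty.pullback_snd _ _ (inferInstance : IsAffineHom (X ↘ Spec (.of R)))

/-- the Fourier–Mukai type functor with kernel `K` on quasi-coherent modules -/
abbrev FK : QCohCat.QCoh X ⥤ Y.Modules :=
  ObjectProperty.ι (QCohCat.isQCoh X) ⋙
    Scheme.Modules.pullback (Limits.pullback.fst (X ↘ Spec (.of R)) (Y ↘ Spec (.of R))) ⋙
    DCoh.tensorRightMod K ⋙ Coh.push (Limits.pullback.snd (X ↘ Spec (.of R)) (Y ↘ Spec (.of R)))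

theorem preservesColimit_FK {J : Type u} [SmallCategory J] (D : J ⥤ QCohCat.QCoh X) :
    PreservesColimit D (FK R X Y K) := by
  have := isAffineHom_snd R X Y
  have h1 : PreservesColimit D (ObjectProperty.ι (QCohCat.isQCoh X)) := preservesColimit_ι X D
  have h2 : PreservesColimit (D ⋙ ObjectProperty.ι (QCohCat.isQCoh X))
      (Scheme.Modules.pullback (Limits.pullback.fst (X ↘ Spec (.of R)) (Y ↘ Spec (.of R)))) :=
    (Scheme.Modules.pullbackPushforwardAdjunction _).leftAdjoint_preservesColimits.preservesColimitsOfShape.preservesColimit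
  have h3 : PreservesColimit ((D ⋙ ObjectProperty.ι (QCohCat.isQCoh X)) ⋙
      Scheme.Modules.pullback (Limits.pullback.fst (X ↘ Spec (.of R)) (Y ↘ Spec (.of R))))
      (DCoh.tensorRightMod K) :=
    (preservesColimits_tensorRightMod K).preservesColimitsOfShape.preservesColimit
  have h4 : PreservesColimit (((D ⋙ ObjectProperty.ι (QCohCat.isQCoh X)) ⋙
      Scheme.Modules.pullback (Limits.pullback.fst (X ↘ Spec (.of R)) (Y ↘ Spec (.of R)))) ⋙
      DCoh.tensorRightMod K)
      (Coh.push (Limits.pullback.snd (X ↘ Spec (.of R)) (Y ↘ Spec (.of R)))) := by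
    apply Groth.Agent.H77.PushColim.preservesColimit_pushforward
    intro j
    have hq : (D.obj j).obj.IsQuasicoherent := (D.obj j).property
    have hq2 : ((Scheme.Modules.pullback (Limits.pullback.fst (X ↘ Spec (.of R))
        (Y ↘ Spec (.of R)))).obj (D.obj j).obj).IsQuasicoherent := inferInstance
    exact @isQuasicoherent_tensorRightMod _ K _ _ hq2
  have h34 : PreservesColimit ((D ⋙ ObjectProperty.ι (QCohCat.isQCoh X)) ⋙
      Scheme.Modules.pullback (Limits.pullback.fst (X ↘ Spec (.of R)) (Y ↘ Spec (.of R))))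
      (DCoh.tensorRightMod K ⋙
        Coh.push (Limits.pullback.snd (X ↘ Spec (.of R)) (Y ↘ Spec (.of R)))) :=
    comp_preservesColimit _ _
  have h234 : PreservesColimit (D ⋙ ObjectProperty.ι (QCohCat.isQCoh X))
      (Scheme.Modules.pullback (Limits.pullback.fst (X ↘ Spec (.of R)) (Y ↘ Spec (.of R))) ⋙
        DCoh.tensorRightMod K ⋙
        Coh.push (Limits.pullback.snd (X ↘ Spec (.of R)) (Y ↘ Spec (.of R)))) :=
    comp_preservesColimit _ _
  exact comp_preservesColimit _ _

theorem preservesColimitsOfShape_FK (J : Type u) [SmallCategory J] :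
    PreservesColimitsOfShape J (FK R X Y K) := ⟨fun {D} => preservesColimit_FK R X Y K D⟩

theorem preservesFiniteColimits_FK : PreservesFiniteColimits (FK R X Y K) where
  preservesFiniteColimits J _ _ := by
    let e := ULiftHomULiftCategory.equiv.{u, u} J
    have := preservesColimitsOfShape_FK R X Y K (ULiftHom.{u} (ULift.{u} J))
    exact preservesColimitsOfShape_of_equiv e.symm (FK R X Y K)

end Main

end Groth.Agent.H77.FKColim
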