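import Mathlib
namespace Groth.Agent.H77

theorem isArtinian_of_finite_torsion {R M : Type*} [CommRing R] [IsDomain R] [IsNoetherianRing R]
    [Ring.KrullDimLE 1 R] [AddCommGroup M] [Module R M] [Module.Finite R M]
    (hM : Module.IsTorsion R M) : IsArtinian R M := by
  classical
  obtain ⟨a, haann, ha⟩ := Submodule.annihilator_top_inter_nonZeroDivisors hM
  have hfl := isFiniteLength_quotient_span_singleton R ha
  rw [isFiniteLength_iff_isNoetherian_isArtinian] at hfl
  have hart : IsArtinian R (R ⧸ Ideal.span {a}) := hfl.2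
  obtain ⟨n, s, hs⟩ := Module.Finite.exists_fin (R := R) (M := M)
  have hann : ∀ m : M, a • m = 0 := by
    intro m
    exact (Submodule.mem_annihilator.mp haann) m Submodule.mem_top
  have hker : ∀ i, Ideal.span {a} ≤ LinearMap.ker (LinearMap.toSpanSingleton R M (s i)) := by
    intro i
    rw [Ideal.span_le]
    intro x hx
    rw [Set.mem_singleton_iff] at hx
    subst hx
    simp [hann]
  let g : (Fin n → R ⧸ Ideal.span {a}) →ₗ[R] M :=
    ∑ i, (Submodule.liftQ (Ideal.span {a}) (LinearMap.toSpanSingleton R M (s i)) (hker i)) ∘ₗ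
      (LinearMap.proj i)
  have hg : Function.Surjective g := by
    intro m
    have hm : m ∈ Submodule.span R (Set.range s) := by rw [hs]; trivial
    rw [Submodule.mem_span_range_iff_exists_fun] at hm
    obtain ⟨c, hc⟩ := hm
    refine ⟨fun i => Ideal.Quotient.mk _ (c i), ?_⟩
    simp only [g, LinearMap.sum_apply, LinearMap.comp_apply, LinearMap.proj_apply]
    rw [← hc]
    apply Finset.sum_congr rfl
    intro i _
    change (Submodule.liftQ (Ideal.span {a}) (LinearMap.toSpanSingleton R M (s i)) (hker i))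
      (Submodule.Quotient.mk (c i)) = _
    rw [Submodule.liftQ_apply, LinearMap.toSpanSingleton_apply]
  exact isArtinian_of_surjective _ g hg

section
variable {R M : Type*} [CommRing R] [AddCommGroup M] [Module R M] (σ : R ≃+* R)
  (φ : M →ₛₗ[(σ.symm : R →+* R)] M)

lemma iter_smul (n : ℕ) (a : R) (x : M) :
    (⇑φ)^[n] (a • x) = ((⇑σ.symm)^[n] a) • (⇑φ)^[n] x := by
  induction n generalizing a x with
  | zero => simp
  | succ n ih =>
    rw [Function.iterate_succ_apply', Function.iterate_succ_apply', Function.iterate_succ_apply', ih,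
      φ.map_smulₛₗ]
    rfl

lemma iter_smul' (n : ℕ) (a : R) (x : M) :
    a • (⇑φ)^[n] x = (⇑φ)^[n] (((⇑σ)^[n] a) • x) := by
  rw [iter_smul]
  congr 1
  induction n generalizing a with
  | zero => simp
  | succ n ih =>
    rw [Function.iterate_succ_apply', Function.iterate_succ_apply, ← ih]
    simp

/-- kernel of the `n`-th iterate -/
def Kn (n : ℕ) : Submodule R M where
  carrier := {x | (⇑φ)^[n] x = 0}
  add_mem' := by
    intro x y hx hy
    simp only [Set.mem_ofPred_eq] at hx hy ⊢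
    rw [iterate_map_add, hx, hy, add_zero]
  zero_mem' := by
    simp only [Set.mem_ofPred_eq]
    exact iterate_map_zero φ n
  smul_mem' := by
    intro a x hx
    simp only [Set.mem_ofPred_eq] at hx ⊢
    rw [iter_smul, hx, smul_zero]

/-- image of the `n`-th iterate -/
def In (n : ℕ) : Submodule R M where
  carrier := Set.range (⇑φ)^[n]
  add_mem' := by
    rintro _ _ ⟨x, rfl⟩ ⟨y, rfl⟩
    exact ⟨x + y, iterate_map_add φ n x y⟩
  zero_mem' := ⟨0, iterate_map_zero φ n⟩
  smul_mem' := by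
    rintro a _ ⟨x, rfl⟩
    exact ⟨_, (iter_smul' σ φ n a x).symm⟩

lemma mem_Kn {n : ℕ} {x : M} : x ∈ Kn σ φ n ↔ (⇑φ)^[n] x = 0 := Iff.rfl
lemma mem_In {n : ℕ} {x : M} : x ∈ In σ φ n ↔ ∃ y, (⇑φ)^[n] y = x := Iff.rfl

lemma Kn_mono : Monotone (Kn σ φ) := by
  apply monotone_nat_of_le_succ
  intro n x hx
  rw [mem_Kn] at hx ⊢
  rw [Function.iterate_succ_apply', hx, map_zero]

lemma In_anti : Antitone (In σ φ) := by
  apply antitone_nat_of_succ_le
  intro n x hx
  rw [mem_In] at hx ⊢
  obtain ⟨y, rfl⟩ := hx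
  exact ⟨φ y, by rw [Function.iterate_succ_apply]⟩

theorem fitting_semilinear [IsNoetherian R M] [IsArtinian R M] :
    ∃ Ms Mn : Submodule R M, IsCompl Ms Mn ∧
      Set.MapsTo φ Ms Ms ∧ Set.MapsTo φ Mn Mn ∧ Set.BijOn φ Ms Ms ∧
      ∃ r : ℕ, ∀ x ∈ Mn, (⇑φ)^[r] x = 0 := by
  obtain ⟨N, hN⟩ := monotone_stabilizes_iff_noetherian.mpr ‹IsNoetherian R M›
    ⟨Kn σ φ, Kn_mono σ φ⟩
  obtain ⟨N', hN'⟩ := IsArtinian.monotone_stabilizes (R := R) (M := M)
    ⟨fun n => OrderDual.toDual (In σ φ n), fun a b hab => In_anti σ φ hab⟩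
  simp only [OrderHom.coe_mk] at hN hN'
  set r := max N N' with hr
  have hK : ∀ n, r ≤ n → Kn σ φ n = Kn σ φ r := by
    intro n hn
    rw [← hN n (le_trans (le_max_left _ _) hn), ← hN r (le_max_left _ _)]
  have hI : ∀ n, r ≤ n → In σ φ n = In σ φ r := by
    intro n hn
    have h1 := hN' n (le_trans (le_max_right _ _) hn)
    have h2 := hN' r (le_max_right _ _)
    exact OrderDual.toDual.injective (h1.symm.trans h2)
  have hdisj : ∀ x, x ∈ In σ φ r → x ∈ Kn σ φ r → x = 0 := by
    intro x hx hx'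
    obtain ⟨y, rfl⟩ := hx
    rw [mem_Kn, ← Function.iterate_add_apply] at hx'
    have : y ∈ Kn σ φ (r + r) := hx'
    rw [hK (r + r) (by omega)] at this
    exact this
  refine ⟨In σ φ r, Kn σ φ r, ⟨?_, ?_⟩, ?_, ?_, ?_, r, fun x hx => hx⟩
  · rw [Submodule.disjoint_def]
    exact hdisj
  · rw [codisjoint_iff, Submodule.eq_top_iff']
    intro x
    have h1 : (⇑φ)^[r] x ∈ In σ φ r := ⟨x, rfl⟩
    rw [← hI (r + r) (by omega)] at h1
    obtain ⟨y, hy⟩ := h1
    rw [Function.iterate_add_apply] at hy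
    rw [Submodule.mem_sup]
    refine ⟨(⇑φ)^[r] y, ⟨y, rfl⟩, x - (⇑φ)^[r] y, ?_, by abel⟩
    rw [mem_Kn, iterate_map_sub, hy, sub_self]
  · rintro _ ⟨y, rfl⟩
    exact ⟨φ y, by rw [← Function.iterate_succ_apply, Function.iterate_succ_apply']⟩
  · intro x hx
    rw [SetLike.mem_coe, mem_Kn] at hx ⊢
    rw [← Function.iterate_succ_apply, Function.iterate_succ_apply', hx, map_zero]
  · refine ⟨?_, ?_, ?_⟩
    · rintro _ ⟨y, rfl⟩
      exact ⟨φ y, by rw [← Function.iterate_succ_apply, Function.iterate_succ_apply']⟩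
    · intro x hx x' hx' hxx'
      have hsub : x - x' ∈ In σ φ r := (In σ φ r).sub_mem hx hx'
      have hk1 : x - x' ∈ Kn σ φ 1 := by
        rw [mem_Kn, Function.iterate_one, map_sub, hxx', sub_self]
      have hk : x - x' ∈ Kn σ φ r := by
        have := Kn_mono σ φ (le_max_left 1 r) hk1
        rwa [hK (max 1 r) (le_max_right _ _)] at this
      exact sub_eq_zero.mp (hdisj _ hsub hk)
    · intro x hx
      have : x ∈ In σ φ (r + 1) := by rw [hI (r + 1) (by omega)]; exact hx
      obtain ⟨y, rfl⟩ := this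
      exact ⟨(⇑φ)^[r] y, ⟨y, rfl⟩, by rw [Function.iterate_succ_apply']⟩

end

theorem main04 (p : ℕ) [Fact p.Prime]
    (k : Type*) [Field k] [CharP k p] [IsAlgClosed k]
    (M : Type*) [AddCommGroup M] [Module (WittVector p k) M] [Module.Finite (WittVector p k) M]
    (hM : Module.IsTorsion (WittVector p k) M)
    (φ : M →ₛₗ[((WittVector.frobeniusEquiv p k).symm : WittVector p k →+* WittVector p k)] M) :
    ∃ Ms Mn : Submodule (WittVector p k) M, IsCompl Ms Mn ∧
      Set.MapsTo φ Ms Ms ∧ Set.MapsTo φ Mn Mn ∧ Set.BijOn φ Ms Ms ∧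
      ∃ r : ℕ, ∀ x ∈ Mn, (⇑φ)^[r] x = 0 := by
  have : IsArtinian (WittVector p k) M := isArtinian_of_finite_torsion hM
  have : IsNoetherian (WittVector p k) M := inferInstance
  exact fitting_semilinear (WittVector.frobeniusEquiv p k) φ

end Groth.Agent.H77
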