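import Mathlib
import Groth.Agent.H77.RelTildeCore

/-!
# Gluing compatible families of sections of modules indexed by affine opens of the base

Abstract form of the construction of a module on a relative `Proj` from modules on the charts:
`E U` modules on `P` (supported on `p⁻¹ U`), transition maps `c U V : E U ⟶ E V` for `V` "basic in" `U`,
bijective over `p⁻¹ V` and transitive.  A compatible family over `W ≤ p⁻¹ U₀` is determined by, and can be
prescribed through, its component at `U₀`.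
-/

set_option autoImplicit false
universe u
open CategoryTheory CategoryTheory.Limits AlgebraicGeometry Opposite TopologicalSpace
noncomputable section

namespace Groth.Agent.H77.GlueFam

open Groth.Agent.H77.RelTildeCore

section Glue

variable {X : Scheme.{u}}

/-- gluing sections of a module over an open cover -/
theorem exists_glue (F : X.Modules) {κ : Type u} (Wk : κ → X.Opens) (W : X.Opens)
    (hle : ∀ k, Wk k ≤ W) (hcov : W ≤ ⨆ k, Wk k) (t : ∀ k, Γ(F, Wk k))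
    (hcompat : ∀ k k', mres F (inf_le_left : Wk k ⊓ Wk k' ≤ Wk k) (t k) =
      mres F (inf_le_right : Wk k ⊓ Wk k' ≤ Wk k') (t k')) :
    ∃ s : Γ(F, W), ∀ k, mres F (hle k) s = t k := by
  let Fs : TopCat.Sheaf AddCommGrpCat X.toTopCat := ⟨F.presheaf, F.isSheaf⟩
  obtain ⟨s, hs, -⟩ := TopCat.Sheaf.existsUnique_gluing' Fs Wk W (fun k => homOfLE (hle k)) hcov t
    (fun k k' => hcompat k k')
  exact ⟨s, hs⟩

end Glue

variable {Y P : Scheme.{u}} (p : P ⟶ Y)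
  (Bas : Y.affineOpens → Y.affineOpens → Prop)
  (E : Y.affineOpens → P.Modules)
  (c : ∀ U V : Y.affineOpens, Bas U V → (E U ⟶ E V))

/-- the hypotheses of the gluing construction -/
structure GlueHyp : Prop where
  le : ∀ {U V : Y.affineOpens}, Bas U V → V.1 ≤ U.1
  inter : ∀ (U U' : Y.affineOpens) (y : Y), y ∈ U.1 → y ∈ U'.1 →
    ∃ D : Y.affineOpens, y ∈ D.1 ∧ Bas U D ∧ Bas U' D
  trans : ∀ {U V V' : Y.affineOpens}, Bas U V → Bas V V' → Bas U V'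
  supp_inj : ∀ (U : Y.affineOpens) (W : P.Opens),
    Function.Injective (mres (E U) (inf_le_left : W ⊓ p ⁻¹ᵁ U.1 ≤ W))
  supp_surj : ∀ (U : Y.affineOpens) (W : P.Opens),
    Function.Surjective (mres (E U) (inf_le_left : W ⊓ p ⁻¹ᵁ U.1 ≤ W))
  bij : ∀ (U V : Y.affineOpens) (h : Bas U V) (W : P.Opens), W ≤ p ⁻¹ᵁ V.1 →
    Function.Bijective ((c U V h).app W)
  comp : ∀ (U V V' : Y.affineOpens) (h : Bas U V) (h' : Bas V V') (h'' : Bas U V'),
    c U V h ≫ c V V' h' = c U V' h''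

/-- compatible families of sections over `W` -/
def IsFam (W : P.Opens) (x : ∀ U : Y.affineOpens, Γ(E U, W)) : Prop :=
  ∀ (U V : Y.affineOpens) (h : Bas U V), x V = (c U V h).app W (x U)

variable {p Bas E c}

/-- the property pinning the `V`-component of the family extending `y` -/
def Pin (U₀ V : Y.affineOpens) (W : P.Opens) (y : Γ(E U₀, W)) (t : Γ(E V, W)) : Prop :=
  ∀ (D : Y.affineOpens) (hU : Bas U₀ D) (hV : Bas V D),
    (c V D hV).app W t = (c U₀ D hU).app W y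

theorem comp_app (H : GlueHyp p Bas E c) {U V V' : Y.affineOpens} (h : Bas U V) (h' : Bas V V')
    (h'' : Bas U V') (W : P.Opens) (s : Γ(E U, W)) :
    (c V V' h').app W ((c U V h).app W s) = (c U V' h'').app W s := by
  have := congrArg (fun f => (Scheme.Modules.Hom.app f W) s) (H.comp U V V' h h' h'')
  exact this

theorem pin_unique (H : GlueHyp p Bas E c) {U₀ V : Y.affineOpens} {W : P.Opens}
    (hW : W ≤ p ⁻¹ᵁ U₀.1) (y : Γ(E U₀, W)) (t t' : Γ(E V, W))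
    (ht : Pin (c := c) U₀ V W y t) (ht' : Pin (c := c) U₀ V W y t') : t = t' := by
  apply H.supp_inj V W
  refine eq_of_locally_eq (E V) _ _ (fun z hz => ?_)
  obtain ⟨D, hzD, hU, hV⟩ := H.inter U₀ V (p.base z) (hW hz.1) hz.2
  have hle : W ⊓ p ⁻¹ᵁ D.1 ≤ W ⊓ p ⁻¹ᵁ V.1 :=
    inf_le_inf_left _ (fun a ha => H.le hV ha)
  refine ⟨W ⊓ p ⁻¹ᵁ D.1, hle, ⟨hz.1, hzD⟩, ?_⟩
  rw [mres_mres, mres_mres]
  apply (H.bij V D hV (W ⊓ p ⁻¹ᵁ D.1) inf_le_right).1
  rw [app_mres, app_mres, ht D hU hV, ht' D hU hV]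

theorem pin_exists (H : GlueHyp p Bas E c) {U₀ : Y.affineOpens} (V : Y.affineOpens) {W : P.Opens}
    (hW : W ≤ p ⁻¹ᵁ U₀.1) (y : Γ(E U₀, W)) : ∃ t : Γ(E V, W), Pin (c := c) U₀ V W y t := by
  -- the index set: common basic opens
  let κ : Type u := {D : Y.affineOpens // Bas U₀ D ∧ Bas V D}
  let Wk : κ → P.Opens := fun k => W ⊓ p ⁻¹ᵁ k.1.1
  have hWkV : ∀ k : κ, Wk k ≤ W ⊓ p ⁻¹ᵁ V.1 := fun k =>
    inf_le_inf_left _ (fun a ha => H.le k.2.2 ha)
  have hWkW : ∀ k : κ, Wk k ≤ W := fun k => inf_le_left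
  -- local pieces
  have hloc : ∀ k : κ, ∃ tk : Γ(E V, Wk k),
      (c V k.1 k.2.2).app (Wk k) tk = mres (E k.1) (hWkW k) ((c U₀ k.1 k.2.1).app W y) := fun k =>
    (H.bij V k.1 k.2.2 (Wk k) inf_le_right).2 _
  choose tk htk using hloc
  -- compatibility
  have hcompat : ∀ k k' : κ, mres (E V) (inf_le_left : Wk k ⊓ Wk k' ≤ Wk k) (tk k) =
      mres (E V) (inf_le_right : Wk k ⊓ Wk k' ≤ Wk k') (tk k') := by
    intro k k'
    refine eq_of_locally_eq (E V) _ _ (fun z hz => ?_)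
    obtain ⟨D, hzD, hD, hD'⟩ := H.inter k.1 k'.1 (p.base z) hz.1.2 hz.2.2
    have hle : W ⊓ p ⁻¹ᵁ D.1 ≤ Wk k ⊓ Wk k' :=
      le_inf (inf_le_inf_left _ (fun a ha => H.le hD ha))
        (inf_le_inf_left _ (fun a ha => H.le hD' ha))
    refine ⟨W ⊓ p ⁻¹ᵁ D.1, hle, ⟨hz.1.1, hzD⟩, ?_⟩
    rw [mres_mres, mres_mres]
    have hVD : Bas V D := H.trans k.2.2 hD
    have hUD : Bas U₀ D := H.trans k.2.1 hD
    apply (H.bij V D hVD (W ⊓ p ⁻¹ᵁ D.1) inf_le_right).1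
    have key : ∀ (k₁ : κ) (hD₁ : Bas k₁.1 D) (hle₁ : W ⊓ p ⁻¹ᵁ D.1 ≤ Wk k₁),
        (c V D hVD).app (W ⊓ p ⁻¹ᵁ D.1) (mres (E V) hle₁ (tk k₁)) =
          mres (E D) (inf_le_left : W ⊓ p ⁻¹ᵁ D.1 ≤ W) ((c U₀ D hUD).app W y) := by
      intro k₁ hD₁ hle₁
      rw [← comp_app H k₁.2.2 hD₁ hVD, app_mres, htk k₁, mres_mres, app_mres,
        comp_app H k₁.2.1 hD₁ hUD]
    rw [key k hD, key k' hD']
  -- glue
  have hcov : W ⊓ p ⁻¹ᵁ V.1 ≤ ⨆ k, Wk k := by
    intro z hz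
    obtain ⟨D, hzD, hU, hV⟩ := H.inter U₀ V (p.base z) (hW hz.1) hz.2
    exact Opens.mem_iSup.mpr ⟨⟨D, hU, hV⟩, ⟨hz.1, hzD⟩⟩
  obtain ⟨t', ht'⟩ := exists_glue (E V) Wk (W ⊓ p ⁻¹ᵁ V.1) hWkV hcov tk hcompat
  obtain ⟨t, ht⟩ := H.supp_surj V W t'
  refine ⟨t, ?_⟩
  intro D hU hV
  apply H.supp_inj D W
  have h1 := htk ⟨D, hU, hV⟩
  have h2 := ht' ⟨D, hU, hV⟩
  rw [← app_mres, ← app_mres]
  change (c V D hV).app (Wk ⟨D, hU, hV⟩) _ = (c U₀ D hU).app (Wk ⟨D, hU, hV⟩) _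
  rw [app_mres (c U₀ D hU), ← h1, ← h2, ← ht, mres_mres]

/-- a compatible family over `W ≤ p⁻¹ U₀` is determined by its `U₀`-component -/
theorem fam_ext (H : GlueHyp p Bas E c) {U₀ : Y.affineOpens} {W : P.Opens} (hW : W ≤ p ⁻¹ᵁ U₀.1)
    (x x' : ∀ U : Y.affineOpens, Γ(E U, W)) (hx : IsFam Bas E c W x) (hx' : IsFam Bas E c W x')
    (h0 : x U₀ = x' U₀) : x = x' := by
  funext V
  refine pin_unique H hW (x U₀) (x V) (x' V) ?_ ?_
  · intro D hU hV
    rw [← hx V D hV, ← hx U₀ D hU]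
  · intro D hU hV
    rw [← hx' V D hV, h0, ← hx' U₀ D hU]

/-- every section of `E U₀` over `W ≤ p⁻¹ U₀` is the `U₀`-component of a compatible family -/
theorem fam_exists (H : GlueHyp p Bas E c) {U₀ : Y.affineOpens} {W : P.Opens} (hW : W ≤ p ⁻¹ᵁ U₀.1)
    (y : Γ(E U₀, W)) : ∃ x : ∀ U : Y.affineOpens, Γ(E U, W), IsFam Bas E c W x ∧ x U₀ = y := by
  choose x hx using fun V => pin_exists H V hW y
  refine ⟨x, ?_, ?_⟩
  · intro V V' h
    refine pin_unique H hW y _ _ (hx V') ?_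
    intro D hU hV'
    rw [comp_app H h hV' (H.trans h hV'), hx V D hU (H.trans h hV')]
  · refine pin_unique H hW y _ _ (hx U₀) ?_
    intro D hU hV
    rfl

end Groth.Agent.H77.GlueFam
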