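import Groth.Agent.H77.Hilb
import Mathlib

/-!
# Comparison of graded free resolutions

A minimal graded free resolution is a direct summand (modulo the ideal `𝔪`) of any other graded
free resolution of the same module; hence the generator degrees of a minimal resolution occur among
those of any other resolution.  Consequence: the regularity formula `reg = sup (t_i - i)`.
-/

set_option autoImplicit false
set_option linter.unusedSectionVars false

namespace Groth.Agent.H77.GrComp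

open DirectSum GrSyz Module Matrix

universe u

section General

variable {k : Type u} [Field k] {R : Type u} [CommRing R] [Algebra k R]
  {𝒜 : ℤ → Submodule k R} [GradedRing 𝒜]
  {M : Type u} [AddCommGroup M] [Module k M] [Module R M] [IsScalarTower k R M]
  {ℳ : ℤ → Submodule k M} [DirectSum.Decomposition ℳ] [SetLike.GradedSMul 𝒜 ℳ]

/-- generic lifting of a map out of a finite free module, basis vector by basis vector -/
lemma exists_lift_of_forall_basis {n : ℕ} {N N' : Type*} [AddCommGroup N] [Module R N]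
    [AddCommGroup N'] [Module R N']
    (f : (Fin n → R) →ₗ[R] N) (g : N' →ₗ[R] N) (P : Fin n → N' → Prop)
    (h : ∀ b, ∃ w, P b w ∧ g w = f (Pi.single b 1)) :
    ∃ vs : Fin n → N', (∀ b, P b (vs b)) ∧ ∀ v, g (Fintype.linearCombination R vs v) = f v := by
  choose vs hP hg using h
  refine ⟨vs, hP, fun v => ?_⟩
  rw [Fintype.linearCombination_apply, map_sum]
  conv_rhs => rw [pi_eq_sum_univ' v, map_sum]
  apply Finset.sum_congr rfl
  intro b _
  rw [map_smul, map_smul, hg]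

variable (F G : FreeRes 𝒜 ℳ)

lemma single_mem_piece (i : ℕ) (b : Fin (F.rk i)) :
    (Pi.single b 1 : Fin (F.rk i) → R) ∈ piece F i (F.deg i b) := by
  rw [mem_piece]
  intro c
  by_cases h : c = b
  · subst h
    rw [Pi.single_eq_same, sub_self]
    exact SetLike.GradedOne.one_mem
  · rw [Pi.single_eq_of_ne h]
    exact zero_mem _

/-- A linear map between terms of two resolutions is graded (of degree zero). -/
def IsGrMap {i j : ℕ} (φ : (Fin (F.rk i) → R) →ₗ[R] (Fin (G.rk j) → R)) : Prop :=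
  ∀ d, ∀ v ∈ piece F i d, φ v ∈ piece G j d

lemma isGrMap_linearCombination {i j : ℕ} (vs : Fin (F.rk i) → (Fin (G.rk j) → R))
    (hvs : ∀ b, vs b ∈ piece G j (F.deg i b)) :
    IsGrMap F G (Fintype.linearCombination R vs) := by
  intro d v hv
  rw [Fintype.linearCombination_apply]
  apply Submodule.sum_mem
  intro b _
  rw [mem_piece] at hv ⊢
  intro a
  have h1 := (mem_piece G).mp (hvs b) a
  have h := SetLike.mul_mem_graded (hv b) h1
  have e : d - F.deg i b + (F.deg i b - G.deg j a) = d - G.deg j a := by ring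
  rw [e] at h
  simpa [Pi.smul_apply, smul_eq_mul] using h

lemma exists_lift_aug {d : ℤ} {x : M} (hx : x ∈ ℳ d) :
    ∃ v ∈ piece G 0 d, G.augLin v = x := by
  obtain ⟨⟨v, hv⟩, h⟩ := augPiece_surjective G d ⟨x, hx⟩
  exact ⟨v, hv, congr_arg Subtype.val h⟩

lemma exists_lift_d0 {d : ℤ} {v : Fin (G.rk 0) → R} (hv : v ∈ piece G 0 d)
    (h0 : G.augLin v = 0) : ∃ w ∈ piece G 1 d, G.dLin 0 w = v := by
  have hk : (⟨v, hv⟩ : piece G 0 d) ∈ LinearMap.ker (augPiece G d) := by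
    rw [LinearMap.mem_ker]
    exact Subtype.ext h0
  rw [ker_augPiece] at hk
  obtain ⟨⟨w, hw⟩, h⟩ := hk
  exact ⟨w, hw, congr_arg Subtype.val h⟩

lemma exists_lift_d (i : ℕ) {d : ℤ} {v : Fin (G.rk (i + 1)) → R} (hv : v ∈ piece G (i + 1) d)
    (h0 : G.dLin i v = 0) : ∃ w ∈ piece G (i + 2) d, G.dLin (i + 1) w = v := by
  have hk : (⟨v, hv⟩ : piece G (i + 1) d) ∈ LinearMap.ker (dPiece G i d) := by
    rw [LinearMap.mem_ker]
    exact Subtype.ext h0
  rw [ker_dPiece] at hk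
  obtain ⟨⟨w, hw⟩, h⟩ := hk
  exact ⟨w, hw, congr_arg Subtype.val h⟩

lemma aug_d (v : Fin (F.rk 1) → R) : F.augLin (F.dLin 0 v) = 0 := by
  have h : F.dLin 0 v ∈ LinearMap.range (Matrix.mulVecLin (F.d 0)) := ⟨v, rfl⟩
  rw [← F.exact_zero] at h
  exact h

lemma d_d (i : ℕ) (v : Fin (F.rk (i + 2)) → R) : F.dLin i (F.dLin (i + 1) v) = 0 := by
  have h : F.dLin (i + 1) v ∈ LinearMap.range (Matrix.mulVecLin (F.d (i + 1))) := ⟨v, rfl⟩
  rw [← F.exact_succ] at h
  exact h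

/-- level zero of the comparison map -/
lemma base : ∃ φ : (Fin (F.rk 0) → R) →ₗ[R] (Fin (G.rk 0) → R),
    IsGrMap F G φ ∧ ∀ v, G.augLin (φ v) = F.augLin v := by
  obtain ⟨vs, hP, hg⟩ := exists_lift_of_forall_basis (R := R) F.augLin G.augLin
    (fun b w => w ∈ piece G 0 (F.deg 0 b)) (fun b => by
      have hx : F.augLin (Pi.single b 1) ∈ ℳ (F.deg 0 b) := augLin_mem F (single_mem_piece F 0 b)
      obtain ⟨w, hw, h⟩ := exists_lift_aug G hx
      exact ⟨w, hw, h⟩)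
  exact ⟨Fintype.linearCombination R vs, isGrMap_linearCombination F G vs hP, hg⟩

/-- level one of the comparison map -/
lemma step0 (φ : (Fin (F.rk 0) → R) →ₗ[R] (Fin (G.rk 0) → R)) (hφ : IsGrMap F G φ)
    (hc : ∀ v, G.augLin (φ v) = F.augLin v) :
    ∃ φ' : (Fin (F.rk 1) → R) →ₗ[R] (Fin (G.rk 1) → R),
      IsGrMap F G φ' ∧ ∀ v, G.dLin 0 (φ' v) = φ (F.dLin 0 v) := by
  obtain ⟨vs, hP, hg⟩ := exists_lift_of_forall_basis (R := R) (φ ∘ₗ F.dLin 0) (G.dLin 0)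
    (fun b w => w ∈ piece G 1 (F.deg 1 b)) (fun b => by
      have hx : φ (F.dLin 0 (Pi.single b 1)) ∈ piece G 0 (F.deg 1 b) :=
        hφ _ _ (dLin_mem F (single_mem_piece F 1 b))
      have h0 : G.augLin (φ (F.dLin 0 (Pi.single b 1))) = 0 := by rw [hc, aug_d]
      obtain ⟨w, hw, h⟩ := exists_lift_d0 G hx h0
      exact ⟨w, hw, h⟩)
  exact ⟨Fintype.linearCombination R vs, isGrMap_linearCombination F G vs hP, hg⟩

/-- higher levels of the comparison map -/
lemma step (i : ℕ) (φ : (Fin (F.rk (i + 1)) → R) →ₗ[R] (Fin (G.rk (i + 1)) → R))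
    (hφ : IsGrMap F G φ) (hk : ∀ v, F.dLin i v = 0 → G.dLin i (φ v) = 0) :
    ∃ φ' : (Fin (F.rk (i + 2)) → R) →ₗ[R] (Fin (G.rk (i + 2)) → R),
      IsGrMap F G φ' ∧ ∀ v, G.dLin (i + 1) (φ' v) = φ (F.dLin (i + 1) v) := by
  obtain ⟨vs, hP, hg⟩ := exists_lift_of_forall_basis (R := R) (φ ∘ₗ F.dLin (i + 1))
    (G.dLin (i + 1))
    (fun b w => w ∈ piece G (i + 2) (F.deg (i + 2) b)) (fun b => by
      have hx : φ (F.dLin (i + 1) (Pi.single b 1)) ∈ piece G (i + 1) (F.deg (i + 2) b) :=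
        hφ _ _ (dLin_mem F (single_mem_piece F (i + 2) b))
      have h0 : G.dLin i (φ (F.dLin (i + 1) (Pi.single b 1))) = 0 := hk _ (d_d F i _)
      obtain ⟨w, hw, h⟩ := exists_lift_d G i hx h0
      exact ⟨w, hw, h⟩)
  exact ⟨Fintype.linearCombination R vs, isGrMap_linearCombination F G vs hP, hg⟩

/-- the inductive statement: comparison maps in both directions at level `i+1` and a homotopy -/
def T (i : ℕ) : Prop :=
  ∃ (φ : (Fin (F.rk (i + 1)) → R) →ₗ[R] (Fin (G.rk (i + 1)) → R))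
    (ψ : (Fin (G.rk (i + 1)) → R) →ₗ[R] (Fin (F.rk (i + 1)) → R))
    (h : (Fin (F.rk i) → R) →ₗ[R] (Fin (F.rk (i + 1)) → R)),
    IsGrMap F G φ ∧ IsGrMap G F ψ ∧
    (∀ v, F.dLin i v = 0 → G.dLin i (φ v) = 0) ∧
    (∀ w, G.dLin i w = 0 → F.dLin i (ψ w) = 0) ∧
    (∀ v, F.dLin i (ψ (φ v) - v - h (F.dLin i v)) = 0)

/-- the conclusion at level `i`: graded maps both ways whose composite is the identity mod `𝔪` -/
def C (𝔪 : Ideal R) (i : ℕ) : Prop :=
  ∃ (φ : (Fin (F.rk i) → R) →ₗ[R] (Fin (G.rk i) → R))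
    (ψ : (Fin (G.rk i) → R) →ₗ[R] (Fin (F.rk i) → R)),
    IsGrMap F G φ ∧ IsGrMap G F ψ ∧ ∀ v b, (ψ (φ v) - v) b ∈ 𝔪

lemma dLin_in {𝔪 : Ideal R} (hF : F.IsMinimal 𝔪) (i : ℕ) (v : Fin (F.rk (i + 1)) → R)
    (a : Fin (F.rk i)) : F.dLin i v a ∈ 𝔪 := by
  simp only [Matrix.mulVecLin_apply, Matrix.mulVec, dotProduct]
  apply Ideal.sum_mem
  intro b _
  exact Ideal.mul_mem_right _ _ (hF i a b)

lemma map_in {𝔪 : Ideal R} {n m : ℕ} (f : (Fin n → R) →ₗ[R] (Fin m → R)) (w : Fin n → R)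
    (hw : ∀ a, w a ∈ 𝔪) (c : Fin m) : f w c ∈ 𝔪 := by
  rw [pi_eq_sum_univ' w, map_sum, Finset.sum_apply]
  apply Ideal.sum_mem
  intro a _
  rw [map_smul, Pi.smul_apply, smul_eq_mul]
  exact Ideal.mul_mem_right _ _ (hw a)

lemma T_zero_and_C_zero {𝔪 : Ideal R} (hF : F.IsMinimal 𝔪) : T F G 0 ∧ C F G 𝔪 0 := by
  obtain ⟨φ0, hφ0, hcφ⟩ := base F G
  obtain ⟨ψ0, hψ0, hcψ⟩ := base G F
  obtain ⟨φ1, hφ1, hdφ⟩ := step0 F G φ0 hφ0 hcφ
  obtain ⟨ψ1, hψ1, hdψ⟩ := step0 G F ψ0 hψ0 hcψ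
  let f0 : (Fin (F.rk 0) → R) →ₗ[R] (Fin (F.rk 0) → R) := ψ0 ∘ₗ φ0 - LinearMap.id
  obtain ⟨hs, -, hh⟩ := exists_lift_of_forall_basis (R := R)
    f0 (F.dLin 0) (fun _ _ => True) (fun b => by
      have hk : f0 (Pi.single b 1) ∈ LinearMap.ker F.augLin := by
        rw [LinearMap.mem_ker, LinearMap.sub_apply, LinearMap.comp_apply, LinearMap.id_apply,
          map_sub, hcψ, hcφ, sub_self]
      rw [F.exact_zero] at hk
      obtain ⟨w, hw⟩ := hk
      exact ⟨w, trivial, hw⟩)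
  set h0 := Fintype.linearCombination R hs with hh0
  have hh' : ∀ v, F.dLin 0 (h0 v) = ψ0 (φ0 v) - v := fun v => by
    rw [hh v, LinearMap.sub_apply, LinearMap.comp_apply, LinearMap.id_apply]
  refine ⟨⟨φ1, ψ1, h0, hφ1, hψ1, ?_, ?_, ?_⟩, ⟨φ0, ψ0, hφ0, hψ0, ?_⟩⟩
  · intro v hv
    rw [hdφ, hv, map_zero]
  · intro w hw
    rw [hdψ, hw, map_zero]
  · intro v
    rw [map_sub, map_sub, hdψ, hdφ, hh']
    abel
  · intro v b
    rw [← hh']
    exact dLin_in F hF 0 _ b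

lemma T_succ (i : ℕ) (hT : T F G i) : T F G (i + 1) := by
  obtain ⟨φ, ψ, h, hφ, hψ, hkφ, hkψ, hhom⟩ := hT
  obtain ⟨φ', hφ', hdφ⟩ := step F G i φ hφ hkφ
  obtain ⟨ψ', hψ', hdψ⟩ := step G F i ψ hψ hkψ
  let f1 : (Fin (F.rk (i + 1)) → R) →ₗ[R] (Fin (F.rk (i + 1)) → R) :=
    ψ ∘ₗ φ - LinearMap.id - h ∘ₗ F.dLin i
  obtain ⟨hs, -, hh⟩ := exists_lift_of_forall_basis (R := R)
    f1 (F.dLin (i + 1)) (fun _ _ => True) (fun b => by
      have hk : f1 (Pi.single b 1) ∈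
          LinearMap.ker (Matrix.mulVecLin (F.d i)) := by
        rw [LinearMap.mem_ker]
        exact hhom _
      rw [F.exact_succ] at hk
      obtain ⟨w, hw⟩ := hk
      exact ⟨w, trivial, hw⟩)
  set h' := Fintype.linearCombination R hs with hh0
  have hh' : ∀ v, F.dLin (i + 1) (h' v) = ψ (φ v) - v - h (F.dLin i v) := fun v => by
    rw [hh v]
    rfl
  refine ⟨φ', ψ', h', hφ', hψ', ?_, ?_, ?_⟩
  · intro v hv
    rw [hdφ, hv, map_zero]
  · intro w hw
    rw [hdψ, hw, map_zero]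
  · intro v
    rw [map_sub, map_sub, hdψ, hdφ, hh', d_d, map_zero]
    abel

lemma T_all {𝔪 : Ideal R} (hF : F.IsMinimal 𝔪) (i : ℕ) : T F G i := by
  induction i with
  | zero => exact (T_zero_and_C_zero F G hF).1
  | succ i ih => exact T_succ F G i ih

lemma C_all {𝔪 : Ideal R} (hF : F.IsMinimal 𝔪) (i : ℕ) : C F G 𝔪 i := by
  cases i with
  | zero => exact (T_zero_and_C_zero F G hF).2
  | succ i =>
    obtain ⟨φ, ψ, h, hφ, hψ, -, -, hhom⟩ := T_all F G hF i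
    refine ⟨φ, ψ, hφ, hψ, fun v b => ?_⟩
    have hk : ψ (φ v) - v - h (F.dLin i v) ∈ LinearMap.ker (Matrix.mulVecLin (F.d i)) := by
      rw [LinearMap.mem_ker]
      exact hhom v
    rw [F.exact_succ] at hk
    obtain ⟨w, hw⟩ := hk
    have e : ψ (φ v) - v = F.dLin (i + 1) w + h (F.dLin i v) := by
      have hw' : F.dLin (i + 1) w = ψ (φ v) - v - h (F.dLin i v) := hw
      rw [hw']
      abel
    rw [e, Pi.add_apply]
    exact Ideal.add_mem _ (dLin_in F hF (i + 1) w b)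
      (map_in h _ (fun a => dLin_in F hF i v a) b)

/-- The generator degrees of a minimal resolution occur among those of any resolution. -/
theorem exists_deg_eq {𝔪 : Ideal R} (h1 : (1 : R) ∉ 𝔪)
    (hpos : ∀ n : ℤ, 0 < n → ∀ x ∈ 𝒜 n, x ∈ 𝔪) (hF : F.IsMinimal 𝔪) (i : ℕ)
    (b : Fin (F.rk i)) : ∃ a : Fin (G.rk i), G.deg i a = F.deg i b := by
  obtain ⟨φ, ψ, hφ, hψ, hc⟩ := C_all F G hF i
  set w := φ (Pi.single b 1) with hw
  have hwp : w ∈ piece G i (F.deg i b) := hφ _ _ (single_mem_piece F i b)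
  have hsum : ψ w b = ∑ a, w a * ψ (Pi.single a 1) b := by
    conv_lhs => rw [pi_eq_sum_univ' w, map_sum, Finset.sum_apply]
    apply Finset.sum_congr rfl
    intro a _
    rw [map_smul, Pi.smul_apply, smul_eq_mul]
  have hb := hc (Pi.single b 1) b
  rw [Pi.sub_apply, Pi.single_eq_same, ← hw] at hb
  by_contra hne
  push Not at hne
  apply h1
  have hall : ∀ a, w a * ψ (Pi.single a 1) b ∈ 𝔪 := by
    intro a
    have h1' : w a ∈ 𝒜 (F.deg i b - G.deg i a) := (mem_piece G).mp hwp a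
    have h2' : ψ (Pi.single a 1) b ∈ 𝒜 (G.deg i a - F.deg i b) :=
      (mem_piece F).mp (hψ _ _ (single_mem_piece G i a)) b
    rcases lt_trichotomy (G.deg i a) (F.deg i b) with hlt | heq | hgt
    · exact Ideal.mul_mem_right _ _ (hpos _ (by omega) _ h1')
    · exact absurd heq (hne a)
    · exact Ideal.mul_mem_left _ _ (hpos _ (by omega) _ h2')
  have hψ𝔪 : ψ w b ∈ 𝔪 := by
    rw [hsum]
    exact Ideal.sum_mem _ (fun a _ => hall a)
  have : (1 : R) = ψ w b - (ψ w b - 1) := by ring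
  rw [this]
  exact Ideal.sub_mem _ hψ𝔪 hb

theorem isGenLE_of_minimal {𝔪 : Ideal R} (h1 : (1 : R) ∉ 𝔪)
    (hpos : ∀ n : ℤ, 0 < n → ∀ x ∈ 𝒜 n, x ∈ 𝔪) (hF : F.IsMinimal 𝔪) (r : ℤ)
    (hG : G.IsGenLE r) : F.IsGenLE r := by
  intro i b
  obtain ⟨a, ha⟩ := exists_deg_eq F G h1 hpos hF i b
  rw [← ha]
  exact hG i a

lemma map_le_coe_iff (i : ℕ) (r : ℤ) (x : WithBot ℤ) :
    WithBot.map (fun t : ℤ => ((t - (i : ℤ) : ℤ) : WithTop ℤ)) x ≤
      ((r : WithTop ℤ) : WithBot (WithTop ℤ)) ↔ x ≤ ((r + i : ℤ) : WithBot ℤ) := by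
  induction x using WithBot.recBotCoe with
  | bot => simp
  | coe t =>
    rw [WithBot.map_coe, WithBot.coe_le_coe, WithTop.coe_le_coe, WithBot.coe_le_coe]
    omega

lemma isGenLE_iff (r : ℤ) : F.IsGenLE r ↔
    (⨆ i : ℕ, WithBot.map (fun t : ℤ => ((t - (i : ℤ) : ℤ) : WithTop ℤ)) (F.maxGenDeg i)) ≤
      ((r : WithTop ℤ) : WithBot (WithTop ℤ)) := by
  rw [iSup_le_iff]
  constructor
  · intro h i
    rw [map_le_coe_iff]
    unfold FreeRes.maxGenDeg
    rw [Finset.sup_le_iff]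
    intro b _
    exact WithBot.coe_le_coe.mpr (h i b)
  · intro h i b
    have := (map_le_coe_iff i r _).mp (h i)
    unfold FreeRes.maxGenDeg at this
    rw [Finset.sup_le_iff] at this
    exact WithBot.coe_le_coe.mp (this b (Finset.mem_univ b))

lemma iInf_coe_of_le (x : WithBot (WithTop ℤ)) :
    (⨅ (r : ℤ) (_ : x ≤ ((r : WithTop ℤ) : WithBot (WithTop ℤ))),
      ((r : WithTop ℤ) : WithBot (WithTop ℤ))) = x := by
  apply le_antisymm
  · induction x using WithBot.recBotCoe with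
    | bot =>
      rw [le_bot_iff]
      by_contra hne
      obtain ⟨z, hz⟩ := WithBot.ne_bot_iff_exists.mp hne
      have hle : ∀ r : ℤ, (z : WithBot (WithTop ℤ)) ≤ ((r : WithTop ℤ) : WithBot (WithTop ℤ)) :=
        fun r => by
          rw [hz]
          exact iInf_le_of_le r (iInf_le_of_le bot_le le_rfl)
      induction z using WithTop.recTopCoe with
      | top =>
        have := hle 0
        rw [WithBot.coe_le_coe] at this
        exact absurd this (WithTop.not_top_le_coe 0)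
      | coe n =>
        have := hle (n - 1)
        rw [WithBot.coe_le_coe, WithTop.coe_le_coe] at this
        omega
    | coe y =>
      induction y using WithTop.recTopCoe with
      | top =>
        rw [WithBot.coe_top]
        exact le_top
      | coe n => exact iInf_le_of_le n (iInf_le_of_le le_rfl le_rfl)
  · exact le_iInf₂ fun r hr => hr

/-- The regularity formula. -/
theorem reg_eq {𝔪 : Ideal R} (h1 : (1 : R) ∉ 𝔪)
    (hpos : ∀ n : ℤ, 0 < n → ∀ x ∈ 𝒜 n, x ∈ 𝔪) (hF : F.IsMinimal 𝔪) :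
    reg 𝒜 ℳ 𝔪 =
      ⨆ i : ℕ, WithBot.map (fun t : ℤ => ((t - (i : ℤ) : ℤ) : WithTop ℤ)) (F.maxGenDeg i) := by
  have key : ∀ r : ℤ, IsRegLE 𝒜 ℳ 𝔪 r ↔
      (⨆ i : ℕ, WithBot.map (fun t : ℤ => ((t - (i : ℤ) : ℤ) : WithTop ℤ)) (F.maxGenDeg i)) ≤
        ((r : WithTop ℤ) : WithBot (WithTop ℤ)) := fun r => by
    rw [← isGenLE_iff]
    constructor
    · rintro ⟨G, -, hGr⟩
      exact isGenLE_of_minimal F G h1 hpos hF r hGr
    · intro h
      exact ⟨F, hF, h⟩
  unfold reg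
  simp_rw [key]
  exact iInf_coe_of_le _

end General

end Groth.Agent.H77.GrComp
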