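import Mathlib
import Groth.Agent.H18.TorBalance

/-!
# Graded freeness criterion: `Tor₁(M, k) = 0` implies `M` has a homogeneous basis
(for finitely generated `ℕ`-graded modules over a polynomial ring over a field).
-/

set_option autoImplicit false
universe u

namespace Groth.Agent.H77.GrFree

open CategoryTheory CategoryTheory.Limits MonoidalCategory

section Tor

variable {R : Type u} [CommRing R]

/-- If `0 → K → F → M → 0` is short exact with `F` projective and `Tor₁(M, N) = 0` (Mathlib's `Tor`,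
derived in the second variable), then `K ⊗ N → F ⊗ N` is injective. -/
theorem rTensor_injective_of_isZero_tor {S : ShortComplex (ModuleCat.{u} R)}
    (hS : S.ShortExact) [Projective S.X₂] (N : ModuleCat.{u} R)
    (h : IsZero (((Tor (ModuleCat.{u} R) 1).obj S.X₃).obj N)) :
    Function.Injective (LinearMap.rTensor N S.f.hom) := by
  let Q := projectiveResolution S.X₁
  let P := H18.spliceResolution hS Q
  obtain ⟨e⟩ := H18.tor_iso_homology_tensCx S.X₃ P 1 N
  have hz : IsZero ((H18.tensCx P N).homology 1) := IsZero.of_iso h e.symm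
  have hex : (H18.tensCx P N).ExactAt 1 :=
    (HomologicalComplex.exactAt_iff_isZero_homology _ _).mpr hz
  rw [HomologicalComplex.exactAt_iff' _ 2 1 0 (by simp) (by simp)] at hex
  have hex' := (ShortComplex.moduleCat_exact_iff _).mp hex
  let p := H18.splicedP Q
  have hpsurj : Function.Surjective (LinearMap.rTensor N p.hom) := by
    have : Function.Surjective p.hom := (ModuleCat.epi_iff_surjective p).1 inferInstance
    exact LinearMap.rTensor_surjective N this
  rw [injective_iff_map_eq_zero]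
  intro t ht
  obtain ⟨z, rfl⟩ := hpsurj t
  have hg : ((H18.tensCx P N).sc' 2 1 0).g z = 0 := by
    change LinearMap.rTensor N (p ≫ S.f).hom z = 0
    rw [ModuleCat.hom_comp, LinearMap.rTensor_comp]
    exact ht
  obtain ⟨w, hw⟩ := hex' z hg
  rw [← hw]
  change LinearMap.rTensor N p.hom (LinearMap.rTensor N (Q.complex.d 1 0).hom w) = 0
  rw [← LinearMap.comp_apply, ← LinearMap.rTensor_comp, ← ModuleCat.hom_comp,
    H18.d_comp_splicedP]
  simp

end Tor

section Graded

open DirectSum

attribute [local instance] MvPolynomial.gradedAlgebra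

variable {k : Type u} [Field k] {n : ℕ}

local notation "Rk" => MvPolynomial (Fin (n + 1)) k
local notation "𝒜k" => MvPolynomial.homogeneousSubmodule (Fin (n + 1)) k

variable {M : Type u} [AddCommGroup M] [Module (MvPolynomial (Fin (n + 1)) k) M]
  (ℳ : ℕ → AddSubgroup M)
  [SetLike.GradedSMul (MvPolynomial.homogeneousSubmodule (Fin (n + 1)) k) ℳ]
  [DirectSum.Decomposition ℳ]

/-- decomposition of `r • m` for homogeneous `m` -/
lemma coe_decompose_smul {i : ℕ} {m : M} (hm : m ∈ ℳ i) (r : Rk) (d : ℕ) :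
    ((decompose ℳ (r • m)) (d + i) : M) = ((decompose 𝒜k r) d : Rk) • m := by
  induction r using DirectSum.Decomposition.inductionOn 𝒜k with
  | zero => simp
  | @homogeneous d' a =>
    have hmem : (a : Rk) • m ∈ ℳ (d' + i) := SetLike.GradedSMul.smul_mem a.2 hm
    by_cases h : d' = d
    · subst h
      rw [decompose_of_mem_same ℳ hmem, decompose_of_mem_same 𝒜k a.2]
    · rw [decompose_of_mem_ne ℳ hmem (by omega), decompose_of_mem_ne 𝒜k a.2 h, zero_smul]
  | add a a' ha ha' =>
    rw [add_smul, decompose_add, decompose_add, DirectSum.add_apply, DirectSum.add_apply,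
      AddMemClass.coe_add, AddMemClass.coe_add, add_smul, ha, ha']

lemma coe_decompose_smul_of_lt {i : ℕ} {m : M} (hm : m ∈ ℳ i) (r : Rk) {d : ℕ} (hd : d < i) :
    ((decompose ℳ (r • m)) d : M) = 0 := by
  induction r using DirectSum.Decomposition.inductionOn 𝒜k with
  | zero => simp
  | @homogeneous d' a =>
    have hmem : (a : Rk) • m ∈ ℳ (d' + i) := SetLike.GradedSMul.smul_mem a.2 hm
    rw [decompose_of_mem_ne ℳ hmem (by omega)]
  | add a a' ha ha' =>
    rw [add_smul, decompose_add, DirectSum.add_apply, AddMemClass.coe_add, ha, ha', add_zero]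

lemma exists_finset_homogeneous_span [Module.Finite Rk M] :
    ∃ T : Finset M, (∀ x ∈ T, SetLike.IsHomogeneousElem ℳ x) ∧
      Submodule.span Rk (T : Set M) = ⊤ := by
  classical
  obtain ⟨s, hs⟩ := (Module.Finite.fg_top : (⊤ : Submodule Rk M).FG)
  refine ⟨s.biUnion (fun x => (decompose ℳ x).support.image (fun i => ((decompose ℳ x) i : M))),
    ?_, ?_⟩
  · intro x hx
    rw [Finset.mem_biUnion] at hx
    obtain ⟨y, -, hy⟩ := hx
    rw [Finset.mem_image] at hy
    obtain ⟨i, -, rfl⟩ := hy
    exact ⟨i, ((decompose ℳ y) i).2⟩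
  · rw [eq_top_iff, ← hs, Submodule.span_le]
    intro x hx
    rw [← DirectSum.sum_support_decompose ℳ x]
    refine Submodule.sum_mem _ (fun i hi => Submodule.subset_span ?_)
    rw [Finset.coe_biUnion, Set.mem_iUnion₂]
    exact ⟨x, hx, Finset.mem_coe.mpr (Finset.mem_image.mpr ⟨i, hi, rfl⟩)⟩

lemma constantCoeff_eq_zero_of_minimal (T : Finset M)
    (hT : ∀ x ∈ T, SetLike.IsHomogeneousElem ℳ x)
    (hmin : ∀ T' : Finset M, (∀ x ∈ T', SetLike.IsHomogeneousElem ℳ x) →
      Submodule.span Rk (T' : Set M) = ⊤ → T.card ≤ T'.card)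
    (hspan : Submodule.span Rk (T : Set M) = ⊤)
    (v : T → Rk) (hv : ∑ x : T, v x • (x : M) = 0) (x₀ : T) :
    MvPolynomial.constantCoeff (v x₀) = 0 := by
  classical
  by_contra hc
  choose d hd using fun x : T => hT x x.2
  let c : T → Rk := fun x =>
    if d x ≤ d x₀ then ((decompose 𝒜k (v x)) (d x₀ - d x) : Rk) else 0
  have hcomp : ∀ x : T, ((decompose ℳ (v x • (x : M))) (d x₀) : M) = c x • (x : M) := by
    intro x
    by_cases hx : d x ≤ d x₀
    · have := coe_decompose_smul ℳ (hd x) (v x) (d x₀ - d x)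
      rw [Nat.sub_add_cancel hx] at this
      simp only [c, if_pos hx]
      exact this
    · simp only [c, if_neg hx, zero_smul]
      exact coe_decompose_smul_of_lt ℳ (hd x) (v x) (by omega)
  have hsum : ∑ x : T, c x • (x : M) = 0 := by
    let f : M →+ M := ((ℳ (d x₀)).subtype).comp
      ((DFinsupp.evalAddMonoidHom (d x₀)).comp (decomposeAddEquiv ℳ).toAddMonoidHom)
    have hf : ∀ y, f y = ((decompose ℳ y) (d x₀) : M) := fun y => rfl
    have h1 := congrArg f hv
    rw [map_sum, map_zero] at h1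
    rw [← h1]
    exact Finset.sum_congr rfl (fun x _ => by rw [hf, hcomp x])
  have hc0 : c x₀ = MvPolynomial.C (MvPolynomial.constantCoeff (v x₀)) := by
    simp only [c, le_refl, if_true]
    rw [Nat.sub_self, MvPolynomial.constantCoeff_eq, ← MvPolynomial.homogeneousComponent_zero]
    exact MvPolynomial.decomposition.decompose'_apply (v x₀) 0
  set u := MvPolynomial.constantCoeff (v x₀) with hu
  rw [← Finset.add_sum_erase Finset.univ _ (Finset.mem_univ x₀), hc0] at hsum
  have hx₀ : (x₀ : M) = -((MvPolynomial.C u⁻¹ : Rk) •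
      ∑ x ∈ Finset.univ.erase x₀, c x • (x : M)) := by
    have h2 : (MvPolynomial.C u : Rk) • (x₀ : M) =
        -(∑ x ∈ Finset.univ.erase x₀, c x • (x : M)) := eq_neg_of_add_eq_zero_left hsum
    rw [← smul_neg, ← h2, ← mul_smul, ← MvPolynomial.C_mul, inv_mul_cancel₀ hc, MvPolynomial.C_1, one_smul]
  let T' := T.erase (x₀ : M)
  have hx₀mem : (x₀ : M) ∈ Submodule.span Rk (T' : Set M) := by
    rw [hx₀]
    refine Submodule.neg_mem _ (Submodule.smul_mem _ _ (Submodule.sum_mem _ (fun x hx => ?_)))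
    refine Submodule.smul_mem _ _ (Submodule.subset_span ?_)
    rw [Finset.mem_coe, Finset.mem_erase]
    refine ⟨fun h => ?_, x.2⟩
    exact (Finset.mem_erase.mp hx).1 (Subtype.ext h)
  have hT'span : Submodule.span Rk (T' : Set M) = ⊤ := by
    rw [eq_top_iff, ← hspan, Submodule.span_le]
    intro x hx
    by_cases hxx : x = (x₀ : M)
    · rw [hxx]
      exact hx₀mem
    · exact Submodule.subset_span (Finset.mem_coe.mpr (Finset.mem_erase.mpr ⟨hxx, hx⟩))
  have h3 := hmin T' (fun x hx => hT x (Finset.mem_of_mem_erase hx)) hT'span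
  have h4 : T'.card < T.card := Finset.card_erase_lt_of_mem x₀.2
  omega

theorem main23 [Module.Finite Rk M]
    (h : IsZero (((Tor (ModuleCat.{u} Rk) 1).obj (ModuleCat.of Rk M)).obj
      (ModuleCat.of Rk (Rk ⧸ RingHom.ker (MvPolynomial.constantCoeff : Rk →+* k))))) :
    ∃ (ι : Type u) (b : Module.Basis ι Rk M), ∀ i, SetLike.IsHomogeneousElem ℳ (b i) := by
  classical
  have hex : ∃ m : ℕ, ∃ T : Finset M, (∀ x ∈ T, SetLike.IsHomogeneousElem ℳ x) ∧
      Submodule.span Rk (T : Set M) = ⊤ ∧ T.card = m := by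
    obtain ⟨T, h1, h2⟩ := exists_finset_homogeneous_span (k := k) (n := n) ℳ
    exact ⟨T.card, T, h1, h2, rfl⟩
  obtain ⟨T, hT, hspan, hcard⟩ := Nat.find_spec hex
  have hmin : ∀ T' : Finset M, (∀ x ∈ T', SetLike.IsHomogeneousElem ℳ x) →
      Submodule.span Rk (T' : Set M) = ⊤ → T.card ≤ T'.card := by
    intro T' h1 h2
    rw [hcard]
    exact Nat.find_min' hex ⟨T', h1, h2, rfl⟩
  let 𝔪 : Ideal Rk := RingHom.ker (MvPolynomial.constantCoeff : Rk →+* k)
  have h𝔪ne : 𝔪 ≠ ⊤ := RingHom.ker_ne_top _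
  let φ : (T → Rk) →ₗ[Rk] M := Fintype.linearCombination Rk (fun x : T => (x : M))
  have hφsurj : Function.Surjective φ := by
    rw [← LinearMap.range_eq_top, Fintype.range_linearCombination]
    simpa using hspan
  have hcoord : ∀ v ∈ LinearMap.ker φ, ∀ x, v x ∈ 𝔪 := by
    intro v hv x
    rw [RingHom.mem_ker]
    refine constantCoeff_eq_zero_of_minimal ℳ T hT hmin hspan v ?_ x
    have := LinearMap.mem_ker.mp hv
    simpa [φ, Fintype.linearCombination_apply] using this
  let S := φ.shortComplexKer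
  have hS : S.ShortExact := LinearMap.shortExact_shortComplexKer hφsurj
  have : Projective S.X₂ := by
    change Projective (ModuleCat.of Rk (T → Rk))
    exact (IsProjective.iff_projective _).mp inferInstance
  have hinj := rTensor_injective_of_isZero_tor hS _ h
  have hKsmul : ∀ y : LinearMap.ker φ, y ∈ 𝔪 • (⊤ : Submodule Rk (LinearMap.ker φ)) := by
    intro y
    have h0 : LinearMap.rTensor (Rk ⧸ 𝔪) (LinearMap.ker φ).subtype
        (y ⊗ₜ[Rk] (1 : Rk ⧸ 𝔪)) = 0 := by
      rw [LinearMap.rTensor_tmul, Submodule.subtype_apply]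
      have hy : (y : T → Rk) = ∑ x, (y : T → Rk) x • (Pi.single x 1 : T → Rk) := by
        ext z
        simp [Finset.sum_apply, Pi.single_apply]
      rw [hy, TensorProduct.sum_tmul]
      refine Finset.sum_eq_zero (fun x _ => ?_)
      rw [TensorProduct.smul_tmul]
      have : ((y : T → Rk) x) • (1 : Rk ⧸ 𝔪) = 0 := by
        rw [Algebra.smul_def, mul_one, Ideal.Quotient.algebraMap_eq,
          Ideal.Quotient.eq_zero_iff_mem]
        exact hcoord _ y.2 x
      rw [this, TensorProduct.tmul_zero]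
    have h1 : (y ⊗ₜ[Rk] (1 : Rk ⧸ 𝔪)) = 0 := hinj (by rw [map_zero]; exact h0)
    have h2 := congrArg (TensorProduct.tensorQuotEquivQuotSMul (LinearMap.ker φ) 𝔪) h1
    rw [map_zero, ← map_one (Ideal.Quotient.mk 𝔪),
      TensorProduct.tensorQuotEquivQuotSMul_tmul_mk, one_smul,
      Submodule.Quotient.mk_eq_zero] at h2
    exact h2
  have hpow : ∀ j : ℕ, ∀ v ∈ LinearMap.ker φ, ∀ x, v x ∈ 𝔪 ^ j := by
    intro j
    induction j with
    | zero =>
      intro v _ x
      simp
    | succ j ih =>
      intro v hv x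
      have hmem := hKsmul ⟨v, hv⟩
      refine Submodule.smul_induction_on
        (p := fun z : LinearMap.ker φ => (z : T → Rk) x ∈ 𝔪 ^ (j + 1)) hmem ?_ ?_
      · intro r hr z _
        change r * (z : T → Rk) x ∈ _
        rw [pow_succ']
        exact Ideal.mul_mem_mul hr (ih _ z.2 x)
      · intro a b ha hb
        exact Ideal.add_mem _ ha hb
  have hker : LinearMap.ker φ = ⊥ := by
    rw [eq_bot_iff]
    intro v hv
    rw [Submodule.mem_bot]
    funext x
    have hx : v x ∈ (⨅ j : ℕ, 𝔪 ^ j) := by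
      rw [Submodule.mem_iInf]
      exact fun j => hpow j v hv x
    rw [Ideal.iInf_pow_eq_bot_of_isDomain 𝔪 h𝔪ne] at hx
    exact Ideal.mem_bot.mp hx
  have hφinj : Function.Injective φ := LinearMap.ker_eq_bot.mp hker
  let e : (T → Rk) ≃ₗ[Rk] M := LinearEquiv.ofBijective φ ⟨hφinj, hφsurj⟩
  refine ⟨T, (Pi.basisFun Rk T).map e, fun i => ?_⟩
  have hbi : ((Pi.basisFun Rk T).map e) i = (i : M) := by
    rw [Module.Basis.map_apply, Pi.basisFun_apply]
    change φ (Pi.single i 1) = _
    simp [φ, Fintype.linearCombination_apply_single]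
  rw [hbi]
  exact hT i i.2

end Graded

end Groth.Agent.H77.GrFree
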