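import Mathlib

/-!
# A local criterion for bijectivity of a morphism of sheaves of abelian groups on sections

If `f : F ⟶ G` is bijective on a family `P` of opens which is a neighbourhood basis at every
point of an open `W`, then `f` is bijective on every open `U ≤ W`.

Also: comparison of the adjuncts of a morphism for two left adjoints of the same functor.
-/

set_option autoImplicit false
universe u

open CategoryTheory TopologicalSpace Opposite

namespace Groth.Agent.H77.SheafLocalBij

variable {X : TopCat.{u}}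

theorem stalk_map_injective_of_local_basis {F G : X.Presheaf Ab.{u}} (α : F ⟶ G) (P : Set (Opens X))
    (x : X) (hP : ∀ V : Opens X, x ∈ V → ∃ V' ∈ P, x ∈ V' ∧ V' ≤ V)
    (hinj : ∀ V ∈ P, Function.Injective (α.app (op V))) :
    Function.Injective ((TopCat.Presheaf.stalkFunctor Ab x).map α) := by
  intro s t hst
  obtain ⟨U₁, hxU₁, s, rfl⟩ := F.exists_germ_eq s
  obtain ⟨U₂, hxU₂, t, rfl⟩ := F.exists_germ_eq t
  rw [TopCat.Presheaf.stalkFunctor_map_germ_apply, TopCat.Presheaf.stalkFunctor_map_germ_apply] at hst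
  obtain ⟨W, hxW, iWU₁, iWU₂, heq⟩ := G.germ_eq x hxU₁ hxU₂ _ _ hst
  obtain ⟨V, hV, hxV, hVW⟩ := hP W hxW
  have heq' := DFunLike.congr_arg (ConcreteCategory.hom (G.map (homOfLE hVW).op)) heq
  have e1 : ∀ {U' : Opens X} (i : W ⟶ U'), α.app (op U') ≫ G.map i.op ≫ G.map (homOfLE hVW).op =
      F.map (i.op ≫ (homOfLE hVW).op) ≫ α.app (op V) := by
    intro U' i
    rw [← G.map_comp, α.naturality]
  simp only [← ConcreteCategory.comp_apply] at heq'
  rw [Category.assoc, Category.assoc, e1, e1, ConcreteCategory.comp_apply,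
    ConcreteCategory.comp_apply] at heq'
  have h1 := hinj V hV heq'
  have h2 := congrArg (F.germ V x hxV) h1
  rw [TopCat.Presheaf.germ_res_apply', TopCat.Presheaf.germ_res_apply'] at h2
  exact h2

theorem stalk_map_surjective_of_local_basis {F G : X.Presheaf Ab.{u}} (α : F ⟶ G) (P : Set (Opens X))
    (x : X) (hP : ∀ V : Opens X, x ∈ V → ∃ V' ∈ P, x ∈ V' ∧ V' ≤ V)
    (hsurj : ∀ V ∈ P, Function.Surjective (α.app (op V))) :
    Function.Surjective ((TopCat.Presheaf.stalkFunctor Ab x).map α) := by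
  intro t
  obtain ⟨U, hxU, t, rfl⟩ := G.exists_germ_eq t
  obtain ⟨V, hV, hxV, hVU⟩ := hP U hxU
  obtain ⟨s, hs⟩ := hsurj V hV (G.map (homOfLE hVU).op t)
  refine ⟨F.germ V x hxV s, ?_⟩
  rw [TopCat.Presheaf.stalkFunctor_map_germ_apply, hs, TopCat.Presheaf.germ_res_apply']

theorem app_bijective_of_local_basis {F G : TopCat.Sheaf Ab.{u} X} (f : F ⟶ G) (W : Opens X)
    (P : Set (Opens X))
    (hP : ∀ x ∈ W, ∀ V : Opens X, x ∈ V → ∃ V' ∈ P, x ∈ V' ∧ V' ≤ V)
    (hbij : ∀ V ∈ P, Function.Bijective (f.1.app (op V)))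
    (U : Opens X) (hU : U ≤ W) : Function.Bijective (f.1.app (op U)) := by
  apply TopCat.Presheaf.app_bijective_of_stalkFunctor_map_bijective f U
  intro x hx
  exact ⟨stalk_map_injective_of_local_basis f.1 P x (hP x (hU hx)) (fun V hV => (hbij V hV).1),
    stalk_map_surjective_of_local_basis f.1 P x (hP x (hU hx)) (fun V hV => (hbij V hV).2)⟩

/-- the adjunct of `g` for a second left adjoint `F'` of `G` is the adjunct for `F`
composed with the canonical isomorphism `F' ≅ F`. -/
theorem homEquiv_symm_leftAdjointUniq {C D : Type*} [Category C] [Category D]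
    {F F' : C ⥤ D} {G : D ⥤ C} (adj1 : F ⊣ G) (adj2 : F' ⊣ G) {X : C} {Y : D} (g : X ⟶ G.obj Y) :
    (adj2.homEquiv X Y).symm g =
      (adj1.leftAdjointUniq adj2).inv.app X ≫ (adj1.homEquiv X Y).symm g := by
  rw [Adjunction.homEquiv_counit, Adjunction.homEquiv_counit, ← Category.assoc,
    ← NatTrans.naturality, Category.assoc, Adjunction.leftAdjointUniq_inv_app,
    Adjunction.leftAdjointUniq_hom_app_counit]

theorem isIso_homEquiv_symm_iff {C D : Type*} [Category C] [Category D]
    {F F' : C ⥤ D} {G : D ⥤ C} (adj1 : F ⊣ G) (adj2 : F' ⊣ G) {X : C} {Y : D} (g : X ⟶ G.obj Y) :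
    IsIso ((adj2.homEquiv X Y).symm g) ↔ IsIso ((adj1.homEquiv X Y).symm g) := by
  rw [homEquiv_symm_leftAdjointUniq adj1 adj2]
  exact isIso_comp_left_iff _ _

end Groth.Agent.H77.SheafLocalBij
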