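import Mathlib
import Groth.Prelude.Def_RelProj3
import Groth.Agent.H77.GrModComap
import Groth.Agent.H77.SheafLocalBij

/-!
# `GrMod.comap` for a graded localization at a degree-zero element

`ψ : A → B = A_g`, `v : M → N = M_g` semilinear, `g ∈ A_0`.  The comparison map `M(n)~ ⟶ Φ_* N(n)~` is bijective on
sections over every open contained in `{x | g ∉ x}`.
-/

set_option autoImplicit false
universe u

open AlgebraicGeometry CategoryTheory TopologicalSpace Opposite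
open scoped HomogeneousIdeal

namespace Groth.Agent.H77.GrModComapLoc

open DirectSum Groth.Agent.H77.GrModGlue Groth.Agent.H77.GrModExact Groth.Agent.H77.GrModComap

variable {A σ : Type u} [CommRing A] [SetLike σ A] [AddSubgroupClass σ A] {𝒜 : ℕ → σ} [GradedRing 𝒜]
variable {M τ : Type u} [AddCommGroup M] [Module A M] [SetLike τ M] [AddSubgroupClass τ M] {ℳ : ℕ → τ}
  [SetLike.GradedSMul 𝒜 ℳ] [DirectSum.Decomposition ℳ]
variable {B σ' : Type u} [CommRing B] [SetLike σ' B] [AddSubgroupClass σ' B] {ℬ : ℕ → σ'} [GradedRing ℬ]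
variable {N τ' : Type u} [AddCommGroup N] [Module B N] [SetLike τ' N] [AddSubgroupClass τ' N] {𝒩 : ℕ → τ'}
  [SetLike.GradedSMul ℬ 𝒩] [DirectSum.Decomposition 𝒩]
variable (ψ : 𝒜 →+*ᵍ ℬ) (hψ : ℬ₊ ≤ (𝒜₊).map ψ) (v : M →ₛₗ[ψ.toRingHom] N)
  (hv : ∀ (i : ℕ) (m : M), m ∈ ℳ i → v m ∈ 𝒩 i) (n : ℤ)

theorem comapApp_injective' {d : ℕ} (hd : 0 < d) {f : A} (hf : f ∈ 𝒜 d)
    (hinj : ∀ i, ∀ m ∈ ℳ i, v m = 0 → ∃ j : ℕ, f ^ j • m = 0)
    (V : Opens (ProjectiveSpectrum ℬ)) (hV : V = ProjectiveSpectrum.basicOpen ℬ (ψ f))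
    (hUV : V.1 ⊆ ProjectiveSpectrum.comap ψ hψ ⁻¹' (ProjectiveSpectrum.basicOpen 𝒜 f).1) :
    Function.Injective (GrMod.comapApp ψ hψ v hv n (ProjectiveSpectrum.basicOpen 𝒜 f) V hUV) := by
  subst hV
  rw [injective_iff_map_eq_zero]
  intro s hs
  obtain ⟨k, i, m, hdeg, rfl⟩ := exists_eq_frac 𝒜 ℳ n hd hf s
  have hψf : ψ f ∈ ℬ d := ψ.map_mem hf
  have hloc : ∀ y : ProjectiveSpectrum ℬ, ψ f ∉ y.asHomogeneousIdeal →
      ∃ t : B, t ∉ y.asHomogeneousIdeal ∧ t • v (m : M) = 0 := by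
    intro y hy
    have hyV : y ∈ ProjectiveSpectrum.basicOpen ℬ (ψ f) :=
      (ProjectiveSpectrum.mem_basicOpen ℬ (ψ f) y).mpr hy
    have h1 := congrArg (fun s : GrMod.sect ℬ 𝒩 n (op (ProjectiveSpectrum.basicOpen ℬ (ψ f))) =>
      ((s.1 ⟨y, hyV⟩ : GrMod.tildeAt ℬ 𝒩 n y) : GrMod.LocMod ℬ (M := N) y)) hs
    change GrMod.locModMap ψ hψ v y (LocalizedModule.mk (m : M) ⟨f ^ k, _⟩) = 0 at h1
    rw [GrMod.locModMap_mk, ← LocalizedModule.zero_mk (1 : y.asHomogeneousIdeal.toIdeal.primeCompl),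
      LocalizedModule.mk_eq] at h1
    obtain ⟨t, ht⟩ := h1
    refine ⟨t.1, t.2, ?_⟩
    have ht' : t.1 • (1 : B) • v (m : M) = t.1 • ψ (f ^ k) • (0 : N) := ht
    rw [one_smul, smul_zero, smul_zero] at ht'
    exact ht'
  obtain ⟨K, hK⟩ := exists_pow_smul_eq_zero_of_forall_localized_eq_zero ℬ 𝒩 (hv i _ m.2) hd hψf hloc
  have hvK : v (f ^ K • (m : M)) = 0 := by
    rw [LinearMap.map_smulₛₗ]
    change ψ (f ^ K) • v (m : M) = 0
    rw [map_pow]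
    exact hK
  have hmem : f ^ K • (m : M) ∈ ℳ (K • d + i) :=
    SetLike.GradedSMul.smul_mem (SetLike.pow_mem_graded K hf) m.2
  obtain ⟨j, hj⟩ := hinj _ _ hmem hvK
  have hzero : f ^ (j + K) • (m : M) = 0 := by
    rw [pow_add, mul_smul, hj]
  refine Subtype.ext (funext fun x => Subtype.ext ?_)
  rw [fracSect_val]
  have hxf : f ∉ x.1.asHomogeneousIdeal := (ProjectiveSpectrum.mem_basicOpen 𝒜 f x.1).mp x.2
  have hfKx : f ^ (j + K) ∉ x.1.asHomogeneousIdeal := fun h => hxf (x.1.isPrime.mem_of_pow_mem _ h)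
  change LocalizedModule.mk (m : M) _ = 0
  rw [← LocalizedModule.zero_mk (1 : x.1.asHomogeneousIdeal.toIdeal.primeCompl),
    LocalizedModule.mk_eq]
  refine ⟨⟨f ^ (j + K), hfKx⟩, ?_⟩
  change f ^ (j + K) • (1 : A) • (m : M) = f ^ (j + K) • f ^ k • (0 : M)
  rw [one_smul, hzero, smul_zero, smul_zero]

theorem comapApp_surjective' {d : ℕ} (hd : 0 < d) {f : A} (hf : f ∈ 𝒜 d)
    (hsurj : ∀ i, ∀ n' ∈ 𝒩 i, ∃ j : ℕ, ∃ m ∈ ℳ (j • d + i), v m = ψ f ^ j • n')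
    (V : Opens (ProjectiveSpectrum ℬ)) (hV : V = ProjectiveSpectrum.basicOpen ℬ (ψ f))
    (hUV : V.1 ⊆ ProjectiveSpectrum.comap ψ hψ ⁻¹' (ProjectiveSpectrum.basicOpen 𝒜 f).1) :
    Function.Surjective (GrMod.comapApp ψ hψ v hv n (ProjectiveSpectrum.basicOpen 𝒜 f) V hUV) := by
  subst hV
  intro t
  have hψf : ψ f ∈ ℬ d := ψ.map_mem hf
  obtain ⟨k, i, m', hdeg, rfl⟩ := exists_eq_frac ℬ 𝒩 n hd hψf t
  obtain ⟨j, m, hm, hvm⟩ := hsurj _ _ m'.2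
  have hdeg' : ((j • d + i : ℕ) : ℤ) = ((k + j : ℕ) : ℤ) * d + n := by
    simp only [smul_eq_mul]
    push_cast
    rw [hdeg]
    ring
  refine ⟨fracSect 𝒜 ℳ n hf (k + j) (j • d + i) ⟨m, hm⟩ hdeg', ?_⟩
  refine Subtype.ext (funext fun y => Subtype.ext ?_)
  rw [fracSect_val]
  change GrMod.locModMap ψ hψ v y.1 (LocalizedModule.mk _ ⟨f ^ (k + j), _⟩) = _
  rw [GrMod.locModMap_mk, LocalizedModule.mk_eq]
  refine ⟨1, ?_⟩
  simp only [one_smul, Submonoid.smul_def]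
  change ψ f ^ k • v m = ψ (f ^ (k + j)) • (m' : N)
  rw [hvm, map_pow, pow_add, mul_smul]

/-- `v : M → N` exhibits `N` as the localization of `M` at the degree-zero element `g` (graded form) -/
structure IsGrLocMod (ℳ : ℕ → τ) (𝒩 : ℕ → τ') (g : A) : Prop where
  ker : ∀ m : M, v m = 0 → ∃ k : ℕ, g ^ k • m = 0
  surj_hom : ∀ i, ∀ n' ∈ 𝒩 i, ∃ k : ℕ, ∃ m ∈ ℳ i, ψ g ^ k • n' = v m

section GrLoc

variable {ψ v} {g : A} (hg : g ∈ 𝒜 0) (h : IsGrLocMod ψ v ℳ 𝒩 g)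

include hg h in
theorem comapApp_bijective_of_isGrLocMod {d : ℕ} (hd : 0 < d) {f : A} (hf : f ∈ 𝒜 d)
    (V : Opens (ProjectiveSpectrum ℬ)) (hV : V = ProjectiveSpectrum.basicOpen ℬ (ψ (g * f)))
    (hUV : V.1 ⊆ ProjectiveSpectrum.comap ψ hψ ⁻¹' (ProjectiveSpectrum.basicOpen 𝒜 (g * f)).1) :
    Function.Bijective (GrMod.comapApp ψ hψ v hv n (ProjectiveSpectrum.basicOpen 𝒜 (g * f)) V hUV) := by
  have hgf : g * f ∈ 𝒜 d := by
    have := SetLike.mul_mem_graded hg hf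
    rwa [zero_add] at this
  refine ⟨comapApp_injective' ψ hψ v hv n hd hgf ?_ V hV hUV,
    comapApp_surjective' ψ hψ v hv n hd hgf ?_ V hV hUV⟩
  · intro i m _ hm0
    obtain ⟨j, hj⟩ := h.ker m hm0
    refine ⟨j, ?_⟩
    rw [mul_pow, mul_comm, mul_smul, hj, smul_zero]
  · intro i n' hn'
    obtain ⟨j, m, hm, hmn⟩ := h.surj_hom i n' hn'
    refine ⟨j, f ^ j • m, SetLike.GradedSMul.smul_mem (SetLike.pow_mem_graded _ hf) hm, ?_⟩
    rw [LinearMap.map_smulₛₗ, ← hmn]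
    change ψ (f ^ j) • ψ g ^ j • n' = _
    rw [map_pow, ← mul_smul, map_mul, mul_pow, mul_comm]

include hg h in
set_option backward.isDefEq.respectTransparency false in
/-- `GrMod.comap` is bijective on sections over every open inside `{x | g ∉ x}` -/
theorem comap_app_bijective_of_isGrLocMod (U : (Proj 𝒜).Opens)
    (hU : ∀ x : ProjectiveSpectrum 𝒜, x ∈ (U : Opens (ProjectiveSpectrum 𝒜)) → g ∉ x.asHomogeneousIdeal) :
    Function.Bijective ((GrMod.comap ψ hψ v hv n).app U) := by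
  let φ := GrMod.comap ψ hψ v hv n
  let F : TopCat.Sheaf Ab (Proj 𝒜) :=
    ⟨(GrMod.tilde 𝒜 ℳ n).presheaf, (GrMod.tilde 𝒜 ℳ n).isSheaf⟩
  let G : TopCat.Sheaf Ab (Proj 𝒜) :=
    ⟨((Scheme.Modules.pushforward (Proj.map ψ hψ)).obj (GrMod.tilde ℬ 𝒩 n)).presheaf,
      Scheme.Modules.isSheaf _⟩
  let f : F ⟶ G := ⟨φ.mapPresheaf⟩
  have hB := Groth.Agent.H77.GrModComap.isBasis_posBasicOpen 𝒜
  refine Groth.Agent.H77.SheafLocalBij.app_bijective_of_local_basis f U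
    {W : Opens (ProjectiveSpectrum 𝒜) | ∃ (d : ℕ) (f : A), 0 < d ∧ f ∈ 𝒜 d ∧
      W = ProjectiveSpectrum.basicOpen 𝒜 (g * f)} ?_ ?_ U le_rfl
  · intro x hx V hxV
    obtain ⟨_, ⟨d, f, hd, hf, rfl⟩, hxf, hfV⟩ :=
      (Opens.isBasis_iff_nbhd.mp hB) hxV
    refine ⟨ProjectiveSpectrum.basicOpen 𝒜 (g * f), ⟨d, f, hd, hf, rfl⟩, ?_, ?_⟩
    · rw [ProjectiveSpectrum.mem_basicOpen]
      intro hmem
      rcases x.isPrime.mem_or_mem hmem with h1 | h1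
      · exact hU x hx h1
      · exact (ProjectiveSpectrum.mem_basicOpen 𝒜 f x).mp hxf h1
    · refine le_trans ?_ hfV
      intro y hy
      rw [ProjectiveSpectrum.mem_basicOpen] at hy ⊢
      intro hfy
      exact hy (Ideal.mul_mem_left _ _ hfy)
  · rintro W ⟨d, f, hd, hf, rfl⟩
    have hV : (Proj.map ψ hψ ⁻¹ᵁ (ProjectiveSpectrum.basicOpen 𝒜 (g * f)) : Opens (ProjectiveSpectrum ℬ)) =
        ProjectiveSpectrum.basicOpen ℬ (ψ (g * f)) := by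
      ext y
      rfl
    exact comapApp_bijective_of_isGrLocMod hψ hv n hg h hd hf _ hV _

end GrLoc

end Groth.Agent.H77.GrModComapLoc
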