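import Mathlib
import Groth.Prelude.Def_GrMod3
import Groth.Agent.H77.GrModQC
import Groth.Agent.H77.GrModTN
import Groth.Agent.H18.FTypeCriterion

/-!
# Finite type of `M~` on `Proj` under (TF), irrelevant ideal generated by finitely many elements
of degree one (gradings by additive subgroups)
-/

set_option autoImplicit false
universe u

open CategoryTheory CategoryTheory.Limits AlgebraicGeometry TopologicalSpace Opposite
open HomogeneousLocalization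

namespace Groth.Agent.H77.GrModFT

open Groth.Agent.H77.GrModGlue Groth.Agent.H77.GrModExact Groth.Agent.H77.GrModLocal
  Groth.Agent.H77.GrModQC Groth.Agent.H77.GrModTN

section

variable {A σ : Type u} [CommRing A] [SetLike σ A] [AddSubgroupClass σ A] (𝒜 : ℕ → σ) [GradedRing 𝒜]
variable {M τ : Type u} [AddCommGroup M] [Module A M] [SetLike τ M] [AddSubgroupClass τ M]
  (ℳ : ℕ → τ) [SetLike.GradedSMul 𝒜 ℳ]

/-- `fracSect` viewed as a section of the sheaf `M(n)~` over `D₊(f)`. -/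
noncomputable def fracΓ (n : ℤ) {d : ℕ} {f : A} (hf : f ∈ 𝒜 d) (K i : ℕ) (m : ℳ i)
    (hdeg : (i : ℤ) = K * d + n) : Γ(GrMod.tilde 𝒜 ℳ n, Proj.basicOpen 𝒜 f) :=
  fracSect 𝒜 ℳ n hf K i m hdeg

theorem fracΓ_add (n : ℤ) {d : ℕ} {f : A} (hf : f ∈ 𝒜 d) (K i : ℕ) (m m' : ℳ i)
    (hdeg : (i : ℤ) = K * d + n) :
    fracΓ 𝒜 ℳ n hf K i (m + m') hdeg = fracΓ 𝒜 ℳ n hf K i m hdeg + fracΓ 𝒜 ℳ n hf K i m' hdeg := by
  refine sect_ext 𝒜 ℳ n _ _ _ (fun x => ?_)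
  refine (fracSect_val 𝒜 ℳ n hf K i (m + m') hdeg x).trans ?_
  refine Eq.trans ?_ (congrArg₂ (· + ·) (fracSect_val 𝒜 ℳ n hf K i m hdeg x)
    (fracSect_val 𝒜 ℳ n hf K i m' hdeg x)).symm
  rw [LocalizedModule.mk_add_mk, LocalizedModule.mk_eq]
  refine ⟨1, ?_⟩
  simp only [one_smul, Submonoid.smul_def, Submonoid.coe_mul, smul_add, ← mul_smul,
    AddMemClass.coe_add]

theorem fracΓ_zero (n : ℤ) {d : ℕ} {f : A} (hf : f ∈ 𝒜 d) (K i : ℕ)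
    (hdeg : (i : ℤ) = K * d + n) :
    fracΓ 𝒜 ℳ n hf K i (0 : ℳ i) hdeg = 0 := by
  refine sect_ext 𝒜 ℳ n _ _ _ (fun x => ?_)
  refine (fracSect_val 𝒜 ℳ n hf K i 0 hdeg x).trans ?_
  exact LocalizedModule.zero_mk _

theorem fracΓ_smul (n : ℤ) {d : ℕ} {f : A} (hf : f ∈ 𝒜 d) (K i : ℕ) (m : ℳ i)
    (hdeg : (i : ℤ) = K * d + n) (j : ℕ) {t : A} (ht : t ∈ 𝒜 (j • d))
    (hdeg' : ((j • d + i : ℕ) : ℤ) = ((j + K : ℕ) : ℤ) * d + n) :
    (Proj.awayToSection 𝒜 f).hom (Away.mk 𝒜 hf j t ht) • fracΓ 𝒜 ℳ n hf K i m hdeg =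
      fracΓ 𝒜 ℳ n hf (j + K) (j • d + i) ⟨t • (m : M), SetLike.GradedSMul.smul_mem ht m.2⟩
        (by exact_mod_cast hdeg') := by
  refine sect_ext 𝒜 ℳ n _ _ _ (fun x => ?_)
  refine (tilde_smul_val 𝒜 ℳ n _ _ (fracΓ 𝒜 ℳ n hf K i m hdeg) x).trans ?_
  refine Eq.trans ?_ (fracSect_val 𝒜 ℳ n hf (j + K) (j • d + i) _ _ x).symm
  refine (congrArg₂ (· • ·) (awayToSection_apply_val 𝒜 hf j t ht x.1 x.2)
    (fracSect_val 𝒜 ℳ n hf K i m hdeg x)).trans ?_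
  rw [LocalizedModule.mk_smul_mk, LocalizedModule.mk_eq]
  refine ⟨1, ?_⟩
  simp only [one_smul, Submonoid.smul_def, Submonoid.coe_mul, ← mul_smul]
  congr 1
  ring

theorem fracΓ_raise (n : ℤ) {d : ℕ} {f : A} (hf : f ∈ 𝒜 d) (K i : ℕ) (m : ℳ i)
    (hdeg : (i : ℤ) = K * d + n) (a : ℕ)
    (hdeg' : ((a • d + i : ℕ) : ℤ) = ((a + K : ℕ) : ℤ) * d + n) :
    fracΓ 𝒜 ℳ n hf (a + K) (a • d + i)
      ⟨f ^ a • (m : M), SetLike.GradedSMul.smul_mem (SetLike.pow_mem_graded a hf) m.2⟩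
        (by exact_mod_cast hdeg') =
      fracΓ 𝒜 ℳ n hf K i m hdeg := by
  refine sect_ext 𝒜 ℳ n _ _ _ (fun x => ?_)
  refine (fracSect_val 𝒜 ℳ n hf (a + K) (a • d + i) _ _ x).trans ?_
  refine Eq.trans ?_ (fracSect_val 𝒜 ℳ n hf K i m hdeg x).symm
  rw [LocalizedModule.mk_eq]
  refine ⟨1, ?_⟩
  simp only [one_smul, Submonoid.smul_def, ← mul_smul]
  congr 1
  ring


theorem fracΓ_congr (n : ℤ) {d : ℕ} {f : A} (hf : f ∈ 𝒜 d) {K K' i i' : ℕ} (hK : K = K')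
    (hi : i = i') (m : ℳ i) (m' : ℳ i') (hm : (m : M) = m')
    (hdeg : (i : ℤ) = K * d + n) (hdeg' : (i' : ℤ) = K' * d + n) :
    fracΓ 𝒜 ℳ n hf K i m hdeg = fracΓ 𝒜 ℳ n hf K' i' m' hdeg' := by
  subst hK hi
  have : m = m' := Subtype.ext hm
  subst this
  rfl

variable [DirectSum.Decomposition ℳ]

open Groth.Agent.H18 in
/-- (TF) implies `M~` of finite type, when the irrelevant ideal is generated by finitely many
elements of degree one. -/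
theorem tilde_isFiniteType (T : Finset A) (hT : ∀ t ∈ T, t ∈ 𝒜 1)
    (hirr : (HomogeneousIdeal.irrelevant 𝒜).toIdeal ≤ Ideal.span (T : Set A))
    (n₁ : ℕ) (hTF : (Submodule.span A (⋃ k ∈ Set.Ici n₁, (ℳ k : Set M))).FG) :
    SheafOfModules.IsFiniteType (R := (Proj 𝒜).ringCatSheaf) (GrMod.tilde 𝒜 ℳ 0) := by
  classical
  obtain ⟨G, hGsub, hGspan⟩ := (Submodule.fg_span_iff_fg_span_finset_subset _).mp hTF
  have hdeg : ∀ g : M, ∃ i : ℕ, g ∈ G → g ∈ ℳ i := by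
    intro g
    by_cases hg : g ∈ G
    · have := hGsub hg
      simp only [Set.mem_iUnion, Set.mem_Ici, SetLike.mem_coe, exists_prop] at this
      obtain ⟨i, -, hi⟩ := this
      exact ⟨i, fun _ => hi⟩
    · exact ⟨0, fun h => absurd h hg⟩
  choose d hd using hdeg
  haveI := tilde_isQuasicoherent 𝒜 ℳ 0
  have hcov : IsOpenCover (fun t : ↥T => Proj.basicOpen 𝒜 t.1) := by
    refine IsOpenCover.mk (top_le_iff.mp ?_)
    intro x _
    by_contra hcon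
    apply x.not_irrelevant_le
    intro a ha
    have h1 : Ideal.span (T : Set A) ≤ x.asHomogeneousIdeal.toIdeal := by
      rw [Ideal.span_le]
      intro t ht
      by_contra htx
      exact hcon (Opens.mem_iSup.mpr ⟨⟨t, ht⟩, htx⟩)
    exact h1 (hirr ha)
  have h1d : ∀ k : ℕ, (k : ℤ) = k * (1 : ℕ) + 0 := fun k => by push_cast; ring
  refine isFiniteType_of_isQuasicoherent_of_span_eq_top (GrMod.tilde 𝒜 ℳ 0)
    (fun t : ↥T => Proj.basicOpen 𝒜 t.1) hcov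
    (fun t => Proj.isAffineOpen_basicOpen 𝒜 t.1 (hT t.1 t.2) one_pos)
    (fun _ => ↥G)
    (fun t g => fracΓ 𝒜 ℳ 0 (hT t.1 t.2) (d g.1) (d g.1) ⟨g.1, hd g.1 g.2⟩ (h1d _)) ?_
  intro t
  rw [eq_top_iff]
  intro y _
  set S := Submodule.span Γ(Proj 𝒜, Proj.basicOpen 𝒜 t.1)
    (Set.range fun g : ↥G => fracΓ 𝒜 ℳ 0 (hT t.1 t.2) (d g.1) (d g.1) ⟨g.1, hd g.1 g.2⟩ (h1d _))
    with hS
  obtain ⟨K, i, m, hdegm, hy⟩ := exists_eq_frac 𝒜 ℳ 0 one_pos (hT t.1 t.2) y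
  have hy' : y = fracΓ 𝒜 ℳ 0 (hT t.1 t.2) K i m hdegm := hy
  rw [hy']
  -- raise the degree
  set a := n₁ + G.sup d with ha
  have hdeg' : ((a • 1 + i : ℕ) : ℤ) = ((a + K : ℕ) : ℤ) * (1 : ℕ) + 0 := by
    push_cast at hdegm ⊢
    rw [hdegm]
    simp
  rw [← fracΓ_raise 𝒜 ℳ 0 (hT t.1 t.2) K i m hdegm a hdeg']
  -- the key claim
  have key : ∀ (K' i' : ℕ) (hdeg'' : (i' : ℤ) = K' * (1 : ℕ) + 0) (_ : ∀ g ∈ G, d g ≤ i')
      (μ : ℳ i'), (μ : M) ∈ Submodule.span A (G : Set M) →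
      fracΓ 𝒜 ℳ 0 (hT t.1 t.2) K' i' μ hdeg'' ∈ S := by
    intro K' N hdeg'' hN μ hmem
    obtain rfl : N = K' := by
      have : (N : ℤ) = K' := by simpa using hdeg''
      exact_mod_cast this
    obtain ⟨c, hc⟩ := eq_sum_decompose_smul 𝒜 ℳ G d hd hN μ.2 hmem
    have hP : ∃ hμ' : (∑ g ∈ G, (DirectSum.decompose 𝒜 (c g) (N - d g) : A) • g) ∈ ℳ N,
        fracΓ 𝒜 ℳ 0 (hT t.1 t.2) N N ⟨_, hμ'⟩ (h1d _) ∈ S := by
      refine Finset.sum_induction _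
        (fun ν : M => ∃ hν : ν ∈ ℳ N, fracΓ 𝒜 ℳ 0 (hT t.1 t.2) N N ⟨ν, hν⟩ (h1d _) ∈ S) ?_ ?_ ?_
      · rintro a b ⟨ha', h1⟩ ⟨hb', h2⟩
        refine ⟨add_mem ha' hb', ?_⟩
        have := fracΓ_add 𝒜 ℳ 0 (hT t.1 t.2) N N ⟨a, ha'⟩ ⟨b, hb'⟩ (h1d _)
        rw [show (⟨a + b, add_mem ha' hb'⟩ : ℳ N) = ⟨a, ha'⟩ + ⟨b, hb'⟩ from rfl, this]
        exact S.add_mem h1 h2
      · refine ⟨zero_mem _, ?_⟩
        rw [show (⟨0, zero_mem _⟩ : ℳ N) = 0 from rfl, fracΓ_zero]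
        exact S.zero_mem
      · intro g hg
        have hdg : d g ≤ N := hN g hg
        have hc' : (DirectSum.decompose 𝒜 (c g) (N - d g) : A) ∈ 𝒜 ((N - d g) • 1) := by
          rw [smul_eq_mul, mul_one]
          exact (DirectSum.decompose 𝒜 (c g) (N - d g)).2
        have hmemN : (DirectSum.decompose 𝒜 (c g) (N - d g) : A) • g ∈ ℳ N := by
          have := SetLike.GradedSMul.smul_mem (DirectSum.decompose 𝒜 (c g) (N - d g)).2 (hd g hg)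
          rwa [vadd_eq_add, Nat.sub_add_cancel hdg] at this
        refine ⟨hmemN, ?_⟩
        have hdeg3 : (((N - d g) • 1 + d g : ℕ) : ℤ) = (((N - d g) + d g : ℕ) : ℤ) * (1 : ℕ) + 0 := by
          simp
        have h2 := fracΓ_smul 𝒜 ℳ 0 (hT t.1 t.2) (d g) (d g) ⟨g, hd g hg⟩ (h1d _) (N - d g) hc' hdeg3
        have h3 : fracΓ 𝒜 ℳ 0 (hT t.1 t.2) N N ⟨_, hmemN⟩ (h1d _) =
            fracΓ 𝒜 ℳ 0 (hT t.1 t.2) ((N - d g) + d g) ((N - d g) • 1 + d g)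
              ⟨(DirectSum.decompose 𝒜 (c g) (N - d g) : A) • g,
                SetLike.GradedSMul.smul_mem hc' (hd g hg)⟩ (by exact_mod_cast hdeg3) :=
          fracΓ_congr 𝒜 ℳ 0 (hT t.1 t.2) (by omega) (by simp only [smul_eq_mul, mul_one]; omega) _ _ (by rfl) (h1d _) (by exact_mod_cast hdeg3)
        rw [h3, ← h2]
        refine S.smul_mem _ (Submodule.subset_span ⟨⟨g, hg⟩, rfl⟩)
    obtain ⟨hμ', hP⟩ := hP
    have h4 : fracΓ 𝒜 ℳ 0 (hT t.1 t.2) N N μ hdeg'' =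
        fracΓ 𝒜 ℳ 0 (hT t.1 t.2) N N ⟨_, hμ'⟩ (h1d _) :=
      fracΓ_congr 𝒜 ℳ 0 (hT t.1 t.2) rfl rfl _ _ hc _ _
    rw [h4]
    exact hP
  refine key _ _ _ ?_ _ ?_
  · intro g hg
    have := Finset.le_sup (f := d) hg
    simp only [smul_eq_mul, mul_one]
    omega
  · rw [← hGspan]
    refine Submodule.subset_span ?_
    simp only [Set.mem_iUnion, Set.mem_Ici, SetLike.mem_coe, exists_prop]
    refine ⟨a • 1 + i, ?_, SetLike.GradedSMul.smul_mem (SetLike.pow_mem_graded a (hT t.1 t.2)) m.2⟩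
    simp only [smul_eq_mul, mul_one]
    omega

end

end Groth.Agent.H77.GrModFT
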