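import Groth.Prelude.Def_GrMod3
import Groth.Agent.H41.GrTwistTriv
import Groth.Agent.H77.GrModQC

/-!
# Products of sections of `M(k)~` with sections of the twisting sheaves `O(n)` on `Proj` (helper77)

`mulSect 𝒜 ℳ h s t : Γ(M(l)~, V)` for `s : Γ(M(k)~, V)`, `t : Γ(O(n), V)`, `h : k + n = l`, valuewise the product in the
localized module; bilinearity, restriction, and cancellation against nowhere vanishing fractions.
-/

set_option autoImplicit false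
universe u

open CategoryTheory CategoryTheory.Limits AlgebraicGeometry TopologicalSpace Opposite

namespace Groth.Agent.H77.GrModMulSect

open Groth.Agent.H18 Groth.Agent.H41.GrTwistTriv

variable {A σ : Type u} [CommRing A] [SetLike σ A] [AddSubgroupClass σ A] (𝒜 : ℕ → σ) [GradedRing 𝒜]
variable {M τ : Type u} [AddCommGroup M] [Module A M] [SetLike τ M] [AddSubgroupClass τ M] (ℳ : ℕ → τ)
  [SetLike.GradedSMul 𝒜 ℳ]

omit [AddSubgroupClass τ M] in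
theorem smul_mem_tildeAt {k n l : ℤ} (h : k + n = l) (x : ProjectiveSpectrum 𝒜)
    {q : GrMod.LocMod 𝒜 (M := M) x} {c : GrTwist.Loc 𝒜 x}
    (hq : q ∈ GrMod.tildeAt 𝒜 ℳ k x) (hc : c ∈ GrTwist.twistAt 𝒜 n x) :
    c • q ∈ GrMod.tildeAt 𝒜 ℳ l x := by
  induction hc using Submodule.span_induction with
  | mem c h1 =>
    obtain ⟨i, j, a, s, hs, hij, rfl⟩ := h1
    induction hq using Submodule.span_induction with
    | mem q h2 =>
      obtain ⟨i', j', m, t, ht, hij', rfl⟩ := h2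
      rw [LocalizedModule.mk_smul_mk]
      exact Submodule.subset_span ⟨i + i', j + j',
        ⟨(a : A) • (m : M), SetLike.GradedSMul.smul_mem a.2 m.2⟩,
        ⟨(s : A) * t, SetLike.mul_mem_graded s.2 t.2⟩,
        fun h' => (x.isPrime.mem_or_mem h').elim hs ht, by push_cast; omega, rfl⟩
    | zero => rw [smul_zero]; exact zero_mem _
    | add y z _ _ hy hz => rw [smul_add]; exact add_mem hy hz
    | smul c' y _ hy =>
      rw [GrMod.a0_smul_def, smul_comm, ← GrMod.a0_smul_def]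
      exact Submodule.smul_mem _ c' hy
  | zero => rw [zero_smul]; exact zero_mem _
  | add y z _ _ hy hz => rw [add_smul]; exact add_mem hy hz
  | smul c' y _ hy =>
    have e : (c' • y : GrTwist.Loc 𝒜 x) = c'.val * y := by
      rw [Algebra.smul_def, HomogeneousLocalization.algebraMap_apply]
    rw [e, mul_smul, ← GrMod.a0_smul_def]
    exact Submodule.smul_mem _ c' hy

/-- the product of a section of `M(k)~` and a section of `O(n)`, a section of `M(l)~`, `l = k + n` -/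
noncomputable def mulSect {k n l : ℤ} (h : k + n = l) {V : (Proj 𝒜).Opens}
    (s : Γ(GrMod.tilde 𝒜 ℳ k, V)) (t : Γ(GrTwist.twist 𝒜 n, V)) : Γ(GrMod.tilde 𝒜 ℳ l, V) :=
  (⟨fun x => ⟨(((t : GrTwist.sectN (𝒜 := 𝒜) n (op V)).1 x : GrTwist.twistAt 𝒜 n x.1) : GrTwist.Loc 𝒜 x.1) •
      (((s : GrMod.sect 𝒜 ℳ k (op V)).1 x : GrMod.tildeAt 𝒜 ℳ k x.1) : GrMod.LocMod 𝒜 (M := M) x.1),
      smul_mem_tildeAt 𝒜 ℳ h x.1 ((s : GrMod.sect 𝒜 ℳ k (op V)).1 x).2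
        ((t : GrTwist.sectN (𝒜 := 𝒜) n (op V)).1 x).2⟩, by
    intro x
    rcases (s : GrMod.sect 𝒜 ℳ k (op V)).2 x with
      ⟨Va, ma, ia, i, j, ⟨a, a_mem⟩, ⟨d, d_mem⟩, nina, ca, wa⟩
    rcases (t : GrTwist.sectN (𝒜 := 𝒜) n (op V)).2 x with
      ⟨Vb, mb, ib, i', j', ⟨b, b_mem⟩, ⟨d', d'_mem⟩, ninb, cb, wb⟩
    replace ca : (i : ℤ) = j + k ∨ a = 0 := ca
    replace cb : (i' : ℤ) = j' + n ∨ b = 0 := cb
    have nin : ∀ y : (Va ⊓ Vb : Opens _), d' * d ∉ y.1.asHomogeneousIdeal := fun y h' =>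
      ((y.1.isPrime.mem_or_mem h').elim (ninb ⟨y.1, y.2.2⟩)) (nina ⟨y.1, y.2.1⟩)
    refine ⟨Va ⊓ Vb, ⟨ma, mb⟩, Opens.infLELeft _ _ ≫ ia, i' + i, j' + j,
      ⟨b • a, SetLike.GradedSMul.smul_mem b_mem a_mem⟩,
      ⟨d' * d, SetLike.mul_mem_graded d'_mem d_mem⟩,
      nin, ?_, fun y => ?_⟩
    · rcases ca with ha | ha
      · rcases cb with hb | hb
        · exact Or.inl (by push_cast; omega)
        · exact Or.inr (show b • a = 0 by rw [hb, zero_smul])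
      · exact Or.inr (show b • a = 0 by rw [ha, smul_zero])
    · have e1 := wa ⟨y.1, y.2.1⟩
      have e2 := wb ⟨y.1, y.2.2⟩
      dsimp only at e1 e2 ⊢
      erw [e1, e2]
      rw [LocalizedModule.mk_smul_mk]
      rfl⟩ : GrMod.sect 𝒜 ℳ l (op V))

theorem mulSect_val {k n l : ℤ} (h : k + n = l) {V : (Proj 𝒜).Opens}
    (s : Γ(GrMod.tilde 𝒜 ℳ k, V)) (t : Γ(GrTwist.twist 𝒜 n, V)) (z : V) :
    GrMod.val (mulSect 𝒜 ℳ h s t) z = GrTwist.val t z • GrMod.val s z := rfl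

theorem tilde_sect_ext (e : ℤ) (V : (Proj 𝒜).Opens) (s t : Γ(GrMod.tilde 𝒜 ℳ e, V))
    (h : ∀ z : V, GrMod.val s z = GrMod.val t z) : s = t := by
  apply Subtype.ext
  funext z
  exact Subtype.ext (h z)

theorem tilde_smul_val (e : ℤ) (V : (Proj 𝒜).Opens) (r : Γ(Proj 𝒜, V))
    (s : Γ(GrMod.tilde 𝒜 ℳ e, V)) (z : V) :
    GrMod.val (r • s) z = (r.1 z).val • GrMod.val s z :=
  GrMod.coe_smul_val e z.1 (r.1 z) ((s : GrMod.sect 𝒜 ℳ e (op V)).1 z)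

theorem mulSect_add_left {k n l : ℤ} (h : k + n = l) {V : (Proj 𝒜).Opens}
    (s s' : Γ(GrMod.tilde 𝒜 ℳ k, V)) (t : Γ(GrTwist.twist 𝒜 n, V)) :
    mulSect 𝒜 ℳ h (s + s') t = mulSect 𝒜 ℳ h s t + mulSect 𝒜 ℳ h s' t := by
  apply tilde_sect_ext
  intro z
  exact smul_add (GrTwist.val t z) (GrMod.val s z) (GrMod.val s' z)

theorem mulSect_add_right {k n l : ℤ} (h : k + n = l) {V : (Proj 𝒜).Opens}
    (s : Γ(GrMod.tilde 𝒜 ℳ k, V)) (t t' : Γ(GrTwist.twist 𝒜 n, V)) :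
    mulSect 𝒜 ℳ h s (t + t') = mulSect 𝒜 ℳ h s t + mulSect 𝒜 ℳ h s t' := by
  apply tilde_sect_ext
  intro z
  exact add_smul (GrTwist.val t z) (GrTwist.val t' z) (GrMod.val s z)

theorem mulSect_smul_left {k n l : ℤ} (h : k + n = l) {V : (Proj 𝒜).Opens} (r : Γ(Proj 𝒜, V))
    (s : Γ(GrMod.tilde 𝒜 ℳ k, V)) (t : Γ(GrTwist.twist 𝒜 n, V)) :
    mulSect 𝒜 ℳ h (r • s) t = r • mulSect 𝒜 ℳ h s t := by
  apply tilde_sect_ext
  intro z
  have h1 := tilde_smul_val 𝒜 ℳ k V r s z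
  have h2 := tilde_smul_val 𝒜 ℳ l V r (mulSect 𝒜 ℳ h s t) z
  refine Eq.trans ?_ h2.symm
  change GrTwist.val t z • GrMod.val (r • s) z = _
  rw [h1, smul_comm]
  rfl

theorem mulSect_smul_right {k n l : ℤ} (h : k + n = l) {V : (Proj 𝒜).Opens} (r : Γ(Proj 𝒜, V))
    (s : Γ(GrMod.tilde 𝒜 ℳ k, V)) (t : Γ(GrTwist.twist 𝒜 n, V)) :
    mulSect 𝒜 ℳ h s (r • t) = r • mulSect 𝒜 ℳ h s t := by
  apply tilde_sect_ext
  intro z
  have h1 := twist_smul_val 𝒜 n V r t z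
  have h2 := tilde_smul_val 𝒜 ℳ l V r (mulSect 𝒜 ℳ h s t) z
  refine Eq.trans ?_ h2.symm
  change GrTwist.val (r • t) z • GrMod.val s z = _
  rw [show GrTwist.val (r • t) z = _ from h1, mul_smul]
  rfl

theorem mulSect_res {k n l : ℤ} (h : k + n = l) {V V' : (Proj 𝒜).Opens} (hV : V' ≤ V)
    (s : Γ(GrMod.tilde 𝒜 ℳ k, V)) (t : Γ(GrTwist.twist 𝒜 n, V)) :
    mres (GrMod.tilde 𝒜 ℳ l) hV (mulSect 𝒜 ℳ h s t) =
      mulSect 𝒜 ℳ h (mres (GrMod.tilde 𝒜 ℳ k) hV s) (mres (GrTwist.twist 𝒜 n) hV t) := rfl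

/-- multiplying by `a / b` and then by `b / a` is the identity -/
theorem mulSect_mulSect_fracTw {k n l n' : ℤ} (h : k + n = l) (h' : l + n' = k) {i j : ℕ} {a b : A}
    (ha : a ∈ 𝒜 i) (hb : b ∈ 𝒜 j) (he : (i : ℤ) = j + n) (he' : (j : ℤ) = i + n')
    (V : (Proj 𝒜).Opens)
    (hVa : ∀ x : ProjectiveSpectrum 𝒜, x ∈ V → a ∉ x.asHomogeneousIdeal)
    (hVb : ∀ x : ProjectiveSpectrum 𝒜, x ∈ V → b ∉ x.asHomogeneousIdeal)
    (s : Γ(GrMod.tilde 𝒜 ℳ k, V)) :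
    mulSect 𝒜 ℳ h' (mulSect 𝒜 ℳ h s (fracTw 𝒜 ha hb he V hVb)) (fracTw 𝒜 hb ha he' V hVa) = s := by
  apply tilde_sect_ext
  intro z
  rw [mulSect_val, mulSect_val, ← mul_smul]
  have h3 : GrTwist.val (fracTw 𝒜 hb ha he' V hVa) z * GrTwist.val (fracTw 𝒜 ha hb he V hVb) z = 1 := by
    change Localization.mk b ⟨a, hVa z.1 z.2⟩ * Localization.mk a ⟨b, hVb z.1 z.2⟩ = 1
    rw [Localization.mk_mul]
    have : (⟨a, hVa z.1 z.2⟩ * ⟨b, hVb z.1 z.2⟩ : z.1.asHomogeneousIdeal.toIdeal.primeCompl) =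
        ⟨b * a, fun h => (z.1.isPrime.mem_or_mem h).elim (hVb z.1 z.2) (hVa z.1 z.2)⟩ :=
      Subtype.ext (mul_comm a b)
    rw [this]
    exact Localization.mk_self (M := A) (S := z.1.asHomogeneousIdeal.toIdeal.primeCompl)
      ⟨b * a, fun h => (z.1.isPrime.mem_or_mem h).elim (hVb z.1 z.2) (hVa z.1 z.2)⟩
  rw [h3, one_smul]

end Groth.Agent.H77.GrModMulSect
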