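import Groth.Agent.H77.RelTildeTensorIso
import Groth.Agent.H77.SheafLocalBij

/-!
# The multiplication `M(k)~ ⊗ O(n) ⟶ M(k + n)~` on `Proj` of a graded ring (helper77)

Ring-level version of `H77.RelTildeTensor`; it is bijective on sections over every open on which some fraction `a / b`
of degree `n` is nowhere vanishing.
-/

set_option autoImplicit false
universe u

open CategoryTheory CategoryTheory.Limits AlgebraicGeometry TopologicalSpace Opposite TensorProduct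

namespace Groth.Agent.H77.GrModTensorTwist

open Groth.Agent.H18 Groth.Agent.H18.PUP Groth.Agent.H41.GrTwistTriv Groth.Agent.H77.GrModMulSect
  Groth.Agent.H77.RelTildeTensorIso

variable {A σ : Type u} [CommRing A] [SetLike σ A] [AddSubgroupClass σ A] (𝒜 : ℕ → σ) [GradedRing 𝒜]
variable {M τ : Type u} [AddCommGroup M] [Module A M] [SetLike τ M] [AddSubgroupClass τ M] (ℳ : ℕ → τ)
  [SetLike.GradedSMul 𝒜 ℳ] {k n l : ℤ} (h : k + n = l)

/-- the pairing on the presheaf tensor product -/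
noncomputable def pairPre :
    CohB1.tensorPre (GrMod.tilde 𝒜 ℳ k) (GrTwist.twist 𝒜 n) ⟶ CohB1.toPMod (GrMod.tilde 𝒜 ℳ l) where
  app W := ModuleCat.MonoidalCategory.tensorLift
    (fun (s : Γ(GrMod.tilde 𝒜 ℳ k, W.unop)) (t : Γ(GrTwist.twist 𝒜 n, W.unop)) =>
      (mulSect 𝒜 ℳ h s t : Γ(GrMod.tilde 𝒜 ℳ l, W.unop)))
    (fun s₁ s₂ t => mulSect_add_left 𝒜 ℳ h s₁ s₂ t)
    (fun r s t => mulSect_smul_left 𝒜 ℳ h r s t)
    (fun s t₁ t₂ => mulSect_add_right 𝒜 ℳ h s t₁ t₂)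
    (fun r s t => mulSect_smul_right 𝒜 ℳ h r s t)
  naturality {_ _} f := ModuleCat.MonoidalCategory.tensor_ext (fun s t =>
    (mulSect_res 𝒜 ℳ h (leOfHom f.unop) s t).symm)

/-- the multiplication `M(k)~ ⊗ O(n) ⟶ M(l)~`, `l = k + n` -/
noncomputable def mul : CohB1.tensorMod (GrMod.tilde 𝒜 ℳ k) (GrTwist.twist 𝒜 n) ⟶ GrMod.tilde 𝒜 ℳ l :=
  (PresheafOfModules.sheafificationHomEquiv (R := (Proj 𝒜).ringCatSheaf) (𝟙 (Proj 𝒜).ringCatSheaf.obj)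
    (P := (CohB1.tensorPre (GrMod.tilde 𝒜 ℳ k) (GrTwist.twist 𝒜 n) : (Proj 𝒜).PresheafOfModules))
    (F := GrMod.tilde 𝒜 ℳ l)).symm (pairPre 𝒜 ℳ h)

theorem mul_tmul (W : (Proj 𝒜).Opens) (s : Γ(GrMod.tilde 𝒜 ℳ k, W)) (t : Γ(GrTwist.twist 𝒜 n, W)) :
    (mul 𝒜 ℳ h).app W (SecTwist.tmul (GrMod.tilde 𝒜 ℳ k) (GrTwist.twist 𝒜 n) W s t) =
      mulSect 𝒜 ℳ h s t := by
  have h0 : PresheafOfModules.sheafificationHomEquiv (R := (Proj 𝒜).ringCatSheaf)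
      (𝟙 (Proj 𝒜).ringCatSheaf.obj)
      (P := (CohB1.tensorPre (GrMod.tilde 𝒜 ℳ k) (GrTwist.twist 𝒜 n) : (Proj 𝒜).PresheafOfModules))
      (F := GrMod.tilde 𝒜 ℳ l) (mul 𝒜 ℳ h) = pairPre 𝒜 ℳ h := Equiv.apply_symm_apply _ _
  have h1 := PresheafOfModules.toPresheaf_map_sheafificationHomEquiv_def (R := (Proj 𝒜).ringCatSheaf)
    (𝟙 (Proj 𝒜).ringCatSheaf.obj)
    (P := (CohB1.tensorPre (GrMod.tilde 𝒜 ℳ k) (GrTwist.twist 𝒜 n) : (Proj 𝒜).PresheafOfModules))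
    (mul 𝒜 ℳ h)
  rw [h0] at h1
  have h3 := h1.trans (congrArg (fun ψ => ψ ≫ (PresheafOfModules.toPresheaf
    (Proj 𝒜).ringCatSheaf.obj).map (mul 𝒜 ℳ h).val)
    (STL.toPresheaf_map_toTensor (GrMod.tilde 𝒜 ℳ k) (GrTwist.twist 𝒜 n)).symm)
  have h2 := congrArg (fun φ => (φ.app (op W)) (s ⊗ₜ t)) h3
  exact h2.symm

/-- the multiplication is bijective on sections over every open inside an open where a fraction `a / b` of degree `n`
is nowhere vanishing -/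
theorem bijective_mul_app {i j : ℕ} {a b : A} (ha : a ∈ 𝒜 i) (hb : b ∈ 𝒜 j) (he : (i : ℤ) = j + n)
    (W : (Proj 𝒜).Opens)
    (hWa : ∀ x : ProjectiveSpectrum 𝒜, x ∈ W → a ∉ x.asHomogeneousIdeal)
    (hWb : ∀ x : ProjectiveSpectrum 𝒜, x ∈ W → b ∉ x.asHomogeneousIdeal)
    (V : (Proj 𝒜).Opens) (hV : V ≤ W) : Function.Bijective ((mul 𝒜 ℳ h).app V) := by
  have hb' : IsBasisOn (GrTwist.twist 𝒜 n) W (fracTw 𝒜 ha hb he W hWb) := fun V hV =>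
    ⟨smul_fracTw_injective 𝒜 ha hb he V (fun x hx => hWa x (hV hx)) (fun x hx => hWb x (hV hx)),
      smul_fracTw_surjective 𝒜 ha hb he V (fun x hx => hWa x (hV hx)) (fun x hx => hWb x (hV hx))⟩
  refine bijective_app_of_basis (mul 𝒜 ℳ h) hb' (fun V hV => ?_) V hV
  have hcomp : (fun s : Γ(GrMod.tilde 𝒜 ℳ k, V) => (mul 𝒜 ℳ h).app V
      (SecTwist.tmul (GrMod.tilde 𝒜 ℳ k) (GrTwist.twist 𝒜 n) V s
        (mres (GrTwist.twist 𝒜 n) hV (fracTw 𝒜 ha hb he W hWb)))) =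
      fun s : Γ(GrMod.tilde 𝒜 ℳ k, V) => mulSect 𝒜 ℳ h s
        (fracTw 𝒜 ha hb he V (fun x hx => hWb x (hV hx))) := by
    funext s
    rw [mul_tmul]
    rfl
  rw [hcomp]
  exact bijective_mulSect_fracTw 𝒜 ℳ h ha hb he V (fun x hx => hWa x (hV hx))
    (fun x hx => hWb x (hV hx))

end Groth.Agent.H77.GrModTensorTwist
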