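import Mathlib

set_option autoImplicit false
set_option linter.unusedSectionVars false

namespace Groth.Agent.H77.HB

open Matrix

variable {S : Type*} [CommRing S] [IsDomain S]

/-- Extending a vector on the last `m` coordinates by zero and applying `A`. -/
lemma mulVec_append_zero {n m l : ℕ} (A : Matrix (Fin l) (Fin (n + m)) S) (y : Fin m → S)
    (p : Fin l) :
    (A *ᵥ (Fin.append (0 : Fin n → S) y)) p = ∑ j : Fin m, A p (Fin.natAdd n j) * y j := by
  rw [Matrix.mulVec, dotProduct, Fin.sum_univ_add]
  simp only [Fin.append_left, Fin.append_right, Pi.zero_apply, mul_zero, Finset.sum_const_zero,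
    zero_add]

lemma append_zero_ne_zero {n m : ℕ} (y : Fin m → S) (hy : y ≠ 0) :
    Fin.append (0 : Fin n → S) y ≠ 0 := by
  intro h
  apply hy
  funext j
  have := congr_fun h (Fin.natAdd n j)
  simpa using this

/-- A zero block in the upper right corner with a square complementary block forces
the rows of any left annihilator below the block to vanish. -/
theorem block_e {n m s : ℕ}
    (A : Matrix (Fin (n + m + 1)) (Fin (n + m)) S) (G : Matrix (Fin s) (Fin (n + m + 1)) S)
    (hinj : ∀ y : Fin (n + m) → S, A *ᵥ y = 0 → y = 0) (hGA : G * A = 0)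
    (hz : ∀ (p : Fin (n + m + 1)) (j : Fin m), (p : ℕ) ≤ n → A p (Fin.natAdd n j) = 0)
    (a : Fin s) (j' : Fin m) : G a (Fin.natAdd n j').succ = 0 := by
  classical
  set C : Matrix (Fin m) (Fin m) S := fun j₁ j₂ => A (Fin.natAdd n j₁).succ (Fin.natAdd n j₂)
    with hC
  by_cases hdet : C.det = 0
  · exfalso
    obtain ⟨y, hy, hCy⟩ := exists_mulVec_eq_zero_iff.mpr hdet
    have hAy : A *ᵥ (Fin.append (0 : Fin n → S) y) = 0 := by
      funext p
      rw [mulVec_append_zero, Pi.zero_apply]
      induction p using Fin.cases with
      | zero =>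
        apply Finset.sum_eq_zero
        intro j _
        rw [hz 0 j (by simp), zero_mul]
      | succ q =>
        induction q using Fin.addCases with
        | left q =>
          apply Finset.sum_eq_zero
          intro j _
          rw [hz _ j (by simp), zero_mul]
        | right q =>
          have := congr_fun hCy q
          rw [Matrix.mulVec, dotProduct] at this
          exact this
    exact append_zero_ne_zero y hy (hinj _ hAy)
  · have hv : (fun j₁ : Fin m => G a (Fin.natAdd n j₁).succ) ᵥ* C = 0 := by
      funext j₂
      rw [Matrix.vecMul, dotProduct, Pi.zero_apply]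
      have h1 : (G * A) a (Fin.natAdd n j₂) = 0 := by rw [hGA]; rfl
      rw [Matrix.mul_apply, Fin.sum_univ_succ, Fin.sum_univ_add] at h1
      rw [hz 0 j₂ (by simp), mul_zero, zero_add] at h1
      have h2 : ∑ i : Fin n, G a (Fin.castAdd m i).succ * A (Fin.castAdd m i).succ (Fin.natAdd n j₂)
          = 0 := by
        apply Finset.sum_eq_zero
        intro i _
        rw [hz _ j₂ (by simp), mul_zero]
      rw [h2, zero_add] at h1
      exact h1
    have hv0 : (fun j₁ : Fin m => G a (Fin.natAdd n j₁).succ) = 0 := by
      by_contra hne
      exact hdet (exists_vecMul_eq_zero_iff.mp ⟨_, hne, hv⟩)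
    exact congr_fun hv0 j'

/-- A zero block in the upper right corner leaving fewer rows than columns contradicts
injectivity. -/
theorem block_f {n m : ℕ}
    (A : Matrix (Fin (n + (m + 1) + 1)) (Fin (n + (m + 1))) S)
    (hinj : ∀ y : Fin (n + (m + 1)) → S, A *ᵥ y = 0 → y = 0)
    (hz : ∀ (p : Fin (n + (m + 1) + 1)) (j : Fin (m + 1)), (p : ℕ) ≤ n + 1 →
      A p (Fin.natAdd n j) = 0) : False := by
  classical
  set C : Matrix (Fin m) (Fin (m + 1)) S :=
    fun j₁ j₂ => A (Fin.natAdd n j₁.succ).succ (Fin.natAdd n j₂) with hC
  have hninj : ¬ Function.Injective (Matrix.mulVecLin C) := by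
    intro hi
    have := card_le_of_injective (R := S) (Matrix.mulVecLin C) hi
    simp at this
  rw [← LinearMap.ker_eq_bot, Submodule.eq_bot_iff] at hninj
  push Not at hninj
  obtain ⟨y, hyker, hy⟩ := hninj
  rw [LinearMap.mem_ker, Matrix.mulVecLin_apply] at hyker
  have hAy : A *ᵥ (Fin.append (0 : Fin n → S) y) = 0 := by
    funext p
    rw [mulVec_append_zero, Pi.zero_apply]
    induction p using Fin.cases with
    | zero =>
      apply Finset.sum_eq_zero
      intro j _
      rw [hz 0 j (by simp), zero_mul]
    | succ q =>
      induction q using Fin.addCases with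
      | left q =>
        apply Finset.sum_eq_zero
        intro j _
        rw [hz _ j (by simp), zero_mul]
      | right q =>
        induction q using Fin.cases with
        | zero =>
          apply Finset.sum_eq_zero
          intro j _
          rw [hz _ j (by simp), zero_mul]
        | succ q =>
          have := congr_fun hyker q
          rw [Matrix.mulVec, dotProduct] at this
          exact this
  exact append_zero_ne_zero y hy (hinj _ hAy)

end Groth.Agent.H77.HB
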