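import Mathlib

set_option autoImplicit false

namespace Groth.Agent.H77.HB

/-- A bounded integer sequence whose first differences are eventually affine has vanishing
slope and intercept. -/
lemma linear_bounded (h : ℤ → ℤ) (A W B D0 : ℤ) (hb : ∀ d, D0 ≤ d → 0 ≤ h d ∧ h d ≤ B)
    (hd : ∀ d, D0 ≤ d → h (d + 1) - h d = A * (d + 2) - W) : A = 0 ∧ W = 0 := by
  have hB : 0 ≤ B := le_trans (hb D0 le_rfl).1 (hb D0 le_rfl).2
  have hg : ∀ d, D0 ≤ d → -B ≤ A * (d + 2) - W ∧ A * (d + 2) - W ≤ B := by
    intro d hdd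
    have h1 := hb d hdd
    have h2 := hb (d + 1) (by omega)
    rw [← hd d hdd]
    constructor <;> omega
  have hA : A = 0 := by
    by_contra hA
    have h1 := hg D0 le_rfl
    have h2 := hg (D0 + (2 * B + 1)) (by omega)
    rcases lt_or_gt_of_ne hA with hneg | hpos
    · have : A ≤ -1 := by omega
      nlinarith
    · have : 1 ≤ A := by omega
      nlinarith
  refine ⟨hA, ?_⟩
  subst hA
  have hstep : ∀ N : ℕ, h (D0 + N) = h D0 - N * W := by
    intro N
    induction N with
    | zero => simp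
    | succ N ih =>
      have := hd (D0 + N) (by omega)
      push_cast
      have e : D0 + (↑N + 1) = D0 + ↑N + 1 := by ring
      rw [e]
      linarith
  by_contra hW
  have h1 := hb D0 le_rfl
  have h2 := hb (D0 + (B + 1).toNat) (by omega)
  rw [hstep] at h2
  have hN : ((B + 1).toNat : ℤ) = B + 1 := Int.toNat_of_nonneg (by omega)
  rw [hN] at h2
  rcases lt_or_gt_of_ne hW with hneg | hpos
  · have : W ≤ -1 := by omega
    nlinarith
  · have : 1 ≤ W := by omega
    nlinarith

lemma choose_two_succ (n : ℕ) : ((Nat.choose (2 + (n + 1)) 2 : ℕ) : ℤ) =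
    ((Nat.choose (2 + n) 2 : ℕ) : ℤ) + (n + 2) := by
  have e : 2 + (n + 1) = (n + 2) + 1 := by ring
  rw [e, Nat.choose_succ_succ, Nat.choose_one_right]
  push_cast
  have e2 : 2 + n = n + 2 := by ring
  rw [e2]
  ring

end Groth.Agent.H77.HB
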