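import Mathlib

/-!
# Diagonalisation of hermitian matrices over rings with involution: basic congruence calculus
-/

set_option autoImplicit false
set_option linter.unusedSectionVars false
set_option linter.style.haveILetI false
set_option linter.unusedSimpArgs false
universe v

namespace Groth.Agent.H77.HermDiag

variable {A : Type v} [CommRing A] (lam : A ≃+* A)

section Basic

variable {ι κ μ : Type} [Fintype ι] [DecidableEq ι] [Fintype κ] [DecidableEq κ]
  [Fintype μ] [DecidableEq μ]

/-- the congruence `(lam v)ᵀ h v` -/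
def cong (v : Matrix ι κ A) (h : Matrix ι ι A) : Matrix κ κ A :=
  (v.map lam).transpose * h * v

lemma map_mul' (w : Matrix ι κ A) (v : Matrix κ μ A) :
    (w * v).map lam = w.map lam * v.map lam :=
  Matrix.map_mul (f := lam.toRingHom)

lemma cong_mul (w : Matrix ι κ A) (v : Matrix κ μ A) (h : Matrix ι ι A) :
    cong lam (w * v) h = cong lam v (cong lam w h) := by
  unfold cong
  rw [map_mul', Matrix.transpose_mul]
  simp only [Matrix.mul_assoc]

lemma cong_one (h : Matrix ι ι A) : cong lam (1 : Matrix ι ι A) h = h := by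
  unfold cong
  have : (1 : Matrix ι ι A).map lam = 1 := Matrix.map_one (f := lam.toRingHom) (map_zero _) (map_one _)
  rw [this, Matrix.transpose_one, Matrix.one_mul, Matrix.mul_one]

lemma isUnit_cstar {w : Matrix ι ι A} (hw : IsUnit w) : IsUnit (w.map lam).transpose := by
  rw [Matrix.isUnit_iff_isUnit_det] at hw ⊢
  rw [Matrix.det_transpose]
  have : (w.map lam).det = lam w.det := (RingHom.map_det lam.toRingHom w).symm
  rw [this]
  exact hw.map lam

lemma isUnit_cong {w h : Matrix ι ι A} (hw : IsUnit w) (hh : IsUnit h) : IsUnit (cong lam w h) := by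
  unfold cong
  exact ((isUnit_cstar lam hw).mul hh).mul hw

/-- `ε`-hermitian matrices -/
def IsHerm (ε : A) (h : Matrix ι ι A) : Prop := ε • (h.map lam).transpose = h

lemma IsHerm.apply {ε : A} {h : Matrix ι ι A} (H : IsHerm lam ε h) (k l : ι) :
    h k l = ε * lam (h l k) := by
  have := congrFun (congrFun H k) l
  rw [← this]
  rfl

lemma isHerm_iff {ε : A} {h : Matrix ι ι A} :
    IsHerm lam ε h ↔ ∀ k l, h k l = ε * lam (h l k) := by
  constructor
  · intro H k l
    exact H.apply lam k l
  · intro H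
    ext k l
    rw [H k l]
    rfl

lemma IsHerm.cong {ε : A} {h : Matrix ι ι A} (H : IsHerm lam ε h)
    (hlam : Function.Involutive lam) (w : Matrix ι κ A) :
    IsHerm lam ε (cong lam w h) := by
  unfold IsHerm HermDiag.cong
  have h1 : ((w.map lam).transpose * h * w).map lam =
      ((w.map lam).transpose).map lam * h.map lam * w.map lam := by
    rw [map_mul', map_mul']
  have h2 : ((w.map lam).transpose).map lam = w.transpose := by
    ext a b
    simp only [Matrix.map_apply, Matrix.transpose_apply]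
    exact hlam _
  rw [h1, h2, Matrix.transpose_mul, Matrix.transpose_mul, Matrix.transpose_transpose]
  conv_rhs => rw [← H]
  rw [Matrix.mul_smul, Matrix.smul_mul, Matrix.mul_assoc]

lemma IsHerm.submatrix {ε : A} {h : Matrix ι ι A} (H : IsHerm lam ε h) (e : κ → ι) :
    IsHerm lam ε (h.submatrix e e) := by
  rw [isHerm_iff] at H ⊢
  intro k l
  exact H (e k) (e l)

/-- congruent to a diagonal matrix -/
def Diagble (h : Matrix ι ι A) : Prop :=
  ∃ v : Matrix ι ι A, IsUnit v ∧ ∃ d : ι → A, cong lam v h = Matrix.diagonal d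

lemma Diagble.of_cong {w h : Matrix ι ι A} (hw : IsUnit w) (H : Diagble lam (cong lam w h)) :
    Diagble lam h := by
  obtain ⟨v, hv, d, hd⟩ := H
  exact ⟨w * v, hw.mul hv, d, by rw [cong_mul, hd]⟩

lemma Diagble.of_submatrix_equiv (e : κ ≃ ι) (h : Matrix ι ι A)
    (H : Diagble lam (h.submatrix e e)) : Diagble lam h := by
  obtain ⟨v, hv, d, hd⟩ := H
  refine ⟨v.submatrix e.symm e.symm, (Matrix.isUnit_submatrix_equiv e.symm e.symm).mpr hv,
    d ∘ e.symm, ?_⟩
  have : cong lam (v.submatrix e.symm e.symm) h =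
      (cong lam v (h.submatrix e e)).submatrix e.symm e.symm := by
    unfold cong
    rw [← Matrix.submatrix_mul_equiv _ _ _ e.symm _, ← Matrix.submatrix_mul_equiv _ _ _ e.symm _]
    have h1 : (h.submatrix e e).submatrix e.symm e.symm = h := by
      ext a b
      simp
    have h2 : ((v.map lam).transpose).submatrix e.symm e.symm =
        ((v.submatrix e.symm e.symm).map lam).transpose := by
      ext a b
      simp
    rw [h1, h2]
  rw [this, hd]
  ext a b
  simp [Matrix.diagonal_apply]

lemma Diagble.fromBlocks {h₁ : Matrix ι ι A} {h₂ : Matrix κ κ A}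
    (H₁ : Diagble lam h₁) (H₂ : Diagble lam h₂) :
    Diagble lam (Matrix.fromBlocks h₁ 0 0 h₂) := by
  obtain ⟨v₁, hv₁, d₁, hd₁⟩ := H₁
  obtain ⟨v₂, hv₂, d₂, hd₂⟩ := H₂
  refine ⟨Matrix.fromBlocks v₁ 0 0 v₂, ?_, Sum.elim d₁ d₂, ?_⟩
  · rw [Matrix.isUnit_fromBlocks_zero₁₂]
    exact ⟨hv₁, hv₂⟩
  · unfold cong at hd₁ hd₂ ⊢
    rw [Matrix.fromBlocks_map, Matrix.fromBlocks_transpose, Matrix.fromBlocks_multiply,
      Matrix.fromBlocks_multiply]
    simp only [Matrix.map_zero _ (map_zero lam), Matrix.transpose_zero, Matrix.mul_zero,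
      Matrix.zero_mul, add_zero, zero_add]
    rw [hd₁, hd₂, Matrix.fromBlocks_diagonal]

lemma Diagble.of_subsingleton [Subsingleton ι] (h : Matrix ι ι A) : Diagble lam h := by
  refine ⟨1, isUnit_one, fun i => h i i, ?_⟩
  rw [cong_one]
  ext a b
  rw [Matrix.diagonal_apply]
  have : a = b := Subsingleton.elim a b
  subst this
  simp

end Basic


section RankOne

variable {ι : Type} [Fintype ι] [DecidableEq ι]

/-- the elementary matrix `1 + e_j bᵀ` (row `j` replaced by `e_j + b`) -/
def W (j : ι) (b : ι → A) : Matrix ι ι A :=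
  fun k l => (if k = l then 1 else 0) + (if k = j then b l else 0)

lemma W_mul_W (j : ι) (b c : ι → A) (hb : b j = 0) : W j b * W j c = W j (b + c) := by
  ext k l
  rw [Matrix.mul_apply]
  simp only [W, Pi.add_apply]
  simp only [add_mul, mul_add, ite_mul, mul_ite, one_mul, zero_mul, mul_one, mul_zero,
    Finset.sum_add_distrib, Finset.sum_ite_eq, Finset.sum_ite_eq', Finset.mem_univ, if_true]
  by_cases hkj : k = j
  · subst hkj
    simp [hb]
    ring
  · simp [hkj]

lemma W_zero (j : ι) : W j (0 : ι → A) = 1 := by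
  ext k l
  simp [W, Matrix.one_apply]

lemma isUnit_W (j : ι) (b : ι → A) (hb : b j = 0) : IsUnit (W j b) := by
  have h1 : W j b * W j (-b) = 1 := by rw [W_mul_W j b (-b) hb, add_neg_cancel, W_zero]
  have h2 : W j (-b) * W j b = 1 := by
    rw [W_mul_W j (-b) b (by simp [hb]), neg_add_cancel, W_zero]
  exact ⟨⟨W j b, W j (-b), h1, h2⟩, rfl⟩

/-- entries of the congruence by `W j b` -/
lemma cong_W_apply (j : ι) (b : ι → A) (h : Matrix ι ι A) (k l : ι) :
    cong lam (W j b) h k l =
      h k l + lam (b k) * h j l + h k j * b l + lam (b k) * h j j * b l := by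
  unfold cong
  rw [Matrix.mul_apply]
  have hrow : ∀ q, (((W j b).map lam).transpose * h) k q = h k q + lam (b k) * h j q := by
    intro q
    rw [Matrix.mul_apply]
    simp only [Matrix.transpose_apply, Matrix.map_apply, W, map_add, apply_ite lam, map_one,
      map_zero]
    simp only [add_mul, ite_mul, one_mul, zero_mul, Finset.sum_add_distrib, Finset.sum_ite_eq,
      Finset.sum_ite_eq', Finset.mem_univ, if_true]
  simp only [hrow, W]
  simp only [mul_add, mul_ite, mul_one, mul_zero, Finset.sum_add_distrib, Finset.sum_ite_eq,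
    Finset.sum_ite_eq', Finset.mem_univ, if_true]
  ring

end RankOne


section Schur

variable {ι : Type} [Fintype ι] [DecidableEq ι]

/-- the vector used for the Schur elimination along row `i` -/
def schurVec (h : Matrix ι ι A) (i : ι) (c : A) : ι → A :=
  fun l => if l = i then 0 else -(c * h i l)

lemma schurVec_self (h : Matrix ι ι A) (i : ι) (c : A) : schurVec h i c i = 0 := by
  simp [schurVec]

lemma schurVec_ne (h : Matrix ι ι A) (i : ι) (c : A) {l : ι} (hl : ¬ l = i) :
    schurVec h i c l = -(c * h i l) := by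
  simp [schurVec, hl]

/-- the matrix after Schur elimination -/
def schur (h : Matrix ι ι A) (i : ι) (c : A) : Matrix ι ι A :=
  cong lam (W i (schurVec h i c)) h

/-- the Schur complement -/
def compl (h : Matrix ι ι A) (i : ι) (c : A) : Matrix {k // ¬ k = i} {k // ¬ k = i} A :=
  fun k l => h k l - h k i * c * h i l

lemma schur_ii (h : Matrix ι ι A) (i : ι) (c : A) : schur lam h i c i i = h i i := by
  unfold schur
  rw [cong_W_apply, schurVec_self]
  simp

lemma schur_il (h : Matrix ι ι A) (i : ι) (c : A) (hc : h i i * c = 1) {l : ι} (hl : ¬ l = i) :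
    schur lam h i c i l = 0 := by
  unfold schur
  rw [cong_W_apply, schurVec_self, schurVec_ne h i c hl]
  simp only [map_zero, zero_mul, add_zero]
  have : h i i * -(c * h i l) = -(h i i * c) * h i l := by ring
  rw [this, hc]
  ring

lemma schur_kl (h : Matrix ι ι A) (i : ι) (c : A) (hc : h i i * c = 1) {k l : ι}
    (hk : ¬ k = i) (hl : ¬ l = i) :
    schur lam h i c k l = h k l - h k i * c * h i l := by
  unfold schur
  rw [cong_W_apply, schurVec_ne h i c hl, schurVec_ne h i c hk]
  have : lam (-(c * h i k)) * h i i * -(c * h i l) =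
      lam (c * h i k) * (h i i * c) * h i l := by
    rw [map_neg]; ring
  rw [this, hc, map_neg]
  ring

lemma isUnit_schur {h : Matrix ι ι A} (hh : IsUnit h) (i : ι) (c : A) :
    IsUnit (schur lam h i c) :=
  isUnit_cong lam (isUnit_W i _ (schurVec_self h i c)) hh

lemma IsHerm.schur {ε : A} {h : Matrix ι ι A} (H : IsHerm lam ε h)
    (hlam : Function.Involutive lam) (i : ι) (c : A) : IsHerm lam ε (schur lam h i c) :=
  H.cong lam hlam _

lemma schur_li {ε : A} {h : Matrix ι ι A} (H : IsHerm lam ε h)
    (hlam : Function.Involutive lam) (i : ι) (c : A) (hc : h i i * c = 1) {l : ι}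
    (hl : ¬ l = i) : schur lam h i c l i = 0 := by
  rw [(H.schur lam hlam i c).apply lam l i, schur_il lam h i c hc hl, map_zero, mul_zero]

/-- block decomposition after Schur elimination -/
lemma schur_submatrix {ε : A} {h : Matrix ι ι A} (H : IsHerm lam ε h)
    (hlam : Function.Involutive lam) (i : ι) (c : A) (hc : h i i * c = 1) :
    (schur lam h i c).submatrix (Equiv.sumCompl (fun k => k = i)) (Equiv.sumCompl (fun k => k = i))
      = Matrix.fromBlocks (fun _ _ => h i i) 0 0 (compl h i c) := by
  ext a b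
  rcases a with ⟨a, ha⟩ | ⟨a, ha⟩ <;> rcases b with ⟨b, hb⟩ | ⟨b, hb⟩
  · subst ha
    subst hb
    simp [schur_ii]
  · subst ha
    simp [schur_il lam h a c hc hb]
  · subst hb
    simp [schur_li lam H hlam b c hc ha]
  · simp [schur_kl lam h i c hc ha hb, compl]

lemma isUnit_compl {ε : A} {h : Matrix ι ι A} (hh : IsUnit h) (H : IsHerm lam ε h)
    (hlam : Function.Involutive lam) (i : ι) (c : A) (hc : h i i * c = 1) :
    IsUnit (compl h i c) := by
  have h1 := isUnit_schur lam hh i c
  rw [← Matrix.isUnit_submatrix_equiv (Equiv.sumCompl (fun k => k = i))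
    (Equiv.sumCompl (fun k => k = i)), schur_submatrix lam H hlam i c hc,
    Matrix.isUnit_fromBlocks_zero₁₂] at h1
  exact h1.2

lemma IsHerm.compl {ε : A} {h : Matrix ι ι A} (H : IsHerm lam ε h)
    (hlam : Function.Involutive lam) (i : ι) (c : A) (hc : h i i * c = 1) :
    IsHerm lam ε (compl h i c) := by
  have h1 := (H.schur lam hlam i c).submatrix lam (Equiv.sumCompl (fun k => k = i))
  rw [schur_submatrix lam H hlam i c hc, isHerm_iff] at h1
  rw [isHerm_iff]
  intro k l
  exact h1 (Sum.inr k) (Sum.inr l)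

lemma Diagble.of_compl {ε : A} {h : Matrix ι ι A} (H : IsHerm lam ε h)
    (hlam : Function.Involutive lam) (i : ι) (c : A) (hc : h i i * c = 1)
    (HD : Diagble lam (compl h i c)) : Diagble lam h := by
  apply Diagble.of_cong lam (isUnit_W i _ (schurVec_self h i c))
  apply Diagble.of_submatrix_equiv lam (Equiv.sumCompl (fun k => k = i))
  change Diagble lam ((schur lam h i c).submatrix _ _)
  rw [schur_submatrix lam H hlam i c hc]
  haveI : Subsingleton {k // k = i} := ⟨fun a b => Subtype.ext (a.2.trans b.2.symm)⟩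
  exact Diagble.fromBlocks lam (Diagble.of_subsingleton lam _) HD

end Schur


section Induction

/-- some congruent matrix has a unit diagonal entry -/
def Good {ι : Type} [Fintype ι] [DecidableEq ι] (h : Matrix ι ι A) : Prop :=
  ∃ w : Matrix ι ι A, IsUnit w ∧ ∃ i, IsUnit (cong lam w h i i)

theorem diagble_of_good (hlam : Function.Involutive lam) (ε : A)
    (hstep : ∀ (ι : Type) [Fintype ι] [DecidableEq ι] (h : Matrix ι ι A) (i : ι) (c : A),
      IsUnit h → IsHerm lam ε h → h i i * c = 1 → Nonempty {k // ¬ k = i} →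
      ∃ w : Matrix ι ι A, IsUnit w ∧ ∃ c₁, cong lam w h i i * c₁ = 1 ∧
        Good lam (compl (cong lam w h) i c₁)) :
    ∀ (n : ℕ) (ι : Type) [Fintype ι] [DecidableEq ι] (h : Matrix ι ι A),
      Fintype.card ι = n → IsUnit h → IsHerm lam ε h → Good lam h → Diagble lam h := by
  intro n
  induction n with
  | zero =>
    intro ι _ _ h hcard _ _ _
    haveI : IsEmpty ι := Fintype.card_eq_zero_iff.mp hcard
    exact Diagble.of_subsingleton lam h
  | succ n ih =>
    intro ι _ _ h hcard hh H hG
    obtain ⟨w, hw, i, hi⟩ := hG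
    apply Diagble.of_cong lam hw
    have hh₁u : IsUnit (cong lam w h) := isUnit_cong lam hw hh
    have H₁ : IsHerm lam ε (cong lam w h) := H.cong lam hlam w
    obtain ⟨c, hc⟩ := hi.exists_right_inv
    by_cases hne : Nonempty {k // ¬ k = i}
    · obtain ⟨w₂, hw₂, c₁, hc₁, hG₂⟩ := hstep ι (cong lam w h) i c hh₁u H₁ hc hne
      apply Diagble.of_cong lam hw₂
      have hh₂u := isUnit_cong lam hw₂ hh₁u
      have H₂ := H₁.cong lam hlam w₂
      apply Diagble.of_compl lam H₂ hlam i c₁ hc₁
      refine ih {k // ¬ k = i} _ ?_ (isUnit_compl lam hh₂u H₂ hlam i c₁ hc₁)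
        (H₂.compl lam hlam i c₁ hc₁) hG₂
      rw [Fintype.card_subtype_compl, Fintype.card_subtype_eq, hcard]
      rfl
    · haveI : Subsingleton ι := by
        have hem : IsEmpty {k // ¬ k = i} := not_nonempty_iff.mp hne
        have hall : ∀ a : ι, a = i := by
          intro a
          by_contra ha
          exact hem.false ⟨a, ha⟩
        exact ⟨fun a b => (hall a).trans (hall b).symm⟩
      exact Diagble.of_subsingleton lam _

lemma exists_isUnit_row [IsLocalRing A] {κ : Type} [Fintype κ] [DecidableEq κ]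
    (h : Matrix κ κ A) (hh : IsUnit h) (j : κ) : ∃ l, IsUnit (h j l) := by
  obtain ⟨g, hg⟩ := hh.exists_right_inv
  by_contra hcon
  push Not at hcon
  have h1 : (h * g) j j = 1 := by rw [hg]; simp
  rw [Matrix.mul_apply] at h1
  have h2 : ∑ l, h j l * g l j ∈ IsLocalRing.maximalIdeal A := by
    apply Ideal.sum_mem
    intro l _
    exact Ideal.mul_mem_right _ _ ((IsLocalRing.mem_maximalIdeal _).mpr (hcon l))
  rw [h1] at h2
  exact (Ideal.ne_top_iff_one _).mp (IsLocalRing.maximalIdeal.isMaximal A).ne_top h2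

lemma isUnit_add_of_not_isUnit [IsLocalRing A] {a b : A} (ha : IsUnit a) (hb : ¬ IsUnit b) :
    IsUnit (a + b) := by
  by_contra hab
  have h1 : a + b ∈ IsLocalRing.maximalIdeal A := (IsLocalRing.mem_maximalIdeal _).mpr hab
  have h2 : b ∈ IsLocalRing.maximalIdeal A := (IsLocalRing.mem_maximalIdeal _).mpr hb
  have h3 := Ideal.sub_mem _ h1 h2
  rw [add_sub_cancel_right] at h3
  exact (IsLocalRing.mem_maximalIdeal _).mp h3 ha

lemma isUnit_sub_of_not_isUnit [IsLocalRing A] {a b : A} (ha : ¬ IsUnit a) (hb : IsUnit b) :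
    IsUnit (a - b) := by
  have : a - b = -b + a := by ring
  rw [this]
  exact isUnit_add_of_not_isUnit hb.neg ha

lemma step_local [IsLocalRing A] (hlam : Function.Involutive lam) {ε : A} (hε : IsUnit ε)
    {ι : Type} [Fintype ι] [DecidableEq ι] (h : Matrix ι ι A) (i : ι) (c : A)
    (hh : IsUnit h) (H : IsHerm lam ε h) (hc : h i i * c = 1)
    (hne : Nonempty {k // ¬ k = i}) :
    ∃ w : Matrix ι ι A, IsUnit w ∧ ∃ c₁, cong lam w h i i * c₁ = 1 ∧
      Good lam (compl (cong lam w h) i c₁) := by
  by_cases hex : ∃ l, IsUnit (compl h i c l l)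
  · obtain ⟨l, hl⟩ := hex
    refine ⟨1, isUnit_one, c, by rw [cong_one]; exact hc, ?_⟩
    rw [cong_one]
    exact ⟨1, isUnit_one, l, by rw [cong_one]; exact hl⟩
  · push Not at hex
    obtain ⟨j⟩ := hne
    obtain ⟨l, hl⟩ := exists_isUnit_row (compl h i c) (isUnit_compl lam hh H hlam i c hc) j
    have hbj : (Pi.single i (1 : A) : ι → A) j.1 = 0 := Pi.single_eq_of_ne j.2 _
    have hbl : (Pi.single i (1 : A) : ι → A) l.1 = 0 := Pi.single_eq_of_ne l.2 _
    have hbi : (Pi.single i (1 : A) : ι → A) i = 1 := Pi.single_eq_same _ _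
    have hw : IsUnit (W i (schurVec h i c) * W j.1 (Pi.single i (1 : A))) :=
      (isUnit_W i _ (schurVec_self h i c)).mul (isUnit_W j.1 _ hbj)
    have hcong : cong lam (W i (schurVec h i c) * W j.1 (Pi.single i (1 : A))) h =
        cong lam (W j.1 (Pi.single i (1 : A))) (schur lam h i c) := by
      rw [cong_mul]
      rfl
    have Hs : IsHerm lam ε (schur lam h i c) := H.schur lam hlam i c
    have H₁ : IsHerm lam ε (cong lam (W j.1 (Pi.single i (1 : A))) (schur lam h i c)) :=
      Hs.cong lam hlam _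
    have hjj : schur lam h i c j.1 j.1 = compl h i c j j := schur_kl lam h i c hc j.2 j.2
    have hjl : schur lam h i c j.1 l.1 = compl h i c j l := schur_kl lam h i c hc j.2 l.2
    have hll : schur lam h i c l.1 l.1 = compl h i c l l := schur_kl lam h i c hc l.2 l.2
    have e_ii : cong lam (W j.1 (Pi.single i (1 : A))) (schur lam h i c) i i =
        h i i + compl h i c j j := by
      rw [cong_W_apply, hbi, schur_ii, schur_il lam h i c hc j.2, schur_li lam H hlam i c hc j.2,
        hjj, map_one]
      ring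
    have e_il : cong lam (W j.1 (Pi.single i (1 : A))) (schur lam h i c) i l.1 =
        compl h i c j l := by
      rw [cong_W_apply, hbi, hbl, schur_il lam h i c hc l.2, hjl, map_one]
      ring
    have e_ll : cong lam (W j.1 (Pi.single i (1 : A))) (schur lam h i c) l.1 l.1 =
        compl h i c l l := by
      rw [cong_W_apply, hbl, hll, map_zero]
      ring
    have e_li : cong lam (W j.1 (Pi.single i (1 : A))) (schur lam h i c) l.1 i =
        ε * lam (compl h i c j l) := by
      rw [H₁.apply lam l.1 i, e_il]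
    have hdu : IsUnit (h i i) := IsUnit.of_mul_eq_one _ hc
    have hu₁ : IsUnit (h i i + compl h i c j j) := isUnit_add_of_not_isUnit hdu (hex j)
    obtain ⟨c₁, hc₁⟩ := hu₁.exists_right_inv
    have hc₁u : IsUnit c₁ := IsUnit.of_mul_eq_one _ (by rw [mul_comm]; exact hc₁)
    refine ⟨_, hw, c₁, by rw [hcong, e_ii]; exact hc₁, ?_⟩
    rw [hcong]
    refine ⟨1, isUnit_one, l, ?_⟩
    rw [cong_one]
    change IsUnit (cong lam (W j.1 (Pi.single i (1 : A))) (schur lam h i c) l.1 l.1 -
      cong lam (W j.1 (Pi.single i (1 : A))) (schur lam h i c) l.1 i * c₁ *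
      cong lam (W j.1 (Pi.single i (1 : A))) (schur lam h i c) i l.1)
    rw [e_ll, e_li, e_il]
    apply isUnit_sub_of_not_isUnit (hex l)
    exact ((hε.mul (hl.map lam)).mul hc₁u).mul hl

end Induction

end Groth.Agent.H77.HermDiag
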