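import Groth.Agent.H77.HermDiag
import Groth.Agent.H77.RInvBasic

/-!
# Diagonalisation of hermitian matrices over a ring with involution whose fixed ring is local
-/

set_option autoImplicit false
set_option linter.unusedSectionVars false
set_option linter.style.haveILetI false
universe u v

namespace Groth.Agent.H77.HermDiag

open Groth.Agent.H77.RInvB

section AltDet

variable {K : Type*} [CommRing K] {ι : Type*} [Fintype ι] [DecidableEq ι]

/-- an alternating matrix of odd size has determinant zero -/
theorem det_eq_zero_of_alternating (M : Matrix ι ι K) (hM : ∀ k l, M k l = - M l k)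
    (hd : ∀ i, M i i = 0) (hodd : Odd (Fintype.card ι)) : M.det = 0 := by
  classical
  rw [Matrix.det_apply]
  refine Finset.sum_ninvolution (fun σ => σ⁻¹) ?_ ?_ (fun _ => Finset.mem_univ _)
    (fun σ => inv_inv σ)
  · intro σ
    have h1 : (∏ i, M (σ⁻¹ i) i) = - ∏ i, M (σ i) i := by
      rw [← Equiv.prod_comp σ (fun i => M (σ⁻¹ i) i)]
      have : ∀ i, M (σ⁻¹ (σ i)) (σ i) = (-1) * M (σ i) i := by
        intro i
        rw [show σ⁻¹ (σ i) = i from σ.symm_apply_apply i, hM i (σ i)]
        ring
      simp_rw [this]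
      rw [Finset.prod_mul_distrib, Finset.prod_const, Finset.card_univ, hodd.neg_one_pow]
      ring
    rw [Equiv.Perm.sign_inv, h1, smul_neg]
    exact add_neg_cancel _
  · intro σ hσ h
    apply hσ
    have hσ2 : σ ^ 2 ^ 1 = 1 := by
      rw [pow_one, pow_two]
      nth_rewrite 1 [← h]
      exact inv_mul_cancel σ
    have : Fact (Nat.Prime 2) := ⟨Nat.prime_two⟩
    obtain ⟨a, ha⟩ := Equiv.Perm.exists_fixed_point_of_prime (p := 2) (n := 1)
      (by rcases hodd with ⟨k, hk⟩; omega) hσ2
    rw [Finset.prod_eq_zero (Finset.mem_univ a) (by rw [ha]; exact hd a), smul_zero]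

end AltDet

variable {B : Type u} {A : Type v} [CommRing B] [CommRing A] [Algebra B A]
  (lam : A ≃+* A) (hlam : Function.Involutive lam) (hB : RInv.IsFixedRing B A lam)

section OddLocal

variable {ι : Type} [Fintype ι] [DecidableEq ι]

/-- over a local ring with involution trivial on the residue field and `ε ≡ -1`, an invertible
hermitian matrix of odd size has a unit on the diagonal -/
lemma good_of_odd [IsLocalRing A] {ε : A} (hε1 : ε + 1 ∈ IsLocalRing.maximalIdeal A)
    (hlam1 : ∀ a, lam a - a ∈ IsLocalRing.maximalIdeal A) (h : Matrix ι ι A) (hh : IsUnit h)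
    (H : IsHerm lam ε h) (hodd : Odd (Fintype.card ι)) : Good lam h := by
  by_contra hG
  have hdiag : ∀ i, h i i ∈ IsLocalRing.maximalIdeal A := by
    intro i
    rw [IsLocalRing.mem_maximalIdeal]
    intro hu
    exact hG ⟨1, isUnit_one, i, by rw [cong_one]; exact hu⟩
  set π := Ideal.Quotient.mk (IsLocalRing.maximalIdeal A) with hπ
  have hπε : π ε = -1 := by
    have : π (ε + 1) = 0 := Ideal.Quotient.eq_zero_iff_mem.mpr hε1
    rw [map_add, map_one] at this
    exact eq_neg_of_add_eq_zero_left this
  have hπlam : ∀ a, π (lam a) = π a := by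
    intro a
    have : π (lam a - a) = 0 := Ideal.Quotient.eq_zero_iff_mem.mpr (hlam1 a)
    rw [map_sub] at this
    exact sub_eq_zero.mp this
  have hdet : (h.map π).det = 0 := by
    apply det_eq_zero_of_alternating _ _ _ hodd
    · intro k l
      simp only [Matrix.map_apply]
      rw [H.apply lam k l, map_mul, hπε, hπlam]
      ring
    · intro i
      simp only [Matrix.map_apply]
      exact Ideal.Quotient.eq_zero_iff_mem.mpr (hdiag i)
  have h2 : π h.det = 0 := by
    rw [RingHom.map_det]
    exact hdet
  have h3 : h.det ∈ IsLocalRing.maximalIdeal A := Ideal.Quotient.eq_zero_iff_mem.mp h2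
  exact (IsLocalRing.mem_maximalIdeal _).mp h3 ((Matrix.isUnit_iff_isUnit_det _).mp hh)

end OddLocal

section TraceOne

variable [IsLocalRing B]
include hlam hB

/-- a fixed non-unit lies in the Jacobson radical -/
lemma mem_jacobson_of_fixed_of_not_isUnit {x : A} (hx : lam x = x) (hu : ¬ IsUnit x) :
    x ∈ Ring.jacobson A := by
  obtain ⟨b, rfl⟩ := (hB.2 x).mp hx
  have hb : b ∈ IsLocalRing.maximalIdeal B := by
    rw [IsLocalRing.mem_maximalIdeal]
    intro hbu
    exact hu (hbu.map _)
  rw [Ring.jacobson_eq_sInf_isMaximal, Ideal.mem_sInf]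
  intro M hM
  have hM : M.IsMaximal := hM
  exact algebraMap_mem_of_mem_maximalIdeal lam hlam hB M hb


lemma one_notMem_jacobson : (1 : A) ∉ Ring.jacobson A := by
  haveI := RInvB.nontrivial lam hlam hB
  intro h1
  obtain ⟨M, hM⟩ := Ideal.exists_maximal A
  exact hM.ne_top ((Ideal.eq_top_iff_one _).mpr (Ring.jacobson_le_of_isMaximal M h1))

/-- if there is an element of trace one, every invertible hermitian matrix of positive size is
congruent to one with a unit on the diagonal -/
lemma good_of_trace_one (a₀ : A) (ha₀ : a₀ + lam a₀ = 1) {κ : Type} [Fintype κ] [DecidableEq κ]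
    [Nonempty κ] (h : Matrix κ κ A) (hh : IsUnit h) (H : IsHerm lam 1 h) : Good lam h := by
  by_contra hG
  have key : ∀ w : Matrix κ κ A, IsUnit w → ∀ i, cong lam w h i i ∈ Ring.jacobson A := by
    intro w hw i
    apply mem_jacobson_of_fixed_of_not_isUnit lam hlam hB
    · have := (H.cong lam hlam w).apply lam i i
      rw [one_mul] at this
      exact this.symm
    · intro hu
      exact hG ⟨w, hw, i, hu⟩
  have hdiag : ∀ i, h i i ∈ Ring.jacobson A := by
    intro i
    have := key 1 isUnit_one i
    rwa [cong_one] at this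
  have hfix : ∀ i j, lam (h i j) = h j i := by
    intro i j
    have := H.apply lam j i
    rw [one_mul] at this
    exact this.symm
  have htr : ∀ i j c, h i j * c + lam (h i j * c) ∈ Ring.jacobson A := by
    intro i j c
    by_cases hij : i = j
    · subst hij
      have : h i i * c + lam (h i i * c) = h i i * (c + lam c) := by
        rw [map_mul, hfix i i]; ring
      rw [this]
      exact Ideal.mul_mem_right _ _ (hdiag i)
    · have h1 := key (W j (Pi.single i c)) (isUnit_W j _ (Pi.single_eq_of_ne (Ne.symm hij) _)) i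
      rw [cong_W_apply, Pi.single_eq_same] at h1
      have : h i j * c + lam (h i j * c) =
          (h i i + lam c * h j i + h i j * c + lam c * h j j * c) - h i i - h j j * (lam c * c) := by
        rw [map_mul, hfix i j]; ring
      rw [this]
      exact Ideal.sub_mem _ (Ideal.sub_mem _ h1 (hdiag i)) (Ideal.mul_mem_right _ _ (hdiag j))
  obtain ⟨i₀⟩ := ‹Nonempty κ›
  obtain ⟨g, hg⟩ := hh.exists_right_inv
  have h1 : ∑ j, h i₀ j * g j i₀ = 1 := by
    have : (h * g) i₀ i₀ = 1 := by rw [hg]; simp
    rwa [Matrix.mul_apply] at this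
  have hsum : ∑ j, (h i₀ j * (g j i₀ * a₀) + lam (h i₀ j * (g j i₀ * a₀))) ∈ Ring.jacobson A :=
    Ideal.sum_mem _ (fun j _ => htr i₀ j _)
  have h2 : ∑ j, h i₀ j * (g j i₀ * a₀) = a₀ := by
    simp_rw [← mul_assoc]
    rw [← Finset.sum_mul, h1, one_mul]
  rw [Finset.sum_add_distrib, ← map_sum, h2, ha₀] at hsum
  exact one_notMem_jacobson lam hlam hB hsum

lemma diagble_of_trace_one (a₀ : A) (ha₀ : a₀ + lam a₀ = 1) {ι : Type} [Fintype ι]
    [DecidableEq ι] (h : Matrix ι ι A) (hh : IsUnit h) (H : IsHerm lam 1 h) : Diagble lam h := by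
  by_cases hne : Nonempty ι
  · refine diagble_of_good lam hlam 1 ?_ (Fintype.card ι) ι h rfl hh H
      (good_of_trace_one lam hlam hB a₀ ha₀ h hh H)
    intro κ _ _ h' i c hh' H' hc hne'
    refine ⟨1, isUnit_one, c, by rw [cong_one]; exact hc, ?_⟩
    rw [cong_one]
    exact good_of_trace_one lam hlam hB a₀ ha₀ _ (isUnit_compl lam hh' H' hlam i c hc)
      (H'.compl lam hlam i c hc)
  · haveI : IsEmpty ι := not_nonempty_iff.mp hne
    exact Diagble.of_subsingleton lam h

omit hB in
lemma IsHerm.smul_anti {ι : Type} [Fintype ι] [DecidableEq ι] {h : Matrix ι ι A}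
    (H : IsHerm lam (-1) h) {u : A} (hu : lam u = -u) : IsHerm lam 1 (u • h) := by
  rw [isHerm_iff] at H ⊢
  intro k l
  simp only [Matrix.smul_apply, smul_eq_mul, map_mul, hu, one_mul]
  rw [H k l]
  ring

omit hlam hB in
lemma Diagble.of_smul {ι : Type} [Fintype ι] [DecidableEq ι] {h : Matrix ι ι A} {u c : A}
    (huc : c * u = 1) (HD : Diagble lam (u • h)) : Diagble lam h := by
  obtain ⟨v, hv, d, hd⟩ := HD
  refine ⟨v, hv, c • d, ?_⟩
  have h1 : cong lam v (u • h) = u • cong lam v h := by
    unfold cong
    rw [Matrix.mul_smul, Matrix.smul_mul]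
  rw [h1] at hd
  have : cong lam v h = c • (u • cong lam v h) := by
    rw [smul_smul, huc, one_smul]
  rw [this, hd]
  ext a b
  simp [Matrix.diagonal_apply]

/-- the main diagonalisation theorem -/
theorem diagble_main {ε : A} (hε : ε = 1 ∨ ε = -1) {ι : Type} [Fintype ι] [DecidableEq ι]
    (h : Matrix ι ι A) (hh : IsUnit h) (H : IsHerm lam ε h)
    (hcase : (∃ a : A, lam a - a ∉ Ring.jacobson A) ∨ ε + 1 ∉ Ring.jacobson A ∨
      Odd (Fintype.card ι)) : Diagble lam h := by
  by_cases h1 : ∃ a : A, lam a - a ∉ Ring.jacobson A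
  · obtain ⟨a, ha⟩ := h1
    have hanti : lam (lam a - a) = -(lam a - a) := by
      rw [map_sub, hlam a]; ring
    have hu : IsUnit (lam a - a) := isUnit_of_anti_of_notMem_jacobson lam hlam hB hanti ha
    obtain ⟨c, hc⟩ := hu.exists_right_inv
    have hlc : lam c = -c := by
      have h2 : lam (lam a - a) * lam c = 1 := by rw [← map_mul, hc, map_one]
      rw [hanti] at h2
      calc lam c = lam c * ((lam a - a) * c) := by rw [hc, mul_one]
        _ = -(-(lam a - a) * lam c) * c := by ring
        _ = -c := by rw [h2]; ring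
    have ha₀ : (-a * c) + lam (-a * c) = 1 := by
      rw [map_mul, map_neg, hlc, ← hc]; ring
    rcases hε with rfl | rfl
    · exact diagble_of_trace_one lam hlam hB _ ha₀ h hh H
    · apply Diagble.of_smul lam (u := lam a - a) (c := c) (by rw [mul_comm]; exact hc)
      apply diagble_of_trace_one lam hlam hB _ ha₀
      · rw [Matrix.isUnit_iff_isUnit_det, Matrix.det_smul]
        exact (hu.pow _).mul ((Matrix.isUnit_iff_isUnit_det _).mp hh)
      · exact IsHerm.smul_anti lam hlam H hanti
  · by_cases h2 : ε + 1 ∉ Ring.jacobson A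
    · have hε1 : ε = 1 := by
        rcases hε with rfl | rfl
        · rfl
        · exfalso
          apply h2
          rw [neg_add_cancel]
          exact Ideal.zero_mem _
      subst hε1
      have h2' : (2 : A) ∉ Ring.jacobson A := by
        have : (1 : A) + 1 = 2 := by norm_num
        rwa [this] at h2
      have hfix2 : lam (2 : A) = 2 := by
        have : (2 : A) = 1 + 1 := by norm_num
        rw [this, map_add, map_one]
      have hu2 : IsUnit (2 : A) := by
        by_contra hnu
        exact h2' (mem_jacobson_of_fixed_of_not_isUnit lam hlam hB hfix2 hnu)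
      obtain ⟨c, hc⟩ := hu2.exists_right_inv
      have hlc : lam c = c := by
        have h3 : (2 : A) * lam c = 1 := by rw [← hfix2, ← map_mul, hc, map_one]
        calc lam c = (2 * c) * lam c := by rw [hc, one_mul]
          _ = c * (2 * lam c) := by ring
          _ = c := by rw [h3, mul_one]
      have ha₀ : c + lam c = 1 := by
        rw [hlc, ← hc]; ring
      exact diagble_of_trace_one lam hlam hB _ ha₀ h hh H
    · have h1' : ∀ a : A, lam a - a ∈ Ring.jacobson A := by
        intro a
        by_contra hcon
        exact h1 ⟨a, hcon⟩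
      have h2' : ε + 1 ∈ Ring.jacobson A := not_not.mp h2
      have hodd : Odd (Fintype.card ι) := by
        rcases hcase with hc | hc | hc
        · exact absurd hc h1
        · exact absurd hc h2
        · exact hc
      haveI : IsLocalRing A := isLocalRing_of_forall_mem_jacobson lam hlam hB h1'
      have hε1 : ε + 1 ∈ IsLocalRing.maximalIdeal A := Ring.jacobson_le_of_isMaximal _ h2'
      have hlam1 : ∀ a, lam a - a ∈ IsLocalRing.maximalIdeal A :=
        fun a => Ring.jacobson_le_of_isMaximal _ (h1' a)
      have hεu : IsUnit ε := by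
        rcases hε with rfl | rfl
        · exact isUnit_one
        · exact isUnit_one.neg
      exact diagble_of_good lam hlam ε
        (fun κ _ _ h' i c hh' H' hc hne => step_local lam hlam hεu h' i c hh' H' hc hne)
        (Fintype.card ι) ι h rfl hh H (good_of_odd lam hε1 hlam1 h hh H hodd)

end TraceOne

end Groth.Agent.H77.HermDiag
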