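import Groth.Prelude.Def_GrSyz
import Groth.Agent.H77.Euler
import Mathlib

namespace Groth.Agent.H77

open DirectSum GrSyz Module

universe u

set_option linter.unusedSectionVars false

section General

variable {k : Type u} [Field k] {R : Type u} [CommRing R] [Algebra k R]
  (𝒜 : ℤ → Submodule k R) [GradedRing 𝒜]
  {M : Type u} [AddCommGroup M] [Module k M] [Module R M] [IsScalarTower k R M]
  (ℳ : ℤ → Submodule k M) [DirectSum.Decomposition ℳ] [SetLike.GradedSMul 𝒜 ℳ]

/-- Degree components of `a • x` for homogeneous `x`. -/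
lemma coe_decompose_smul_add_of_right_mem {x : M} {j : ℤ} (hx : x ∈ ℳ j) (a : R) (i : ℤ) :
    ((decompose ℳ (a • x)) (i + j) : M) = ((decompose 𝒜 a) i : R) • x := by
  induction a using DirectSum.Decomposition.inductionOn 𝒜 with
  | zero => simp
  | @homogeneous i' a =>
    have hmem : (a : R) • x ∈ ℳ (i' + j) := SetLike.GradedSMul.smul_mem a.2 hx
    by_cases h : i' = i
    · subst h
      rw [decompose_of_mem_same ℳ hmem, decompose_of_mem_same 𝒜 a.2]
    · rw [decompose_of_mem_ne ℳ hmem (by omega), decompose_of_mem_ne 𝒜 a.2 h, zero_smul]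
  | add a a' ha ha' =>
    rw [add_smul, decompose_add, decompose_add, DirectSum.add_apply, DirectSum.add_apply,
      Submodule.coe_add, Submodule.coe_add, add_smul, ha, ha']

variable {𝒜 ℳ}
variable (F : FreeRes 𝒜 ℳ)

/-- The degree `d` part of the `i`-th term of the resolution. -/
def piece (i : ℕ) (d : ℤ) : Submodule k (Fin (F.rk i) → R) :=
  Submodule.pi Set.univ (fun b => 𝒜 (d - F.deg i b))

lemma mem_piece {i : ℕ} {d : ℤ} {v : Fin (F.rk i) → R} :
    v ∈ piece F i d ↔ ∀ b, v b ∈ 𝒜 (d - F.deg i b) := by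
  simp [piece]

/-- The projection to the degree `d` part. -/
def proj (i : ℕ) (d : ℤ) (v : Fin (F.rk i) → R) : Fin (F.rk i) → R :=
  fun b => ((decompose 𝒜 (v b)) (d - F.deg i b) : R)

lemma proj_mem (i : ℕ) (d : ℤ) (v : Fin (F.rk i) → R) : proj F i d v ∈ piece F i d := by
  rw [mem_piece]
  intro b
  exact SetLike.coe_mem _

lemma proj_of_mem {i : ℕ} {d : ℤ} {v : Fin (F.rk i) → R} (hv : v ∈ piece F i d) :
    proj F i d v = v := by
  funext b
  exact decompose_of_mem_same 𝒜 ((mem_piece F).mp hv b)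

lemma dLin_mem {i : ℕ} {d : ℤ} {v : Fin (F.rk (i + 1)) → R} (hv : v ∈ piece F (i + 1) d) :
    F.dLin i v ∈ piece F i d := by
  rw [mem_piece] at hv ⊢
  intro a
  simp only [Matrix.mulVecLin_apply, Matrix.mulVec, dotProduct]
  apply Submodule.sum_mem
  intro b _
  have h := SetLike.mul_mem_graded (F.d_mem i a b) (hv b)
  have e : F.deg (i + 1) b - F.deg i a + (d - F.deg (i + 1) b) = d - F.deg i a := by ring
  rw [e] at h
  exact h

lemma dLin_proj (i : ℕ) (d : ℤ) (w : Fin (F.rk (i + 1)) → R) :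
    F.dLin i (proj F (i + 1) d w) = proj F i d (F.dLin i w) := by
  funext a
  simp only [Matrix.mulVecLin_apply, Matrix.mulVec, dotProduct, proj]
  rw [decompose_sum, DFinsupp.finsetSum_apply, AddSubmonoidClass.coe_finsetSum]
  apply Finset.sum_congr rfl
  intro b _
  have e : d - F.deg i a = F.deg (i + 1) b - F.deg i a + (d - F.deg (i + 1) b) := by ring
  rw [e, coe_decompose_mul_add_of_left_mem 𝒜 (F.d_mem i a b)]

lemma augLin_mem {d : ℤ} {v : Fin (F.rk 0) → R} (hv : v ∈ piece F 0 d) :
    F.augLin v ∈ ℳ d := by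
  rw [mem_piece] at hv
  rw [Fintype.linearCombination_apply]
  apply Submodule.sum_mem
  intro b _
  have h := SetLike.GradedSMul.smul_mem (hv b) (F.aug_mem b)
  have e : (d - F.deg 0 b) +ᵥ F.deg 0 b = d := by
    rw [vadd_eq_add]
    ring
  rw [e] at h
  exact h

lemma augLin_proj (d : ℤ) (w : Fin (F.rk 0) → R) :
    F.augLin (proj F 0 d w) = ((decompose ℳ (F.augLin w)) d : M) := by
  rw [Fintype.linearCombination_apply, Fintype.linearCombination_apply, decompose_sum,
    DFinsupp.finsetSum_apply, AddSubmonoidClass.coe_finsetSum]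
  apply Finset.sum_congr rfl
  intro b _
  have e : d = d - F.deg 0 b + F.deg 0 b := by ring
  conv_rhs => rw [e]
  rw [coe_decompose_smul_add_of_right_mem 𝒜 ℳ (F.aug_mem b)]
  rfl

/-- The differential in degree `d`. -/
def dPiece (i : ℕ) (d : ℤ) : piece F (i + 1) d →ₗ[k] piece F i d :=
  ((F.dLin i).restrictScalars k).restrict (fun _ hv => dLin_mem F hv)

/-- The augmentation in degree `d`. -/
def augPiece (d : ℤ) : piece F 0 d →ₗ[k] ℳ d :=
  ((F.augLin).restrictScalars k).restrict (fun _ hv => augLin_mem F hv)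

lemma augPiece_surjective (d : ℤ) : Function.Surjective (augPiece F d) := by
  intro x
  obtain ⟨w, hw⟩ := F.aug_surjective (x : M)
  refine ⟨⟨proj F 0 d w, proj_mem F 0 d w⟩, ?_⟩
  apply Subtype.ext
  change F.augLin (proj F 0 d w) = x
  rw [augLin_proj, hw, decompose_of_mem_same ℳ x.2]

lemma ker_augPiece (d : ℤ) : LinearMap.ker (augPiece F d) = LinearMap.range (dPiece F 0 d) := by
  ext ⟨v, hv⟩
  rw [LinearMap.mem_ker, LinearMap.mem_range]
  constructor
  · intro h
    have h0 : F.augLin v = 0 := congr_arg Subtype.val h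
    have h1 : v ∈ LinearMap.ker F.augLin := h0
    rw [F.exact_zero] at h1
    obtain ⟨w, hw⟩ := h1
    refine ⟨⟨proj F 1 d w, proj_mem F 1 d w⟩, ?_⟩
    apply Subtype.ext
    change F.dLin 0 (proj F 1 d w) = v
    have hw' : F.dLin 0 w = v := hw
    rw [dLin_proj, hw', proj_of_mem F hv]
  · rintro ⟨⟨w, hw⟩, h⟩
    have h0 : F.dLin 0 w = v := congr_arg Subtype.val h
    apply Subtype.ext
    change F.augLin v = 0
    have h1 : v ∈ LinearMap.range (Matrix.mulVecLin (F.d 0)) := ⟨w, h0⟩
    rw [← F.exact_zero] at h1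
    exact h1

lemma ker_dPiece (i : ℕ) (d : ℤ) :
    LinearMap.ker (dPiece F i d) = LinearMap.range (dPiece F (i + 1) d) := by
  ext ⟨v, hv⟩
  rw [LinearMap.mem_ker, LinearMap.mem_range]
  constructor
  · intro h
    have h0 : F.dLin i v = 0 := congr_arg Subtype.val h
    have h1 : v ∈ LinearMap.ker (Matrix.mulVecLin (F.d i)) := h0
    rw [F.exact_succ] at h1
    obtain ⟨w, hw⟩ := h1
    refine ⟨⟨proj F (i + 2) d w, proj_mem F (i + 2) d w⟩, ?_⟩
    apply Subtype.ext
    change F.dLin (i + 1) (proj F (i + 2) d w) = v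
    have hw' : F.dLin (i + 1) w = v := hw
    rw [dLin_proj, hw', proj_of_mem F hv]
  · rintro ⟨⟨w, hw⟩, h⟩
    have h0 : F.dLin (i + 1) w = v := congr_arg Subtype.val h
    apply Subtype.ext
    change F.dLin i v = 0
    have h1 : v ∈ LinearMap.range (Matrix.mulVecLin (F.d (i + 1))) := ⟨w, h0⟩
    rw [← F.exact_succ] at h1
    exact h1

/-- The degree `d` part is a product of graded pieces of the ring. -/
def pieceEquiv (i : ℕ) (d : ℤ) : piece F i d ≃ₗ[k] ((b : Fin (F.rk i)) → 𝒜 (d - F.deg i b)) where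
  toFun v := fun b => ⟨v.1 b, (mem_piece F).mp v.2 b⟩
  invFun w := ⟨fun b => (w b : R), (mem_piece F).mpr (fun b => (w b).2)⟩
  map_add' _ _ := rfl
  map_smul' _ _ := rfl
  left_inv _ := rfl
  right_inv _ := rfl

variable [∀ n, Module.Finite k (𝒜 n)]

instance (i : ℕ) (d : ℤ) : Module.Finite k (piece F i d) :=
  Module.Finite.equiv (pieceEquiv F i d).symm

lemma finrank_piece (i : ℕ) (d : ℤ) :
    finrank k (piece F i d) = ∑ b : Fin (F.rk i), finrank k (𝒜 (d - F.deg i b)) := by
  rw [(pieceEquiv F i d).finrank_eq, Module.finrank_pi_fintype]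

/-- The Hilbert function of a module with a finite graded free resolution. -/
theorem hilbert_general (m : ℕ) (hF : F.HasLengthLE m) (d : ℤ) :
    (finrank k (ℳ d) : ℤ) = ∑ i ∈ Finset.range (m + 1), (-1 : ℤ) ^ i *
      ∑ b : Fin (F.rk i), (finrank k (𝒜 (d - F.deg i b)) : ℤ) := by
  have h := euler_char (k := k) (V := fun i => piece F i d) (fun i => dPiece F i d)
    (augPiece F d) (augPiece_surjective F d) (ker_augPiece F d) (fun i => ker_dPiece F i d) m
    (by
      intro i hi
      rw [finrank_piece]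
      have : F.rk i = 0 := hF i hi
      apply Finset.sum_eq_zero
      intro b _
      exact absurd b.2 (by omega))
  rw [h]
  apply Finset.sum_congr rfl
  intro i _
  rw [finrank_piece]
  push_cast
  rfl

end General

end Groth.Agent.H77
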