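import Groth.Prelude.Def_GrSyz
import Groth.Prelude.Def_GrLC
import Groth.Agent.H77.Hilb
import Groth.Agent.H77.StdGr
import Groth.Agent.H77.Irrel
import Groth.Agent.H77.HBMatrix
import Groth.Agent.H77.HBNum
import Mathlib

set_option autoImplicit false
set_option linter.unusedSectionVars false

namespace Groth.Agent.H77.HB

open GrSyz MvPolynomial DirectSum Module Matrix

universe u

section GrHom

variable {k : Type u} [Field k] {σ : Type}
  {M : Type u} [AddCommGroup M] [Module k M] [Module (MvPolynomial σ k) M]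
  [IsScalarTower k (MvPolynomial σ k) M]
  (ℳ : ℤ → Submodule k M) [DirectSum.Decomposition ℳ] [SetLike.GradedSMul (stdGr k σ) ℳ]
  (π : MvPolynomial σ k →ₗ[MvPolynomial σ k] M)

lemma decompose_map_of_isGrHom (hπg : GrLC.IsGrHom (stdGr k σ) ℳ π) (g : MvPolynomial σ k)
    (d : ℤ) :
    ((decompose ℳ (π g)) d : M) = π ((decompose (stdGr k σ) g) d : MvPolynomial σ k) := by
  induction g using DirectSum.Decomposition.inductionOn (stdGr k σ) with
  | zero => simp
  | @homogeneous e a =>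
    have hmem : π (a : MvPolynomial σ k) ∈ ℳ e := hπg e a a.2
    by_cases h : e = d
    · subst h
      rw [decompose_of_mem_same ℳ hmem, decompose_of_mem_same (stdGr k σ) a.2]
    · rw [decompose_of_mem_ne ℳ hmem h, decompose_of_mem_ne (stdGr k σ) a.2 h, map_zero]
  | add a a' ha ha' =>
    rw [map_add, decompose_add, decompose_add, DirectSum.add_apply, DirectSum.add_apply,
      Submodule.coe_add, Submodule.coe_add, map_add, ha, ha']

lemma exists_homog_preimage (hπ : Function.Surjective π)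
    (hπg : GrLC.IsGrHom (stdGr k σ) ℳ π) {d : ℤ} {x : M} (hx : x ∈ ℳ d) :
    ∃ f ∈ stdGr k σ d, π f = x := by
  obtain ⟨g, rfl⟩ := hπ x
  refine ⟨((decompose (stdGr k σ) g) d : MvPolynomial σ k), SetLike.coe_mem _, ?_⟩
  rw [← decompose_map_of_isGrHom ℳ π hπg, decompose_of_mem_same ℳ hx]

end GrHom

section HomComp

variable {k : Type u} [Field k] {σ : Type} [Fintype σ]

lemma homogeneousComponent_of_mem_stdGr {f : MvPolynomial σ k} {d : ℤ} (hf : f ∈ stdGr k σ d)
    (j : ℕ) : homogeneousComponent j f = if (j : ℤ) = d then f else 0 := by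
  classical
  ext m
  rw [coeff_homogeneousComponent]
  by_cases hc : coeff m f = 0
  · split_ifs <;> simp [hc]
  · have hw : Finsupp.weight (fun _ : σ => (1 : ℤ)) m = d := hf hc
    rw [weight_one_eq] at hw
    have hdeg : ((m.degree : ℕ) : ℤ) = d := by
      rw [← hw, Finsupp.degree]
      rfl
    by_cases hj : (j : ℤ) = d
    · rw [if_pos hj, if_pos]
      rw [← hj] at hdeg
      exact_mod_cast hdeg
    · rw [if_neg hj, if_neg]
      · simp
      · intro h
        apply hj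
        rw [← hdeg, h]

end HomComp


section Bound

variable {k : Type u} [Field k] {r : ℕ}
  {M : Type u} [AddCommGroup M] [Module k M] [Module (MvPolynomial (Fin (r + 1)) k) M]
  [IsScalarTower k (MvPolynomial (Fin (r + 1)) k) M]
  (ℳ : ℤ → Submodule k M) [DirectSum.Decomposition ℳ]
  [SetLike.GradedSMul (stdGr k (Fin (r + 1))) ℳ]
  (π : MvPolynomial (Fin (r + 1)) k →ₗ[MvPolynomial (Fin (r + 1)) k] M)

lemma finrank_le_card (Z : Finset (Fin (r + 1) → k)) (I : Ideal (MvPolynomial (Fin (r + 1)) k))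
    (hI : ∀ f : MvPolynomial (Fin (r + 1)) k, f ∈ I ↔
      ∀ p ∈ Z, ∀ j : ℕ, MvPolynomial.eval p (MvPolynomial.homogeneousComponent j f) = 0)
    (hπ : Function.Surjective π) (hπg : GrLC.IsGrHom (stdGr k (Fin (r + 1))) ℳ π)
    (hker : LinearMap.ker π = I) (d : ℤ) : finrank k (ℳ d) ≤ Z.card := by
  classical
  let φ : stdGr k (Fin (r + 1)) d →ₗ[k] ℳ d :=
    { toFun := fun f => ⟨π f.1, hπg d f.1 f.2⟩
      map_add' := fun f g => Subtype.ext (by simp)
      map_smul' := fun c f => Subtype.ext (by simp [LinearMap.map_smul_of_tower]) }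
  have hφ : Function.Surjective φ := by
    rintro ⟨x, hx⟩
    obtain ⟨f, hf, rfl⟩ := exists_homog_preimage ℳ π hπ hπg hx
    exact ⟨⟨f, hf⟩, rfl⟩
  let ε : stdGr k (Fin (r + 1)) d →ₗ[k] (Z → k) :=
    LinearMap.pi (fun p => (MvPolynomial.aeval (p.1 : Fin (r + 1) → k)).toLinearMap ∘ₗ
      (stdGr k (Fin (r + 1)) d).subtype)
  have hkerle : LinearMap.ker ε ≤ LinearMap.ker φ := by
    rintro ⟨f, hf⟩ hfε
    rw [LinearMap.mem_ker] at hfε ⊢
    apply Subtype.ext
    change π f = 0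
    have hfI : f ∈ I := by
      rw [hI]
      intro p hp j
      rw [homogeneousComponent_of_mem_stdGr hf]
      split_ifs
      · have := congr_fun hfε ⟨p, hp⟩
        simpa [ε, MvPolynomial.aeval_def, MvPolynomial.eval₂_eq_eval_map] using this
      · simp
    rw [← hker] at hfI
    exact hfI
  have h1 := LinearMap.finrank_range_add_finrank_ker φ
  have h2 := LinearMap.finrank_range_add_finrank_ker ε
  have h3 : finrank k (LinearMap.ker ε) ≤ finrank k (LinearMap.ker φ) :=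
    Submodule.finrank_mono hkerle
  have h4 : finrank k (LinearMap.range φ) = finrank k (ℳ d) := by
    rw [LinearMap.range_eq_top.mpr hφ, finrank_top]
  have h5 : finrank k (LinearMap.range ε) ≤ finrank k (Z → k) := Submodule.finrank_le _
  have h6 : finrank k (Z → k) = Z.card := by simp
  omega

end Bound


section Hilb3

variable {k : Type u} [Field k]
  {M : Type u} [AddCommGroup M] [Module k M] [Module (MvPolynomial (Fin 3) k) M]
  [IsScalarTower k (MvPolynomial (Fin 3) k) M]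
  {ℳ : ℤ → Submodule k M} [DirectSum.Decomposition ℳ]
  [SetLike.GradedSMul (stdGr k (Fin 3)) ℳ]
  (F : GrSyz.FreeRes (GrSyz.stdGr k (Fin 3)) ℳ)

instance stdGr3_finite (n : ℤ) : Module.Finite k (stdGr k (Fin 3) n) := stdGr_finite k 2 n

lemma finrank_stdGr3 (n : ℤ) :
    finrank k (stdGr k (Fin 3) n) = if 0 ≤ n then Nat.choose (2 + n.toNat) 2 else 0 :=
  finrank_stdGr k 2 n

/-- the dimension of the degree `n` piece of `k[x,y,z]` as an integer function -/
noncomputable def T (n : ℤ) : ℤ := if 0 ≤ n then ((Nat.choose (2 + n.toNat) 2 : ℕ) : ℤ) else 0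

lemma T_succ_sub {n : ℤ} (hn : 0 ≤ n) : T (n + 1) - T n = n + 2 := by
  unfold T
  rw [if_pos hn, if_pos (by omega)]
  obtain ⟨m, rfl⟩ := Int.eq_ofNat_of_zero_le hn
  have e1 : ((m : ℤ) + 1).toNat = m + 1 := by omega
  have e2 : ((m : ℤ)).toNat = m := by omega
  rw [e1, e2, choose_two_succ]
  ring

lemma hilb3 (hlen : F.HasLengthLE 2) (d : ℤ) :
    (finrank k (ℳ d) : ℤ) =
      ∑ b : Fin (F.rk 0), T (d - F.deg 0 b) - ∑ b : Fin (F.rk 1), T (d - F.deg 1 b) +
        ∑ b : Fin (F.rk 2), T (d - F.deg 2 b) := by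
  rw [hilbert_general F 2 hlen d]
  simp only [Finset.sum_range_succ, Finset.sum_range_zero, zero_add, pow_zero, one_mul, pow_one,
    neg_mul, even_two, Even.neg_pow, one_pow]
  simp only [finrank_stdGr3, T]
  push_cast
  ring

lemma hilb3_diff (hlen : F.HasLengthLE 2) (d : ℤ)
    (hd : ∀ i ≤ 2, ∀ b : Fin (F.rk i), F.deg i b ≤ d) :
    (finrank k (ℳ (d + 1)) : ℤ) - (finrank k (ℳ d) : ℤ) =
      ((F.rk 0 : ℤ) - (F.rk 1 : ℤ) + (F.rk 2 : ℤ)) * (d + 2) -
        (∑ b : Fin (F.rk 0), F.deg 0 b - ∑ b : Fin (F.rk 1), F.deg 1 b +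
          ∑ b : Fin (F.rk 2), F.deg 2 b) := by
  rw [hilb3 F hlen, hilb3 F hlen]
  have key : ∀ i ≤ 2, ∑ b : Fin (F.rk i), T (d + 1 - F.deg i b) -
      ∑ b : Fin (F.rk i), T (d - F.deg i b) = (F.rk i : ℤ) * (d + 2) - ∑ b : Fin (F.rk i), F.deg i b := by
    intro i hi
    rw [← Finset.sum_sub_distrib]
    have : ∀ b : Fin (F.rk i), T (d + 1 - F.deg i b) - T (d - F.deg i b) = (d + 2) - F.deg i b := by
      intro b
      have h0 : 0 ≤ d - F.deg i b := by have := hd i hi b; omega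
      have e : d + 1 - F.deg i b = (d - F.deg i b) + 1 := by ring
      rw [e, T_succ_sub h0]
      ring
    rw [Finset.sum_congr rfl (fun b _ => this b), Finset.sum_sub_distrib, Finset.sum_const,
      Finset.card_univ, Fintype.card_fin, nsmul_eq_mul]
  have k0 := key 0 (by omega)
  have k1 := key 1 (by omega)
  have k2 := key 2 (by omega)
  linarith

end Hilb3


section Res

variable {k : Type u} [Field k] {σ : Type} [Fintype σ]
  {M : Type u} [AddCommGroup M] [Module k M] [Module (MvPolynomial σ k) M]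
  [IsScalarTower k (MvPolynomial σ k) M]
  {ℳ : ℤ → Submodule k M} [DirectSum.Decomposition ℳ]
  [SetLike.GradedSMul (stdGr k σ) ℳ]
  (F : GrSyz.FreeRes (GrSyz.stdGr k σ) ℳ)

lemma one_not_mem_irrel : (1 : MvPolynomial σ k) ∉ (irrel (stdGr k σ)).toIdeal := by
  intro h
  have := constantCoeff_eq_zero_of_mem_irrel h
  rw [map_one] at this
  exact one_ne_zero this

lemma single_not_mem_range (hF : F.IsMinimal (irrel (stdGr k σ)).toIdeal) (i : ℕ)
    (b : Fin (F.rk i)) :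
    (Pi.single b 1 : Fin (F.rk i) → MvPolynomial σ k) ∉ LinearMap.range (F.dLin i) := by
  classical
  rintro ⟨v, hv⟩
  have h1 := congr_fun hv b
  rw [Matrix.mulVecLin_apply, Matrix.mulVec, dotProduct, Pi.single_eq_same] at h1
  apply one_not_mem_irrel (k := k) (σ := σ)
  rw [← h1]
  apply Ideal.sum_mem
  intro c _
  exact Ideal.mul_mem_right _ _ (hF i b c)

lemma aug_ne_zero (hF : F.IsMinimal (irrel (stdGr k σ)).toIdeal) (b : Fin (F.rk 0)) :
    F.aug b ≠ 0 := by
  classical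
  intro h0
  apply single_not_mem_range F hF 0 b
  rw [← F.exact_zero, LinearMap.mem_ker, Fintype.linearCombination_apply]
  rw [Finset.sum_eq_single b]
  · rw [Pi.single_eq_same, one_smul, h0]
  · intro c _ hc
    rw [Pi.single_eq_of_ne hc, zero_smul]
  · intro h; exact absurd (Finset.mem_univ b) h

lemma col_ne_zero (hF : F.IsMinimal (irrel (stdGr k σ)).toIdeal) (p : Fin (F.rk 1)) :
    ∃ a, F.d 0 a p ≠ 0 := by
  classical
  by_contra hcon
  push Not at hcon
  apply single_not_mem_range F hF 1 p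
  rw [← F.exact_succ 0, LinearMap.mem_ker, Matrix.mulVecLin_apply]
  funext a
  rw [Matrix.mulVec_single_one]
  exact hcon a

lemma d0_mul_d1 : F.d 0 * F.d 1 = 0 := by
  classical
  apply Matrix.toLin'.injective
  rw [Matrix.toLin'_mul, map_zero]
  apply LinearMap.ext
  intro v
  have : F.dLin 1 v ∈ LinearMap.ker (F.dLin 0) := by
    rw [F.exact_succ 0]
    exact ⟨v, rfl⟩
  exact this

lemma d1_inj (hlen : F.HasLengthLE 2) (y : Fin (F.rk 2) → MvPolynomial σ k)
    (hy : F.d 1 *ᵥ y = 0) : y = 0 := by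
  have h3 : F.rk (1 + 1 + 1) = 0 := hlen 3 (by omega)
  have hker : y ∈ LinearMap.ker (F.dLin 1) := hy
  rw [F.exact_succ 1] at hker
  obtain ⟨w, rfl⟩ := hker
  have hw : w = 0 := by
    funext c
    exact absurd c.2 (by omega)
  rw [hw, map_zero]

lemma entry_eq_zero (hF : F.IsMinimal (irrel (stdGr k σ)).toIdeal) (i : ℕ) (a : Fin (F.rk i))
    (b : Fin (F.rk (i + 1))) (h : F.deg (i + 1) b - F.deg i a ≤ 0) : F.d i a b = 0 :=
  eq_zero_of_mem_irrel_of_mem_stdGr_of_nonpos (F.d_mem i a b) h (hF i a b)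

end Res


section Main

variable {k : Type u} [Field k]
  {M : Type u} [AddCommGroup M] [Module k M] [Module (MvPolynomial (Fin 3) k) M]
  [IsScalarTower k (MvPolynomial (Fin 3) k) M]
  {ℳ : ℤ → Submodule k M} [DirectSum.Decomposition ℳ]
  [SetLike.GradedSMul (stdGr k (Fin 3)) ℳ]
  (F : GrSyz.FreeRes (GrSyz.stdGr k (Fin 3)) ℳ)

/-- the degree of the generator of `F_0` is zero -/
lemma deg_zero_eq_zero (hF : F.IsMinimal (irrel (stdGr k (Fin 3))).toIdeal)
    (π : MvPolynomial (Fin 3) k →ₗ[MvPolynomial (Fin 3) k] M) (hπ : Function.Surjective π)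
    (hπg : GrLC.IsGrHom (stdGr k (Fin 3)) ℳ π) (hu : π 1 ≠ 0)
    (b₀ : Fin (F.rk 0)) (hall : ∀ b : Fin (F.rk 0), b = b₀) : F.deg 0 b₀ = 0 := by
  classical
  set c := F.deg 0 b₀ with hc
  set x₀ := F.aug b₀ with hx₀d
  have hx₀ : x₀ ∈ ℳ c := F.aug_mem b₀
  have hx₀ne : x₀ ≠ 0 := aug_ne_zero F hF b₀
  have h1mem : (1 : MvPolynomial (Fin 3) k) ∈ stdGr k (Fin 3) 0 := SetLike.GradedOne.one_mem
  have humem : π 1 ∈ ℳ 0 := hπg 0 1 h1mem
  obtain ⟨v, hv⟩ := F.aug_surjective (π 1)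
  have hv' : v b₀ • x₀ = π 1 := by
    rw [← hv, Fintype.linearCombination_apply, Finset.sum_eq_single b₀]
    · intro b _ hb; exact absurd (hall b) hb
    · intro h; exact absurd (Finset.mem_univ b₀) h
  obtain ⟨g, hg⟩ := hπ x₀
  have hg' : g • π 1 = x₀ := by
    rw [← map_smul, smul_eq_mul, mul_one, hg]
  apply le_antisymm
  · -- c ≤ 0
    by_contra hlt
    push Not at hlt
    have key := coe_decompose_smul_add_of_right_mem (stdGr k (Fin 3)) ℳ hx₀ (v b₀) (-c)
    rw [hv', neg_add_cancel, decompose_of_mem_same ℳ humem] at key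
    have hz : ((decompose (stdGr k (Fin 3)) (v b₀)) (-c) : MvPolynomial (Fin 3) k) = 0 :=
      eq_zero_of_mem_stdGr_of_neg (SetLike.coe_mem _) (by omega)
    rw [hz, zero_smul] at key
    exact hu key
  · -- 0 ≤ c
    by_contra hlt
    push Not at hlt
    have key := coe_decompose_smul_add_of_right_mem (stdGr k (Fin 3)) ℳ humem g c
    rw [hg', add_zero, decompose_of_mem_same ℳ hx₀] at key
    have hz : ((decompose (stdGr k (Fin 3)) g) c : MvPolynomial (Fin 3) k) = 0 :=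
      eq_zero_of_mem_stdGr_of_neg (SetLike.coe_mem _) hlt
    rw [hz, zero_smul] at key
    exact hx₀ne key


lemma exists_deg_bound : ∃ D0 : ℤ, ∀ i ≤ 2, ∀ b : Fin (F.rk i), F.deg i b ≤ D0 := by
  refine ⟨∑ i ∈ Finset.range 3, ∑ b : Fin (F.rk i), |F.deg i b|, fun i hi b => ?_⟩
  have h1 : F.deg i b ≤ |F.deg i b| := le_abs_self _
  have h2 : |F.deg i b| ≤ ∑ b' : Fin (F.rk i), |F.deg i b'| :=
    Finset.single_le_sum (f := fun b' => |F.deg i b'|) (fun _ _ => abs_nonneg _) (Finset.mem_univ b)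
  have h3 : ∑ b' : Fin (F.rk i), |F.deg i b'| ≤
      ∑ i' ∈ Finset.range 3, ∑ b' : Fin (F.rk i'), |F.deg i' b'| :=
    Finset.single_le_sum (f := fun i' => ∑ b' : Fin (F.rk i'), |F.deg i' b'|)
      (fun _ _ => Finset.sum_nonneg (fun _ _ => abs_nonneg _)) (Finset.mem_range.mpr (by omega))
  linarith

theorem sum_deg (Z : Finset (Fin 3 → k)) (hZne : Z.Nonempty)
    (I : Ideal (MvPolynomial (Fin 3) k))
    (hI : ∀ f : MvPolynomial (Fin 3) k, f ∈ I ↔
      ∀ p ∈ Z, ∀ j : ℕ, MvPolynomial.eval p (MvPolynomial.homogeneousComponent j f) = 0)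
    (π : MvPolynomial (Fin 3) k →ₗ[MvPolynomial (Fin 3) k] M) (hπ : Function.Surjective π)
    (hπg : GrLC.IsGrHom (GrSyz.stdGr k (Fin 3)) ℳ π) (hker : LinearMap.ker π = I)
    (hF : F.IsMinimal (GrSyz.irrel (GrSyz.stdGr k (Fin 3))).toIdeal) (hlen : F.HasLengthLE 2)
    (t : ℕ) (h1 : F.rk 1 = t + 1) (h2 : F.rk 2 = t) :
    ∑ b : Fin (F.rk 1), F.deg 1 b = ∑ b : Fin (F.rk 2), F.deg 2 b := by
  classical
  have hbound : ∀ d, finrank k (ℳ d) ≤ Z.card :=
    finrank_le_card (r := 2) ℳ π Z I hI hπ hπg hker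
  obtain ⟨D0, hD0⟩ := exists_deg_bound F
  obtain ⟨hA, hW⟩ := linear_bounded (fun d => (finrank k (ℳ d) : ℤ))
    ((F.rk 0 : ℤ) - (F.rk 1 : ℤ) + (F.rk 2 : ℤ))
    (∑ b : Fin (F.rk 0), F.deg 0 b - ∑ b : Fin (F.rk 1), F.deg 1 b +
          ∑ b : Fin (F.rk 2), F.deg 2 b) (Z.card : ℤ) D0
    (fun d _ => ⟨by positivity, by exact_mod_cast hbound d⟩)
    (fun d hd => hilb3_diff F hlen d (fun i hi b => le_trans (hD0 i hi b) hd))
  have hrk0 : F.rk 0 = 1 := by
    rw [h1, h2] at hA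
    push_cast at hA
    omega
  let b₀ : Fin (F.rk 0) := ⟨0, by omega⟩
  have hall : ∀ b : Fin (F.rk 0), b = b₀ := by
    intro b
    apply Fin.ext
    have := b.2
    simp only [b₀]
    omega
  have hu : π 1 ≠ 0 := by
    intro h0
    have h1I : (1 : MvPolynomial (Fin 3) k) ∈ I := by
      rw [← hker]; exact h0
    obtain ⟨p, hp⟩ := hZne
    have := (hI 1).mp h1I p hp 0
    have h1mem : (1 : MvPolynomial (Fin 3) k) ∈ stdGr k (Fin 3) 0 := SetLike.GradedOne.one_mem
    rw [homogeneousComponent_of_mem_stdGr h1mem, if_pos (by simp), map_one] at this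
    exact one_ne_zero this
  have hc := deg_zero_eq_zero F hF π hπ hπg hu b₀ hall
  have hsum0 : ∑ b : Fin (F.rk 0), F.deg 0 b = F.deg 0 b₀ := by
    rw [Finset.sum_eq_single b₀]
    · intro b _ hb; exact absurd (hall b) hb
    · intro h; exact absurd (Finset.mem_univ b₀) h
  rw [hsum0, hc] at hW
  linarith


section Ineq

variable (hF : F.IsMinimal (GrSyz.irrel (GrSyz.stdGr k (Fin 3))).toIdeal) (hlen : F.HasLengthLE 2)
  {T : ℕ} (h1 : F.rk 1 = T + 1) (h2 : F.rk 2 = T)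

/-- the reindexed matrix of `F_2 → F_1` -/
def matA : Matrix (Fin (T + 1)) (Fin T) (MvPolynomial (Fin 3) k) :=
  (F.d 1).submatrix (finCongr h1.symm) (finCongr h2.symm)

/-- the reindexed matrix of `F_1 → F_0` -/
def matG : Matrix (Fin (F.rk 0)) (Fin (T + 1)) (MvPolynomial (Fin 3) k) :=
  (F.d 0).submatrix id (finCongr h1.symm)

lemma matA_apply (p : Fin (T + 1)) (q : Fin T) :
    matA F h1 h2 p q = F.d 1 (Fin.cast h1.symm p) (Fin.cast h2.symm q) := rfl

lemma matG_apply (a : Fin (F.rk 0)) (p : Fin (T + 1)) :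
    matG F h1 a p = F.d 0 a (Fin.cast h1.symm p) := rfl

include hlen in
lemma matA_inj (y : Fin T → MvPolynomial (Fin 3) k) (hy : matA F h1 h2 *ᵥ y = 0) : y = 0 := by
  unfold matA at hy
  rw [Matrix.submatrix_mulVec_equiv] at hy
  have h3 : F.d 1 *ᵥ (y ∘ ⇑(finCongr h2.symm).symm) = 0 := by
    funext p'
    have := congr_fun hy ((finCongr h1.symm).symm p')
    simpa using this
  have h4 := d1_inj F hlen _ h3
  funext q
  have := congr_fun h4 (finCongr h2.symm q)
  simpa using this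

lemma matG_mul_matA : matG F h1 * matA F h1 h2 = 0 := by
  unfold matG matA
  rw [Matrix.submatrix_mul_equiv, d0_mul_d1]
  rfl

include hF in
lemma matA_eq_zero (p : Fin (T + 1)) (q : Fin T)
    (h : F.deg 2 (Fin.cast h2.symm q) - F.deg 1 (Fin.cast h1.symm p) ≤ 0) :
    matA F h1 h2 p q = 0 :=
  entry_eq_zero F hF 1 _ _ h

end Ineq

include F in
theorem deg_ineq (hF : F.IsMinimal (GrSyz.irrel (GrSyz.stdGr k (Fin 3))).toIdeal)
    (hlen : F.HasLengthLE 2) (n m : ℕ)
    (h1 : F.rk 1 = n + m + 1) (h2 : F.rk 2 = n + m)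
    (ha : ∀ i j : Fin (n + m + 1), i ≤ j →
      F.deg 1 (Fin.cast h1.symm j) ≤ F.deg 1 (Fin.cast h1.symm i))
    (hb : ∀ i j : Fin (n + m), i ≤ j →
      F.deg 2 (Fin.cast h2.symm j) ≤ F.deg 2 (Fin.cast h2.symm i))
    (hn : n < n + m) :
    1 ≤ F.deg 2 (Fin.cast h2.symm ⟨n, hn⟩) -
        F.deg 1 (Fin.cast h1.symm (Fin.castSucc ⟨n, hn⟩)) ∧
      1 ≤ F.deg 2 (Fin.cast h2.symm ⟨n, hn⟩) -
        F.deg 1 (Fin.cast h1.symm (Fin.succ ⟨n, hn⟩)) := by
  classical
  have hm : 0 < m := by omega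
  constructor
  · by_contra hcon
    push Not at hcon
    have hz : ∀ (p : Fin (n + m + 1)) (j : Fin m), (p : ℕ) ≤ n →
        matA F h1 h2 p (Fin.natAdd n j) = 0 := by
      intro p j hp
      apply matA_eq_zero F hF h1 h2
      have hb' := hb ⟨n, hn⟩ (Fin.natAdd n j) (by
        rw [Fin.le_iff_val_le_val]; simp)
      have ha' := ha p (Fin.castSucc ⟨n, hn⟩) (by
        rw [Fin.le_iff_val_le_val]; simpa using hp)
      omega
    obtain ⟨a, hane⟩ := col_ne_zero F hF
      (Fin.cast h1.symm (Fin.natAdd n (⟨0, hm⟩ : Fin m)).succ)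
    apply hane
    have := block_e (matA F h1 h2) (matG F h1) (matA_inj F hlen h1 h2) (matG_mul_matA F h1 h2) hz a
      ⟨0, hm⟩
    rwa [matG_apply] at this
  · by_contra hcon
    push Not at hcon
    obtain ⟨m', rfl⟩ : ∃ m', m = m' + 1 := ⟨m - 1, by omega⟩
    have hz : ∀ (p : Fin (n + (m' + 1) + 1)) (j : Fin (m' + 1)), (p : ℕ) ≤ n + 1 →
        matA F h1 h2 p (Fin.natAdd n j) = 0 := by
      intro p j hp
      apply matA_eq_zero F hF h1 h2
      have hb' := hb ⟨n, hn⟩ (Fin.natAdd n j) (by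
        rw [Fin.le_iff_val_le_val]; simp)
      have ha' := ha p (Fin.succ ⟨n, hn⟩) (by
        rw [Fin.le_iff_val_le_val]; simpa using hp)
      omega
    exact block_f (matA F h1 h2) (matA_inj F hlen h1 h2) hz


end Main

theorem main32 (k : Type u) [Field k]
    (Z : Finset (Fin 3 → k)) (hZne : Z.Nonempty) (I : Ideal (MvPolynomial (Fin 3) k))
    (hI : ∀ f : MvPolynomial (Fin 3) k, f ∈ I ↔
      ∀ p ∈ Z, ∀ j : ℕ, MvPolynomial.eval p (MvPolynomial.homogeneousComponent j f) = 0)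
    (M : Type u) [AddCommGroup M] [Module k M] [Module (MvPolynomial (Fin 3) k) M] [IsScalarTower k (MvPolynomial (Fin 3) k) M]
    (ℳ : ℤ → Submodule k M) [DirectSum.Decomposition ℳ] [SetLike.GradedSMul (GrSyz.stdGr k (Fin 3)) ℳ]
    (π : MvPolynomial (Fin 3) k →ₗ[MvPolynomial (Fin 3) k] M) (hπ : Function.Surjective π)
    (hπg : GrLC.IsGrHom (GrSyz.stdGr k (Fin 3)) ℳ π) (hker : LinearMap.ker π = I)
    (F : GrSyz.FreeRes (GrSyz.stdGr k (Fin 3)) ℳ) (hF : F.IsMinimal (GrSyz.irrel (GrSyz.stdGr k (Fin 3))).toIdeal) (hlen : F.HasLengthLE 2)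
    (t : ℕ) (h1 : F.rk 1 = t + 1) (h2 : F.rk 2 = t)
    (ha : ∀ i j : Fin (t + 1), i ≤ j → F.deg 1 (Fin.cast h1.symm j) ≤ F.deg 1 (Fin.cast h1.symm i))
    (hb : ∀ i j : Fin t, i ≤ j → F.deg 2 (Fin.cast h2.symm j) ≤ F.deg 2 (Fin.cast h2.symm i)) :
    (∀ i : Fin t, 1 ≤ F.deg 2 (Fin.cast h2.symm i) - F.deg 1 (Fin.cast h1.symm i.castSucc) ∧
        1 ≤ F.deg 2 (Fin.cast h2.symm i) - F.deg 1 (Fin.cast h1.symm i.succ)) ∧
      ∑ i : Fin (t + 1), F.deg 1 (Fin.cast h1.symm i) = ∑ j : Fin t, F.deg 2 (Fin.cast h2.symm j) := by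
  constructor
  · rintro ⟨n, hn⟩
    obtain ⟨m, rfl⟩ : ∃ m, t = n + m := ⟨t - n, by omega⟩
    exact deg_ineq F hF hlen n m h1 h2 ha hb hn
  · have := sum_deg F Z hZne I hI π hπ hπg hker hF hlen t h1 h2
    rw [← (finCongr h1.symm).sum_comp, ← (finCongr h2.symm).sum_comp] at this
    exact this

end Groth.Agent.H77.HB
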