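import Mathlib

namespace Groth.Agent.H77

variable {S : Type*} [CommRing S] {N : Type*} [AddCommGroup N] [Module S N] {n : ℕ}

lemma map_eq_sum_smul_single (L : (Fin n → S) →ₗ[S] N) (v : Fin n → S) :
    L v = ∑ b, v b • L (Pi.single b 1) := by
  conv_lhs => rw [← Finset.univ_sum_single v]
  rw [map_sum]
  apply Finset.sum_congr rfl
  intro b _
  rw [← map_smul]
  congr 1
  rw [← Pi.single_smul, smul_eq_mul, mul_one]

/-- If the kernel of `L` lies in `𝔪 Sⁿ` for a proper ideal `𝔪`, the images of the basis vectors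
are an irredundant family. -/
lemma not_mem_span_of_ker_le (𝔪 : Ideal S) (h1 : (1 : S) ∉ 𝔪) (L : (Fin n → S) →ₗ[S] N)
    (hker : ∀ v ∈ LinearMap.ker L, ∀ b, v b ∈ 𝔪) (b : Fin n) :
    L (Pi.single b 1) ∉
      Submodule.span S ((fun b' => L (Pi.single b' 1)) '' {b' | b' ≠ b}) := by
  intro hmem
  rw [Finsupp.mem_span_image_iff_linearCombination] at hmem
  obtain ⟨l, hl, hsum⟩ := hmem
  have hlb : l b = 0 := by
    by_contra hne
    have : b ∈ (l.support : Set (Fin n)) := Finsupp.mem_support_iff.mpr hne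
    exact (hl this) rfl
  rw [Finsupp.linearCombination_apply, Finsupp.sum_fintype _ _ (by simp)] at hsum
  have hv : (Pi.single b 1 - ⇑l : Fin n → S) ∈ LinearMap.ker L := by
    rw [LinearMap.mem_ker, map_sub, map_eq_sum_smul_single L (⇑l), hsum, sub_self]
  have := hker _ hv b
  rw [Pi.sub_apply, Pi.single_eq_same, hlb, sub_zero] at this
  exact h1 this

/-- If a vector in the kernel of `L` has a unit coordinate, the corresponding basis image is
redundant. -/
lemma mem_span_of_isUnit (L : (Fin n → S) →ₗ[S] N) {y : Fin n → S} (hy : y ∈ LinearMap.ker L)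
    (a : Fin n) (hu : IsUnit (y a)) :
    L (Pi.single a 1) ∈
      Submodule.span S ((fun a' => L (Pi.single a' 1)) '' {a' | a' ≠ a}) := by
  classical
  obtain ⟨u, hu⟩ := hu
  rw [LinearMap.mem_ker, map_eq_sum_smul_single L y,
    ← Finset.add_sum_erase _ _ (Finset.mem_univ a)] at hy
  have h2 : L (Pi.single a 1) = -(↑u⁻¹ : S) • ∑ a' ∈ Finset.univ.erase a, y a' • L (Pi.single a' 1) := by
    have h3 : y a • L (Pi.single a 1) = -∑ a' ∈ Finset.univ.erase a, y a' • L (Pi.single a' 1) :=
      eq_neg_of_add_eq_zero_left hy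
    rw [neg_smul, ← smul_neg, ← h3, ← hu, smul_smul, Units.inv_mul, one_smul]
  rw [h2]
  apply Submodule.smul_mem
  apply Submodule.sum_mem
  intro a' ha'
  apply Submodule.smul_mem
  apply Submodule.subset_span
  exact ⟨a', (Finset.mem_erase.mp ha').1, rfl⟩

end Groth.Agent.H77
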