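import Groth.Prelude.Def_W4c2quivmodsheafKron
import Mathlib

namespace Groth.Agent.H77

open KronMod Module

universe u v w

variable {K : Type u} [Field K] {V : Type v} {W : Type w}
  [AddCommGroup V] [Module K V] [AddCommGroup W] [Module K W] {n : ℕ}

/-- The sum map `Vⁿ → W`. -/
noncomputable def kSum (f : Fin n → (V →ₗ[K] W)) : (Fin n → V) →ₗ[K] W :=
  ∑ j, (f j).comp (LinearMap.proj j)

lemma kSum_apply (f : Fin n → (V →ₗ[K] W)) (v : Fin n → V) : kSum f v = ∑ j, f j (v j) := by
  simp [kSum]

/-- The product map `V → Wⁿ`. -/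
def kProd (f : Fin n → (V →ₗ[K] W)) : V →ₗ[K] (Fin n → W) := LinearMap.pi f

lemma kProd_apply (f : Fin n → (V →ₗ[K] W)) (v : V) : kProd f v = fun j => f j v := rfl

lemma kSum_single (f : Fin n → (V →ₗ[K] W)) (j : Fin n) (v : V) :
    kSum f (Pi.single j v) = f j v := by
  classical
  rw [kSum_apply, Finset.sum_eq_single j]
  · simp
  · intro i _ hij
    simp [Pi.single_eq_of_ne hij]
  · simp

lemma isSubrep_top_range_kSum (f : Fin n → (V →ₗ[K] W)) :
    IsSubrep f ⊤ (LinearMap.range (kSum f)) := by
  intro j w hw
  obtain ⟨v, -, rfl⟩ := hw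
  exact ⟨Pi.single j v, kSum_single f j v⟩

lemma isSubrep_ker_kProd_bot (f : Fin n → (V →ₗ[K] W)) :
    IsSubrep f (LinearMap.ker (kProd f)) ⊥ := by
  intro j w hw
  obtain ⟨v, hv, rfl⟩ := hw
  have : kProd f v = 0 := hv
  have h2 := congr_fun this j
  simpa [kProd_apply] using h2

lemma kSum_mem_of_isSubrep {f : Fin n → (V →ₗ[K] W)} {V' : Submodule K V} {W' : Submodule K W}
    (h : IsSubrep f V' W') (v : Fin n → V) (hv : ∀ j, v j ∈ V') : kSum f v ∈ W' := by
  rw [kSum_apply]
  exact Submodule.sum_mem _ fun j _ => h j ⟨v j, hv j, rfl⟩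

lemma map_mem_of_isSubrep {f : Fin n → (V →ₗ[K] W)} {V' : Submodule K V} {W' : Submodule K W}
    (h : IsSubrep f V' W') (j : Fin n) {v : V} (hv : v ∈ V') : f j v ∈ W' :=
  h j ⟨v, hv, rfl⟩

variable [FiniteDimensional K V] [FiniteDimensional K W]

lemma finrank_fin_fun' : finrank K (Fin n → V) = n * finrank K V := by
  simp [Module.finrank_pi_fintype]

/-- If `kSum f` is injective then `n * dim V' ≤ dim W'` for any subrepresentation. -/
lemma mul_finrank_le_of_kSum_injective {f : Fin n → (V →ₗ[K] W)}
    (hinj : Function.Injective (kSum f)) {V' : Submodule K V} {W' : Submodule K W}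
    (h : IsSubrep f V' W') : n * finrank K V' ≤ finrank K W' := by
  let Ψ : (Fin n → V') →ₗ[K] W' :=
    LinearMap.codRestrict W' ((kSum f).comp (LinearMap.pi fun j => V'.subtype.comp (LinearMap.proj j)))
      (fun v => kSum_mem_of_isSubrep h _ fun j => (v j).2)
  have hΨ : Function.Injective Ψ := by
    intro x y hxy
    have h1 : kSum f (fun j => (x j : V)) = kSum f (fun j => (y j : V)) := by
      have := congr_arg Subtype.val hxy
      exact this
    have h2 := hinj h1
    funext j
    exact Subtype.ext (congr_fun h2 j)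
  have := LinearMap.finrank_le_finrank_of_injective hΨ
  rwa [finrank_fin_fun'] at this

/-- If `kProd f` is injective then `dim V' ≤ n * dim W'` for any subrepresentation. -/
lemma finrank_le_mul_of_kProd_injective {f : Fin n → (V →ₗ[K] W)}
    (hinj : Function.Injective (kProd f)) {V' : Submodule K V} {W' : Submodule K W}
    (h : IsSubrep f V' W') : finrank K V' ≤ n * finrank K W' := by
  let Ψ : V' →ₗ[K] (Fin n → W') :=
    LinearMap.pi fun j => LinearMap.codRestrict W' ((f j).comp V'.subtype)
      (fun v => map_mem_of_isSubrep h j v.2)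
  have hΨ : Function.Injective Ψ := by
    intro x y hxy
    apply Subtype.ext
    apply hinj
    funext j
    have := congr_arg Subtype.val (congr_fun hxy j)
    exact this
  have := LinearMap.finrank_le_finrank_of_injective hΨ
  rwa [finrank_fin_fun'] at this

lemma bot_ne_top_of_finrank_pos {M : Type*} [AddCommGroup M] [Module K M]
    (h : 0 < finrank K M) : (⊥ : Submodule K M) ≠ ⊤ := by
  intro e
  have : finrank K (⊤ : Submodule K M) = 0 := by rw [← e]; simp
  rw [finrank_top] at this
  omega

/-- Theorem A: `dim W = n * dim V`, `dim V > 0`. -/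
theorem isSemistable_iff_kSum_bijective (f : Fin n → (V →ₗ[K] W))
    (hV : 0 < finrank K V) (hW : finrank K W = n * finrank K V) :
    IsSemistable f ↔ Function.Bijective (kSum f) := by
  have hdim : finrank K (Fin n → V) = finrank K W := by rw [finrank_fin_fun', hW]
  constructor
  · rintro ⟨_, hss⟩
    have hsurj : LinearMap.range (kSum f) = ⊤ := by
      by_contra hne
      have h1 := hss ⊤ (LinearMap.range (kSum f)) (isSubrep_top_range_kSum f)
        (fun h => bot_ne_top_of_finrank_pos hV h.1.symm) (fun h => hne h.2)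
      rw [finrank_top] at h1
      have h2 : finrank K W ≤ finrank K (LinearMap.range (kSum f)) := by
        rw [mul_comm] at h1
        exact Nat.le_of_mul_le_mul_left h1 hV
      exact hne (Submodule.eq_top_of_finrank_eq (le_antisymm (Submodule.finrank_le _) h2))
    have hs : Function.Surjective (kSum f) := LinearMap.range_eq_top.mp hsurj
    exact ⟨(LinearMap.injective_iff_surjective_of_finrank_eq_finrank hdim).mpr hs, hs⟩
  · intro hb
    refine ⟨by omega, fun V' W' hsub _ _ => ?_⟩
    have := mul_finrank_le_of_kSum_injective hb.1 hsub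
    rw [hW]
    calc n * finrank K V * finrank K V' = finrank K V * (n * finrank K V') := by ring
      _ ≤ finrank K V * finrank K W' := Nat.mul_le_mul_left _ this

/-- Theorem B: `dim V = n * dim W`, `dim W > 0`. -/
theorem isSemistable_iff_kProd_bijective (f : Fin n → (V →ₗ[K] W))
    (hW : 0 < finrank K W) (hV : finrank K V = n * finrank K W) :
    IsSemistable f ↔ Function.Bijective (kProd f) := by
  have hdim : finrank K V = finrank K (Fin n → W) := by rw [finrank_fin_fun', hV]
  constructor
  · rintro ⟨_, hss⟩
    have hker : LinearMap.ker (kProd f) = ⊥ := by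
      by_contra hne
      have h1 := hss (LinearMap.ker (kProd f)) ⊥ (isSubrep_ker_kProd_bot f)
        (fun h => hne h.1) (fun h => bot_ne_top_of_finrank_pos hW h.2)
      rw [finrank_bot, mul_zero] at h1
      have h2 : finrank K (LinearMap.ker (kProd f)) = 0 := by
        rcases Nat.eq_zero_or_pos (finrank K (LinearMap.ker (kProd f))) with h | h
        · exact h
        · have := Nat.mul_pos hW h; omega
      exact hne (Submodule.finrank_eq_zero.mp h2)
    have hi : Function.Injective (kProd f) := LinearMap.ker_eq_bot.mp hker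
    exact ⟨hi, (LinearMap.injective_iff_surjective_of_finrank_eq_finrank hdim).mp hi⟩
  · intro hb
    refine ⟨by omega, fun V' W' hsub _ _ => ?_⟩
    have := finrank_le_mul_of_kProd_injective hb.1 hsub
    rw [hV]
    calc finrank K W * finrank K V' ≤ finrank K W * (n * finrank K W') := Nat.mul_le_mul_left _ this
      _ = n * finrank K W * finrank K W' := by ring

end Groth.Agent.H77
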