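import Groth.Agent.H77.Kron

namespace Groth.Agent.H77

open KronMod Module

universe u v w

variable {K : Type u} [Field K] {V : Type v} {W : Type w}
  [AddCommGroup V] [Module K V] [AddCommGroup W] [Module K W]
  [FiniteDimensional K V] [FiniteDimensional K W]

lemma inf_eq_bot_of_finrank_one {M : Type*} [AddCommGroup M] [Module K M] [FiniteDimensional K M]
    {L1 L2 : Submodule K M} (h1 : finrank K L1 = 1) (h2 : finrank K L2 = 1) (hne : L1 ≠ L2) :
    L1 ⊓ L2 = ⊥ := by
  by_contra h
  have hpos : 0 < finrank K (L1 ⊓ L2 : Submodule K M) := by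
    rcases Nat.eq_zero_or_pos (finrank K (L1 ⊓ L2 : Submodule K M)) with h0 | h0
    · exact absurd (Submodule.finrank_eq_zero.mp h0) h
    · exact h0
  have hle1 : finrank K (L1 ⊓ L2 : Submodule K M) ≤ finrank K L1 := Submodule.finrank_mono inf_le_left
  have hle2 : finrank K (L1 ⊓ L2 : Submodule K M) ≤ finrank K L2 := Submodule.finrank_mono inf_le_right
  have e1 : L1 ⊓ L2 = L1 := Submodule.eq_of_le_of_finrank_eq inf_le_left (by omega)
  have e2 : L1 ⊓ L2 = L2 := Submodule.eq_of_le_of_finrank_eq inf_le_right (by omega)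
  exact hne (e1.symm.trans e2)

lemma rank_one_of_singular (hV : finrank K V = 2) (hW : finrank K W = 2) (B : V →ₗ[K] W)
    (hB0 : B ≠ 0) (hBs : ¬ Function.Injective B) :
    finrank K (LinearMap.ker B) = 1 ∧ finrank K (LinearMap.range B) = 1 := by
  have hrk := LinearMap.finrank_range_add_finrank_ker B
  have h1 : LinearMap.ker B ≠ ⊥ := fun h => hBs (LinearMap.ker_eq_bot.mp h)
  have h2 : LinearMap.ker B ≠ ⊤ := fun h => hB0 (LinearMap.ker_eq_top.mp h)
  have h3 : 0 < finrank K (LinearMap.ker B) := by
    rcases Nat.eq_zero_or_pos (finrank K (LinearMap.ker B)) with h0 | h0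
    · exact absurd (Submodule.finrank_eq_zero.mp h0) h1
    · exact h0
  have h4 : finrank K (LinearMap.ker B) < finrank K V := Submodule.finrank_lt h2
  omega

lemma add_injective_of_ne (hV : finrank K V = 2) (hW : finrank K W = 2) (B C : V →ₗ[K] W)
    (hB0 : B ≠ 0) (hBs : ¬ Function.Injective B) (hC0 : C ≠ 0) (hCs : ¬ Function.Injective C)
    (hk : LinearMap.ker B ≠ LinearMap.ker C) (hr : LinearMap.range B ≠ LinearMap.range C) :
    Function.Injective (B + C) := by
  obtain ⟨hkB, hrB⟩ := rank_one_of_singular hV hW B hB0 hBs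
  obtain ⟨hkC, hrC⟩ := rank_one_of_singular hV hW C hC0 hCs
  have hki := inf_eq_bot_of_finrank_one hkB hkC hk
  have hri := inf_eq_bot_of_finrank_one hrB hrC hr
  rw [← LinearMap.ker_eq_bot, eq_bot_iff]
  intro x hx
  have hx' : B x + C x = 0 := by simpa using hx
  have hBx : B x ∈ LinearMap.range B ⊓ LinearMap.range C := by
    refine ⟨⟨x, rfl⟩, ?_⟩
    have : B x = C (-x) := by rw [map_neg]; exact eq_neg_of_add_eq_zero_left hx'
    rw [this]
    exact ⟨-x, rfl⟩
  rw [hri, Submodule.mem_bot] at hBx
  have hCx : C x = 0 := by rw [hBx, zero_add] at hx'; exact hx'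
  have : x ∈ LinearMap.ker B ⊓ LinearMap.ker C := ⟨hBx, hCx⟩
  rw [hki] at this
  exact this

theorem exists_bijective_combination {n : ℕ} (f : Fin n → (V →ₗ[K] W))
    (hV : finrank K V = 2) (hW : finrank K W = 2) (hf : IsSemistable f) :
    ∃ z : Fin n → K, Function.Bijective ((∑ j, z j • f j : V →ₗ[K] W) : V → W) := by
  classical
  by_contra hcon
  push Not at hcon
  have hinjbij : ∀ g : V →ₗ[K] W, Function.Injective g → Function.Bijective g := fun g hg =>
    ⟨hg, (LinearMap.injective_iff_surjective_of_finrank_eq_finrank (hV.trans hW.symm)).mp hg⟩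
  have hsing1 : ∀ j, ¬ Function.Injective (f j) := by
    intro j hj
    apply hcon (Pi.single j 1)
    have : (∑ k, (Pi.single j (1 : K) : Fin n → K) k • f k) = f j := by
      rw [Finset.sum_eq_single j]
      · simp
      · intro b _ hb; simp [Pi.single_eq_of_ne hb]
      · simp
    rw [this]
    exact hinjbij _ hj
  have hsing2 : ∀ i j, i ≠ j → ¬ Function.Injective (f i + f j) := by
    intro i j hij h
    apply hcon (Pi.single i 1 + Pi.single j 1)
    have : (∑ k, (Pi.single i (1 : K) + Pi.single j (1 : K) : Fin n → K) k • f k) = f i + f j := by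
      simp only [Pi.add_apply, add_smul, Finset.sum_add_distrib]
      congr 1
      · rw [Finset.sum_eq_single i]
        · simp
        · intro b _ hb; simp [Pi.single_eq_of_ne hb]
        · simp
      · rw [Finset.sum_eq_single j]
        · simp
        · intro b _ hb; simp [Pi.single_eq_of_ne hb]
        · simp
    rw [this]
    exact hinjbij _ h
  obtain ⟨_, hss⟩ := hf
  have hVpos : 0 < finrank K V := by omega
  have hWpos : 0 < finrank K W := by omega
  -- some arrow is nonzero
  obtain ⟨j0, hj0⟩ : ∃ j0, f j0 ≠ 0 := by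
    by_contra hall
    push Not at hall
    have hsub : IsSubrep f ⊤ ⊥ := by
      intro j w hw
      obtain ⟨v, -, rfl⟩ := hw
      simp [hall j]
    have := hss ⊤ ⊥ hsub (fun h => bot_ne_top_of_finrank_pos hVpos h.1.symm)
      (fun h => bot_ne_top_of_finrank_pos hWpos h.2)
    rw [finrank_top, finrank_bot, hV, hW] at this
    omega
  obtain ⟨hkA, hrA⟩ := rank_one_of_singular hV hW (f j0) hj0 (hsing1 j0)
  -- an arrow with a different kernel
  obtain ⟨j1, hj1, hk1⟩ : ∃ j1, f j1 ≠ 0 ∧ LinearMap.ker (f j1) ≠ LinearMap.ker (f j0) := by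
    by_contra hall
    push Not at hall
    have hsub : IsSubrep f (LinearMap.ker (f j0)) ⊥ := by
      intro j w hw
      obtain ⟨v, hv, rfl⟩ := hw
      by_cases hj : f j = 0
      · simp [hj]
      · rw [← hall j hj] at hv
        rw [Submodule.mem_bot]
        exact hv
    have := hss (LinearMap.ker (f j0)) ⊥ hsub
      (fun h => by rw [h.1, finrank_bot] at hkA; omega)
      (fun h => bot_ne_top_of_finrank_pos hWpos h.2)
    rw [finrank_bot, hkA, hV, hW] at this
    omega
  -- an arrow with a different range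
  obtain ⟨j2, hj2, hr2⟩ : ∃ j2, f j2 ≠ 0 ∧ LinearMap.range (f j2) ≠ LinearMap.range (f j0) := by
    by_contra hall
    push Not at hall
    have hsub : IsSubrep f ⊤ (LinearMap.range (f j0)) := by
      intro j w hw
      obtain ⟨v, -, rfl⟩ := hw
      by_cases hj : f j = 0
      · simp [hj]
      · rw [← hall j hj]
        exact ⟨v, rfl⟩
    have := hss ⊤ (LinearMap.range (f j0)) hsub
      (fun h => bot_ne_top_of_finrank_pos hVpos h.1.symm)
      (fun h => by rw [h.2, finrank_top] at hrA; omega)
    rw [finrank_top, hrA, hV, hW] at this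
    omega
  -- j1 has the same range as j0
  have hr1 : LinearMap.range (f j1) = LinearMap.range (f j0) := by
    by_contra hne
    have hij : j1 ≠ j0 := fun h => hk1 (by rw [h])
    exact hsing2 j1 j0 hij
      (add_injective_of_ne hV hW _ _ hj1 (hsing1 j1) hj0 (hsing1 j0) hk1 hne)
  -- j2 has the same kernel as j0
  have hk2 : LinearMap.ker (f j2) = LinearMap.ker (f j0) := by
    by_contra hne
    have hij : j2 ≠ j0 := fun h => hr2 (by rw [h])
    exact hsing2 j2 j0 hij
      (add_injective_of_ne hV hW _ _ hj2 (hsing1 j2) hj0 (hsing1 j0) hne hr2)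
  have hij : j1 ≠ j2 := fun h => hk1 (by rw [h, hk2])
  exact hsing2 j1 j2 hij
    (add_injective_of_ne hV hW _ _ hj1 (hsing1 j1) hj2 (hsing1 j2)
      (by rw [hk2]; exact hk1) (by rw [hr1]; exact fun h => hr2 h.symm))

end Groth.Agent.H77
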