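import Groth.Agent.H77.Kron

namespace Groth.Agent.H77

open KronMod Module

universe u v w

variable {K : Type u} [Field K] {V : Type v} {W : Type w}
  [AddCommGroup V] [Module K V] [AddCommGroup W] [Module K W] {n : ℕ}

/-- Generic (semi)stability with a comparison relation. -/
def IsGenStable (cmp : ℕ → ℕ → Prop) (f : Fin n → (V →ₗ[K] W)) : Prop :=
  0 < finrank K V + finrank K W ∧
  ∀ (V' : Submodule K V) (W' : Submodule K W), IsSubrep f V' W' →
    ¬ (V' = ⊥ ∧ W' = ⊥) → ¬ (V' = ⊤ ∧ W' = ⊤) →
    cmp (finrank K W * finrank K V') (finrank K V * finrank K W')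

lemma isSemistable_iff_gen (f : Fin n → (V →ₗ[K] W)) :
    IsSemistable f ↔ IsGenStable (· ≤ ·) f := Iff.rfl

lemma isStable_iff_gen (f : Fin n → (V →ₗ[K] W)) :
    IsStable f ↔ IsGenStable (· < ·) f := Iff.rfl

variable [FiniteDimensional K V] [FiniteDimensional K W]

lemma eq_bot_of_finrank_zero' {M : Type*} [AddCommGroup M] [Module K M] [FiniteDimensional K M]
    (S : Submodule K M) (h : finrank K S = 0) : S = ⊥ := Submodule.finrank_eq_zero.mp h

theorem genStable_dual (cmp : ℕ → ℕ → Prop)
    (hcmp : ∀ p q p' q' N : ℕ, cmp p q → p' + q = N → q' + p = N → cmp p' q')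
    (f : Fin n → (V →ₗ[K] W)) :
    IsGenStable cmp f ↔ IsGenStable cmp (fun j => (f j).dualMap) := by
  have hdV : finrank K (Module.Dual K V) = finrank K V := Subspace.dual_finrank_eq
  have hdW : finrank K (Module.Dual K W) = finrank K W := Subspace.dual_finrank_eq
  constructor
  · rintro ⟨hpos, hf⟩
    refine ⟨by rw [hdV, hdW]; omega, fun A B hsub hnz hnt => ?_⟩
    have hA := Subspace.finrank_add_finrank_dualCoannihilator_eq A
    have hB := Subspace.finrank_add_finrank_dualCoannihilator_eq B
    have hsub' : IsSubrep f B.dualCoannihilator A.dualCoannihilator := by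
      intro j w hw
      obtain ⟨v, hv, rfl⟩ := hw
      rw [Submodule.mem_dualCoannihilator]
      intro φ hφ
      have h1 : (f j).dualMap φ ∈ B := hsub j ⟨φ, hφ, rfl⟩
      have h2 := (Submodule.mem_dualCoannihilator _).mp hv _ h1
      simpa using h2
    have h1 := hf B.dualCoannihilator A.dualCoannihilator hsub'
      (fun h => by
        apply hnt
        rw [h.1, finrank_bot, add_zero] at hB
        rw [h.2, finrank_bot, add_zero] at hA
        exact ⟨Submodule.eq_top_of_finrank_eq (by rw [hA, hdW]),
          Submodule.eq_top_of_finrank_eq (by rw [hB, hdV])⟩)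
      (fun h => by
        apply hnz
        rw [h.1, finrank_top] at hB
        rw [h.2, finrank_top] at hA
        exact ⟨eq_bot_of_finrank_zero' A (by omega), eq_bot_of_finrank_zero' B (by omega)⟩)
    rw [hdV, hdW]
    refine hcmp _ _ _ _ (finrank K V * finrank K W) h1 ?_ ?_
    · rw [← Nat.mul_add, hA]
    · rw [← Nat.mul_add, hB, Nat.mul_comm]
  · rintro ⟨hpos, hf⟩
    rw [hdV, hdW] at hpos
    refine ⟨by omega, fun V' W' hsub hnz hnt => ?_⟩
    have hA := Subspace.finrank_add_finrank_dualAnnihilator_eq W'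
    have hB := Subspace.finrank_add_finrank_dualAnnihilator_eq V'
    have hsub' : IsSubrep (fun j => (f j).dualMap) W'.dualAnnihilator V'.dualAnnihilator := by
      intro j ψ hψ
      obtain ⟨φ, hφ, rfl⟩ := hψ
      rw [Submodule.mem_dualAnnihilator]
      intro v hv
      have h1 : f j v ∈ W' := hsub j ⟨v, hv, rfl⟩
      have h2 := (Submodule.mem_dualAnnihilator _).mp hφ _ h1
      simpa using h2
    have h1 := hf W'.dualAnnihilator V'.dualAnnihilator hsub'
      (fun h => by
        apply hnt
        rw [h.1, finrank_bot, add_zero] at hA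
        rw [h.2, finrank_bot, add_zero] at hB
        exact ⟨Submodule.eq_top_of_finrank_eq hB, Submodule.eq_top_of_finrank_eq hA⟩)
      (fun h => by
        apply hnz
        rw [h.1, finrank_top, hdW] at hA
        rw [h.2, finrank_top, hdV] at hB
        exact ⟨eq_bot_of_finrank_zero' V' (by omega), eq_bot_of_finrank_zero' W' (by omega)⟩)
    rw [hdV, hdW] at h1
    refine hcmp _ _ _ _ (finrank K V * finrank K W) h1 ?_ ?_
    · rw [← Nat.mul_add, hB, Nat.mul_comm]
    · rw [← Nat.mul_add, hA]

end Groth.Agent.H77
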