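import Mathlib
namespace Groth.Agent.H77

theorem main98 (m n : ℕ) (hm : 0 < m) (hn : 0 < n) (hmn : Nat.Coprime m n) :
    ((Finset.range (m + n + 1) ×ˢ Finset.range (m + 1)).filter
      (fun ij : ℕ × ℕ => ij.1 ≤ ij.2 + n ∧ ij.2 * (m + n) < ij.1 * m)).card
      = (m - 1) * (n - 1) / 2 + (m + n - 1) := by
  classical
  set G := Finset.range (n + 1) ×ˢ Finset.range (m + 1) with hG
  set Bl := G.filter (fun aj : ℕ × ℕ => aj.2 * n < aj.1 * m) with hBl
  set Ab := G.filter (fun aj : ℕ × ℕ => aj.1 * m < aj.2 * n) with hAb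
  set On := G.filter (fun aj : ℕ × ℕ => aj.2 * n = aj.1 * m) with hOn
  have hA : ((Finset.range (m + n + 1) ×ˢ Finset.range (m + 1)).filter
      (fun ij : ℕ × ℕ => ij.1 ≤ ij.2 + n ∧ ij.2 * (m + n) < ij.1 * m)).card = Bl.card := by
    apply Finset.card_nbij' (fun ij => (ij.1 - ij.2, ij.2)) (fun aj => (aj.1 + aj.2, aj.2))
    · rintro ⟨i, j⟩ hij
      simp only [hBl, hG, Finset.coe_filter, Finset.mem_product, Finset.mem_range,
        Set.mem_ofPred_eq] at hij ⊢
      obtain ⟨⟨hi, hj⟩, h1, h2⟩ := hij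
      have hlt : j < i := by
        by_contra hc
        push Not at hc
        have : i * m ≤ j * (m + n) := by nlinarith
        omega
      obtain ⟨a, rfl⟩ := Nat.exists_eq_add_of_le hlt.le
      have : j + a - j = a := by omega
      rw [this]
      refine ⟨⟨by omega, hj⟩, ?_⟩
      nlinarith
    · rintro ⟨a, j⟩ haj
      simp only [hBl, hG, Finset.coe_filter, Finset.mem_product, Finset.mem_range,
        Set.mem_ofPred_eq] at haj ⊢
      obtain ⟨⟨ha, hj⟩, h1⟩ := haj
      refine ⟨⟨by omega, hj⟩, by omega, ?_⟩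
      nlinarith
    · rintro ⟨i, j⟩ hij
      simp only [Finset.coe_filter, Finset.mem_product, Finset.mem_range,
        Set.mem_ofPred_eq] at hij
      obtain ⟨⟨hi, hj⟩, h1, h2⟩ := hij
      have hlt : j < i := by
        by_contra hc
        push Not at hc
        have : i * m ≤ j * (m + n) := by nlinarith
        omega
      simp only [Prod.mk.injEq, and_true]
      omega
    · rintro ⟨a, j⟩ _
      simp
  have hsym : Ab.card = Bl.card := by
    apply Finset.card_nbij' (fun aj => (n - aj.1, m - aj.2)) (fun aj => (n - aj.1, m - aj.2))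
    · rintro ⟨a, j⟩ haj
      simp only [hAb, hBl, hG, Finset.coe_filter, Finset.mem_product, Finset.mem_range,
        Set.mem_ofPred_eq] at haj ⊢
      obtain ⟨⟨ha, hj⟩, h1⟩ := haj
      obtain ⟨a', rfl⟩ := Nat.exists_eq_add_of_le (Nat.lt_succ_iff.mp ha)
      obtain ⟨j', rfl⟩ := Nat.exists_eq_add_of_le (Nat.lt_succ_iff.mp hj)
      have e1 : a + a' - a = a' := by omega
      have e2 : j + j' - j = j' := by omega
      rw [e1, e2]
      refine ⟨⟨by omega, by omega⟩, ?_⟩
      nlinarith
    · rintro ⟨a, j⟩ haj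
      simp only [hAb, hBl, hG, Finset.coe_filter, Finset.mem_product, Finset.mem_range,
        Set.mem_ofPred_eq] at haj ⊢
      obtain ⟨⟨ha, hj⟩, h1⟩ := haj
      obtain ⟨a', rfl⟩ := Nat.exists_eq_add_of_le (Nat.lt_succ_iff.mp ha)
      obtain ⟨j', rfl⟩ := Nat.exists_eq_add_of_le (Nat.lt_succ_iff.mp hj)
      have e1 : a + a' - a = a' := by omega
      have e2 : j + j' - j = j' := by omega
      rw [e1, e2]
      refine ⟨⟨by omega, by omega⟩, ?_⟩
      nlinarith
    · rintro ⟨a, j⟩ haj
      simp only [hAb, hG, Finset.coe_filter, Finset.mem_product, Finset.mem_range,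
        Set.mem_ofPred_eq] at haj
      obtain ⟨⟨ha, hj⟩, h1⟩ := haj
      simp only [Prod.mk.injEq]
      omega
    · rintro ⟨a, j⟩ haj
      simp only [hBl, hG, Finset.coe_filter, Finset.mem_product, Finset.mem_range,
        Set.mem_ofPred_eq] at haj
      obtain ⟨⟨ha, hj⟩, h1⟩ := haj
      simp only [Prod.mk.injEq]
      omega
  have hOn2 : On = {(0, 0), (n, m)} := by
    ext ⟨a, j⟩
    simp only [hOn, hG, Finset.mem_filter, Finset.mem_product, Finset.mem_range, Finset.mem_insert,
      Finset.mem_singleton, Prod.mk.injEq]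
    constructor
    · rintro ⟨⟨ha, hj⟩, h1⟩
      have hdvd : n ∣ a := by
        have : n ∣ a * m := ⟨j, by rw [← h1]; ring⟩
        exact (Nat.Coprime.dvd_of_dvd_mul_right hmn.symm this)
      obtain ⟨c, rfl⟩ := hdvd
      have hc : c ≤ 1 := by
        by_contra hc
        push Not at hc
        have : n * 2 ≤ n * c := Nat.mul_le_mul_left n hc
        omega
      rcases Nat.le_one_iff_eq_zero_or_eq_one.mp hc with rfl | rfl
      · left
        simp only [mul_zero, zero_mul] at h1 ⊢
        have : j = 0 := by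
          rcases Nat.mul_eq_zero.mp h1 with h | h
          · exact h
          · omega
        exact ⟨trivial, this⟩
      · right
        simp only [mul_one] at h1 ⊢
        have : j * n = m * n := by rw [h1]; ring
        exact ⟨trivial, Nat.eq_of_mul_eq_mul_right hn this⟩
    · rintro (⟨rfl, rfl⟩ | ⟨rfl, rfl⟩)
      · simp
      · refine ⟨⟨by omega, by omega⟩, by ring⟩
  have hOnc : On.card = 2 := by
    rw [hOn2, Finset.card_pair]
    simp only [ne_eq, Prod.mk.injEq, not_and]
    intro h; omega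
  have hGc : G.card = (n + 1) * (m + 1) := by
    rw [hG, Finset.card_product, Finset.card_range, Finset.card_range]
  have htot : Bl.card + Ab.card + On.card = G.card := by
    rw [hBl, hAb, hOn, Finset.card_filter, Finset.card_filter, Finset.card_filter,
      ← Finset.sum_add_distrib, ← Finset.sum_add_distrib, Finset.card_eq_sum_ones]
    apply Finset.sum_congr rfl
    rintro ⟨a, j⟩ _
    rcases lt_trichotomy (j * n) (a * m) with h | h | h
    · simp [h, h.ne, not_lt.mpr h.le]
    · simp [h]
    · simp [h, h.ne', not_lt.mpr h.le]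
  rw [hA]
  rw [hsym, hOnc, hGc] at htot
  obtain ⟨m', rfl⟩ : ∃ m', m = m' + 1 := ⟨m - 1, by omega⟩
  obtain ⟨n', rfl⟩ : ∃ n', n = n' + 1 := ⟨n - 1, by omega⟩
  have e1 : m' + 1 - 1 = m' := by omega
  have e2 : n' + 1 - 1 = n' := by omega
  rw [e1, e2]
  have : (n' + 1 + 1) * (m' + 1 + 1) = m' * n' + 2 * m' + 2 * n' + 4 := by ring
  rw [this] at htot
  generalize m' * n' = P at htot ⊢
  omega

end Groth.Agent.H77
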