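import Mathlib
import Groth.Agent.H19.DirLimFlat

/-!
# Lazard's theorem: flat iff directed colimit of finite free modules
-/

set_option autoImplicit false
universe u

namespace Groth.Agent.H77.Lazard

open CategoryTheory CategoryTheory.Limits

noncomputable section

variable (R : Type u) [CommRing R] (M : Type u) [AddCommGroup M] [Module R M]

/-- objects: finite free modules `R^n` with a map to `M` -/
structure Obj where
  n : ℕ
  x : (Fin n → R) →ₗ[R] M

variable {R M}

instance : Category.{u} (Obj R M) where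
  Hom a b := {A : (Fin a.n → R) →ₗ[R] (Fin b.n → R) // b.x ∘ₗ A = a.x}
  id a := ⟨LinearMap.id, by simp⟩
  comp f g := ⟨g.1 ∘ₗ f.1, by rw [← LinearMap.comp_assoc, g.2, f.2]⟩

@[ext]
lemma hom_ext {a b : Obj R M} (f g : a ⟶ b) (h : f.1 = g.1) : f = g := Subtype.ext h

@[simp] lemma comp_val {a b c : Obj R M} (f : a ⟶ b) (g : b ⟶ c) : (f ≫ g).1 = g.1 ∘ₗ f.1 := rfl
@[simp] lemma id_val (a : Obj R M) : (𝟙 a : a ⟶ a).1 = LinearMap.id := rfl

/-- the diagram of finite free modules -/
def D : Obj R M ⥤ ModuleCat.{u} R where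
  obj a := ModuleCat.of R (Fin a.n → R)
  map f := ModuleCat.ofHom f.1
  map_id a := rfl
  map_comp f g := rfl

/-- the cocone with point `M` -/
def cocone : Cocone (D (R := R) (M := M)) where
  pt := ModuleCat.of R M
  ι :=
    { app a := ModuleCat.ofHom a.x
      naturality a b f := by
        ext v
        exact congrArg (fun φ => φ v) f.2 }

/-- the object `R → M, 1 ↦ m` -/
def single (m : M) : Obj R M := ⟨1, (LinearMap.toSpanSingleton R M m) ∘ₗ (LinearMap.proj 0)⟩

lemma single_x (m : M) (v : Fin 1 → R) : (single (R := R) m).x v = v 0 • m := rfl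

/-- the object `R² → M` -/
def pair (m m' : M) : Obj R M :=
  ⟨2, (LinearMap.toSpanSingleton R M m) ∘ₗ (LinearMap.proj 0) +
    (LinearMap.toSpanSingleton R M m') ∘ₗ (LinearMap.proj 1)⟩

lemma pair_x (m m' : M) (v : Fin 2 → R) : (pair (R := R) m m').x v = v 0 • m + v 1 • m' := rfl

/-- any vector gives a morphism from a `single` -/
def toObj (a : Obj R M) (v : Fin a.n → R) : single (a.x v) ⟶ a :=
  ⟨((LinearMap.toSpanSingleton R (Fin a.n → R) v) ∘ₗ (LinearMap.proj (0 : Fin 1)) :
      (Fin 1 → R) →ₗ[R] (Fin a.n → R)), by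
    refine LinearMap.ext (fun (w : Fin 1 → R) => ?_)
    change a.x (w 0 • v) = w 0 • a.x v
    exact map_smul _ _ _⟩

lemma toObj_val (a : Obj R M) (v : Fin a.n → R) (w : Fin 1 → R) :
    (toObj a v).1 w = w 0 • v := rfl

/-- first inclusion into a pair -/
def pairInl (m m' : M) : single m ⟶ pair (R := R) m m' :=
  ⟨(LinearMap.pi ![LinearMap.proj (0 : Fin 1), 0] : (Fin 1 → R) →ₗ[R] (Fin 2 → R)), by
    refine LinearMap.ext (fun (w : Fin 1 → R) => ?_)
    change (![LinearMap.proj (0 : Fin 1), 0] 0 : (Fin 1 → R) →ₗ[R] R) w • m +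
      (![LinearMap.proj (0 : Fin 1), 0] 1 : (Fin 1 → R) →ₗ[R] R) w • m' = w 0 • m
    simp⟩

/-- second inclusion into a pair -/
def pairInr (m m' : M) : single m' ⟶ pair (R := R) m m' :=
  ⟨(LinearMap.pi ![0, LinearMap.proj (0 : Fin 1)] : (Fin 1 → R) →ₗ[R] (Fin 2 → R)), by
    refine LinearMap.ext (fun (w : Fin 1 → R) => ?_)
    change (![0, LinearMap.proj (0 : Fin 1)] 0 : (Fin 1 → R) →ₗ[R] R) w • m +
      (![0, LinearMap.proj (0 : Fin 1)] 1 : (Fin 1 → R) →ₗ[R] R) w • m' = w 0 • m'
    simp⟩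

/-- diagonal into a pair -/
def pairDiag (m m' : M) : single (m + m') ⟶ pair (R := R) m m' :=
  ⟨(LinearMap.pi ![LinearMap.proj (0 : Fin 1), LinearMap.proj (0 : Fin 1)] :
      (Fin 1 → R) →ₗ[R] (Fin 2 → R)), by
    refine LinearMap.ext (fun (w : Fin 1 → R) => ?_)
    change (![LinearMap.proj (0 : Fin 1), LinearMap.proj (0 : Fin 1)] 0 :
        (Fin 1 → R) →ₗ[R] R) w • m +
      (![LinearMap.proj (0 : Fin 1), LinearMap.proj (0 : Fin 1)] 1 :
        (Fin 1 → R) →ₗ[R] R) w • m' = w 0 • (m + m')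
    simp [smul_add]⟩

/-- the constant vector 1 -/
abbrev one1 : Fin 1 → R := fun _ => 1

lemma pairInl_one (m m' : M) : (pairInl (R := R) m m').1 one1 = ![1, 0] := by
  funext i
  fin_cases i <;> rfl

lemma pairInr_one (m m' : M) : (pairInr (R := R) m m').1 one1 = ![0, 1] := by
  funext i
  fin_cases i <;> rfl

lemma pairDiag_one (m m' : M) : (pairDiag (R := R) m m').1 one1 = ![1, 1] := by
  funext i
  fin_cases i <;> rfl

section Colimit

variable (s : Cocone (D (R := R) (M := M)))

lemma ι_map {a b : Obj R M} (f : a ⟶ b) (v : Fin a.n → R) :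
    (s.ι.app b).hom (f.1 v) = (s.ι.app a).hom v := by
  have := s.w f
  exact congrArg (fun φ => φ.hom v) this

/-- value of the descent map -/
def descFun (m : M) : s.pt := (s.ι.app (single m)).hom one1

lemma pair_vec_add (m m' : M) : (pairDiag (R := R) m m').1 one1 =
    (pairInl (R := R) m m').1 one1 + (pairInr (R := R) m m').1 one1 := by
  have : ∀ i : Fin 2, ((pairDiag (R := R) m m').1 one1 : Fin 2 → R) i =
      (((pairInl (R := R) m m').1 one1 : Fin 2 → R) i +
        ((pairInr (R := R) m m').1 one1 : Fin 2 → R) i) := by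
    intro i
    fin_cases i
    · change (1 : R) = 1 + 0
      rw [add_zero]
    · change (1 : R) = 0 + 1
      rw [zero_add]
  funext i
  exact this i

lemma descFun_add (m m' : M) : descFun s (m + m') = descFun s m + descFun s m' := by
  unfold descFun
  rw [← ι_map s (pairDiag m m'), ← ι_map s (pairInl m m'), ← ι_map s (pairInr m m'),
    pair_vec_add]
  exact map_add (s.ι.app (pair m m')).hom _ _

/-- scaling morphism -/
def scale (r : R) (m : M) : single (r • m) ⟶ single (R := R) m :=
  ⟨(r • LinearMap.id : (Fin 1 → R) →ₗ[R] (Fin 1 → R)), by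
    refine LinearMap.ext (fun (w : Fin 1 → R) => ?_)
    change (r • w) 0 • m = w 0 • (r • m)
    rw [Pi.smul_apply, smul_eq_mul, mul_comm, mul_smul]⟩

lemma descFun_smul (r : R) (m : M) : descFun s (r • m) = r • descFun s m := by
  unfold descFun
  rw [← ι_map s (scale r m)]
  exact map_smul (s.ι.app (single m)).hom r (one1 : Fin 1 → R)

/-- the descent map -/
def descLin : M →ₗ[R] s.pt where
  toFun := descFun s
  map_add' := descFun_add s
  map_smul' := descFun_smul s

lemma descLin_x (a : Obj R M) (v : Fin a.n → R) :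
    descLin s (a.x v) = (s.ι.app a).hom v := by
  change (s.ι.app (single (a.x v))).hom one1 = _
  rw [← ι_map s (toObj a v), toObj_val]
  simp

end Colimit

/-- the cocone is a colimit cocone -/
def isColimit : IsColimit (cocone (R := R) (M := M)) where
  desc s := ModuleCat.ofHom (descLin s)
  fac s a := by
    ext v
    exact descLin_x s a v
  uniq s m hm := by
    apply ModuleCat.hom_ext
    refine LinearMap.ext (fun x => ?_)
    have h1 : (single (R := R) x).x one1 = x := by simp [single_x]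
    have := congrArg (fun φ => φ.hom one1) (hm (single x))
    change m.hom ((single x).x one1) = _ at this
    exact (congrArg m.hom h1.symm).trans this

section Filtered

/-- `R^(p+q) ≃ R^p × R^q` -/
def sumEquiv (p q : ℕ) : (Fin (p + q) → R) ≃ₗ[R] (Fin p → R) × (Fin q → R) :=
  (LinearEquiv.funCongrLeft R R finSumFinEquiv) ≪≫ₗ
    (LinearEquiv.sumArrowLequivProdArrow (Fin p) (Fin q) R R)

/-- sum of two objects -/
def sumObj (a b : Obj R M) : Obj R M :=
  ⟨a.n + b.n, (a.x.coprod b.x) ∘ₗ (sumEquiv a.n b.n).toLinearMap⟩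

/-- left inclusion -/
def sumInl (a b : Obj R M) : a ⟶ sumObj a b :=
  ⟨((sumEquiv a.n b.n).symm.toLinearMap ∘ₗ LinearMap.inl R (Fin a.n → R) (Fin b.n → R) :
      (Fin a.n → R) →ₗ[R] (Fin (a.n + b.n) → R)), by
    refine LinearMap.ext (fun v => ?_)
    change (a.x.coprod b.x) ((sumEquiv a.n b.n) ((sumEquiv a.n b.n).symm (v, 0))) = a.x v
    rw [LinearEquiv.apply_symm_apply, LinearMap.coprod_apply, map_zero, add_zero]⟩

/-- right inclusion -/
def sumInr (a b : Obj R M) : b ⟶ sumObj a b :=
  ⟨((sumEquiv a.n b.n).symm.toLinearMap ∘ₗ LinearMap.inr R (Fin a.n → R) (Fin b.n → R) :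
      (Fin b.n → R) →ₗ[R] (Fin (a.n + b.n) → R)), by
    refine LinearMap.ext (fun v => ?_)
    change (a.x.coprod b.x) ((sumEquiv a.n b.n) ((sumEquiv a.n b.n).symm (0, v))) = b.x v
    rw [LinearEquiv.apply_symm_apply, LinearMap.coprod_apply, map_zero, zero_add]⟩

lemma exists_coeq [Module.Flat R M] {a b : Obj R M} (f g : a ⟶ b) :
    ∃ (c : Obj R M) (h : b ⟶ c), f ≫ h = g ≫ h := by
  have hz : b.x ∘ₗ (f.1 - g.1) = 0 := by rw [LinearMap.comp_sub, f.2, g.2, sub_self]
  obtain ⟨k, a', y, hxy, ha'⟩ := Module.Flat.exists_factorization_of_comp_eq_zero_of_free hz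
  let e := Finsupp.linearEquivFunOnFinite R R (Fin k)
  refine ⟨⟨k, y ∘ₗ e.symm.toLinearMap⟩, ⟨e.toLinearMap ∘ₗ a', ?_⟩, ?_⟩
  · rw [hxy]
    refine LinearMap.ext (fun v => ?_)
    change y (e.symm (e (a' v))) = y (a' v)
    rw [LinearEquiv.symm_apply_apply]
  · apply hom_ext
    have h0 : (e.toLinearMap ∘ₗ a') ∘ₗ (f.1 - g.1) = 0 := by
      rw [LinearMap.comp_assoc, ha', LinearMap.comp_zero]
    rw [LinearMap.comp_sub, sub_eq_zero] at h0
    exact h0

instance [Module.Flat R M] : IsFiltered (Obj R M) where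
  cocone_objs a b := ⟨sumObj a b, sumInl a b, sumInr a b, trivial⟩
  cocone_maps a b f g := by
    obtain ⟨c, h, hh⟩ := exists_coeq f g
    exact ⟨c, h, hh⟩
  nonempty := ⟨⟨0, 0⟩⟩

end Filtered

end

theorem lazard (R : Type u) [CommRing R] (M : Type u) [AddCommGroup M] [Module R M] :
    Module.Flat R M ↔
      ∃ (J : Type u) (_ : Preorder J) (_ : IsDirected J (fun a b => a ≤ b)) (_ : Nonempty J)
        (F : J ⥤ ModuleCat.{u} R), (∀ j, Module.Finite R (F.obj j) ∧ Module.Free R (F.obj j)) ∧
        Nonempty (Limits.colimit F ≅ ModuleCat.of R M) := by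
  constructor
  · intro hflat
    obtain ⟨α, hα, hdir, hne, Φ, hΦ⟩ := IsFiltered.exists_directed (Obj R M)
    refine ⟨α, inferInstance, hdir, hne, Φ ⋙ D, fun j => ⟨?_, ?_⟩, ⟨?_⟩⟩
    · exact inferInstanceAs (Module.Finite R (Fin (Φ.obj j).n → R))
    · exact inferInstanceAs (Module.Free R (Fin (Φ.obj j).n → R))
    · exact (Functor.Final.colimitIso Φ (D (R := R) (M := M))) ≪≫
        (colimit.isoColimitCocone ⟨cocone (R := R) (M := M), isColimit⟩)
  · rintro ⟨J, hJ, hdir, hne, F, hF, ⟨e⟩⟩
    have hfil : IsFiltered J := inferInstance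
    let G : J → Type u := fun j => F.obj j
    let t : ∀ i j, i ≤ j → G i →ₗ[R] G j := fun i j h => (F.map (homOfLE h)).hom
    let uu : ∀ i, G i →ₗ[R] M := fun i => (colimit.ι F i ≫ e.hom).hom
    have hflat : ∀ i, Module.Flat R (G i) := fun i => by
      have := (hF i).2
      exact inferInstanceAs (Module.Flat R (F.obj i))
    refine H19.DirLimFlat.flat_of_directed G t uu ?_ ?_ ?_
    · intro i j h x
      have hw := colimit.w F (homOfLE h)
      change e.hom.hom ((colimit.ι F j).hom ((F.map (homOfLE h)).hom x)) =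
        e.hom.hom ((colimit.ι F i).hom x)
      rw [← hw]
      rfl
    · intro l
      obtain ⟨j, y, hy⟩ := Concrete.colimit_exists_rep F (e.inv.hom l)
      refine ⟨j, y, ?_⟩
      change e.hom.hom ((colimit.ι F j).hom y) = l
      have hy' : (colimit.ι F j).hom y = e.inv.hom l := hy
      rw [hy']
      exact congrArg (fun φ => φ.hom l) e.inv_hom_id
    · intro i g hg
      have hg' : e.hom.hom ((colimit.ι F i).hom g) = 0 := hg
      have h1 : (colimit.ι F i).hom g = 0 := by
        have := congrArg e.inv.hom hg'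
        rw [map_zero] at this
        rw [← this]
        exact (congrArg (fun φ => φ.hom ((colimit.ι F i).hom g)) e.hom_inv_id).symm
      have h0 : (colimit.ι F i) g = (colimit.ι F i) (0 : F.obj i) := by
        change (colimit.ι F i).hom g = (colimit.ι F i).hom 0
        rw [h1, map_zero]
      obtain ⟨k, f, f', hk⟩ := (Concrete.colimit_rep_eq_iff_exists F g (0 : F.obj i)).mp h0
      refine ⟨k, leOfHom f, ?_⟩
      change (F.map (homOfLE (leOfHom f))).hom g = 0
      have hk' : (F.map f).hom g = (F.map f').hom 0 := hk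
      rw [map_zero] at hk'
      exact hk'

end Groth.Agent.H77.Lazard

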