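import Mathlib

/-!
# Localization of a module as a filtered colimit, and functors commuting with filtered colimits
-/

set_option autoImplicit false
universe u

namespace Groth.Agent.H77.LocColim

open CategoryTheory CategoryTheory.Limits

noncomputable section

variable {A : Type u} [CommRing A] (S : Submonoid A)

/-- the indexing category: elements of `S`, morphisms `s ⟶ s'` are `t` with `s * t = s'` -/
structure SCat where
  val : S

variable {S}

instance : Category.{u} (SCat S) where
  Hom s s' := {t : S // s.val * t = s'.val}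
  id s := ⟨1, mul_one _⟩
  comp f g := ⟨f.1 * g.1, by rw [← mul_assoc, f.2, g.2]⟩
  id_comp f := Subtype.ext (one_mul _)
  comp_id f := Subtype.ext (mul_one _)
  assoc f g h := Subtype.ext (mul_assoc _ _ _)

lemma hom_ext' {s s' : SCat S} (f g : s ⟶ s') (h : f.1 = g.1) : f = g := Subtype.ext h

lemma comp_val {s s' s'' : SCat S} (f : s ⟶ s') (g : s' ⟶ s'') : (f ≫ g).1 = f.1 * g.1 := rfl

instance : IsFiltered (SCat S) where
  nonempty := ⟨⟨1⟩⟩
  cocone_objs s s' := ⟨⟨s.val * s'.val⟩, ⟨s'.val, rfl⟩, ⟨s.val, mul_comm _ _⟩, trivial⟩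
  cocone_maps s s' f g := ⟨⟨s'.val * s.val⟩, ⟨s.val, rfl⟩, by
    apply hom_ext'
    rw [comp_val, comp_val]
    change f.1 * s.val = g.1 * s.val
    rw [mul_comm f.1, mul_comm g.1, f.2, g.2]⟩

variable (S) (M : ModuleCat.{u} A)

/-- the constant diagram with multiplication maps -/
def F : SCat S ⥤ ModuleCat.{u} A where
  obj _ := M
  map f := ModuleCat.ofHom (LinearMap.lsmul A M (f.1 : A))
  map_id s := by
    ext m
    exact one_smul A m
  map_comp f g := by
    ext m
    change ((f.1 * g.1 : S) : A) • m = (g.1 : A) • ((f.1 : A) • m)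
    rw [Submonoid.coe_mul, mul_comm, mul_smul]

/-- the legs `m ↦ m / s` -/
def leg (s : S) : M →ₗ[A] LocalizedModule S M :=
  LocalizedModule.divBy s ∘ₗ LocalizedModule.mkLinearMap S M

lemma leg_apply (s : S) (m : M) : leg S M s m = LocalizedModule.mk m s := by
  change LocalizedModule.divBy s (LocalizedModule.mk m 1) = _
  rw [LocalizedModule.divBy_apply, LocalizedModule.liftOn_mk, one_mul]

lemma leg_one : leg S M 1 = LocalizedModule.mkLinearMap S M := by
  ext m
  rw [leg_apply]
  rfl

/-- the cocone -/
def cocone : Cocone (F S M) where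
  pt := ModuleCat.of A (LocalizedModule S M)
  ι :=
    { app s := ModuleCat.ofHom (leg S M s.val)
      naturality s s' f := by
        ext m
        change leg S M s'.val ((f.1 : A) • (m : M)) = leg S M s.val (m : M)
        rw [leg_apply, leg_apply]
        have h := LocalizedModule.mk_cancel_common_right s.val f.1 (m : M)
        rw [f.2, Submonoid.smul_def] at h
        exact h }

/-- the cocone is a colimit -/
def isColimit : IsColimit (cocone S M) := by
  apply isColimitOfReflects (forget (ModuleCat.{u} A))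
  apply Types.FilteredColimit.isColimitOf
  · intro x
    induction (x : LocalizedModule S M) using LocalizedModule.induction_on with
    | h m s => exact ⟨⟨s⟩, m, (leg_apply S M s m).symm⟩
  · intro i j xi xj h
    have h' : LocalizedModule.mk (xi : M) i.val = LocalizedModule.mk (xj : M) j.val := by
      rw [← leg_apply, ← leg_apply]
      exact h
    obtain ⟨u, hu⟩ := LocalizedModule.mk_eq.mp h'
    refine ⟨⟨i.val * j.val * u⟩, ⟨j.val * u, (mul_assoc _ _ _).symm⟩,
      ⟨i.val * u, by rw [← mul_assoc, mul_comm j.val]⟩, ?_⟩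
    change ((j.val * u : S) : A) • (xi : M) = ((i.val * u : S) : A) • (xj : M)
    rw [← Submonoid.smul_def, ← Submonoid.smul_def, mul_comm j.val, mul_comm i.val, mul_smul,
      mul_smul]
    exact hu

section Functor

variable {S}
variable (T : ModuleCat.{u} A ⥤ ModuleCat.{u} A) [T.Additive] [T.Linear A]

lemma T_map_lsmul (a : A) (X : ModuleCat.{u} A) (y : T.obj X) :
    (T.map (ModuleCat.ofHom (LinearMap.lsmul A X a))).hom y = a • y := by
  have h1 : ModuleCat.ofHom (LinearMap.lsmul A X a) = a • 𝟙 X := by
    ext x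
    rfl
  rw [h1, Functor.map_smul, T.map_id]
  rfl

lemma T_map_smul_apply (a : A) {X Y : ModuleCat.{u} A} (f : X ⟶ Y) (y : T.obj X) :
    (T.map (a • f)).hom y = a • (T.map f).hom y := by
  rw [Functor.map_smul]
  rfl

variable (S)

theorem main07
    (hT : ∀ (J : Type u) [SmallCategory J] [IsFiltered J], PreservesColimitsOfShape J T)
    (M : ModuleCat.{u} A) :
    IsLocalizedModule S (T.map (ModuleCat.ofHom (LocalizedModule.mkLinearMap S M) :
      M ⟶ ModuleCat.of A (LocalizedModule S M))).hom := by
  have hpres := hT (SCat S)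
  let X : ModuleCat.{u} A := ModuleCat.of A (LocalizedModule S M)
  have hTc : IsColimit (T.mapCocone (cocone S M)) := isColimitOfPreserves T (isColimit S M)
  have hleg1 : (ModuleCat.ofHom (LocalizedModule.mkLinearMap S M) : M ⟶ X) =
      (cocone S M).ι.app ⟨1⟩ := by
    change _ = ModuleCat.ofHom (leg S M 1)
    rw [leg_one]
  refine ⟨?_, ?_, ?_⟩
  · -- units
    intro s
    rw [Module.End.isUnit_iff]
    let φ : X ⟶ X := ModuleCat.ofHom (LinearMap.lsmul A X (s : A))
    let ψ : X ⟶ X := ModuleCat.ofHom (LocalizedModule.divBy s)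
    have h1 : φ ≫ ψ = 𝟙 X := by
      ext p
      exact LocalizedModule.divBy_mul_by s p
    have h2 : ψ ≫ φ = 𝟙 X := by
      ext p
      exact LocalizedModule.mul_by_divBy s p
    have hφ : ∀ y : T.obj X, (T.map φ).hom y = (s : A) • y := T_map_lsmul T (s : A) X
    have e12 : T.map φ ≫ T.map ψ = 𝟙 (T.obj X) := by rw [← T.map_comp, h1, T.map_id]
    have e21 : T.map ψ ≫ T.map φ = 𝟙 (T.obj X) := by rw [← T.map_comp, h2, T.map_id]
    constructor
    · intro y y' hyy
      have e1 : (T.map φ).hom y = (T.map φ).hom y' := by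
        rw [hφ, hφ]
        exact hyy
      have e2 := congrArg (T.map ψ).hom e1
      have hc : ∀ z : T.obj X, (T.map ψ).hom ((T.map φ).hom z) = z :=
        fun z => congrArg (fun f => f.hom z) e12
      rw [hc, hc] at e2
      exact e2
    · intro y
      refine ⟨(T.map ψ).hom y, ?_⟩
      have hc : (T.map φ).hom ((T.map ψ).hom y) = y := congrArg (fun f => f.hom y) e21
      rw [Module.algebraMap_end_apply, ← hφ]
      exact hc
  · -- surjectivity
    intro y
    obtain ⟨s, x, hx⟩ := Concrete.isColimit_exists_rep (F S M ⋙ T) hTc y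
    let ιs : M ⟶ X := (cocone S M).ι.app s
    let x' : T.obj M := x
    refine ⟨⟨x', s.val⟩, ?_⟩
    have hx' : (T.map ιs).hom x' = y := hx
    have hsl : ((s.val : S) : A) • ιs =
        (ModuleCat.ofHom (LocalizedModule.mkLinearMap S M) : M ⟶ X) := by
      ext m
      change ((s.val : S) : A) • leg S M s.val m = LocalizedModule.mkLinearMap S M m
      rw [leg_apply, LocalizedModule.smul'_mk, ← Submonoid.smul_def, LocalizedModule.mk_cancel]
      rfl
    have h3 := T_map_smul_apply T ((s.val : S) : A) ιs x'
    rw [hsl, hx'] at h3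
    exact h3.symm
  · -- injectivity up to S
    intro x₁ x₂ h
    rw [hleg1] at h
    have h' : (T.mapCocone (cocone S M)).ι.app ⟨1⟩ x₁ = (T.mapCocone (cocone S M)).ι.app ⟨1⟩ x₂ := h
    obtain ⟨k, f, g, hk⟩ :=
      (Concrete.isColimit_rep_eq_iff_exists (F S M ⋙ T) hTc x₁ x₂).mp h'
    refine ⟨k.val, ?_⟩
    have hf : (f.1 : S) = k.val := by
      have := f.2
      rwa [one_mul] at this
    have hg : (g.1 : S) = k.val := by
      have := g.2
      rwa [one_mul] at this
    have hk' : (T.map (ModuleCat.ofHom (LinearMap.lsmul A M (f.1 : A)))).hom x₁ =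
        (T.map (ModuleCat.ofHom (LinearMap.lsmul A M (g.1 : A)))).hom x₂ := hk
    rw [T_map_lsmul, T_map_lsmul, hf, hg] at hk'
    exact hk'

end Functor

end

end Groth.Agent.H77.LocColim
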