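import Groth.Prelude.Def_ProCons
import Mathlib

namespace Groth.Agent.H77

open AlgebraicGeometry CategoryTheory Topology TopologicalSpace
open scoped Set.Notation

universe u

/-- Preimages of constructible sets under morphisms of affine schemes. -/
lemma isConstructible_preimage_of_isAffine {X Y : Scheme.{u}} [IsAffine X] [IsAffine Y]
    (h : X ⟶ Y) {s : Set Y} (hs : IsConstructible s) : IsConstructible (h ⁻¹' s) := by
  have hsp : IsSpectralMap h := Scheme.Hom.isSpectralMap h
  refine hs.preimage hsp.continuous fun t ht htr => ?_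
  exact (hsp.isCompact_preimage_of_isOpen ht htr.isCompact).isRetrocompact
    (ht.preimage hsp.continuous)

lemma exists_affine_nbhd (X : Scheme.{u}) (U : X.Opens) (x : X) (hx : x ∈ U) :
    ∃ V : X.Opens, IsAffineOpen V ∧ x ∈ V ∧ V ≤ U :=
  (Opens.isBasis_iff_nbhd.mp X.isBasis_affineOpens) hx

/-- Preimages of locally constructible sets under morphisms of schemes are locally constructible. -/
lemma isLocallyConstructible_preimage {X Y : Scheme.{u}} (f : X ⟶ Y) {s : Set Y}
    (hs : IsLocallyConstructible s) : IsLocallyConstructible (f ⁻¹' s) := by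
  intro x
  obtain ⟨V, hV, hxV, -⟩ := exists_affine_nbhd Y ⊤ (f x) trivial
  obtain ⟨W, hW, hxW, hWV⟩ := exists_affine_nbhd X (f ⁻¹ᵁ V) x hxV
  refine ⟨W, W.2.mem_nhds hxW, W.2, ?_⟩
  have : IsAffine V.toScheme := hV
  have : IsAffine W.toScheme := hW
  have h1 : IsLocallyConstructible ((V : Set Y) ↓∩ s) :=
    hs.preimage_of_isOpenEmbedding V.2.isOpenEmbedding_subtypeVal
  have h2 : IsConstructible ((V : Set Y) ↓∩ s) :=
    IsLocallyConstructible.isConstructible (X := V.toScheme) h1
  have h3 := isConstructible_preimage_of_isAffine (f.resLE V W hWV) h2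
  have h4 : (W : Set X) ↓∩ (f ⁻¹' s) =
      (fun w : W => f.resLE V W hWV w) ⁻¹' ((V : Set Y) ↓∩ s) := by
    ext w
    have := Scheme.Hom.coe_resLE_apply f hWV w
    constructor
    · intro hw
      change (f.resLE V W hWV w).1 ∈ s
      rw [this]
      exact hw
    · intro hw
      change (f.resLE V W hWV w).1 ∈ s at hw
      rw [this] at hw
      exact hw
  rw [h4]
  exact h3

end Groth.Agent.H77
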