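import Mathlib
import Groth.Agent.H77.LocColim

/-!
# Exactness of a linear functor commuting with filtered colimits is local on maximal ideals
-/

set_option autoImplicit false
universe u

namespace Groth.Agent.H77.LocExact

open CategoryTheory CategoryTheory.Limits

noncomputable section

variable {A : Type u} [CommRing A] (P : Ideal A) [P.IsPrime]

/-- restriction of scalars from `A_P` to `A` -/
abbrev Lm : ModuleCat.{u} (Localization.AtPrime P) ⥤ ModuleCat.{u} A :=
  ModuleCat.restrictScalars (algebraMap A (Localization.AtPrime P))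

/-- localized object in `ModuleCat A_P` -/
def locAP (M : ModuleCat.{u} A) : ModuleCat.{u} (Localization.AtPrime P) :=
  ModuleCat.of (Localization.AtPrime P) (LocalizedModule P.primeCompl M)

/-- localized map, `A_P`-linear -/
def locMap {M N : ModuleCat.{u} A} (f : M ⟶ N) : locAP P M ⟶ locAP P N :=
  ModuleCat.ofHom (IsLocalizedModule.mapExtendScalars P.primeCompl
    (LocalizedModule.mkLinearMap P.primeCompl M) (LocalizedModule.mkLinearMap P.primeCompl N)
    (Localization.AtPrime P) f.hom)

lemma locMap_apply {M N : ModuleCat.{u} A} (f : M ⟶ N) (x : LocalizedModule P.primeCompl M) :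
    (locMap P f).hom x = IsLocalizedModule.map P.primeCompl
      (LocalizedModule.mkLinearMap P.primeCompl M) (LocalizedModule.mkLinearMap P.primeCompl N)
      f.hom x := rfl

/-- comparison of the two `A`-module structures on the localized module -/
def εEquiv (M : ModuleCat.{u} A) :
    LocalizedModule P.primeCompl M ≃ₗ[A] ((Lm P).obj (locAP P M)) where
  toFun x := x
  invFun x := x
  map_add' _ _ := rfl
  map_smul' a x := (IsScalarTower.algebraMap_smul (Localization.AtPrime P) a x).symm
  left_inv _ := rfl
  right_inv _ := rfl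

/-- the iso in `ModuleCat A` -/
def ε (M : ModuleCat.{u} A) :
    ModuleCat.of A (LocalizedModule P.primeCompl M) ≅ (Lm P).obj (locAP P M) :=
  (εEquiv P M).toModuleIso

/-- the localization map into the restricted object -/
def toLoc (M : ModuleCat.{u} A) : M ⟶ (Lm P).obj (locAP P M) :=
  (ModuleCat.ofHom (LocalizedModule.mkLinearMap P.primeCompl M) :
    M ⟶ ModuleCat.of A (LocalizedModule P.primeCompl M)) ≫ (ε P M).hom

lemma toLoc_apply (M : ModuleCat.{u} A) (m : M) :
    (toLoc P M).hom m = (LocalizedModule.mk m 1 : LocalizedModule P.primeCompl M) := rfl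

lemma toLoc_naturality {M N : ModuleCat.{u} A} (f : M ⟶ N) :
    toLoc P M ≫ (Lm P).map (locMap P f) = f ≫ toLoc P N := by
  ext m
  change (locMap P f).hom (LocalizedModule.mkLinearMap P.primeCompl M m) =
    LocalizedModule.mkLinearMap P.primeCompl N (f.hom m)
  rw [locMap_apply, IsLocalizedModule.map_apply]

section Functor

variable (T : ModuleCat.{u} A ⥤ ModuleCat.{u} A) [T.Additive] [T.Linear A]
  (hT : ∀ (J : Type u) [SmallCategory J] [IsFiltered J], PreservesColimitsOfShape J T)

include hT in
lemma isLocalizedModule_toLoc (M : ModuleCat.{u} A) :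
    IsLocalizedModule P.primeCompl (T.map (toLoc P M)).hom := by
  have h1 := LocColim.main07 P.primeCompl T hT M
  have h2 : (T.map (toLoc P M)).hom =
      ((T.mapIso (ε P M)).toLinearEquiv : _ →ₗ[A] _) ∘ₗ
        (T.map (ModuleCat.ofHom (LocalizedModule.mkLinearMap P.primeCompl M) :
          M ⟶ ModuleCat.of A (LocalizedModule P.primeCompl M))).hom := by
    rw [toLoc, T.map_comp, ModuleCat.hom_comp]
    rfl
  rw [h2]
  exact IsLocalizedModule.of_linearEquiv P.primeCompl _ _

include hT in
lemma map_eq {M N : ModuleCat.{u} A} (f : M ⟶ N) :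
    haveI := isLocalizedModule_toLoc P T hT M
    haveI := isLocalizedModule_toLoc P T hT N
    IsLocalizedModule.map P.primeCompl (T.map (toLoc P M)).hom (T.map (toLoc P N)).hom
      (T.map f).hom = (T.map ((Lm P).map (locMap P f))).hom := by
  have := isLocalizedModule_toLoc P T hT M
  have := isLocalizedModule_toLoc P T hT N
  apply IsLocalizedModule.linearMap_ext P.primeCompl (T.map (toLoc P M)).hom
    (T.map (toLoc P N)).hom
  rw [IsLocalizedModule.map_comp, ← ModuleCat.hom_comp, ← ModuleCat.hom_comp, ← T.map_comp,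
    ← T.map_comp, toLoc_naturality]

end Functor

section ShortExact

variable {P}
variable {S : ShortComplex (ModuleCat.{u} A)} (hS : S.ShortExact)

/-- the localized short complex over `A_P` -/
def locSC (P : Ideal A) [P.IsPrime] (S : ShortComplex (ModuleCat.{u} A)) :
    ShortComplex (ModuleCat.{u} (Localization.AtPrime P)) :=
  ShortComplex.mk (locMap P S.f) (locMap P S.g) (by
    ext x
    change (locMap P S.g).hom ((locMap P S.f).hom x) = 0
    rw [locMap_apply, locMap_apply, ← LinearMap.comp_apply, ← IsLocalizedModule.map_comp',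
      ← ModuleCat.hom_comp, S.zero, ModuleCat.hom_zero, map_zero, LinearMap.zero_apply]
    rfl)

include hS in
lemma locSC_shortExact : (locSC P S).ShortExact := by
  have hex : Function.Exact S.f.hom S.g.hom :=
    (ShortComplex.ShortExact.moduleCat_exact_iff_function_exact S).mp hS.exact
  have hinj : Function.Injective S.f.hom := (ModuleCat.mono_iff_injective _).mp hS.mono_f
  have hsurj : Function.Surjective S.g.hom := (ModuleCat.epi_iff_surjective _).mp hS.epi_g
  have h1 := IsLocalizedModule.map_exact P.primeCompl
    (LocalizedModule.mkLinearMap P.primeCompl S.X₁) (LocalizedModule.mkLinearMap P.primeCompl S.X₂)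
    (LocalizedModule.mkLinearMap P.primeCompl S.X₃) S.f.hom S.g.hom hex
  have h2 := IsLocalizedModule.map_injective P.primeCompl
    (LocalizedModule.mkLinearMap P.primeCompl S.X₁) (LocalizedModule.mkLinearMap P.primeCompl S.X₂)
    S.f.hom hinj
  have h3 := IsLocalizedModule.map_surjective P.primeCompl
    (LocalizedModule.mkLinearMap P.primeCompl S.X₂) (LocalizedModule.mkLinearMap P.primeCompl S.X₃)
    S.g.hom hsurj
  refine ShortComplex.ShortExact.mk' ?_ ?_ ?_
  · rw [ShortComplex.ShortExact.moduleCat_exact_iff_function_exact]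
    exact h1
  · exact (ModuleCat.mono_iff_injective _).mpr h2
  · exact (ModuleCat.epi_iff_surjective _).mpr h3

end ShortExact

section Main

variable (T : ModuleCat.{u} A ⥤ ModuleCat.{u} A) [T.Additive] [T.Linear A]
  (hT : ∀ (J : Type u) [SmallCategory J] [IsFiltered J], PreservesColimitsOfShape J T)

include hT in
lemma exact_of_local {X Y Z : ModuleCat.{u} A} (f : X ⟶ Y) (g : Y ⟶ Z)
    (H : ∀ (P : Ideal A) [P.IsMaximal], Function.Exact
      (T.map ((Lm P).map (locMap P f))).hom (T.map ((Lm P).map (locMap P g))).hom) :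
    Function.Exact (T.map f).hom (T.map g).hom := by
  have i1 : ∀ (P : Ideal A) [P.IsMaximal],
      IsLocalizedModule P.primeCompl (T.map (toLoc P X)).hom :=
    fun P _ => isLocalizedModule_toLoc P T hT X
  have i2 : ∀ (P : Ideal A) [P.IsMaximal],
      IsLocalizedModule P.primeCompl (T.map (toLoc P Y)).hom :=
    fun P _ => isLocalizedModule_toLoc P T hT Y
  have i3 : ∀ (P : Ideal A) [P.IsMaximal],
      IsLocalizedModule P.primeCompl (T.map (toLoc P Z)).hom :=
    fun P _ => isLocalizedModule_toLoc P T hT Z
  refine @exact_of_isLocalized_maximal A _ _ _ _ _ _ _ _ _ _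
    (fun (P : Ideal A) [P.IsMaximal] => T.obj ((Lm P).obj (locAP P X))) _ _
    (fun (P : Ideal A) [P.IsMaximal] => (T.map (toLoc P X)).hom) i1
    (fun (P : Ideal A) [P.IsMaximal] => T.obj ((Lm P).obj (locAP P Y))) _ _
    (fun (P : Ideal A) [P.IsMaximal] => (T.map (toLoc P Y)).hom) i2
    (fun (P : Ideal A) [P.IsMaximal] => T.obj ((Lm P).obj (locAP P Z))) _ _
    (fun (P : Ideal A) [P.IsMaximal] => (T.map (toLoc P Z)).hom) i3
    (T.map f).hom (T.map g).hom ?_
  intro P _
  have e1 := map_eq P T hT f
  have e2 := map_eq P T hT g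
  rw [e1, e2]
  exact H P

include hT in
lemma injective_of_local {X Y : ModuleCat.{u} A} (f : X ⟶ Y)
    (H : ∀ (P : Ideal A) [P.IsMaximal], Function.Injective
      (T.map ((Lm P).map (locMap P f))).hom) :
    Function.Injective (T.map f).hom := by
  have i1 : ∀ (P : Ideal A) [P.IsMaximal],
      IsLocalizedModule P.primeCompl (T.map (toLoc P X)).hom :=
    fun P _ => isLocalizedModule_toLoc P T hT X
  have i2 : ∀ (P : Ideal A) [P.IsMaximal],
      IsLocalizedModule P.primeCompl (T.map (toLoc P Y)).hom :=
    fun P _ => isLocalizedModule_toLoc P T hT Y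
  refine @injective_of_isLocalized_maximal A _ _ _ _ _ _ _
    (fun (P : Ideal A) [P.IsMaximal] => T.obj ((Lm P).obj (locAP P X))) _ _
    (fun (P : Ideal A) [P.IsMaximal] => (T.map (toLoc P X)).hom) i1
    (fun (P : Ideal A) [P.IsMaximal] => T.obj ((Lm P).obj (locAP P Y))) _ _
    (fun (P : Ideal A) [P.IsMaximal] => (T.map (toLoc P Y)).hom) i2
    (T.map f).hom ?_
  intro P _
  have e1 := map_eq P T hT f
  rw [e1]
  exact H P

include hT in
lemma surjective_of_local {X Y : ModuleCat.{u} A} (f : X ⟶ Y)
    (H : ∀ (P : Ideal A) [P.IsMaximal], Function.Surjective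
      (T.map ((Lm P).map (locMap P f))).hom) :
    Function.Surjective (T.map f).hom := by
  have i1 : ∀ (P : Ideal A) [P.IsMaximal],
      IsLocalizedModule P.primeCompl (T.map (toLoc P X)).hom :=
    fun P _ => isLocalizedModule_toLoc P T hT X
  have i2 : ∀ (P : Ideal A) [P.IsMaximal],
      IsLocalizedModule P.primeCompl (T.map (toLoc P Y)).hom :=
    fun P _ => isLocalizedModule_toLoc P T hT Y
  refine @surjective_of_isLocalized_maximal A _ _ _ _ _ _ _
    (fun (P : Ideal A) [P.IsMaximal] => T.obj ((Lm P).obj (locAP P X))) _ _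
    (fun (P : Ideal A) [P.IsMaximal] => (T.map (toLoc P X)).hom) i1
    (fun (P : Ideal A) [P.IsMaximal] => T.obj ((Lm P).obj (locAP P Y))) _ _
    (fun (P : Ideal A) [P.IsMaximal] => (T.map (toLoc P Y)).hom) i2
    (T.map f).hom ?_
  intro P _
  have e1 := map_eq P T hT f
  rw [e1]
  exact H P

include hT in
theorem main_limits
    (h : ∀ (m : Ideal A) [m.IsMaximal], PreservesFiniteLimits (Lm m ⋙ T)) :
    PreservesFiniteLimits T := by
  rw [Functor.preservesFiniteLimits_iff_forall_exact_map_and_mono]
  intro S hS
  have key : ∀ (m : Ideal A) [m.IsMaximal],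
      ((locSC m S).map (Lm m ⋙ T)).Exact ∧ Mono ((Lm m ⋙ T).map (locSC m S).f) := by
    intro m _
    have := h m
    exact (Functor.preservesFiniteLimits_iff_forall_exact_map_and_mono (Lm m ⋙ T)).mp inferInstance
      (locSC m S) (locSC_shortExact hS)
  constructor
  · rw [ShortComplex.ShortExact.moduleCat_exact_iff_function_exact]
    refine exact_of_local T hT S.f S.g ?_
    intro P _
    have h1 := (key P).1
    rw [ShortComplex.ShortExact.moduleCat_exact_iff_function_exact] at h1
    exact h1
  · rw [ModuleCat.mono_iff_injective]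
    refine injective_of_local T hT S.f ?_
    intro P _
    have h1 := (key P).2
    rw [ModuleCat.mono_iff_injective] at h1
    exact h1

include hT in
theorem main_colimits
    (h : ∀ (m : Ideal A) [m.IsMaximal], PreservesFiniteColimits (Lm m ⋙ T)) :
    PreservesFiniteColimits T := by
  rw [Functor.preservesFiniteColimits_iff_forall_exact_map_and_epi]
  intro S hS
  have key : ∀ (m : Ideal A) [m.IsMaximal],
      ((locSC m S).map (Lm m ⋙ T)).Exact ∧ Epi ((Lm m ⋙ T).map (locSC m S).g) := by
    intro m _
    have := h m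
    exact (Functor.preservesFiniteColimits_iff_forall_exact_map_and_epi (Lm m ⋙ T)).mp inferInstance
      (locSC m S) (locSC_shortExact hS)
  constructor
  · rw [ShortComplex.ShortExact.moduleCat_exact_iff_function_exact]
    refine exact_of_local T hT S.f S.g ?_
    intro P _
    have h1 := (key P).1
    rw [ShortComplex.ShortExact.moduleCat_exact_iff_function_exact] at h1
    exact h1
  · rw [ModuleCat.epi_iff_surjective]
    refine surjective_of_local T hT S.g ?_
    intro P _
    have h1 := (key P).2
    rw [ModuleCat.epi_iff_surjective] at h1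
    exact h1

end Main

end

end Groth.Agent.H77.LocExact
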