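import Groth.Agent.H31.ExtZeroUnit
import Groth.Agent.H31.QuotOnExact
import Groth.Agent.H31.ExtZeroS
import Groth.Agent.H77.MonoTransf

/-!
# Injectivity of sheaves of modules is local (helper77)

One step of the transfinite argument: if `F|_U` is injective and `p : A ⟶ B` is a monomorphism which is
not an isomorphism over `U`, then `A ⟶ A + j_!(B|_U) ⟶ B` is a factorisation whose first map is not
invertible and has the extension property for morphisms to `F`.
-/

set_option autoImplicit false
set_option linter.unusedSectionVars false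
set_option linter.style.haveILetI false

universe u

namespace Groth.Agent.H77.LocInj

open CategoryTheory Category Limits ZeroObject

section Cat

variable {𝒜 ℬ : Type*} [Category 𝒜] [Category ℬ] [Abelian 𝒜] [Abelian ℬ]
  {L : ℬ ⥤ 𝒜} {R : 𝒜 ⥤ ℬ} (adj : L ⊣ R)
  (h1 : ∀ T : 𝒜, Mono (adj.counit.app T))
  (h2 : L.PreservesMonomorphisms)
  (h3 : ∀ {P : 𝒜} {N : ℬ} (m : P ⟶ L.obj N) [Mono m], Epi (adj.counit.app P))

include h1 in
lemma isIso_map_counit (T : 𝒜) : IsIso (R.map (adj.counit.app T)) := by
  haveI : R.PreservesMonomorphisms := Functor.preservesMonomorphisms_of_adjunction adj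
  haveI := h1 T
  haveI : Mono (R.map (adj.counit.app T)) := inferInstance
  haveI : IsSplitEpi (R.map (adj.counit.app T)) :=
    ⟨⟨adj.unit.app (R.obj T), adj.right_triangle_components T⟩⟩
  exact isIso_of_mono_of_isSplitEpi _

include h1 h2 h3 in
lemma isPullback_counit {A B : 𝒜} (p : A ⟶ B) [Mono p] :
    IsPullback (adj.counit.app A) (L.map (R.map p)) p (adj.counit.app B) := by
  haveI hRm : R.PreservesMonomorphisms := Functor.preservesMonomorphisms_of_adjunction adj
  haveI hLe : L.PreservesEpimorphisms := Functor.preservesEpimorphisms_of_adjunction adj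
  haveI := h1 B
  have w : adj.counit.app A ≫ p = L.map (R.map p) ≫ adj.counit.app B :=
    (adj.counit.naturality p).symm
  let φ : L.obj (R.obj A) ⟶ pullback p (adj.counit.app B) :=
    pullback.lift (adj.counit.app A) (L.map (R.map p)) w
  have hφ1 : φ ≫ pullback.fst _ _ = adj.counit.app A := pullback.lift_fst _ _ _
  have hφ2 : φ ≫ pullback.snd _ _ = L.map (R.map p) := pullback.lift_snd _ _ _
  haveI : Mono (L.map (R.map p)) := inferInstance
  haveI hφm : Mono φ := mono_of_mono_fac hφ2
  -- `R φ` is invertible
  haveI hfm : Mono (pullback.fst p (adj.counit.app B)) := inferInstance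
  haveI hRfm : Mono (R.map (pullback.fst p (adj.counit.app B))) := inferInstance
  haveI hRε : IsIso (R.map (adj.counit.app A)) := isIso_map_counit adj h1 A
  have hR1 : R.map φ ≫ R.map (pullback.fst p (adj.counit.app B)) = R.map (adj.counit.app A) := by
    rw [← R.map_comp, hφ1]
  haveI hRfe : Epi (R.map (pullback.fst p (adj.counit.app B))) := by
    haveI : Epi (R.map φ ≫ R.map (pullback.fst p (adj.counit.app B))) := by
      rw [hR1]; infer_instance
    exact epi_of_epi (R.map φ) _
  haveI hRfi : IsIso (R.map (pullback.fst p (adj.counit.app B))) := isIso_of_mono_of_epi _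
  haveI hRφ : IsIso (R.map φ) := by
    have : R.map φ = R.map (adj.counit.app A) ≫ inv (R.map (pullback.fst p (adj.counit.app B))) := by
      rw [← hR1, assoc, IsIso.hom_inv_id, comp_id]
    rw [this]; infer_instance
  -- `φ` is an epimorphism
  haveI hsm : Mono (pullback.snd p (adj.counit.app B)) := inferInstance
  haveI hεP : Epi (adj.counit.app (pullback p (adj.counit.app B))) :=
    h3 (pullback.snd p (adj.counit.app B))
  have hnat : L.map (R.map φ) ≫ adj.counit.app (pullback p (adj.counit.app B)) =
      adj.counit.app (L.obj (R.obj A)) ≫ φ := adj.counit.naturality φ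
  haveI hφe : Epi φ := by
    haveI : Epi (adj.counit.app (L.obj (R.obj A)) ≫ φ) := by
      rw [← hnat]; infer_instance
    exact epi_of_epi (adj.counit.app (L.obj (R.obj A))) φ
  haveI : IsIso φ := isIso_of_mono_of_epi φ
  exact IsPullback.of_iso_pullback ⟨w⟩ (asIso φ) hφ1 hφ2

include h1 h2 h3 in
/-- One step of the transfinite argument. -/
theorem exists_step (F : 𝒜) (hF : Injective (R.obj F)) {A B : 𝒜} (p : A ⟶ B) [Mono p]
    (hp : ¬ IsIso (R.map p)) :
    ∃ (X' : 𝒜) (i : A ⟶ X') (p' : X' ⟶ B), HasLiftingProperty i (0 : F ⟶ 0) ∧ ¬ IsIso i ∧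
      Mono p' ∧ i ≫ p' = p := by
  haveI hRm : R.PreservesMonomorphisms := Functor.preservesMonomorphisms_of_adjunction adj
  have w : adj.counit.app A ≫ p = L.map (R.map p) ≫ adj.counit.app B :=
    (adj.counit.naturality p).symm
  -- the lifting property
  haveI hRl : PreservesLimitsOfSize.{0, 0} R := adj.rightAdjoint_preservesLimits
  have hZ : IsZero (R.obj (0 : 𝒜)) := by
    have ht : IsTerminal (R.obj (0 : 𝒜)) :=
      IsTerminal.isTerminalObj R _ (isZero_zero 𝒜).isTerminal
    exact IsZero.of_iso (isZero_zero ℬ) (ht.uniqueUpToIso HasZeroObject.zeroIsTerminal)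
  haveI hl1 : HasLiftingProperty (R.map p) (R.map (0 : F ⟶ 0)) :=
    (injective_iff_rlp_monomorphisms_of_isZero (R.map (0 : F ⟶ 0)) hZ).1 hF (R.map p)
      (inferInstanceAs (Mono (R.map p)))
  haveI hl2 : HasLiftingProperty (L.map (R.map p)) (0 : F ⟶ 0) :=
    (adj.hasLiftingProperty_iff (R.map p) (0 : F ⟶ 0)).2 hl1
  refine ⟨pushout (adj.counit.app A) (L.map (R.map p)), pushout.inl _ _,
    pushout.desc p (adj.counit.app B) w, inferInstance, ?_, ?_, pushout.inl_desc _ _ _⟩
  · intro hi
    apply hp
    haveI := hi
    have h := pushout.inl_desc p (adj.counit.app B) w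
    have h' := pushout.inr_desc p (adj.counit.app B) w
    have hd : pushout.desc p (adj.counit.app B) w =
        inv (pushout.inl (adj.counit.app A) (L.map (R.map p))) ≫ p :=
      (IsIso.eq_inv_comp _).2 h
    have e : (pushout.inr (adj.counit.app A) (L.map (R.map p)) ≫
        inv (pushout.inl (adj.counit.app A) (L.map (R.map p)))) ≫ p = adj.counit.app B := by
      rw [assoc, ← hd, h']
    haveI hRε : IsIso (R.map (adj.counit.app B)) := isIso_map_counit adj h1 B
    have e2 : R.map (pushout.inr (adj.counit.app A) (L.map (R.map p)) ≫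
        inv (pushout.inl (adj.counit.app A) (L.map (R.map p)))) ≫ R.map p =
        R.map (adj.counit.app B) := by
      rw [← R.map_comp, e]
    haveI : Epi (R.map p) := by
      haveI : Epi (R.map (pushout.inr (adj.counit.app A) (L.map (R.map p)) ≫
        inv (pushout.inl (adj.counit.app A) (L.map (R.map p)))) ≫ R.map p) := by
        rw [e2]; infer_instance
      exact epi_of_epi (R.map (pushout.inr (adj.counit.app A) (L.map (R.map p)) ≫
        inv (pushout.inl (adj.counit.app A) (L.map (R.map p))))) _
    haveI : Mono (R.map p) := inferInstance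
    exact isIso_of_mono_of_epi _
  · exact (IsPushout.of_hasPushout (adj.counit.app A) (L.map (R.map p))).mono_of_isPullback_of_mono
      (isPullback_counit adj h1 h2 h3 p) _ (pushout.inl_desc _ _ _) (pushout.inr_desc _ _ _)

end Cat

section Site

open Groth.Agent.H31

variable {C : Type u} [SmallCategory C] {J : GrothendieckTopology C}
  (O : Sheaf J CommRingCat.{u}) (U : C) [ModSite.HasPushOver O U]

lemma epi_counit_of_mono {P : ModSite.Mod O} {N : ModSite.Mod (O.over U)}
    (m : P ⟶ (ModSite.extZero O U).obj N) [Mono m] :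
    Epi ((ModSite.extZeroAdj O U).counit.app P) := by
  haveI := QuotOnExact.mono_quotOn_map (O := O) (U := U) m
  haveI hse : IsSplitEpi ((ModSite.extZeroAdj O U).counit.app ((ModSite.extZero O U).obj N)) :=
    ⟨⟨(ModSite.extZero O U).map ((ModSite.extZeroAdj O U).unit.app N),
      (ModSite.extZeroAdj O U).left_triangle_components N⟩⟩
  have hz : IsZero ((ModSite.quotOn O U).obj ((ModSite.extZero O U).obj N)) := by
    change IsZero (cokernel ((ModSite.extZeroAdj O U).counit.app _))
    exact isZero_cokernel_of_epi _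
  have hz' : IsZero ((ModSite.quotOn O U).obj P) :=
    IsZero.of_mono ((ModSite.quotOn O U).map m) hz
  exact Preadditive.epi_of_isZero_cokernel _ hz'

/-- One step of the transfinite argument, on a ringed site, for a subterminal object `U`. -/
theorem exists_step_site (hU : ∀ V : C, Subsingleton (V ⟶ U)) (F : ModSite.Mod O)
    (hF : Injective ((ModSite.restr O U).obj F)) {A B : ModSite.Mod O} (p : A ⟶ B) [Mono p]
    (hp : ¬ IsIso ((ModSite.restr O U).map p)) :
    ∃ (X' : ModSite.Mod O) (i : A ⟶ X') (p' : X' ⟶ B),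
      HasLiftingProperty i (0 : F ⟶ 0) ∧ ¬ IsIso i ∧ Mono p' ∧ i ≫ p' = p :=
  exists_step (ModSite.extZeroAdj O U) (fun T => ExtZeroUnit.mono_counit hU T)
    (ExtZero.preservesMonomorphisms_extZero U O) (fun m _ => epi_counit_of_mono O U m) F hF p hp

end Site

end Groth.Agent.H77.LocInj
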