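import Groth.Agent.H77.LocInj
import Groth.Agent.H33.SheafMod.Grothendieck
import Mathlib.AlgebraicGeometry.Modules.Sheaf

/-!
# Injectivity of modules on a scheme is local (helper77)
-/

set_option autoImplicit false
set_option linter.unusedSectionVars false
set_option linter.style.haveILetI false

universe u

namespace Groth.Agent.H77.LocInjSch

open CategoryTheory Category Limits ZeroObject AlgebraicGeometry TopologicalSpace Opposite

variable {X : Scheme.{u}}

lemma section_eq_zero_of_isZero_restrict (Q : X.Modules) (U : X.Opens)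
    (hz : IsZero ((Scheme.Modules.restrictFunctor U.ι).obj Q)) (W' : U.toScheme.Opens)
    (t : Γ(Q, U.ι ''ᵁ W')) : t = 0 := by
  have h : (𝟙 ((Scheme.Modules.restrictFunctor U.ι).obj Q)) = 0 := hz.eq_of_src _ _
  have h2 := congrArg (fun φ => (Scheme.Modules.Hom.app φ W').hom t) h
  exact h2

theorem isZero_of_isZero_restrict (Q : X.Modules)
    (h : ∀ x : X, ∃ U : X.Opens, x ∈ U ∧ IsZero ((Scheme.Modules.restrictFunctor U.ι).obj Q)) :
    IsZero Q := by
  rw [IsZero.iff_id_eq_zero]
  apply Scheme.Modules.hom_ext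
  intro W
  apply AddCommGrpCat.hom_ext
  apply AddMonoidHom.ext
  intro s
  change s = 0
  choose U hxU hz using h
  let Qs : TopCat.Sheaf AddCommGrpCat X.toTopCat := ⟨Q.presheaf, Q.isSheaf⟩
  have hle : ∀ x : W, (U x.1).ι ''ᵁ ((U x.1).ι ⁻¹ᵁ W) ≤ W := fun x => by
    rw [Scheme.Hom.image_preimage_eq_opensRange_inf]
    exact inf_le_right
  refine TopCat.Sheaf.eq_of_locally_eq' Qs (fun x : W => (U x.1).ι ''ᵁ ((U x.1).ι ⁻¹ᵁ W)) W
    (fun x => homOfLE (hle x)) ?_ s 0 (fun x => ?_)
  · intro x hx
    refine Opens.mem_iSup.mpr ⟨⟨x, hx⟩, ?_⟩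
    rw [Scheme.Hom.image_preimage_eq_opensRange_inf]
    exact ⟨by simpa using hxU x, hx⟩
  · rw [map_zero]
    exact section_eq_zero_of_isZero_restrict Q (U x.1) (hz x.1) _ _

theorem isIso_of_isIso_restrict {A B : X.Modules} (p : A ⟶ B) [Mono p]
    (h : ∀ x : X, ∃ U : X.Opens, x ∈ U ∧ IsIso ((Scheme.Modules.restrictFunctor U.ι).map p)) :
    IsIso p := by
  have hz : IsZero (cokernel p) := by
    apply isZero_of_isZero_restrict
    intro x
    obtain ⟨U, hxU, hU⟩ := h x
    refine ⟨U, hxU, ?_⟩
    haveI : PreservesColimitsOfSize.{0, 0} (Scheme.Modules.restrictFunctor U.ι) :=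
      (Scheme.Modules.restrictAdjunction U.ι).leftAdjoint_preservesColimits
    haveI : (Scheme.Modules.restrictFunctor U.ι).PreservesZeroMorphisms :=
      Functor.preservesZeroMorphisms_of_preserves_initial_object
    have e := PreservesCokernel.iso (Scheme.Modules.restrictFunctor U.ι) p
    exact IsZero.of_iso (isZero_cokernel_of_epi _) e
  haveI : Epi p := Preadditive.epi_of_isZero_cokernel _ hz
  exact isIso_of_mono_of_epi p

/-- **Injectivity of modules on a scheme is a local property.** -/
theorem injective_of_locally_injective (F : X.Modules)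
    (hF : ∀ x : X, ∃ U : X.Opens, x ∈ U ∧
      Injective ((Scheme.Modules.restrictFunctor U.ι).obj F)) :
    Injective F := by
  haveI : IsGrothendieckAbelian.{u} X.Modules :=
    Groth.Agent.H33.SheafMod.isGrothendieckAbelian _ X.ringCatSheaf
  apply MonoTransf.injective_of_steps F
  intro A B p hm hp
  obtain ⟨V, hFV, hpV⟩ : ∃ V : X.Opens,
      Injective ((Scheme.Modules.restrictFunctor V.ι).obj F) ∧
        ¬ IsIso ((Scheme.Modules.restrictFunctor V.ι).map p) := by
    by_contra hcon
    push Not at hcon
    apply hp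
    apply isIso_of_isIso_restrict p
    intro x
    obtain ⟨U, hxU, hU⟩ := hF x
    exact ⟨U, hxU, hcon U hU⟩
  have hF' : Injective ((ModSite.restr X.sheaf V).obj F) := by
    have e : (Scheme.Modules.overEquiv V).functor.obj ((ModSite.restr X.sheaf V).obj F) ≅
        (Scheme.Modules.restrictFunctor V.ι).obj F := (Scheme.Modules.overFunctorEquiv V).app F
    have h1 : Injective ((Scheme.Modules.overEquiv V).functor.obj
        ((ModSite.restr X.sheaf V).obj F)) := Injective.of_iso e.symm hFV
    exact ((Scheme.Modules.overEquiv V).map_injective_iff _).1 h1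
  have hp' : ¬ IsIso ((ModSite.restr X.sheaf V).map p) := by
    intro h
    apply hpV
    have hE : (Scheme.Modules.overEquiv V).functor.IsEquivalence :=
      (Scheme.Modules.overEquiv V).isEquivalence_functor
    rw [← NatIso.isIso_map_iff (Scheme.Modules.overFunctorEquiv V) p]
    change IsIso ((Scheme.Modules.overEquiv V).functor.map ((ModSite.restr X.sheaf V).map p))
    exact @Functor.map_isIso _ _ _ _ _ _ (Scheme.Modules.overEquiv V).functor
      ((ModSite.restr X.sheaf V).map p) h
  haveI hm' : Mono (C := ModSite.Mod X.sheaf) p := hm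
  exact LocInj.exists_step_site X.sheaf V (fun W => inferInstance) F hF' p hp'

end Groth.Agent.H77.LocInjSch
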