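import Mathlib

set_option autoImplicit false
set_option linter.unusedSectionVars false
open Polynomial

namespace Groth.Agent.H77.LogConn

universe u

section Theta

variable {R : Type u} [CommRing R] {r : ℕ} (θ : Fin r → R)

/-- the constants `c i = ∏_{k ≠ i} (θ i - θ k)` -/
noncomputable def cc (i : Fin r) : R := ∏ k ∈ Finset.univ.erase i, (θ i - θ k)

variable {θ}

lemma isUnit_cc (hθ : ∀ i k, i ≠ k → IsUnit (θ i - θ k)) (i : Fin r) : IsUnit (cc θ i) := by
  unfold cc
  rw [IsUnit.prod_iff]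
  intro k hk
  exact hθ i k (Finset.ne_of_mem_erase hk).symm

lemma eval_Theta (i : Fin r) : (∏ k, (X - C (θ k))).eval (θ i) = 0 := by
  rw [eval_prod]
  apply Finset.prod_eq_zero (Finset.mem_univ i)
  simp

lemma eval_derivative_Theta (i : Fin r) :
    (derivative (∏ k, (X - C (θ k)))).eval (θ i) = cc θ i := by
  classical
  rw [derivative_prod_finset, eval_finsetSum]
  rw [Finset.sum_eq_single i]
  · simp [cc, eval_prod]
  · intro b _ hb
    rw [eval_mul, eval_prod]
    have : ∏ j ∈ Finset.univ.erase b, eval (θ i) (X - C (θ j)) = 0 := by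
      apply Finset.prod_eq_zero (Finset.mem_erase.mpr ⟨hb.symm, Finset.mem_univ i⟩)
      simp
    rw [this, zero_mul]
  · intro h; exact absurd (Finset.mem_univ i) h

lemma Theta_dvd_of_eval_eq_zero (hθ : ∀ i k, i ≠ k → IsUnit (θ i - θ k)) (p : R[X])
    (h : ∀ i, p.eval (θ i) = 0) : (∏ k, (X - C (θ k))) ∣ p := by
  classical
  suffices H : ∀ s : Finset (Fin r), (∏ k ∈ s, (X - C (θ k))) ∣ p from H Finset.univ
  intro s
  induction s using Finset.induction_on with
  | empty => simp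
  | insert a s ha ih =>
    obtain ⟨q, hq⟩ := ih
    have hqa : q.eval (θ a) = 0 := by
      have h1 := h a
      rw [hq, eval_mul, eval_prod] at h1
      have hu : IsUnit (∏ k ∈ s, eval (θ a) (X - C (θ k))) := by
        rw [IsUnit.prod_iff]
        intro k hk
        simp only [eval_sub, eval_X, eval_C]
        exact hθ a k (fun hak => ha (hak ▸ hk))
      exact (hu.mul_right_eq_zero).mp h1
    have : (X - C (θ a)) ∣ q := dvd_iff_isRoot.mpr hqa
    obtain ⟨q', hq'⟩ := this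
    rw [Finset.prod_insert ha, hq, hq']
    exact ⟨q', by ring⟩

/-- Lagrange basis polynomials -/
noncomputable def lag (hθ : ∀ i k, i ≠ k → IsUnit (θ i - θ k)) (i : Fin r) : R[X] :=
  C (((isUnit_cc hθ i).unit⁻¹ : Rˣ) : R) * ∏ k ∈ Finset.univ.erase i, (X - C (θ k))

lemma eval_lag_self (hθ : ∀ i k, i ≠ k → IsUnit (θ i - θ k)) (i : Fin r) :
    (lag hθ i).eval (θ i) = 1 := by
  unfold lag
  rw [eval_mul, eval_C, eval_prod]
  have : ∏ k ∈ Finset.univ.erase i, eval (θ i) (X - C (θ k)) = cc θ i := by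
    simp [cc]
  rw [this]
  exact (isUnit_cc hθ i).val_inv_mul

lemma eval_lag_ne (hθ : ∀ i k, i ≠ k → IsUnit (θ i - θ k)) {i l : Fin r} (hil : l ≠ i) :
    (lag hθ i).eval (θ l) = 0 := by
  unfold lag
  rw [eval_mul, eval_prod]
  have : ∏ k ∈ Finset.univ.erase i, eval (θ l) (X - C (θ k)) = 0 := by
    apply Finset.prod_eq_zero (Finset.mem_erase.mpr ⟨hil, Finset.mem_univ l⟩)
    simp
  rw [this, mul_zero]

end Theta


section CH

variable {R : Type u} [CommRing R] {M : Type*} [AddCommGroup M] [Module R M] [Module.Free R M]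
  [Module.Finite R M]

lemma bijective_sub_smul_of_isUnit_eval (f : M →ₗ[R] M) (a : R)
    (h : IsUnit (f.charpoly.eval a)) : Function.Bijective (fun m : M => f m - a • m) := by
  obtain ⟨q, hq⟩ := X_sub_C_dvd_sub_C_eval (p := f.charpoly) (a := a)
  have h1 := congr_arg (aeval f) hq
  rw [map_sub, LinearMap.aeval_self_charpoly, zero_sub, aeval_C, map_mul, map_sub, aeval_X,
    aeval_C] at h1
  have h2 : aeval f q * (f - algebraMap R (Module.End R M) a) =
      (f - algebraMap R (Module.End R M) a) * aeval f q := by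
    have e1 : f - algebraMap R (Module.End R M) a = aeval f (X - C a) := by
      rw [map_sub, aeval_X, aeval_C]
    rw [e1, ← map_mul, ← map_mul, mul_comm]
  set Q := aeval f q with hQ
  obtain ⟨u, hu⟩ := h
  have hgx : ∀ x : M, f (Q x) - a • Q x = -(u : R) • x := by
    intro x
    have := LinearMap.congr_fun h1 x
    simp only [Module.End.mul_apply, LinearMap.sub_apply, LinearMap.neg_apply,
      Module.algebraMap_end_apply] at this
    rw [← this, hu, neg_smul]
  have hxg : ∀ x : M, Q (f x - a • x) = -(u : R) • x := by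
    intro x
    have := LinearMap.congr_fun (h2.trans h1.symm) x
    simp only [Module.End.mul_apply, LinearMap.sub_apply, LinearMap.neg_apply,
      Module.algebraMap_end_apply] at this
    rw [this, hu, neg_smul]
  constructor
  · intro x y hxy
    simp only at hxy
    have h3 : Q (f x - a • x) = Q (f y - a • y) := by rw [hxy]
    rw [hxg, hxg] at h3
    have h4 : (u : R) • x = (u : R) • y := by
      have := congr_arg Neg.neg h3
      simpa using this
    have := congr_arg (fun z => ((u⁻¹ : Rˣ) : R) • z) h4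
    simpa [smul_smul] using this
  · intro y
    refine ⟨Q (-((u⁻¹ : Rˣ) : R) • y), ?_⟩
    simp only
    rw [hgx, smul_smul]
    simp

end CH

section Module

variable {R : Type u} [CommRing R] {r d : ℕ} (θ : Fin r → R)

/-- evaluation of a vector of polynomials at `θ i` -/
def ev (i : Fin r) (v : Fin d → R[X]) : Fin d → R := fun j => (v j).eval (θ i)

/-- constant vector -/
noncomputable def cst (m : Fin d → R) : Fin d → R[X] := fun j => C (m j)

@[simp] lemma ev_add (i : Fin r) (v w : Fin d → R[X]) : ev θ i (v + w) = ev θ i v + ev θ i w := by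
  ext j; simp [ev]

@[simp] lemma ev_sub (i : Fin r) (v w : Fin d → R[X]) : ev θ i (v - w) = ev θ i v - ev θ i w := by
  ext j; simp [ev]

@[simp] lemma ev_zero (i : Fin r) : ev θ i (0 : Fin d → R[X]) = 0 := by
  ext j; simp [ev]

@[simp] lemma ev_smul (i : Fin r) (p : R[X]) (v : Fin d → R[X]) :
    ev θ i (p • v) = p.eval (θ i) • ev θ i v := by
  ext j; simp [ev]

lemma ev_sum {ι : Type*} (s : Finset ι) (i : Fin r) (f : ι → (Fin d → R[X])) :
    ev θ i (∑ a ∈ s, f a) = ∑ a ∈ s, ev θ i (f a) := by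
  classical
  induction s using Finset.induction_on with
  | empty => simp
  | insert a s ha ih => rw [Finset.sum_insert ha, Finset.sum_insert ha, ev_add, ih]

@[simp] lemma ev_cst (i : Fin r) (m : Fin d → R) : ev θ i (cst m) = m := by
  ext j; simp [ev, cst]

lemma decomp (v : Fin d → R[X]) : v = ∑ j, (v j) • cst (Pi.single j (1 : R)) := by
  classical
  ext j
  rw [Finset.sum_apply]
  simp only [Pi.smul_apply, cst, smul_eq_mul]
  rw [Finset.sum_eq_single j]
  · simp
  · intro b _ hb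
    rw [Pi.single_apply, if_neg hb.symm]
    simp
  · intro h; exact absurd (Finset.mem_univ j) h

lemma decomp' (m : Fin d → R) : m = ∑ j, (m j) • (Pi.single j (1 : R) : Fin d → R) := by
  conv_lhs => rw [← Finset.univ_sum_single m]
  apply Finset.sum_congr rfl
  intro b _
  rw [← Pi.single_smul, smul_eq_mul, mul_one]

variable (Θ : R[X]) (hΘ : Θ = ∏ i, (X - C (θ i)))
  (D₀ : (Fin d → R[X]) →+ (Fin d → R[X]))
  (hD₀ : ∀ (p : R[X]) (v : Fin d → R[X]), D₀ (p • v) = (Θ * derivative p) • v + p • D₀ v)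
  (Res : Fin r → ((Fin d → R) →ₗ[R] (Fin d → R)))
  (hRes : ∀ (i : Fin r) (m : Fin d → R) (j : Fin d),
      (D₀ (fun j => C (m j)) j).eval (θ i) =
        (∏ k ∈ Finset.univ.erase i, (θ i - θ k)) * Res i m j)

include hΘ hD₀ hRes in
lemma ev_D₀ (i : Fin r) (v : Fin d → R[X]) :
    ev θ i (D₀ v) = cc θ i • Res i (ev θ i v) := by
  have hcst : ∀ m : Fin d → R, ev θ i (D₀ (cst m)) = cc θ i • Res i m := by
    intro m
    ext j
    exact hRes i m j
  have hΘ0 : Θ.eval (θ i) = 0 := by rw [hΘ]; exact eval_Theta i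
  conv_lhs => rw [decomp v]
  rw [map_sum, ev_sum]
  conv_rhs => rw [decomp' (ev θ i v), map_sum, Finset.smul_sum]
  apply Finset.sum_congr rfl
  intro j _
  rw [hD₀, ev_add, ev_smul, ev_smul, eval_mul, hΘ0, zero_mul, zero_smul, zero_add, hcst,
    map_smul, smul_comm]
  rfl

/-- the operator `D₀ - n Θ'` -/
noncomputable def Tn (n : ℕ) (v : Fin d → R[X]) : Fin d → R[X] :=
  D₀ v - ((n : R[X]) * derivative Θ) • v

include hΘ hD₀ hRes in
lemma ev_Tn (n : ℕ) (i : Fin r) (v : Fin d → R[X]) :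
    ev θ i (Tn Θ D₀ n v) = cc θ i • (Res i (ev θ i v) - (n : R) • ev θ i v) := by
  unfold Tn
  rw [ev_sub, ev_D₀ θ Θ hΘ D₀ hD₀ Res hRes, ev_smul, eval_mul, eval_natCast, hΘ,
    eval_derivative_Theta, smul_sub, smul_smul, mul_comm]

lemma Tn_smul (hD₀' : ∀ (p : R[X]) (v : Fin d → R[X]), D₀ (p • v) = (Θ * derivative p) • v + p • D₀ v)
    (n : ℕ) (p : R[X]) (v : Fin d → R[X]) :
    Tn Θ D₀ n (p • v) = (Θ * derivative p) • v + p • Tn Θ D₀ n v := by
  unfold Tn
  rw [hD₀', smul_sub, smul_smul, smul_smul]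
  rw [mul_comm p]
  abel

lemma exists_eq_smul_of_ev_eq_zero (hθ : ∀ i k, i ≠ k → IsUnit (θ i - θ k))
    (x : Fin d → R[X]) (hx : ∀ i, ev θ i x = 0) : ∃ u' : Fin d → R[X], x = (∏ i, (X - C (θ i))) • u' := by
  have : ∀ j, ∃ q, x j = (∏ i, (X - C (θ i))) * q := by
    intro j
    exact Theta_dvd_of_eval_eq_zero hθ (x j) (fun i => congr_fun (hx i) j)
  choose q hq using this
  exact ⟨q, funext fun j => by simp [hq j]⟩

lemma exists_ev_eq (hθ : ∀ i k, i ≠ k → IsUnit (θ i - θ k)) (m : Fin r → (Fin d → R)) :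
    ∃ v : Fin d → R[X], ∀ i, ev θ i v = m i := by
  classical
  refine ⟨∑ i, lag hθ i • cst (m i), fun l => ?_⟩
  rw [ev_sum, Finset.sum_eq_single l]
  · rw [ev_smul, eval_lag_self, one_smul, ev_cst]
  · intro b _ hb
    rw [ev_smul, eval_lag_ne hθ hb.symm, zero_smul]
  · intro h; exact absurd (Finset.mem_univ l) h

include hΘ hD₀ hRes in
lemma Tn_surj_mod (hθ : ∀ i k, i ≠ k → IsUnit (θ i - θ k)) (n : ℕ)
    (hbij : ∀ i, Function.Bijective (fun m : Fin d → R => Res i m - (n : R) • m))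
    (u : Fin d → R[X]) : ∃ v u' : Fin d → R[X], u = Tn Θ D₀ n v + Θ • u' := by
  have : ∀ i, ∃ m : Fin d → R, Res i m - (n : R) • m =
      (((isUnit_cc hθ i).unit⁻¹ : Rˣ) : R) • ev θ i u := fun i => (hbij i).2 _
  choose m hm using this
  obtain ⟨v, hv⟩ := exists_ev_eq θ hθ m
  have hz : ∀ i, ev θ i (u - Tn Θ D₀ n v) = 0 := by
    intro i
    rw [ev_sub, ev_Tn θ Θ hΘ D₀ hD₀ Res hRes, hv, hm, smul_smul]
    have : cc θ i * (((isUnit_cc hθ i).unit⁻¹ : Rˣ) : R) = 1 := (isUnit_cc hθ i).mul_val_inv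
    rw [this, one_smul, sub_self]
  obtain ⟨u', hu'⟩ := exists_eq_smul_of_ev_eq_zero θ hθ _ hz
  refine ⟨v, u', ?_⟩
  have hu'' : u - Tn Θ D₀ n v = Θ • u' := by rw [hu', ← hΘ]
  rw [← hu'']
  abel

include hΘ hD₀ hRes in
lemma Tn_inj_mod (hθ : ∀ i k, i ≠ k → IsUnit (θ i - θ k)) (n : ℕ)
    (hbij : ∀ i, Function.Bijective (fun m : Fin d → R => Res i m - (n : R) • m))
    (v u' : Fin d → R[X]) (h : Tn Θ D₀ n v = Θ • u') : ∃ v' : Fin d → R[X], v = Θ • v' := by
  rw [hΘ]
  apply exists_eq_smul_of_ev_eq_zero θ hθ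
  intro i
  have h1 : ev θ i (Tn Θ D₀ n v) = 0 := by
    rw [h, ev_smul, hΘ, eval_Theta, zero_smul]
  rw [ev_Tn θ Θ hΘ D₀ hD₀ Res hRes] at h1
  have h2 : Res i (ev θ i v) - (n : R) • ev θ i v = 0 := by
    have := congr_arg (fun z => (((isUnit_cc hθ i).unit⁻¹ : Rˣ) : R) • z) h1
    simp only [smul_smul, smul_zero] at this
    rwa [(isUnit_cc hθ i).val_inv_mul, one_smul] at this
  have h3 : (fun m : Fin d → R => Res i m - (n : R) • m) (ev θ i v) =
      (fun m : Fin d → R => Res i m - (n : R) • m) 0 := by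
    simp only [h2, map_zero, smul_zero, sub_self]
  exact (hbij i).1 h3

end Module


section Loc

variable {R : Type u} [CommRing R] [IsDomain R] {r d : ℕ} (θ : Fin r → R)
  (Θ : R[X])

/-- inclusion of polynomial vectors into the localization -/
noncomputable def inc (v : Fin d → R[X]) : Fin d → Localization.Away Θ :=
  fun j => algebraMap R[X] (Localization.Away Θ) (v j)

lemma inc_smul (p : R[X]) (v : Fin d → R[X]) : inc Θ (p • v) = p • inc Θ v := by
  ext j
  simp only [inc, Pi.smul_apply, smul_eq_mul, map_mul, Algebra.smul_def]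

lemma inc_add (v w : Fin d → R[X]) : inc Θ (v + w) = inc Θ v + inc Θ w := by
  ext j; simp [inc]

lemma inc_sub (v w : Fin d → R[X]) : inc Θ (v - w) = inc Θ v - inc Θ w := by
  ext j; simp [inc]

lemma inc_injective (hΘ0 : Θ ≠ 0) : Function.Injective (inc (d := d) Θ) := by
  intro v w h
  funext j
  have hj := congr_fun h j
  have hinj : Function.Injective (algebraMap R[X] (Localization.Away Θ)) := by
    apply IsLocalization.injective (M := Submonoid.powers Θ)
    apply Submonoid.powers_le.mpr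
    exact mem_nonZeroDivisors_of_ne_zero hΘ0
  exact hinj hj

lemma smul_Theta_cancel (x y : Fin d → Localization.Away Θ) (h : Θ • x = Θ • y) : x = y := by
  ext j
  have hj := congr_fun h j
  simp only [Pi.smul_apply, Algebra.smul_def] at hj
  exact (IsLocalization.Away.algebraMap_isUnit Θ).mul_left_cancel hj

lemma exists_pow_smul_eq_inc (w : Fin d → Localization.Away Θ) :
    ∃ (n : ℕ) (v : Fin d → R[X]), Θ ^ n • w = inc Θ v := by
  obtain ⟨⟨b, n, rfl⟩, hb⟩ := IsLocalization.exist_integer_multiples_of_finite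
    (Submonoid.powers Θ) w
  choose v hv using hb
  refine ⟨n, v, ?_⟩
  ext j
  exact (hv j).symm

lemma exists_smul_eq_inc (n : ℕ) (v : Fin d → R[X]) :
    ∃ w : Fin d → Localization.Away Θ, Θ ^ n • w = inc Θ v := by
  refine ⟨fun j => IsLocalization.mk' (Localization.Away Θ) (v j)
    (⟨Θ ^ n, n, rfl⟩ : Submonoid.powers Θ), ?_⟩
  ext j
  simp only [Pi.smul_apply, inc, Algebra.smul_def]
  rw [mul_comm]
  exact IsLocalization.mk'_spec (Localization.Away Θ) (v j) (⟨Θ ^ n, n, rfl⟩ : Submonoid.powers Θ)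

variable (D₀ : (Fin d → R[X]) →+ (Fin d → R[X]))
  (D : (Fin d → Localization.Away Θ) →+ (Fin d → Localization.Away Θ))
  (hD : ∀ (p : R[X]) (w : Fin d → Localization.Away Θ),
      D (p • w) = (Θ * Polynomial.derivative p) • w + p • D w)
  (hDD₀ : ∀ v : Fin d → R[X], D (inc Θ v) = inc Θ (D₀ v))

include hD hDD₀ in
lemma pow_smul_D (n : ℕ) (w : Fin d → Localization.Away Θ) (v : Fin d → R[X])
    (h : Θ ^ n • w = inc Θ v) : Θ ^ n • D w = inc Θ (Tn Θ D₀ n v) := by
  have h1 := hD (Θ ^ n) w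
  rw [h, hDD₀] at h1
  have h2 : Θ * derivative (Θ ^ n) = ((n : R[X]) * derivative Θ) * Θ ^ n := by
    rw [derivative_pow]
    cases n with
    | zero => simp
    | succ m =>
      simp only [Nat.add_sub_cancel, pow_succ]
      rw [← C_eq_natCast]
      ring
  rw [h2, mul_smul, h] at h1
  unfold Tn
  rw [inc_sub, inc_smul, h1]
  abel

end Loc

section Main

variable {R : Type u} [CommRing R] [IsDomain R] [Algebra ℂ R] {r d : ℕ} (θ : Fin r → R)
  (hθ : ∀ i k, i ≠ k → IsUnit (θ i - θ k))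
  (Θ : R[X]) (hΘ : Θ = ∏ i, (X - C (θ i)))
  (D₀ : (Fin d → R[X]) →+ (Fin d → R[X]))
  (hD₀ : ∀ (p : R[X]) (v : Fin d → R[X]), D₀ (p • v) = (Θ * derivative p) • v + p • D₀ v)
  (D : (Fin d → Localization.Away Θ) →+ (Fin d → Localization.Away Θ))
  (hD : ∀ (p : R[X]) (w : Fin d → Localization.Away Θ),
      D (p • w) = (Θ * Polynomial.derivative p) • w + p • D w)
  (hDD₀ : ∀ v : Fin d → R[X], D (inc Θ v) = inc Θ (D₀ v))
  (Res : Fin r → ((Fin d → R) →ₗ[R] (Fin d → R)))
  (hRes : ∀ (i : Fin r) (m : Fin d → R) (j : Fin d),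
      (D₀ (fun j => C (m j)) j).eval (θ i) =
        (∏ k ∈ Finset.univ.erase i, (θ i - θ k)) * Res i m j)
  (hχ : ∀ i : Fin r, ∃ χ : ℂ[X], (Res i).charpoly = χ.map (algebraMap ℂ R) ∧
      ∀ n : ℤ, n ≠ 0 → χ.eval (n : ℂ) ≠ 0)

include hχ in
lemma hbij (n : ℕ) (i : Fin r) :
    Function.Bijective (fun m : Fin d → R => Res i m - ((n + 1 : ℕ) : R) • m) := by
  apply bijective_sub_smul_of_isUnit_eval
  obtain ⟨χ, hχ1, hχ2⟩ := hχ i
  rw [hχ1]
  have h1 : (((n + 1 : ℕ) : R)) = algebraMap ℂ R (((n + 1 : ℕ) : ℤ) : ℂ) := by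
    rw [Int.cast_natCast, map_natCast]
  rw [h1, eval_map, eval₂_at_apply]
  apply IsUnit.map
  exact isUnit_iff_ne_zero.mpr (hχ2 _ (by exact_mod_cast Nat.succ_ne_zero n))

include hθ hΘ hD₀ hD hDD₀ hRes hχ in
theorem thm02 : ∀ (n : ℕ) (w : Fin d → Localization.Away Θ) (v : Fin d → R[X]),
    Θ ^ n • w = inc Θ v → ∃ (w' : Fin d → Localization.Away Θ) (v' : Fin d → R[X]),
      w = D w' + inc Θ v' := by
  intro n
  induction n with
  | zero =>
    intro w v h
    refine ⟨0, v, ?_⟩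
    rw [pow_zero, one_smul] at h
    rw [map_zero, zero_add, h]
  | succ n ih =>
    intro w v h
    obtain ⟨v₁, u', hv⟩ := Tn_surj_mod θ Θ hΘ D₀ hD₀ Res hRes hθ (n + 1)
      (hbij Res hχ n) v
    obtain ⟨w₁, hw₁⟩ := exists_smul_eq_inc Θ (n + 1) v₁
    have h1 := pow_smul_D Θ D₀ D hD hDD₀ (n + 1) w₁ v₁ hw₁
    have h2 : Θ • (Θ ^ n • (w - D w₁)) = Θ • inc Θ u' := by
      rw [← mul_smul, ← pow_succ', smul_sub, h, h1, ← inc_sub, ← inc_smul]
      congr 1
      rw [hv]
      abel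
    have h3 := smul_Theta_cancel Θ _ _ h2
    obtain ⟨w'', v'', hw''⟩ := ih (w - D w₁) u' h3
    refine ⟨w₁ + w'', v'', ?_⟩
    rw [map_add, add_assoc, ← hw'']
    abel

include hθ hΘ hD₀ hD hDD₀ hRes hχ in
theorem thm03 : ∀ (n : ℕ) (f : Fin d → Localization.Away Θ) (v v₀ : Fin d → R[X]),
    Θ ^ n • f = inc Θ v → D f = inc Θ v₀ → ∃ v' : Fin d → R[X], f = inc Θ v' := by
  have hΘ0 : Θ ≠ 0 := by
    rw [hΘ]
    exact (monic_prod_of_monic _ _ (fun i _ => monic_X_sub_C (θ i))).ne_zero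
  intro n
  induction n with
  | zero =>
    intro f v v₀ h _
    rw [pow_zero, one_smul] at h
    exact ⟨v, h⟩
  | succ n ih =>
    intro f v v₀ h hf
    have h1 := pow_smul_D Θ D₀ D hD hDD₀ (n + 1) f v h
    rw [hf, ← inc_smul] at h1
    have h2 := inc_injective Θ hΘ0 h1
    have h3 : Tn Θ D₀ (n + 1) v = Θ • (Θ ^ n • v₀) := by
      rw [← h2, ← mul_smul, ← pow_succ']
    obtain ⟨v', hv'⟩ := Tn_inj_mod θ Θ hΘ D₀ hD₀ Res hRes hθ (n + 1) (hbij Res hχ n) v _ h3
    have h4 : Θ • (Θ ^ n • f) = Θ • inc Θ v' := by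
      rw [← mul_smul, ← pow_succ', h, hv', inc_smul]
    have h5 := smul_Theta_cancel Θ _ _ h4
    exact ih f v' v₀ h5 hf

end Main

end Groth.Agent.H77.LogConn
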