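import Mathlib

/-!
# Sections of a multiequalizer of `O_X`-modules

For a multicospan index `I` in `X.Modules` and an open `W`, the sections of `multiequalizer I` over `W`
are the families of sections of the `I.left i` over `W` equalized by the two legs.
-/

set_option autoImplicit false
universe u w

open CategoryTheory CategoryTheory.Limits AlgebraicGeometry TopologicalSpace Opposite

namespace Groth.Agent.H77.MultieqSections

section Generic

variable {C : Type*} [Category C] {J : MulticospanShape.{w, w}} (I : MulticospanIndex J C)
  [HasMultiequalizer I] (G : C ⥤ Type w) [PreservesLimit I.multicospan G]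

theorem ext_of_preserves (s t : G.obj (multiequalizer I))
    (h : ∀ i : J.L, G.map (Multiequalizer.ι I i) s = G.map (Multiequalizer.ι I i) t) : s = t := by
  have h2 := isLimitOfPreserves G (limit.isLimit I.multicospan)
  apply (Types.isLimitEquivSections h2).injective
  ext k
  rw [Types.isLimitEquivSections_apply, Types.isLimitEquivSections_apply]
  rcases k with a | b
  · exact h a
  · have hw := limit.w I.multicospan (WalkingMulticospan.Hom.fst b)
    change G.map (limit.π I.multicospan (WalkingMulticospan.right b)) s =
      G.map (limit.π I.multicospan (WalkingMulticospan.right b)) t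
    rw [← hw, G.map_comp]
    change G.map _ (G.map (Multiequalizer.ι I _) s) = G.map _ (G.map (Multiequalizer.ι I _) t)
    rw [h]

theorem exists_of_preserves (x : ∀ i : J.L, G.obj (I.left i))
    (hx : ∀ j : J.R, G.map (I.fst j) (x (J.fst j)) = G.map (I.snd j) (x (J.snd j))) :
    ∃ s : G.obj (multiequalizer I), ∀ i : J.L, G.map (Multiequalizer.ι I i) s = x i := by
  have h2 := isLimitOfPreserves G (limit.isLimit I.multicospan)
  let sec : (I.multicospan ⋙ G).sections :=
    { val := fun k =>
        match k with
        | WalkingMulticospan.left a => x a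
        | WalkingMulticospan.right b => G.map (I.fst b) (x (J.fst b))
      property := by
        rintro (a | b) (a' | b') (f | f | f)
        · rw [WalkingMulticospan.Hom.id_eq_id, (I.multicospan ⋙ G).map_id]; rfl
        · rfl
        · exact (hx b').symm
        · rw [WalkingMulticospan.Hom.id_eq_id, (I.multicospan ⋙ G).map_id]; rfl }
  refine ⟨(Types.isLimitEquivSections h2).symm sec, fun i => ?_⟩
  exact Types.isLimitEquivSections_symm_apply h2 sec (WalkingMulticospan.left i)

end Generic

section Modules

variable {X : Scheme.{u}} {J : MulticospanShape.{u, u}} (I : MulticospanIndex J X.Modules)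
  (W : X.Opens)

/-- sections over `W`, as a functor to types -/
noncomputable abbrev secFunctor (X : Scheme.{u}) (W : X.Opens) : X.Modules ⥤ Type u :=
  Scheme.Modules.toPresheaf X ⋙ (evaluation _ _).obj (op W) ⋙ forget Ab

noncomputable instance secFunctor_preservesLimits (X : Scheme.{u}) (W : X.Opens) :
    PreservesLimitsOfSize.{u, u} (secFunctor X W) :=
  haveI h1 : PreservesLimitsOfSize.{u, u} (Scheme.Modules.toPresheaf X) := inferInstance
  haveI h2 : PreservesLimitsOfSize.{u, u}
      ((evaluation (Opens X)ᵒᵖ Ab.{u}).obj (op W) ⋙ forget Ab.{u}) := inferInstance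
  comp_preservesLimits (Scheme.Modules.toPresheaf X)
    ((evaluation (Opens X)ᵒᵖ Ab.{u}).obj (op W) ⋙ forget Ab.{u})

theorem modules_ext (s t : Γ(multiequalizer I, W))
    (h : ∀ i : J.L, (Multiequalizer.ι I i).app W s = (Multiequalizer.ι I i).app W t) : s = t :=
  ext_of_preserves I (secFunctor X W) s t h

theorem modules_exists (x : ∀ i : J.L, Γ(I.left i, W))
    (hx : ∀ j : J.R, (I.fst j).app W (x (J.fst j)) = (I.snd j).app W (x (J.snd j))) :
    ∃ s : Γ(multiequalizer I, W), ∀ i : J.L, (Multiequalizer.ι I i).app W s = x i :=
  exists_of_preserves I (secFunctor X W) x hx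

end Modules

end Groth.Agent.H77.MultieqSections
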