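import Groth.Agent.H77.NineLemma
import Mathlib

set_option autoImplicit false

universe v u
open CategoryTheory CategoryTheory.Limits

namespace Groth.Agent.H77.NineBij

variable {C : Type u} [Category.{v} C] [Abelian C]

/-- the subobject attached to a (mono) map into homology -/
lemma phi_eq (S : ShortComplex C) {C₁ : C} (s : C₁ ⟶ S.homology) [Mono s] :
    (Subobject.map S.iCycles).obj ((Subobject.pullback S.homologyπ).obj (imageSubobject s)) =
      Subobject.mk (pullback.snd s S.homologyπ ≫ S.iCycles) := by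
  rw [imageSubobject_mono, Subobject.pullback_obj_mk (IsPullback.of_hasPullback s S.homologyπ),
    Subobject.map_mk]

section

variable {A₁ A₂ A₃ B₂ C₁ C₂ C₃ : C}
    (i₁ : A₁ ⟶ A₂) (p₁ : A₂ ⟶ A₃) (wA : i₁ ≫ p₁ = 0) (hA : (ShortComplex.mk i₁ p₁ wA).ShortExact)
    (i₂ : A₂ ⟶ B₂) (π₂ : B₂ ⟶ C₂) (wB : i₂ ≫ π₂ = 0) (hB : (ShortComplex.mk i₂ π₂ wB).ShortExact)
    (j : C₁ ⟶ C₂) (q : C₂ ⟶ C₃) (wC : j ≫ q = 0) (hC : (ShortComplex.mk j q wC).ShortExact)
    (w : (i₁ ≫ i₂) ≫ (π₂ ≫ q) = 0) (h₂ : i₂ ≫ (π₂ ≫ q) = 0) (h₃ : (i₁ ≫ i₂) ≫ π₂ = 0)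
    (f : A₃ ⟶ (ShortComplex.mk (i₁ ≫ i₂) (π₂ ≫ q) w).homology)
    (g : (ShortComplex.mk (i₁ ≫ i₂) (π₂ ≫ q) w).homology ⟶ C₁)
    (hf : p₁ ≫ f = (ShortComplex.mk (i₁ ≫ i₂) (π₂ ≫ q) w).liftCycles i₂ h₂ ≫
      (ShortComplex.mk (i₁ ≫ i₂) (π₂ ≫ q) w).homologyπ)
    (hg : g ≫ j = (ShortComplex.mk (i₁ ≫ i₂) (π₂ ≫ q) w).homologyι ≫
      (ShortComplex.mk (i₁ ≫ i₂) (π₂ ≫ q) w).descOpcycles π₂ h₃)

include hg in
lemma hkey : (ShortComplex.mk (i₁ ≫ i₂) (π₂ ≫ q) w).homologyπ ≫ g ≫ j =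
    (ShortComplex.mk (i₁ ≫ i₂) (π₂ ≫ q) w).iCycles ≫ π₂ := by
  rw [hg, ← Category.assoc, ShortComplex.homology_π_ι, Category.assoc, ShortComplex.p_descOpcycles]

include hC hg in
theorem fwd (B₁ : Subobject B₂)
    (a : A₁ ⟶ (B₁ : C)) (c : (B₁ : C) ⟶ C₁) (wac : a ≫ c = 0)
    (ha : a ≫ B₁.arrow = i₁ ≫ i₂) (hc : c ≫ j = B₁.arrow ≫ π₂)
    (hac : (ShortComplex.mk a c wac).ShortExact) :
    ∃ s : C₁ ⟶ (ShortComplex.mk (i₁ ≫ i₂) (π₂ ≫ q) w).homology, s ≫ g = 𝟙 C₁ ∧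
      (Subobject.map (ShortComplex.mk (i₁ ≫ i₂) (π₂ ≫ q) w).iCycles).obj
        ((Subobject.pullback (ShortComplex.mk (i₁ ≫ i₂) (π₂ ≫ q) w).homologyπ).obj
          (imageSubobject s)) = B₁ := by
  let S := ShortComplex.mk (i₁ ≫ i₂) (π₂ ≫ q) w
  change S.homology ⟶ C₁ at g
  change g ≫ j = S.homologyι ≫ S.descOpcycles π₂ h₃ at hg
  change ∃ s : C₁ ⟶ S.homology, s ≫ g = 𝟙 C₁ ∧
      (Subobject.map S.iCycles).obj ((Subobject.pullback S.homologyπ).obj (imageSubobject s)) = B₁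
  have hk : S.homologyπ ≫ g ≫ j = S.iCycles ≫ π₂ := hkey i₁ i₂ π₂ j q w h₃ g hg
  have : Mono j := hC.mono_f
  have : Epi c := hac.epi_g
  have : Mono a := hac.mono_f
  have hB₁g : B₁.arrow ≫ S.g = 0 := by
    change B₁.arrow ≫ π₂ ≫ q = 0
    rw [← Category.assoc, ← hc, Category.assoc, wC, comp_zero]
  let t : (B₁ : C) ⟶ S.cycles := S.liftCycles B₁.arrow hB₁g
  have ht : t ≫ S.iCycles = B₁.arrow := S.liftCycles_i _ _
  have hat : a ≫ t = S.toCycles := by
    rw [← cancel_mono S.iCycles, Category.assoc, ht, ha, S.toCycles_i]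
  have hatπ : a ≫ t ≫ S.homologyπ = 0 := by
    rw [← Category.assoc, hat, S.toCycles_comp_homologyπ]
  let s : C₁ ⟶ S.homology := hac.exact.desc (t ≫ S.homologyπ) hatπ
  have hcs : c ≫ s = t ≫ S.homologyπ := hac.exact.g_desc _ _
  have hsg : s ≫ g = 𝟙 C₁ := by
    rw [← cancel_epi c, ← cancel_mono j]
    simp only [Category.assoc, Category.id_comp]
    rw [← Category.assoc, hcs, Category.assoc, hk, ← Category.assoc, ht, hc]
  have : Mono s := mono_of_mono_fac hsg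
  have : Mono t := mono_of_mono_fac ht
  refine ⟨s, hsg, ?_⟩
  have hpb : IsPullback c t s S.homologyπ := by
    let ℓ : (B₁ : C) ⟶ pullback s S.homologyπ := pullback.lift c t hcs
    have hℓ1 : ℓ ≫ pullback.fst s S.homologyπ = c := pullback.lift_fst _ _ _
    have hℓ2 : ℓ ≫ pullback.snd s S.homologyπ = t := pullback.lift_snd _ _ _
    have hmono : Mono ℓ := mono_of_mono_fac hℓ2
    have hepi : Epi ℓ := by
      rw [epi_iff_surjective_up_to_refinements]
      intro T x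
      obtain ⟨T', e, he, b, hb⟩ :=
        surjective_up_to_refinements_of_epi c (x ≫ pullback.fst s S.homologyπ)
      have h0 : (e ≫ x ≫ pullback.snd s S.homologyπ - b ≫ t) ≫ S.homologyπ = 0 := by
        rw [Preadditive.sub_comp]
        simp only [Category.assoc]
        rw [← pullback.condition, ← hcs, ← Category.assoc b, ← hb]
        simp
      rw [S.comp_homologyπ_eq_zero_iff_up_to_refinements] at h0
      obtain ⟨T'', e', he', y, hy⟩ := h0
      refine ⟨T'', e' ≫ e, epi_comp e' e, e' ≫ b + y ≫ a, ?_⟩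
      apply pullback.hom_ext
      · simp only [Category.assoc, Preadditive.add_comp, hℓ1, wac, comp_zero, add_zero]
        rw [hb]
      · simp only [Category.assoc, Preadditive.add_comp, hℓ2, hat]
        rw [← hy, Preadditive.comp_sub]
        simp
    have : IsIso ℓ := isIso_of_mono_of_epi ℓ
    exact IsPullback.of_iso_pullback ⟨hcs⟩ (asIso ℓ) hℓ1 hℓ2
  rw [imageSubobject_mono, Subobject.pullback_obj_mk hpb, Subobject.map_mk]
  rw [Subobject.mk_eq_mk_of_comm (t ≫ S.iCycles) B₁.arrow (Iso.refl _) (by simp [ht])]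
  exact Subobject.mk_arrow B₁

include hA hB hC hf hg in
theorem bwd (s : C₁ ⟶ (ShortComplex.mk (i₁ ≫ i₂) (π₂ ≫ q) w).homology) (hs : s ≫ g = 𝟙 C₁)
    (B₁ : Subobject B₂)
    (hΦ : (Subobject.map (ShortComplex.mk (i₁ ≫ i₂) (π₂ ≫ q) w).iCycles).obj
        ((Subobject.pullback (ShortComplex.mk (i₁ ≫ i₂) (π₂ ≫ q) w).homologyπ).obj
          (imageSubobject s)) = B₁) :
    ∃ (a : A₁ ⟶ (B₁ : C)) (c : (B₁ : C) ⟶ C₁) (wac : a ≫ c = 0)
         (a' : A₃ ⟶ cokernel B₁.arrow) (c' : cokernel B₁.arrow ⟶ C₃) (wac' : a' ≫ c' = 0),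
         a ≫ B₁.arrow = i₁ ≫ i₂ ∧ c ≫ j = B₁.arrow ≫ π₂ ∧ (ShortComplex.mk a c wac).ShortExact ∧
         p₁ ≫ a' = i₂ ≫ cokernel.π B₁.arrow ∧ cokernel.π B₁.arrow ≫ c' = π₂ ≫ q ∧
         (ShortComplex.mk a' c' wac').ShortExact := by
  obtain ⟨wfg, hfg⟩ := main65 i₁ p₁ wA hA i₂ π₂ wB hB j q wC hC w h₂ h₃ f g hf hg
  let S := ShortComplex.mk (i₁ ≫ i₂) (π₂ ≫ q) w
  change A₃ ⟶ S.homology at f
  change S.homology ⟶ C₁ at g
  change p₁ ≫ f = S.liftCycles i₂ h₂ ≫ S.homologyπ at hf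
  change g ≫ j = S.homologyι ≫ S.descOpcycles π₂ h₃ at hg
  change C₁ ⟶ S.homology at s
  change (Subobject.map S.iCycles).obj ((Subobject.pullback S.homologyπ).obj (imageSubobject s)) =
    B₁ at hΦ
  have hk : S.homologyπ ≫ g ≫ j = S.iCycles ≫ π₂ := hkey i₁ i₂ π₂ j q w h₃ g hg
  have : Mono i₁ := hA.mono_f
  have : Epi p₁ := hA.epi_g
  have : Mono i₂ := hB.mono_f
  have : Epi π₂ := hB.epi_g
  have : Mono j := hC.mono_f
  have : Epi q := hC.epi_g
  have : Mono s := mono_of_mono_fac hs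
  have : Mono S.f := by
    change Mono (i₁ ≫ i₂)
    infer_instance
  have : Mono S.toCycles := mono_of_mono_fac S.toCycles_i
  rw [phi_eq] at hΦ
  let θ := Subobject.isoOfMkEq (pullback.snd s S.homologyπ ≫ S.iCycles) B₁ hΦ
  have hθ : θ.hom ≫ B₁.arrow = pullback.snd s S.homologyπ ≫ S.iCycles := by
    simp [θ]
  have hθ' : θ.inv ≫ pullback.snd s S.homologyπ ≫ S.iCycles = B₁.arrow := by
    rw [← hθ, Iso.inv_hom_id_assoc]
  let aP : A₁ ⟶ pullback s S.homologyπ := pullback.lift 0 S.toCycles (by simp)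
  have haP1 : aP ≫ pullback.fst s S.homologyπ = 0 := pullback.lift_fst _ _ _
  have haP2 : aP ≫ pullback.snd s S.homologyπ = S.toCycles := pullback.lift_snd _ _ _
  have hfstj : pullback.fst s S.homologyπ ≫ j = pullback.snd s S.homologyπ ≫ S.iCycles ≫ π₂ := by
    have : pullback.fst s S.homologyπ ≫ j = (pullback.fst s S.homologyπ ≫ s) ≫ g ≫ j := by
      rw [Category.assoc, ← Category.assoc s, hs, Category.id_comp]
    rw [this, pullback.condition, Category.assoc, hk]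
  have wac : (aP ≫ θ.hom) ≫ (θ.inv ≫ pullback.fst s S.homologyπ) = 0 := by
    simp [haP1]
  have ha : (aP ≫ θ.hom) ≫ B₁.arrow = i₁ ≫ i₂ := by
    rw [Category.assoc, hθ, ← Category.assoc, haP2, S.toCycles_i]
  have hc : (θ.inv ≫ pullback.fst s S.homologyπ) ≫ j = B₁.arrow ≫ π₂ := by
    rw [Category.assoc, hfstj, ← hθ']
    simp
  have hac : (ShortComplex.mk (aP ≫ θ.hom) (θ.inv ≫ pullback.fst s S.homologyπ) wac).ShortExact := by
    have hmono : Mono (aP ≫ θ.hom) := by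
      have : Mono aP := mono_of_mono_fac haP2
      exact mono_comp _ _
    have hepi : Epi (θ.inv ≫ pullback.fst s S.homologyπ) := epi_comp _ _
    refine ShortComplex.ShortExact.mk' ?_ hmono hepi
    rw [ShortComplex.exact_iff_exact_up_to_refinements]
    intro T x hx
    change x ≫ θ.inv ≫ pullback.fst s S.homologyπ = 0 at hx
    have h0 : (x ≫ θ.inv ≫ pullback.snd s S.homologyπ) ≫ S.homologyπ = 0 := by
      simp only [Category.assoc]
      rw [← pullback.condition, ← Category.assoc θ.inv, ← Category.assoc x, hx, zero_comp]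
    rw [S.comp_homologyπ_eq_zero_iff_up_to_refinements] at h0
    obtain ⟨T', e, he, y, hy⟩ := h0
    refine ⟨T', e, he, y, ?_⟩
    change e ≫ x = y ≫ aP ≫ θ.hom
    rw [← cancel_mono θ.inv]
    simp only [Category.assoc, Iso.hom_inv_id, Category.comp_id]
    apply pullback.hom_ext
    · simp only [Category.assoc, hx, haP1, comp_zero]
    · simp only [Category.assoc, haP2]
      exact hy
  have hk0 : i₁ ≫ i₂ ≫ cokernel.π B₁.arrow = 0 := by
    rw [← Category.assoc, ← ha, Category.assoc, cokernel.condition, comp_zero]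
  let a' : A₃ ⟶ cokernel B₁.arrow := hA.exact.desc (i₂ ≫ cokernel.π B₁.arrow) hk0
  have ha' : p₁ ≫ a' = i₂ ≫ cokernel.π B₁.arrow := hA.exact.g_desc _ _
  have hB₁0 : B₁.arrow ≫ π₂ ≫ q = 0 := by
    rw [← Category.assoc, ← hc, Category.assoc, wC, comp_zero]
  let c' : cokernel B₁.arrow ⟶ C₃ := cokernel.desc B₁.arrow (π₂ ≫ q) hB₁0
  have hc' : cokernel.π B₁.arrow ≫ c' = π₂ ≫ q := cokernel.π_desc _ _ _
  have wac' : a' ≫ c' = 0 := by
    rw [← cancel_epi p₁, ← Category.assoc, ha', Category.assoc, hc', comp_zero, h₂]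
  refine ⟨aP ≫ θ.hom, θ.inv ≫ pullback.fst s S.homologyπ, wac, a', c', wac', ha, hc, hac, ha', hc',
    ?_⟩
  have hepi' : Epi c' := epi_of_epi_fac hc'
  have hmono' : Mono a' := by
    rw [Preadditive.mono_iff_cancel_zero]
    intro T x hx
    obtain ⟨T₁, e₁, he₁, y, hy⟩ := surjective_up_to_refinements_of_epi p₁ x
    have h1 : (y ≫ i₂) ≫ cokernel.π B₁.arrow = 0 := by
      rw [Category.assoc, ← ha', ← Category.assoc, ← hy, Category.assoc, hx, comp_zero]
    obtain ⟨T₂, e₂, he₂, z, hz⟩ :=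
      ((ShortComplex.exact_cokernel B₁.arrow).exact_up_to_refinements (y ≫ i₂) h1)
    change e₂ ≫ y ≫ i₂ = z ≫ B₁.arrow at hz
    have h2 : z ≫ (θ.inv ≫ pullback.fst s S.homologyπ) = 0 := by
      rw [← cancel_mono j, Category.assoc, hc, zero_comp, ← Category.assoc, ← hz]
      simp [wB]
    obtain ⟨T₃, e₃, he₃, u, hu⟩ := hac.exact.exact_up_to_refinements z h2
    change e₃ ≫ z = u ≫ aP ≫ θ.hom at hu
    have h3 : (e₃ ≫ e₂) ≫ y = u ≫ i₁ := by
      rw [← cancel_mono i₂]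
      simp only [Category.assoc]
      rw [hz, ← Category.assoc, hu]
      simp only [Category.assoc]
      rw [← ha]
      simp
    have h4 : ((e₃ ≫ e₂) ≫ e₁) ≫ x = 0 := by
      rw [Category.assoc, hy, ← Category.assoc, h3, Category.assoc, wA, comp_zero]
    have : Epi ((e₃ ≫ e₂) ≫ e₁) := epi_comp _ _
    rwa [← cancel_epi ((e₃ ≫ e₂) ≫ e₁), comp_zero]
  refine ShortComplex.ShortExact.mk' ?_ hmono' hepi'
  rw [ShortComplex.exact_iff_exact_up_to_refinements]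
  intro T x hx
  change x ≫ c' = 0 at hx
  obtain ⟨T₁, e₁, he₁, b, hb⟩ := surjective_up_to_refinements_of_epi (cokernel.π B₁.arrow) x
  have hbg : b ≫ S.g = 0 := by
    change b ≫ π₂ ≫ q = 0
    rw [← hc', ← Category.assoc, ← hb, Category.assoc, hx, comp_zero]
  let z : T₁ ⟶ S.cycles := S.liftCycles b hbg
  have hz : z ≫ S.iCycles = b := S.liftCycles_i _ _
  -- the part killed by g
  have h1 : (z ≫ S.homologyπ - (z ≫ S.homologyπ ≫ g) ≫ s) ≫ g = 0 := by
    rw [Preadditive.sub_comp]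
    simp only [Category.assoc, hs, Category.comp_id, sub_self]
  obtain ⟨T₂, e₂, he₂, y, hy⟩ := hfg.exact.exact_up_to_refinements _ h1
  change e₂ ≫ (z ≫ S.homologyπ - (z ≫ S.homologyπ ≫ g) ≫ s) = y ≫ f at hy
  obtain ⟨T₃, e₃, he₃, y₂, hy₂⟩ := surjective_up_to_refinements_of_epi p₁ y
  -- element of the pullback
  have hcond : ((e₃ ≫ e₂) ≫ z ≫ S.homologyπ ≫ g) ≫ s =
      ((e₃ ≫ e₂) ≫ z - y₂ ≫ S.liftCycles i₂ h₂) ≫ S.homologyπ := by
    have h5 : e₃ ≫ y ≫ f = y₂ ≫ S.liftCycles i₂ h₂ ≫ S.homologyπ := by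
      rw [← Category.assoc, hy₂, Category.assoc, hf]
    rw [Preadditive.sub_comp, Category.assoc y₂, ← h5, ← hy, Preadditive.comp_sub,
      Preadditive.comp_sub]
    simp only [Category.assoc]
    abel
  let ℓ : T₃ ⟶ pullback s S.homologyπ := pullback.lift _ _ hcond
  have hℓ2 : ℓ ≫ pullback.snd s S.homologyπ = (e₃ ≫ e₂) ≫ z - y₂ ≫ S.liftCycles i₂ h₂ :=
    pullback.lift_snd _ _ _
  refine ⟨T₃, (e₃ ≫ e₂) ≫ e₁, epi_comp _ _, y₂ ≫ p₁, ?_⟩
  change ((e₃ ≫ e₂) ≫ e₁) ≫ x = (y₂ ≫ p₁) ≫ a'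
  have h6 : (e₃ ≫ e₂) ≫ b = (ℓ ≫ θ.hom) ≫ B₁.arrow + y₂ ≫ i₂ := by
    rw [Category.assoc ℓ, hθ, ← Category.assoc ℓ, hℓ2, Preadditive.sub_comp]
    simp only [Category.assoc, hz, S.liftCycles_i]
    abel
  rw [Category.assoc, hb, ← Category.assoc, h6, Preadditive.add_comp, Category.assoc,
    cokernel.condition, comp_zero, zero_add, Category.assoc, Category.assoc, ha']

end

/-- injectivity of the assignment -/
theorem inj (S : ShortComplex C) {C₁ : C} (g : S.homology ⟶ C₁) (s s' : C₁ ⟶ S.homology)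
    (hs : s ≫ g = 𝟙 C₁) (hs' : s' ≫ g = 𝟙 C₁)
    (h : (Subobject.map S.iCycles).obj ((Subobject.pullback S.homologyπ).obj (imageSubobject s)) =
      (Subobject.map S.iCycles).obj ((Subobject.pullback S.homologyπ).obj (imageSubobject s'))) :
    s = s' := by
  have : Mono s := mono_of_mono_fac hs
  have : Mono s' := mono_of_mono_fac hs'
  have h' := Subobject.map_obj_injective S.iCycles h
  rw [imageSubobject_mono, imageSubobject_mono,
    Subobject.pullback_obj_mk (IsPullback.of_hasPullback s S.homologyπ),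
    Subobject.pullback_obj_mk (IsPullback.of_hasPullback s' S.homologyπ)] at h'
  let φ := Subobject.isoOfMkEqMk _ _ h'
  have hφ : φ.hom ≫ pullback.snd s' S.homologyπ = pullback.snd s S.homologyπ := by
    simp [φ]
  have e1 : pullback.fst s S.homologyπ ≫ s = (φ.hom ≫ pullback.fst s' S.homologyπ) ≫ s' := by
    rw [pullback.condition, ← hφ, Category.assoc, Category.assoc, pullback.condition]
  have e2 : pullback.fst s S.homologyπ = φ.hom ≫ pullback.fst s' S.homologyπ := by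
    have := congr_arg (fun x => x ≫ g) e1
    simpa [hs, hs'] using this
  rw [← cancel_epi (pullback.fst s S.homologyπ), e1, ← e2]

end Groth.Agent.H77.NineBij
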