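import Mathlib
universe v u
open CategoryTheory CategoryTheory.Limits

namespace Groth.Agent.H77

theorem main65
    {C : Type u} [Category.{v} C] [Abelian C] {A₁ A₂ A₃ B₂ C₁ C₂ C₃ : C}
    (i₁ : A₁ ⟶ A₂) (p₁ : A₂ ⟶ A₃) (wA : i₁ ≫ p₁ = 0) (hA : (ShortComplex.mk i₁ p₁ wA).ShortExact)
    (i₂ : A₂ ⟶ B₂) (π₂ : B₂ ⟶ C₂) (wB : i₂ ≫ π₂ = 0) (hB : (ShortComplex.mk i₂ π₂ wB).ShortExact)
    (j : C₁ ⟶ C₂) (q : C₂ ⟶ C₃) (wC : j ≫ q = 0) (hC : (ShortComplex.mk j q wC).ShortExact)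
    (w : (i₁ ≫ i₂) ≫ (π₂ ≫ q) = 0) (h₂ : i₂ ≫ (π₂ ≫ q) = 0) (h₃ : (i₁ ≫ i₂) ≫ π₂ = 0)
    (f : A₃ ⟶ (CategoryTheory.ShortComplex.mk (i₁ ≫ i₂) (π₂ ≫ q) w).homology)
    (g : (CategoryTheory.ShortComplex.mk (i₁ ≫ i₂) (π₂ ≫ q) w).homology ⟶ C₁)
    (hf : p₁ ≫ f = (CategoryTheory.ShortComplex.mk (i₁ ≫ i₂) (π₂ ≫ q) w).liftCycles i₂ h₂ ≫ (CategoryTheory.ShortComplex.mk (i₁ ≫ i₂) (π₂ ≫ q) w).homologyπ)
    (hg : g ≫ j = (CategoryTheory.ShortComplex.mk (i₁ ≫ i₂) (π₂ ≫ q) w).homologyι ≫ (CategoryTheory.ShortComplex.mk (i₁ ≫ i₂) (π₂ ≫ q) w).descOpcycles π₂ h₃) :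
    ∃ wfg : f ≫ g = 0, (ShortComplex.mk f g wfg).ShortExact := by
  let S := CategoryTheory.ShortComplex.mk (i₁ ≫ i₂) (π₂ ≫ q) w
  change A₃ ⟶ S.homology at f
  change S.homology ⟶ C₁ at g
  change p₁ ≫ f = S.liftCycles i₂ h₂ ≫ S.homologyπ at hf
  change g ≫ j = S.homologyι ≫ S.descOpcycles π₂ h₃ at hg
  have : Mono i₁ := hA.mono_f
  have : Epi p₁ := hA.epi_g
  have : Mono i₂ := hB.mono_f
  have : Epi π₂ := hB.epi_g
  have : Mono j := hC.mono_f
  have : Epi q := hC.epi_g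
  -- key identity: for z : T ⟶ cycles, z ≫ homologyπ ≫ g ≫ j = z ≫ iCycles ≫ π₂
  have hkey : S.homologyπ ≫ g ≫ j = S.iCycles ≫ π₂ := by
    rw [hg, ← Category.assoc, S.homology_π_ι, Category.assoc, S.p_descOpcycles]
  have wfg : f ≫ g = 0 := by
    rw [← cancel_epi p₁, ← cancel_mono j]
    simp only [Category.assoc, comp_zero, zero_comp]
    rw [← Category.assoc, hf, Category.assoc, hkey, ← Category.assoc, S.liftCycles_i, wB]
  refine ⟨wfg, ?_⟩
  have hmono : Mono f := by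
    rw [Preadditive.mono_iff_cancel_zero]
    intro T x hx
    obtain ⟨T', e, he, y, hy⟩ := surjective_up_to_refinements_of_epi p₁ x
    have h0 : S.liftCycles (y ≫ i₂) (by rw [Category.assoc, h₂, comp_zero]) ≫ S.homologyπ = 0 := by
      have : S.liftCycles (y ≫ i₂) (by rw [Category.assoc, h₂, comp_zero]) = y ≫ S.liftCycles i₂ h₂ := by
        rw [← cancel_mono S.iCycles]; simp
      rw [this, Category.assoc, ← hf, ← Category.assoc, ← hy, Category.assoc, hx, comp_zero]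
    rw [S.liftCycles_comp_homologyπ_eq_zero_iff_up_to_refinements] at h0
    obtain ⟨T'', e', he', z, hz⟩ := h0
    have hz' : e' ≫ y = z ≫ i₁ := by
      rw [← cancel_mono i₂]
      simpa [S] using hz
    have : (e' ≫ e) ≫ x = 0 := by
      rw [Category.assoc, hy, ← Category.assoc, hz', Category.assoc, wA, comp_zero]
    have hepi : Epi (e' ≫ e) := epi_comp e' e
    rwa [← cancel_epi (e' ≫ e), comp_zero]
  have hepi : Epi g := by
    rw [epi_iff_surjective_up_to_refinements]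
    intro T c
    obtain ⟨T', e, he, b, hb⟩ := surjective_up_to_refinements_of_epi π₂ (c ≫ j)
    have hbz : b ≫ S.g = 0 := by
      change b ≫ π₂ ≫ q = 0
      rw [← Category.assoc, ← hb, Category.assoc, Category.assoc, wC, comp_zero, comp_zero]
    refine ⟨T', e, he, S.liftCycles b hbz ≫ S.homologyπ, ?_⟩
    rw [← cancel_mono j, Category.assoc, Category.assoc, Category.assoc, hkey,
      S.liftCycles_i_assoc, hb]
  have hex : (ShortComplex.mk f g wfg).Exact := by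
    rw [ShortComplex.exact_iff_exact_up_to_refinements]
    intro T k hk
    change k ≫ g = 0 at hk
    obtain ⟨T', e, he, b, hbz, hb⟩ := S.eq_liftCycles_homologyπ_up_to_refinements k
    have hbπ : b ≫ π₂ = 0 := by
      have : S.liftCycles b hbz ≫ S.homologyπ ≫ g ≫ j = 0 := by
        rw [← Category.assoc, ← hb, Category.assoc, ← Category.assoc k, hk, zero_comp, comp_zero]
      rwa [hkey, ← Category.assoc, S.liftCycles_i] at this
    obtain ⟨T'', e', he', a, ha⟩ := hB.exact.exact_up_to_refinements b hbπ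
    change e' ≫ b = a ≫ i₂ at ha
    refine ⟨T'', e' ≫ e, epi_comp e' e, a ≫ p₁, ?_⟩
    change (e' ≫ e) ≫ k = (a ≫ p₁) ≫ f
    rw [Category.assoc, hb, Category.assoc, hf, ← Category.assoc, ← Category.assoc]
    congr 1
    rw [← cancel_mono S.iCycles]
    simp [ha]
  exact ShortComplex.ShortExact.mk' hex hmono hepi

end Groth.Agent.H77
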