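import Mathlib
open Finset

namespace Groth.Agent.H77

lemma recurrence {n : ℕ} (v : Fin n → ℂ) (hv : ∀ i, ‖v i‖ = 1) (ε : ℝ) (hε : 0 < ε) (B : ℕ) :
    ∃ M, B ≤ M ∧ ∀ i, ‖v i ^ M - 1‖ < ε := by
  let x : ℕ → (Fin n → ℂ) := fun N i => v i ^ N
  have hK : IsCompact (Set.pi Set.univ (fun _ : Fin n => Metric.closedBall (0:ℂ) 1)) :=
    isCompact_univ_pi (fun _ => isCompact_closedBall 0 1)
  have hx : ∀ N, x N ∈ Set.pi Set.univ (fun _ : Fin n => Metric.closedBall (0:ℂ) 1) := by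
    intro N i _
    simp [x, hv i]
  obtain ⟨a, _, φ, hφ, hlim⟩ := hK.tendsto_subseq hx
  have hcau : CauchySeq (x ∘ φ) := hlim.cauchySeq
  rw [Metric.cauchySeq_iff] at hcau
  obtain ⟨K0, hK0⟩ := hcau ε hε
  have hmono : ∀ b, φ K0 + b ≤ φ (K0 + b) := by
    intro b
    induction b with
    | zero => simp
    | succ b ih =>
      have : φ (K0 + b) < φ (K0 + (b + 1)) := hφ (by omega)
      omega
  refine ⟨φ (K0 + B) - φ K0, ?_, ?_⟩
  · have := hmono B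
    omega
  · intro i
    have hd := hK0 (K0 + B) (by omega) K0 le_rfl
    have hi : dist (x (φ (K0+B)) i) (x (φ K0) i) < ε := lt_of_le_of_lt (dist_le_pi_dist _ _ i) hd
    have hle : φ K0 ≤ φ (K0 + B) := hφ.monotone (by omega)
    have : v i ^ φ (K0+B) - v i ^ φ K0 = v i ^ φ K0 * (v i ^ (φ (K0+B) - φ K0) - 1) := by
      rw [mul_sub, mul_one, ← pow_add, Nat.add_sub_cancel' hle]
    rw [dist_eq_norm] at hi
    simp only [x] at hi
    rw [this, norm_mul, norm_pow, hv i, one_pow, one_mul] at hi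
    exact hi

lemma norm_le_of_powersum_le {n : ℕ} (w : Fin n → ℂ) (R : ℝ) (hR : 0 < R) (C : ℝ)
    (h : ∀ N : ℕ, 1 ≤ N → ‖∑ i, w i ^ N‖ ≤ C * R ^ N) (j : Fin n) : ‖w j‖ ≤ R := by
  by_contra hcon
  push Not at hcon
  set ρ : ℝ := ‖w j‖ / R with hρ
  have hρ1 : 1 < ρ := by rw [hρ, lt_div_iff₀ hR]; linarith
  obtain ⟨B, hB⟩ := pow_unbounded_of_one_lt (2 * C) hρ1
  let v : Fin n → ℂ := fun i => if w i = 0 then 1 else w i / (‖w i‖ : ℂ)
  have hv : ∀ i, ‖v i‖ = 1 := by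
    intro i
    by_cases hi : w i = 0
    · simp [v, hi]
    · simp only [v, if_neg hi, norm_div, Complex.norm_real, norm_norm]
      exact div_self (norm_ne_zero_iff.mpr hi)
  have hwv : ∀ i, w i = (‖w i‖ : ℂ) * v i := by
    intro i
    by_cases hi : w i = 0
    · simp [v, hi]
    · simp only [v, if_neg hi]
      have : (‖w i‖ : ℂ) ≠ 0 := by
        exact_mod_cast norm_ne_zero_iff.mpr hi
      field_simp
  obtain ⟨M, hBM, hM⟩ := recurrence v hv (1/2) (by norm_num) (B + 1)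
  have hM1 : 1 ≤ M := by omega
  have hre : ∀ i, (1/2 : ℝ) ≤ (v i ^ M).re := by
    intro i
    have h1 := Complex.abs_re_le_norm (v i ^ M - 1)
    have h2 := hM i
    rw [Complex.sub_re, Complex.one_re] at h1
    have := abs_le.mp (h1.trans h2.le)
    linarith [this.1]
  have hsum : (∑ i, w i ^ M).re = ∑ i, ‖w i‖ ^ M * (v i ^ M).re := by
    rw [Complex.re_sum]
    apply Finset.sum_congr rfl
    intro i _
    conv_lhs => rw [hwv i, mul_pow, ← Complex.ofReal_pow, Complex.re_ofReal_mul]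
  have hlow : ‖w j‖ ^ M / 2 ≤ (∑ i, w i ^ M).re := by
    rw [hsum]
    calc ‖w j‖ ^ M / 2 = ‖w j‖ ^ M * (1/2) := by ring
      _ ≤ ‖w j‖ ^ M * (v j ^ M).re :=
          mul_le_mul_of_nonneg_left (hre j) (pow_nonneg (norm_nonneg _) _)
      _ ≤ ∑ i, ‖w i‖ ^ M * (v i ^ M).re := by
          apply Finset.single_le_sum (f := fun i => ‖w i‖ ^ M * (v i ^ M).re) _ (Finset.mem_univ j)
          intro i _
          exact mul_nonneg (pow_nonneg (norm_nonneg _) _) (by linarith [hre i])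
  have hup : (∑ i, w i ^ M).re ≤ C * R ^ M :=
    (Complex.re_le_norm _).trans (h M hM1)
  have hRM : 0 < R ^ M := pow_pos hR M
  have : ρ ^ M ≤ 2 * C := by
    rw [hρ, div_pow, div_le_iff₀ hRM]
    linarith
  have hmono : ρ ^ B ≤ ρ ^ M := pow_le_pow_right₀ hρ1.le (by omega)
  linarith

theorem main24 {g : ℕ} (q : ℕ) (hq : 0 < q)
    (α : Fin (2 * g) → ℂ) (σ : Equiv.Perm (Fin (2 * g))) (hσ : ∀ i, α (σ i) * α i = q)
    (d : ℕ) (hd : 0 < d) (C : ℝ)
    (hC : ∀ N : ℕ, 1 ≤ N → ‖∑ i, α i ^ (d * N)‖ ≤ C * (q : ℝ) ^ ((d : ℝ) * N / 2))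
    (i : Fin (2 * g)) : ‖α i‖ ^ 2 = q := by
  have hq0 : (0 : ℝ) < q := by exact_mod_cast hq
  set s : ℝ := Real.sqrt q with hs
  have hs0 : 0 < s := Real.sqrt_pos.mpr hq0
  have hss : s ^ 2 = q := Real.sq_sqrt hq0.le
  have hpow : ∀ N : ℕ, (q : ℝ) ^ ((d : ℝ) * N / 2) = (s ^ d) ^ N := by
    intro N
    rw [hs, Real.sqrt_eq_rpow, ← Real.rpow_natCast, ← Real.rpow_natCast, ← Real.rpow_mul hq0.le,
      ← Real.rpow_mul hq0.le]
    congr 1
    ring
  have hle : ∀ j, ‖α j‖ ^ 2 ≤ q := by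
    intro j
    have h1 : ‖α j ^ d‖ ≤ s ^ d := by
      apply norm_le_of_powersum_le (fun i => α i ^ d) (s ^ d) (pow_pos hs0 d) C _ j
      intro N hN
      have := hC N hN
      rw [hpow] at this
      simpa only [← pow_mul] using this
    rw [norm_pow] at h1
    have h2 : ‖α j‖ ≤ s := (pow_le_pow_iff_left₀ (norm_nonneg _) hs0.le hd.ne').mp h1
    calc ‖α j‖ ^ 2 ≤ s ^ 2 := pow_le_pow_left₀ (norm_nonneg _) h2 2
      _ = q := hss
  have h1 := hle i
  have h2 := hle (σ i)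
  have hprod : ‖α (σ i)‖ * ‖α i‖ = q := by
    rw [← norm_mul, hσ]; simp
  have ha := norm_nonneg (α (σ i))
  have hb := norm_nonneg (α i)
  nlinarith [mul_self_nonneg (‖α (σ i)‖ * ‖α i‖), sq_nonneg (‖α i‖), sq_nonneg (‖α (σ i)‖)]

end Groth.Agent.H77
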