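import Groth.Prelude.Def_GrSyz
import Groth.Agent.H77.Irrel
import Mathlib

namespace Groth.Agent.H77

open CategoryTheory GrSyz

universe u

set_option linter.unusedSectionVars false
set_option linter.style.haveILetI false

section General

variable {S : Type u} [CommRing S]

/-- Dimension shifting along a surjection from a projective module. -/
lemma hasPDLT_shift {P N : Type u} [AddCommGroup P] [Module S P] [AddCommGroup N] [Module S N]
    [Module.Projective S P] (g : P →ₗ[S] N) (hg : Function.Surjective g)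
    (K : Submodule S P) (hK : LinearMap.ker g = K) (j : ℕ) :
    HasProjectiveDimensionLT (ModuleCat.of S N) (j + 2) ↔
      HasProjectiveDimensionLT (ModuleCat.of S K) (j + 1) := by
  subst hK
  have hP : Projective (ModuleCat.of S P) := (IsProjective.iff_projective P).mp inferInstance
  exact (LinearMap.shortExact_shortComplexKer hg).hasProjectiveDimensionLT_X₃_iff j hP

lemma hasPDLT_one_iff (N : Type u) [AddCommGroup N] [Module S N] :
    HasProjectiveDimensionLT (ModuleCat.of S N) 1 ↔ Module.Projective S N := by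
  rw [← projective_iff_hasProjectiveDimensionLT_one, IsProjective.iff_projective]

/-- If `g` is injective and surjective from a free module, the target is projective. -/
lemma projective_of_ker_eq_bot {a : ℕ} {N : Type u} [AddCommGroup N] [Module S N]
    (g : (Fin a → S) →ₗ[S] N) (hg : Function.Surjective g) (hk : LinearMap.ker g = ⊥) :
    Module.Projective S N :=
  Module.Projective.of_equiv (LinearEquiv.ofBijective g ⟨LinearMap.ker_eq_bot.mp hk, hg⟩)

/-- A minimal surjection onto a projective module is injective. -/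
lemma ker_eq_bot_of_projective [IsDomain S] (𝔪 : Ideal S) (h1 : (1 : S) ∉ 𝔪) {a : ℕ}
    {N : Type u} [AddCommGroup N] [Module S N] [Module.Projective S N]
    (g : (Fin a → S) →ₗ[S] N) (hg : Function.Surjective g)
    (hker : ∀ v ∈ LinearMap.ker g, ∀ b, v b ∈ 𝔪) : LinearMap.ker g = ⊥ := by
  obtain ⟨s, hs⟩ := Module.projective_lifting_property g LinearMap.id hg
  -- the projection onto the kernel
  let π : (Fin a → S) →ₗ[S] (Fin a → S) := LinearMap.id - s ∘ₗ g
  have hπker : ∀ x, π x ∈ LinearMap.ker g := by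
    intro x
    rw [LinearMap.mem_ker]
    have := LinearMap.congr_fun hs (g x)
    simp only [LinearMap.coe_comp, Function.comp_apply, LinearMap.id_coe, id_eq] at this
    simp [π, this]
  have hπid : ∀ x ∈ LinearMap.ker g, π x = x := by
    intro x hx
    rw [LinearMap.mem_ker] at hx
    simp [π, hx]
  have hle : LinearMap.ker g ≤ 𝔪 • LinearMap.ker g := by
    intro x hx
    rw [← hπid x hx]
    have hx' : x = ∑ b, x b • (Pi.single b 1 : Fin a → S) := by
      conv_lhs => rw [← Finset.univ_sum_single x]
      apply Finset.sum_congr rfl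
      intro b _
      rw [← Pi.single_smul, smul_eq_mul, mul_one]
    rw [hx', map_sum]
    apply Submodule.sum_mem
    intro b _
    rw [map_smul]
    exact Submodule.smul_mem_smul (hker x hx b) (hπker _)
  have hfg : (LinearMap.ker g).FG := by
    have : LinearMap.ker g = LinearMap.range π := by
      apply le_antisymm
      · intro x hx
        exact ⟨x, hπid x hx⟩
      · rintro _ ⟨x, rfl⟩
        exact hπker x
    rw [this, LinearMap.range_eq_map]
    exact Submodule.FG.map _ (Module.Finite.fg_top)
  obtain ⟨r, hr1, hr0⟩ :=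
    Submodule.exists_sub_one_mem_and_smul_eq_zero_of_fg_of_le_smul 𝔪 _ hfg hle
  have hr : r ≠ 0 := by
    intro h0
    rw [h0, zero_sub] at hr1
    exact h1 (by simpa using 𝔪.neg_mem hr1)
  rw [eq_bot_iff]
  intro x hx
  rw [Submodule.mem_bot]
  funext b
  have := congr_fun (hr0 x hx) b
  simp only [Pi.smul_apply, smul_eq_mul, Pi.zero_apply] at this
  exact (mul_eq_zero.mp this).resolve_left hr

end General

section FreeRes

variable {R : Type u} [CommRing R] {σ' : Type u} [SetLike σ' R] [AddSubgroupClass σ' R]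
  {𝒜 : ℤ → σ'} [GradedRing 𝒜]
  {M : Type u} [AddCommGroup M] [Module R M] {τ : Type u} [SetLike τ M] [AddSubgroupClass τ M]
  {ℳ : ℤ → τ} [DirectSum.Decomposition ℳ] [SetLike.GradedSMul 𝒜 ℳ] (F : FreeRes 𝒜 ℳ)

/-- The syzygy modules. -/
def syz (i : ℕ) : Submodule R (Fin (F.rk i) → R) := LinearMap.range (F.dLin i)

lemma hasPDLT_shift_zero (j : ℕ) :
    HasProjectiveDimensionLT (ModuleCat.of R M) (j + 2) ↔
      HasProjectiveDimensionLT (ModuleCat.of R (syz F 0)) (j + 1) :=
  hasPDLT_shift F.augLin F.aug_surjective (syz F 0) F.exact_zero j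

lemma hasPDLT_shift_succ (i j : ℕ) :
    HasProjectiveDimensionLT (ModuleCat.of R (syz F i)) (j + 2) ↔
      HasProjectiveDimensionLT (ModuleCat.of R (syz F (i + 1))) (j + 1) :=
  hasPDLT_shift (F.dLin i).rangeRestrict (F.dLin i).surjective_rangeRestrict (syz F (i + 1))
    (by rw [LinearMap.ker_rangeRestrict]; exact F.exact_succ i) j

lemma hasPDLT_syz_iff (m : ℕ) : ∀ i : ℕ,
    HasProjectiveDimensionLT (ModuleCat.of R (syz F i)) (m + 1) ↔
      HasProjectiveDimensionLT (ModuleCat.of R (syz F (i + m))) 1 := by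
  induction m with
  | zero => intro i; rfl
  | succ m ih =>
    intro i
    rw [hasPDLT_shift_succ F i m, ih (i + 1)]
    have e : i + 1 + m = i + (m + 1) := by omega
    rw [e]

/-- Projective dimension in terms of syzygies. -/
lemma hasPDLE_iff (n : ℕ) :
    HasProjectiveDimensionLE (ModuleCat.of R M) n ↔
      (n = 0 ∧ Module.Projective R M) ∨
        (∃ m, n = m + 1 ∧ Module.Projective R (syz F m)) := by
  cases n with
  | zero =>
    change HasProjectiveDimensionLT (ModuleCat.of R M) 1 ↔ _
    rw [hasPDLT_one_iff]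
    constructor
    · intro h; exact Or.inl ⟨rfl, h⟩
    · rintro (⟨_, h⟩ | ⟨m, hm, _⟩)
      · exact h
      · omega
  | succ m =>
    change HasProjectiveDimensionLT (ModuleCat.of R M) (m + 2) ↔ _
    rw [hasPDLT_shift_zero F m, hasPDLT_syz_iff F m 0, hasPDLT_one_iff, zero_add]
    constructor
    · intro h; exact Or.inr ⟨m, rfl, h⟩
    · rintro (⟨h0, _⟩ | ⟨m', hm, h⟩)
      · omega
      · have : m = m' := by omega
        subst this
        exact h

variable [IsDomain R] (𝔪 : Ideal R) (h1 : (1 : R) ∉ 𝔪) (hF : F.IsMinimal 𝔪)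
include h1 hF

lemma coord_mem_of_mem_syz {i : ℕ} {v : Fin (F.rk i) → R} (hv : v ∈ syz F i) (b : Fin (F.rk i)) :
    v b ∈ 𝔪 := by
  obtain ⟨w, rfl⟩ := hv
  rw [Matrix.mulVecLin_apply]
  simp only [Matrix.mulVec, dotProduct]
  apply Ideal.sum_mem
  intro c _
  exact Ideal.mul_mem_right _ _ (hF i b c)

lemma rk_succ_eq_zero_of_syz_eq_bot {i : ℕ} (h : syz F i = ⊥) : F.rk (i + 1) = 0 := by
  classical
  by_contra hne
  have hpos : 0 < F.rk (i + 1) := Nat.pos_of_ne_zero hne
  let b : Fin (F.rk (i + 1)) := ⟨0, hpos⟩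
  have hker : (Pi.single b 1 : Fin (F.rk (i + 1)) → R) ∈ LinearMap.ker (Matrix.mulVecLin (F.d i)) := by
    rw [LinearMap.mem_ker]
    have : F.dLin i (Pi.single b 1) ∈ syz F i := ⟨_, rfl⟩
    rw [h, Submodule.mem_bot] at this
    exact this
  rw [F.exact_succ i] at hker
  have := coord_mem_of_mem_syz F 𝔪 h1 hF hker b
  rw [Pi.single_eq_same] at this
  exact h1 this

lemma syz_eq_bot_of_rk_eq_zero {i : ℕ} (h : F.rk i = 0) : syz F i = ⊥ := by
  rw [eq_bot_iff]
  intro v _
  rw [Submodule.mem_bot]
  funext b
  exact absurd b.2 (by omega)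

lemma hasLengthLE_iff_syz_eq_bot (n : ℕ) : F.HasLengthLE n ↔ syz F n = ⊥ := by
  constructor
  · intro h
    unfold syz
    rw [LinearMap.range_eq_bot]
    apply LinearMap.ext
    intro v
    have : F.rk (n + 1) = 0 := h (n + 1) (Nat.lt_succ_self n)
    have hv : v = 0 := by
      funext b
      exact absurd b.2 (by omega)
    rw [hv, map_zero, LinearMap.zero_apply]
  · intro h
    have key : ∀ j : ℕ, syz F (n + j) = ⊥ ∧ F.rk (n + j + 1) = 0 := by
      intro j
      induction j with
      | zero => exact ⟨h, rk_succ_eq_zero_of_syz_eq_bot F 𝔪 h1 hF h⟩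
      | succ j ih =>
        have h2 : syz F (n + (j + 1)) = ⊥ := syz_eq_bot_of_rk_eq_zero F 𝔪 h1 hF ih.2
        exact ⟨h2, rk_succ_eq_zero_of_syz_eq_bot F 𝔪 h1 hF h2⟩
    intro i hi
    obtain ⟨j, rfl⟩ : ∃ j, i = n + j + 1 := ⟨i - n - 1, by omega⟩
    exact (key j).2

/-- The length of a minimal resolution is the projective dimension. -/
theorem hasLengthLE_iff_hasPDLE (n : ℕ) :
    F.HasLengthLE n ↔ HasProjectiveDimensionLE (ModuleCat.of R M) n := by
  rw [hasLengthLE_iff_syz_eq_bot F 𝔪 h1 hF, hasPDLE_iff F]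
  cases n with
  | zero =>
    constructor
    · intro h
      refine Or.inl ⟨rfl, ?_⟩
      exact projective_of_ker_eq_bot F.augLin F.aug_surjective (F.exact_zero.trans h)
    · rintro (⟨_, h⟩ | ⟨m, hm, _⟩)
      · have := ker_eq_bot_of_projective 𝔪 h1 F.augLin F.aug_surjective
          (fun v hv => by
            have hv' : v ∈ LinearMap.range (Matrix.mulVecLin (F.d 0)) := F.exact_zero ▸ hv
            exact coord_mem_of_mem_syz F 𝔪 h1 hF hv')
        exact F.exact_zero.symm.trans this
      · omega
  | succ m =>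
    have hk : LinearMap.ker (F.dLin m).rangeRestrict = syz F (m + 1) := by
      rw [LinearMap.ker_rangeRestrict]; exact F.exact_succ m
    constructor
    · intro h
      refine Or.inr ⟨m, rfl, ?_⟩
      exact projective_of_ker_eq_bot (F.dLin m).rangeRestrict (F.dLin m).surjective_rangeRestrict
        (hk.trans h)
    · rintro (⟨h0, _⟩ | ⟨m', hm, h⟩)
      · omega
      · have : m = m' := by omega
        subst this
        haveI : Module.Projective R ↥(LinearMap.range (F.dLin m)) := h
        have := ker_eq_bot_of_projective 𝔪 h1 (F.dLin m).rangeRestrict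
          (F.dLin m).surjective_rangeRestrict
          (fun v hv => coord_mem_of_mem_syz F 𝔪 h1 hF (hk ▸ hv))
        exact hk.symm.trans this

end FreeRes

end Groth.Agent.H77
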