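import Mathlib

set_option autoImplicit false

namespace Groth.Agent.H77.PushEpi

open CategoryTheory TopologicalSpace Opposite TopCat

universe u

section
variable {X : TopCat.{u}} (F : X.Sheaf (Type u))

lemma eq_of_bot (V : Opens X) (hV : V = ⊥) (s t : ToType (F.1.obj (op V))) : s = t := by
  apply F.eq_of_locally_eq' (fun i : PEmpty.{1} => (i.elim : Opens X)) V (fun i => i.elim)
    (by rw [hV]; exact bot_le) s t
  intro i
  exact i.elim

lemma compatible_of_disjoint {ι : Type*} (U : ι → Opens X) (hU : ∀ i j, i ≠ j → U i ⊓ U j = ⊥)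
    (sf : ∀ i, ToType (F.1.obj (op (U i)))) : TopCat.Presheaf.IsCompatible F.1 U sf := by
  intro i j
  by_cases h : i = j
  · subst h
    rfl
  · exact eq_of_bot F _ (hU i j h) _ _

end

section
variable {X : TopCat.{u}} {F G : X.Sheaf (Type u)} (φ : F ⟶ G)

lemma nat_apply {U U' : Opens X} (i : U ⟶ U') (s : ToType (F.obj.obj (op U'))) :
    φ.hom.app (op U) (F.obj.map i.op s) = G.obj.map i.op (φ.hom.app (op U') s) :=
  NatTrans.naturality_apply φ.hom i.op s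

lemma map_map (H : X.Sheaf (Type u)) {U U' U'' : Opens X} (i : U ⟶ U') (j : U' ⟶ U'')
    (s : ToType (H.obj.obj (op U''))) :
    H.obj.map i.op (H.obj.map j.op s) = H.obj.map (i ≫ j).op s := by
  rw [← ConcreteCategory.comp_apply, ← H.obj.map_comp]
  rfl

end

theorem main82 {X Y : TopCat.{u}} (π : X ⟶ Y)
    (h1 : ∀ (y : Y) (U : Set X), IsOpen U → π ⁻¹' {y} ⊆ U →
      ∃ V : Set Y, IsOpen V ∧ y ∈ V ∧ π ⁻¹' V ⊆ U)
    (h2 : ∀ y : Y, (π ⁻¹' {y}).Finite ∧ ∃ U : X → Set X,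
      (∀ x ∈ π ⁻¹' {y}, IsOpen (U x) ∧ x ∈ U x) ∧ (π ⁻¹' {y}).PairwiseDisjoint U) :
    (TopCat.Sheaf.pushforward (Type u) π).PreservesEpimorphisms := by
  refine ⟨fun {F G} φ hφ => ?_⟩
  rw [← TopCat.Sheaf.isLocallySurjective_iff_epi] at hφ ⊢
  rw [TopCat.Presheaf.isLocallySurjective_iff] at hφ ⊢
  intro V t y hy
  obtain ⟨-, Ux, hUx, hdisj⟩ := h2 y
  set PV : Opens X := (Opens.map π).obj V with hPV
  let ι := {x : X // x ∈ π ⁻¹' {y}}
  have hmem : ∀ x : ι, x.1 ∈ PV := fun x => by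
    have : π x.1 = y := x.2
    change π x.1 ∈ V
    rw [this]
    exact hy
  have hloc := fun x : ι => hφ PV t x.1 (hmem x)
  choose W hWle hs hxW using hloc
  choose s hs using hs
  let W' : ι → Opens X := fun x => W x ⊓ ⟨Ux x.1, (hUx x.1 x.2).1⟩
  have hW'W : ∀ x, W' x ≤ W x := fun x => inf_le_left
  have hdisj' : ∀ x x' : ι, x ≠ x' → W' x ⊓ W' x' = ⊥ := by
    intro x x' hne
    have hd : Disjoint (Ux x.1) (Ux x'.1) := hdisj x.2 x'.2 (fun h => hne (Subtype.ext h))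
    rw [eq_bot_iff]
    intro z hz
    exact (Set.disjoint_left.mp hd hz.1.2 hz.2.2).elim
  let sf : ∀ x : ι, ToType (F.obj.obj (op (W' x))) := fun x =>
    F.obj.map (homOfLE (hW'W x)).op (s x)
  obtain ⟨gl, hgl, -⟩ := F.existsUnique_gluing W' sf (compatible_of_disjoint F W' hdisj' sf)
  have hfib : π ⁻¹' {y} ⊆ ((iSup W' : Opens X) : Set X) := by
    intro x hx
    rw [Opens.coe_iSup, Set.mem_iUnion]
    exact ⟨⟨x, hx⟩, hxW ⟨x, hx⟩, (hUx x hx).2⟩
  obtain ⟨V0, hV0o, hyV0, hV0⟩ := h1 y _ (iSup W').2 hfib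
  let V1 : Opens Y := ⟨V0, hV0o⟩ ⊓ V
  have hV1V : V1 ≤ V := inf_le_right
  have hPV1 : (Opens.map π).obj V1 ≤ iSup W' := fun z hz => hV0 hz.1
  have hWtot : iSup W' ≤ PV := iSup_le fun x => (hW'W x).trans (hWle x)
  refine ⟨V1, hV1V, ⟨F.obj.map (homOfLE hPV1).op gl, ?_⟩, ⟨hyV0, hy⟩⟩
  have key : φ.hom.app (op (iSup W')) gl = G.obj.map (homOfLE hWtot).op t := by
    apply G.eq_of_locally_eq W'
    intro x
    rw [← nat_apply φ, map_map G]
    have h1' : F.obj.map (Opens.leSupr W' x).op gl = sf x := hgl x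
    rw [h1']
    change φ.hom.app (op (W' x)) (F.obj.map (homOfLE (hW'W x)).op (s x)) = _
    rw [nat_apply φ]
    have h2' : φ.hom.app (op (W x)) (s x) = G.obj.map (homOfLE (hWle x)).op t := hs x
    rw [h2', map_map G]
    rfl
  change φ.hom.app (op ((Opens.map π).obj V1)) (F.obj.map (homOfLE hPV1).op gl) =
    G.obj.map (homOfLE ((Opens.map π).monotone hV1V)).op t
  rw [nat_apply φ, key, map_map G]
  rfl

end Groth.Agent.H77.PushEpi
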