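import Mathlib

set_option linter.style.haveILetI false

namespace Groth.Agent.H77

open Module

/-- A reduced commutative algebra of dimension two over a field which is not a field is
isomorphic to the product of two copies of the field. -/
theorem nonempty_algEquiv_prod_of_finrank_two {κ A : Type*} [Field κ] [CommRing A] [Algebra κ A]
    [IsReduced A] (h2 : finrank κ A = 2) (hnf : ¬ IsField A) :
    Nonempty (A ≃ₐ[κ] κ × κ) := by
  classical
  haveI : Module.Finite κ A := Module.finite_of_finrank_pos (by omega)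
  haveI : Nontrivial A := Module.nontrivial_of_finrank_pos (R := κ) (by omega)
  -- a nonzero nonunit
  obtain ⟨x, hx0, hxu⟩ : ∃ x : A, x ≠ 0 ∧ ¬ IsUnit x := by
    by_contra hcon
    push Not at hcon
    apply hnf
    refine ⟨exists_pair_ne A, mul_comm, ?_⟩
    intro a ha
    obtain ⟨u, hu⟩ := hcon a ha
    exact ⟨↑u⁻¹, by rw [← hu, Units.mul_inv]⟩
  have hunit_smul : ∀ c : κ, c ≠ 0 → IsUnit (c • (1 : A)) := by
    intro c hc
    rw [← Algebra.algebraMap_eq_smul_one]
    exact (IsUnit.mk0 c hc).map (algebraMap κ A)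
  have hxrange : ∀ c : κ, x ≠ c • (1 : A) := by
    intro c hc
    by_cases h0 : c = 0
    · rw [h0, zero_smul] at hc; exact hx0 hc
    · exact hxu (hc ▸ hunit_smul c h0)
  have hli : LinearIndependent κ ![(1 : A), x] := by
    rw [LinearIndependent.pair_iff]
    intro s t hst
    have ht : t = 0 := by
      by_contra ht
      apply hxrange (-(t⁻¹ * s))
      have : t • x = -(s • (1 : A)) := by
        rw [eq_neg_iff_add_eq_zero, add_comm]; exact hst
      calc x = t⁻¹ • (t • x) := by rw [smul_smul, inv_mul_cancel₀ ht, one_smul]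
        _ = -(t⁻¹ * s) • (1 : A) := by rw [this, smul_neg, smul_smul, neg_smul]
    refine ⟨?_, ht⟩
    rw [ht, zero_smul, add_zero] at hst
    by_contra hs
    exact (hunit_smul s hs).ne_zero hst
  let B : Basis (Fin 2) κ A := basisOfLinearIndependentOfCardEqFinrank hli (by simp [h2])
  have hB0 : B 0 = 1 := by simp [B]
  have hB1 : B 1 = x := by simp [B]
  obtain ⟨a, b, hab⟩ : ∃ a b : κ, x * x = a • (1 : A) + b • x := by
    refine ⟨B.repr (x * x) 0, B.repr (x * x) 1, ?_⟩
    conv_lhs => rw [← B.sum_repr (x * x)]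
    rw [Fin.sum_univ_two, hB0, hB1]
  have ha : a = 0 := by
    by_contra ha
    apply hxu
    refine IsUnit.of_mul_eq_one (a⁻¹ • (x - b • (1 : A))) ?_
    calc x * (a⁻¹ • (x - b • (1 : A))) = a⁻¹ • (x * x - b • x) := by
          rw [mul_smul_comm, mul_sub, mul_smul_comm, mul_one]
      _ = a⁻¹ • (a • (1 : A)) := by rw [hab]; congr 1; abel
      _ = 1 := by rw [smul_smul, inv_mul_cancel₀ ha, one_smul]
  rw [ha, zero_smul, zero_add] at hab
  have hb : b ≠ 0 := by
    intro hb
    rw [hb, zero_smul] at hab
    exact hx0 (IsReduced.eq_zero x ⟨2, by rw [pow_two, hab]⟩)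
  set e : A := b⁻¹ • x with he
  have hee : e * e = e := by
    rw [he, smul_mul_smul_comm, hab, smul_smul, mul_assoc, inv_mul_cancel₀ hb, mul_one]
  have he0 : e ≠ 0 := by
    rw [he]
    exact smul_ne_zero (inv_ne_zero hb) hx0
  have he1 : (1 : A) - e ≠ 0 := by
    intro h
    apply hxrange b
    have : e = 1 := (sub_eq_zero.mp h).symm
    calc x = b • e := by rw [he, smul_smul, mul_inv_cancel₀ hb, one_smul]
      _ = b • (1 : A) := by rw [this]
  have hee' : e * (1 - e) = 0 := by rw [mul_sub, mul_one, hee, sub_self]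
  have h1e : (1 - e) * (1 - e) = 1 - e := by
    have : (1 - e) * (1 - e) = 1 - e - (e * (1 - e)) := by ring
    rw [this, hee', sub_zero]
  let f₀ : κ × κ →ₗ[κ] A :=
    (LinearMap.fst κ κ κ).smulRight e + (LinearMap.snd κ κ κ).smulRight (1 - e)
  have hf₀ : ∀ p : κ × κ, f₀ p = p.1 • e + p.2 • (1 - e) := fun p => rfl
  let f : κ × κ →ₐ[κ] A := AlgHom.ofLinearMap f₀
    (by rw [hf₀]; simp)
    (by
      intro p q
      rw [hf₀, hf₀, hf₀]
      simp only [Prod.fst_mul, Prod.snd_mul]
      have : (p.1 • e + p.2 • (1 - e)) * (q.1 • e + q.2 • (1 - e)) =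
          (p.1 * q.1) • (e * e) + (p.1 * q.2 + p.2 * q.1) • (e * (1 - e)) +
            (p.2 * q.2) • ((1 - e) * (1 - e)) := by
        simp only [add_mul, mul_add, smul_mul_smul_comm, add_smul]
        rw [mul_comm (1 - e) e]
        abel
      rw [this, hee, hee', h1e, smul_zero, add_zero])
  have hf : ∀ p : κ × κ, f p = p.1 • e + p.2 • (1 - e) := fun p => rfl
  have hinj : Function.Injective f := by
    rw [injective_iff_map_eq_zero]
    intro p hp
    rw [hf] at hp
    have h1 : p.1 • e = 0 := by
      have := congr_arg (e * ·) hp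
      simp only [mul_add, mul_smul_comm, hee, hee', smul_zero, add_zero, mul_zero] at this
      exact this
    have h2' : p.2 • (1 - e) = 0 := by
      have := congr_arg ((1 - e) * ·) hp
      simp only [mul_add, mul_smul_comm, h1e, mul_zero] at this
      rw [mul_comm (1 - e) e, hee', smul_zero, zero_add] at this
      exact this
    have hp1 : p.1 = 0 := (smul_eq_zero.mp h1).resolve_right he0
    have hp2 : p.2 = 0 := (smul_eq_zero.mp h2').resolve_right he1
    exact Prod.ext hp1 hp2
  have hsurj : Function.Surjective f := by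
    have hfr : finrank κ (κ × κ) = finrank κ A := by
      rw [h2, Module.finrank_prod, Module.finrank_self]
    exact (LinearMap.injective_iff_surjective_of_finrank_eq_finrank (f := f.toLinearMap) hfr).mp hinj
  exact ⟨(AlgEquiv.ofBijective f ⟨hinj, hsurj⟩).symm⟩

end Groth.Agent.H77
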