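import Mathlib
universe u
namespace Groth.Agent.H77

theorem main68
    (I : Type u) [Fintype I] (d : I → ℕ) (θ₁ θ₂ : I → ℝ)
    (h₁ : ∑ i, θ₁ i * (d i : ℝ) = 0) (h₂ : ∑ i, θ₂ i * (d i : ℝ) = 0) :
    (∀ d' : I → ℕ, d' ≤ d →
        SignType.sign (∑ i, θ₁ i * (d' i : ℝ)) = SignType.sign (∑ i, θ₂ i * (d' i : ℝ))) ↔
    ∃ J₁ : Set (I → ℕ), J₁ ⊆ {d' | d' ≤ d ∧ ¬ ∃ m : ℕ, d = m • d'} ∧
      θ₂ ∈ connectedComponentIn
        {θ : I → ℝ | ∑ i, θ i * (d i : ℝ) = 0 ∧ (∀ d₁ ∈ J₁, ∑ i, θ i * (d₁ i : ℝ) = 0) ∧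
          ∀ d₂ : I → ℕ, d₂ ≤ d → (¬ ∃ m : ℕ, d = m • d₂) → d₂ ∉ J₁ →
            ∑ i, θ i * (d₂ i : ℝ) ≠ 0} θ₁ := by
  classical
  -- the linear functionals
  let ℓ : (I → ℕ) → (I → ℝ) → ℝ := fun d' θ => ∑ i, θ i * (d' i : ℝ)
  have hℓ : ∀ d' θ, ∑ i, θ i * (d' i : ℝ) = ℓ d' θ := fun _ _ => rfl
  have hlin : ∀ (d' : I → ℕ) (a b : ℝ) (x y : I → ℝ), ℓ d' (a • x + b • y) = a * ℓ d' x + b * ℓ d' y := by
    intro d' a b x y
    simp only [ℓ, Pi.add_apply, Pi.smul_apply, smul_eq_mul, Finset.mul_sum, ← Finset.sum_add_distrib]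
    apply Finset.sum_congr rfl
    intro i _
    ring
  have hcont : ∀ d' : I → ℕ, Continuous (ℓ d') := by
    intro d'
    apply continuous_finsetSum
    intro i _
    exact (continuous_apply i).mul continuous_const
  simp only [hℓ] at h₁ h₂ ⊢
  constructor
  · intro hsign
    refine ⟨{d' | d' ≤ d ∧ (¬ ∃ m : ℕ, d = m • d') ∧ ℓ d' θ₁ = 0}, fun d' hd' => ⟨hd'.1, hd'.2.1⟩, ?_⟩
    have hseg : segment ℝ θ₁ θ₂ ⊆ {θ : I → ℝ | ℓ d θ = 0 ∧
        (∀ d₁ ∈ {d' | d' ≤ d ∧ (¬ ∃ m : ℕ, d = m • d') ∧ ℓ d' θ₁ = 0}, ℓ d₁ θ = 0) ∧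
          ∀ d₂ : I → ℕ, d₂ ≤ d → (¬ ∃ m : ℕ, d = m • d₂) →
            d₂ ∉ {d' | d' ≤ d ∧ (¬ ∃ m : ℕ, d = m • d') ∧ ℓ d' θ₁ = 0} → ℓ d₂ θ ≠ 0} := by
      rintro θ ⟨a, b, ha, hb, hab, rfl⟩
      refine ⟨?_, ?_, ?_⟩
      · rw [hlin, h₁, h₂]; ring
      · rintro d₁ ⟨hd₁, _, h0⟩
        have hs := hsign d₁ hd₁
        rw [h0, sign_zero] at hs
        have h0' : ℓ d₁ θ₂ = 0 := sign_eq_zero_iff.mp hs.symm
        rw [hlin, h0, h0']; ring
      · intro d₂ hd₂ hnm hnJ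
        have hne : ℓ d₂ θ₁ ≠ 0 := fun h0 => hnJ ⟨hd₂, hnm, h0⟩
        have hs := hsign d₂ hd₂
        rw [hlin]
        rcases lt_or_gt_of_ne hne with hneg | hpos
        · have : ℓ d₂ θ₂ < 0 := by
            rw [← sign_eq_neg_one_iff, ← hs, sign_eq_neg_one_iff]; exact hneg
          have : a * ℓ d₂ θ₁ + b * ℓ d₂ θ₂ < 0 := by
            rcases eq_or_lt_of_le ha with ha0 | ha0
            · have hb1 : b = 1 := by linarith
              rw [← ha0, hb1]; linarith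
            · have := mul_neg_of_pos_of_neg ha0 hneg
              have := mul_nonpos_of_nonneg_of_nonpos hb (le_of_lt ‹ℓ d₂ θ₂ < 0›)
              linarith
          exact this.ne
        · have : 0 < ℓ d₂ θ₂ := by
            rw [← sign_eq_one_iff, ← hs, sign_eq_one_iff]; exact hpos
          have : 0 < a * ℓ d₂ θ₁ + b * ℓ d₂ θ₂ := by
            rcases eq_or_lt_of_le ha with ha0 | ha0
            · have hb1 : b = 1 := by linarith
              rw [← ha0, hb1]; linarith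
            · have := mul_pos ha0 hpos
              have := mul_nonneg hb (le_of_lt ‹0 < ℓ d₂ θ₂›)
              linarith
          exact this.ne'
    exact ((convex_segment θ₁ θ₂).isPreconnected.subset_connectedComponentIn
      (left_mem_segment ℝ θ₁ θ₂) hseg) (right_mem_segment ℝ θ₁ θ₂)
  · rintro ⟨J₁, hJ, hmem⟩ d' hd'
    set S : Set (I → ℝ) := {θ : I → ℝ | ℓ d θ = 0 ∧ (∀ d₁ ∈ J₁, ℓ d₁ θ = 0) ∧
          ∀ d₂ : I → ℕ, d₂ ≤ d → (¬ ∃ m : ℕ, d = m • d₂) → d₂ ∉ J₁ → ℓ d₂ θ ≠ 0} with hS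
    have hθ₁ : θ₁ ∈ S := by
      by_contra hc
      rw [connectedComponentIn_eq_empty hc] at hmem
      exact hmem
    have hsub : connectedComponentIn S θ₁ ⊆ S := connectedComponentIn_subset S θ₁
    have hθ₂ : θ₂ ∈ S := hsub hmem
    have hθ₁c : θ₁ ∈ connectedComponentIn S θ₁ := mem_connectedComponentIn hθ₁
    by_cases hmul : ∃ m : ℕ, d = m • d'
    · obtain ⟨m, hm⟩ := hmul
      have hzero : ∀ θ : I → ℝ, ℓ d θ = 0 → ℓ d' θ = 0 := by
        intro θ hθ
        rcases Nat.eq_zero_or_pos m with hm0 | hmpos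
        · have hd0 : d = 0 := by rw [hm, hm0, zero_smul]
          have hd'0 : d' = 0 := by
            ext i
            have := hd' i
            rw [hd0] at this
            simpa using this
          simp [ℓ, hd'0]
        · have : ℓ d θ = (m : ℝ) * ℓ d' θ := by
            simp only [ℓ, hm, Pi.smul_apply, smul_eq_mul, Nat.cast_mul, Finset.mul_sum]
            apply Finset.sum_congr rfl
            intro i _
            ring
          rw [this] at hθ
          have hm' : (m : ℝ) ≠ 0 := by exact_mod_cast hmpos.ne'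
          exact (mul_eq_zero.mp hθ).resolve_left hm'
      rw [hzero θ₁ h₁, hzero θ₂ h₂]
    · by_cases hJ' : d' ∈ J₁
      · rw [hθ₁.2.1 d' hJ', hθ₂.2.1 d' hJ']
      · have hne : ∀ θ ∈ connectedComponentIn S θ₁, ℓ d' θ ≠ 0 :=
          fun θ hθ => (hsub hθ).2.2 d' hd' hmul hJ'
        have hpre : IsPreconnected (connectedComponentIn S θ₁) := isPreconnected_connectedComponentIn
        have hco : ContinuousOn (ℓ d') (connectedComponentIn S θ₁) := (hcont d').continuousOn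
        have h1 := hne θ₁ hθ₁c
        have h2 := hne θ₂ hmem
        rcases lt_or_gt_of_ne h1 with hneg | hpos
        · rcases lt_or_gt_of_ne h2 with hneg2 | hpos2
          · rw [sign_neg hneg, sign_neg hneg2]
          · exfalso
            have := hpre.intermediate_value hθ₁c hmem hco ⟨hneg.le, hpos2.le⟩
            obtain ⟨θ, hθ, h0⟩ := this
            exact hne θ hθ h0
        · rcases lt_or_gt_of_ne h2 with hneg2 | hpos2
          · exfalso
            have := hpre.intermediate_value hmem hθ₁c hco ⟨hneg2.le, hpos.le⟩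
            obtain ⟨θ, hθ, h0⟩ := this
            exact hne θ hθ h0
          · rw [sign_pos hpos, sign_pos hpos2]

end Groth.Agent.H77
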