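import Mathlib
import Groth.Prelude.Def_GrMod3
import Groth.Agent.H77.GrModQC

/-!
# Quasi-coherence of the twisting sheaves `O(n)` on `Proj` (gradings by additive subgroups)
-/

set_option autoImplicit false
universe u
open CategoryTheory CategoryTheory.Limits AlgebraicGeometry Opposite TopologicalSpace
noncomputable section

namespace Groth.Agent.H77.TwistQC

variable {A σ : Type u} [CommRing A] [SetLike σ A] [AddSubgroupClass σ A] (𝒜 : ℕ → σ) [GradedRing 𝒜]

theorem twist_eq_tilde (n : ℤ) : GrTwist.twist 𝒜 n = GrMod.tilde 𝒜 𝒜 n := rfl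

theorem twist_isQuasicoherent (n : ℤ) : (GrTwist.twist 𝒜 n).IsQuasicoherent := by
  rw [twist_eq_tilde]
  exact Groth.Agent.H77.GrModQC.tilde_isQuasicoherent 𝒜 𝒜 n

end Groth.Agent.H77.TwistQC
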