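import Mathlib
import Groth.Prelude.Def_RelProj3
import Groth.Agent.H77.GrModQC
import Groth.Agent.H77.TwistQC
import Groth.Agent.H77.RestrictIso
import Groth.Agent.H77.RelTildeGlue

/-!
# Quasi-coherence of the modules `(ℳ(n))~` and `O(n)` on a relative Proj
-/

set_option autoImplicit false
universe u
open CategoryTheory CategoryTheory.Limits AlgebraicGeometry Opposite TopologicalSpace
noncomputable section

namespace Groth.Agent.H77.RelQC

variable {Y P : Scheme.{u}}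

theorem isOpenCover_preimage_affine (p : P ⟶ Y) :
    IsOpenCover (fun U : Y.affineOpens => p ⁻¹ᵁ U.1) := by
  refine IsOpenCover.mk (top_le_iff.mp ?_)
  intro x _
  obtain ⟨_, ⟨U, hU, rfl⟩, hxU, -⟩ := Y.isBasis_affineOpens.exists_subset_of_mem_open
    (Set.mem_univ (p.base x)) isOpen_univ
  exact Opens.mem_iSup.mpr ⟨⟨U, hU⟩, hxU⟩

variable (𝒮 : RelProj.QCGrAlg Y) (p : P ⟶ Y)
    (chart : ∀ (U : Y.Opens) (hU : IsAffineOpen U),
      (((p ⁻¹ᵁ U : P.Opens) : Scheme.{u}) ≅ Proj (𝒮.deg U hU)))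

theorem chart_hom_emb (U : Y.Opens) (hU : IsAffineOpen U) :
    (chart U hU).hom ≫ RelProj.emb p chart U hU = (p ⁻¹ᵁ U).ι := by
  rw [RelProj.emb, Iso.hom_inv_id_assoc]

theorem relTilde_isQuasicoherent (ℳ : RelProj.GrModule 𝒮) (n : ℤ) (F : P.Modules)
    (lam : ∀ (U : Y.Opens) (hU : IsAffineOpen U),
      F ⟶ (Scheme.Modules.pushforward (RelProj.emb p chart U hU)).obj
        (GrMod.tilde (𝒮.deg U hU) (ℳ.deg U hU) n))
    (hF : RelProj.IsRelTilde 𝒮 p chart ℳ n F lam) : F.IsQuasicoherent := by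
  refine Groth.Agent.H18.isQuasicoherent_of_isOpenCover F _ (isOpenCover_preimage_affine p)
    (fun U => ?_)
  have := Groth.Agent.H77.GrModQC.tilde_isQuasicoherent (𝒮.deg U.1 U.2) (ℳ.deg U.1 U.2) n
  exact Groth.Agent.H77.RestrictIso.isQuasicoherent_restrict_ι (RelProj.emb p chart U.1 U.2)
    (lam U.1 U.2)
    (fun W hW => hF.bijective U.1 U.2 W
      (by rwa [Groth.Agent.H77.RelTildeGlue.opensRange_emb] at hW))
    (p ⁻¹ᵁ U.1) (chart U.1 U.2) (chart_hom_emb 𝒮 p chart U.1 U.2)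

theorem relTwist_isQuasicoherent (n : ℤ) (L : P.Modules)
    (lam : ∀ (U : Y.Opens) (hU : IsAffineOpen U),
      L ⟶ (Scheme.Modules.pushforward (RelProj.emb p chart U hU)).obj
        (GrTwist.twist (𝒮.deg U hU) n))
    (hL : RelProj.IsRelTwist 𝒮 p chart n L lam) : L.IsQuasicoherent := by
  refine Groth.Agent.H18.isQuasicoherent_of_isOpenCover L _ (isOpenCover_preimage_affine p)
    (fun U => ?_)
  have := Groth.Agent.H77.TwistQC.twist_isQuasicoherent (𝒮.deg U.1 U.2) n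
  exact Groth.Agent.H77.RestrictIso.isQuasicoherent_restrict_ι (RelProj.emb p chart U.1 U.2)
    (lam U.1 U.2)
    (fun W hW => hL.bijective U.1 U.2 W
      (by rwa [Groth.Agent.H77.RelTildeGlue.opensRange_emb] at hW))
    (p ⁻¹ᵁ U.1) (chart U.1 U.2) (chart_hom_emb 𝒮 p chart U.1 U.2)

end Groth.Agent.H77.RelQC
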