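import Mathlib
import Groth.Prelude.Def_RelProj3
import Groth.Agent.H77.RelTildeGlue
import Groth.Agent.H77.GrModTN
import Groth.Agent.H77.GrModComap
import Groth.Agent.H18.QCohLocalize

/-!
# (TF) + `ℳ~ = 0` ⟹ (TN) on a quasi-compact base
-/

set_option autoImplicit false
universe u
open CategoryTheory CategoryTheory.Limits AlgebraicGeometry Opposite TopologicalSpace
open scoped HomogeneousIdeal
noncomputable section

namespace Groth.Agent.H77.RelTN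

open Groth.Agent.H77.RelTildeCore Groth.Agent.H77.RelGlue Groth.Agent.H77.RelTildeGlue

theorem section_eq_zero_of_isZero {X : Scheme.{u}} {F : X.Modules} (h0 : IsZero F) (W : X.Opens)
    (t : Γ(F, W)) : t = 0 := by
  have h : (𝟙 F : F ⟶ F) = 0 := h0.eq_of_src _ _
  have := congrArg (fun f => (Scheme.Modules.Hom.app f W) t) h
  exact this

section
variable {Y P : Scheme.{u}} (𝒮 : RelProj.QCGrAlg Y) (p : P ⟶ Y)
    (chart : ∀ (U : Y.Opens) (hU : IsAffineOpen U),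
      (((p ⁻¹ᵁ U : P.Opens) : Scheme.{u}) ≅ Proj (𝒮.deg U hU)))
    (ℳ : RelProj.GrModule 𝒮) {F : P.Modules}
    (lam : ∀ (U : Y.Opens) (hU : IsAffineOpen U),
      F ⟶ (Scheme.Modules.pushforward (RelProj.emb p chart U hU)).obj
        (GrMod.tilde (𝒮.deg U hU) (ℳ.deg U hU) 0))
    (hF : RelProj.IsRelTilde 𝒮 p chart ℳ 0 F lam) (h0 : IsZero F)

include hF h0 in
theorem sect_zero_of_isZero (U : Y.Opens) (hU : IsAffineOpen U)
    (V : Opens (ProjectiveSpectrum.top (𝒮.deg U hU)))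
    (s : GrMod.sect (𝒮.deg U hU) (ℳ.deg U hU) 0 (op V)) : s = 0 := by
  let V' : (Proj (𝒮.deg U hU)).Opens := V
  have hWU : RelProj.emb p chart U hU ''ᵁ V' ≤ p ⁻¹ᵁ U := by
    rintro _ ⟨z, -, rfl⟩
    exact emb_mem 𝒮 p chart U hU z
  have hle : RelProj.emb p chart U hU ⁻¹ᵁ (RelProj.emb p chart U hU ''ᵁ V') ≤ V' :=
    le_of_eq ((RelProj.emb p chart U hU).preimage_image_eq V')
  obtain ⟨t, ht⟩ := (hF.bijective U hU _ hWU).2
    (GrMod.res (𝒮.deg U hU) (ℳ.deg U hU) 0 (homOfLE hle).op s)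
  rw [section_eq_zero_of_isZero h0 _ t, map_zero] at ht
  refine Subtype.ext (funext fun y => ?_)
  have hy : y.1 ∈ RelProj.emb p chart U hU ⁻¹ᵁ (RelProj.emb p chart U hU ''ᵁ V') :=
    ⟨y.1, y.2, rfl⟩
  have := congrArg (fun σ : GrMod.sect (𝒮.deg U hU) (ℳ.deg U hU) 0
    (op (RelProj.emb p chart U hU ⁻¹ᵁ (RelProj.emb p chart U hU ''ᵁ V'))) => σ.1 ⟨y.1, hy⟩) ht
  exact this.symm

end

section
variable {Y P : Scheme.{u}} (𝒮 : RelProj.QCGrAlg Y) (p : P ⟶ Y)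
    (chart : ∀ (U : Y.Opens) (hU : IsAffineOpen U),
      (((p ⁻¹ᵁ U : P.Opens) : Scheme.{u}) ≅ Proj (𝒮.deg U hU)))
    (hgen : 𝒮.IsGenDegOne) (hft : 𝒮.IsFTDeg 1)
    (ℳ : RelProj.GrModule 𝒮) {F : P.Modules}
    (lam : ∀ (U : Y.Opens) (hU : IsAffineOpen U),
      F ⟶ (Scheme.Modules.pushforward (RelProj.emb p chart U hU)).obj
        (GrMod.tilde (𝒮.deg U hU) (ℳ.deg U hU) 0))
    (hF : RelProj.IsRelTilde 𝒮 p chart ℳ 0 F lam) (h0 : IsZero F)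

include hgen hft hF h0 in
/-- the (TN) bound over one affine open -/
theorem chart_tn (n₁ : ℕ)
    (hTF : ∀ (U : Y.Opens) (hU : IsAffineOpen U),
      (Submodule.span (𝒮.presheaf.obj (op U))
        (⋃ k ∈ Set.Ici n₁, (ℳ.deg U hU k : Set (ℳ.mod.val.obj (op U))))).FG)
    (U : Y.Opens) (hU : IsAffineOpen U) :
    ∃ K : ℕ, ∀ k, K ≤ k → ∀ m ∈ ℳ.deg U hU k, m = 0 := by
  let _ : Algebra Γ(Y, U) (𝒮.presheaf.obj (op U)) := (𝒮.str.app (op U)).hom.toAlgebra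
  obtain ⟨T, hT, hTspan⟩ := hft U hU
  have halg : ∀ r : Γ(Y, U), algebraMap Γ(Y, U) (𝒮.presheaf.obj (op U)) r ∈ 𝒮.deg U hU 0 :=
    fun r => 𝒮.str_mem U hU r
  have hT' : ∀ t ∈ T, t ∈ 𝒮.deg U hU 1 := fun t ht => hT ht
  have hspan : ∀ x ∈ 𝒮.deg U hU 1,
      x ∈ Submodule.span Γ(Y, U) (T : Set (𝒮.presheaf.obj (op U))) := by
    intro x hx
    obtain ⟨c, hc⟩ := hTspan x hx
    rw [hc]
    refine Submodule.sum_mem _ fun t ht => ?_
    have : (𝒮.str.app (op U)).hom (c t) * t = c t • t := (Algebra.smul_def _ _).symm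
    rw [this]
    exact Submodule.smul_mem _ _ (Submodule.subset_span ht)
  exact Groth.Agent.H77.GrModTN.tn_of_sect_zero (𝒮.deg U hU) (ℳ.deg U hU) halg T hT' hspan
    (hgen U hU) n₁ (hTF U hU)
    (fun V s => sect_zero_of_isZero 𝒮 p chart ℳ lam hF h0 U hU V s)

end

section
variable {Y : Scheme.{u}} (𝒮 : RelProj.QCGrAlg Y) (ℳ : RelProj.GrModule 𝒮)
    (hℳ : Coh.IsQCoh ((AMod.toOS 𝒮.toQCAlg).obj ℳ.mod))

include hℳ in
/-- vanishing of a graded piece passes to basic opens -/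
theorem tn_basicOpen (U : Y.Opens) (hU : IsAffineOpen U) (f : Γ(Y, U)) (k : ℕ)
    (hk : ∀ m ∈ ℳ.deg U hU k, m = 0) :
    ∀ y ∈ ℳ.deg (Y.basicOpen f) (hU.basicOpen f) k, y = 0 := by
  intro y hy
  haveI : ((AMod.toOS 𝒮.toQCAlg).obj ℳ.mod).IsQuasicoherent := hℳ
  obtain ⟨j, x, hx⟩ := Groth.Agent.H18.exists_pow_smul_eq_res_of_isQuasicoherent
    ((AMod.toOS 𝒮.toQCAlg).obj ℳ.mod) hU f
    (show Γ((AMod.toOS 𝒮.toQCAlg).obj ℳ.mod, Y.basicOpen f) from y)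
  set hD := hU.basicOpen f
  set r := Y.presheaf.map (homOfLE (Y.basicOpen_le f)).op f with hr
  set c := (𝒮.str.app (op (Y.basicOpen f))).hom r with hc
  have hx' : c ^ j • y = ℳ.res hU hD (Y.basicOpen_le f) (show ℳ.mod.val.obj (op U) from x) := by
    rw [hc, ← map_pow]
    exact hx
  have hcu : IsUnit c := (RingedSpace.isUnit_res_basicOpen _ f).map _
  have hc0 : c ∈ 𝒮.deg (Y.basicOpen f) hD 0 := 𝒮.str_mem _ hD r
  have hcj : c ^ j ∈ 𝒮.deg (Y.basicOpen f) hD 0 := by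
    have := SetLike.pow_mem_graded j hc0
    simpa using this
  have hmem : c ^ j • y ∈ ℳ.deg (Y.basicOpen f) hD k := by
    have := SetLike.GradedSMul.smul_mem hcj hy
    simpa using this
  have hdec := Groth.Agent.H77.GrModComap.map_decompose_add (ℳ.deg U hU) (ℳ.deg (Y.basicOpen f) hD)
    (ℳ.res hU hD (Y.basicOpen_le f)).toAddMonoidHom
    (fun i m hm => ℳ.res_mem hU hD (Y.basicOpen_le f) i m hm)
    (show ℳ.mod.val.obj (op U) from x) k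
  have hzero : ((DirectSum.decompose (ℳ.deg U hU) (show ℳ.mod.val.obj (op U) from x) k :
      ℳ.deg U hU k) : ℳ.mod.val.obj (op U)) = 0 := hk _ (Subtype.prop _)
  rw [hzero, map_zero] at hdec
  have h1 : c ^ j • y = 0 := by
    rw [← DirectSum.decompose_of_mem_same (ℳ.deg (Y.basicOpen f) hD) hmem, hx']
    exact hdec.symm
  have hcju : IsUnit (c ^ j) := hcu.pow j
  obtain ⟨v, hv⟩ := hcju
  have := congrArg (fun z => (↑v⁻¹ : 𝒮.presheaf.obj (op (Y.basicOpen f))) • z) h1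
  simp only [smul_zero] at this
  rwa [← hv, smul_smul, Units.inv_mul, one_smul] at this

end

section
variable {Y P : Scheme.{u}} (𝒮 : RelProj.QCGrAlg Y) (p : P ⟶ Y)
    (chart : ∀ (U : Y.Opens) (hU : IsAffineOpen U),
      (((p ⁻¹ᵁ U : P.Opens) : Scheme.{u}) ≅ Proj (𝒮.deg U hU)))
    (hgen : 𝒮.IsGenDegOne) (hft : 𝒮.IsFTDeg 1)
    (ℳ : RelProj.GrModule 𝒮) (hℳ : Coh.IsQCoh ((AMod.toOS 𝒮.toQCAlg).obj ℳ.mod))
    {F : P.Modules}
    (lam : ∀ (U : Y.Opens) (hU : IsAffineOpen U),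
      F ⟶ (Scheme.Modules.pushforward (RelProj.emb p chart U hU)).obj
        (GrMod.tilde (𝒮.deg U hU) (ℳ.deg U hU) 0))
    (hF : RelProj.IsRelTilde 𝒮 p chart ℳ 0 F lam) (h0 : IsZero F)

omit p chart in
theorem deg_congr {V₁ V₂ : Y.Opens} (e : V₁ = V₂) (h₁ : IsAffineOpen V₁) (h₂ : IsAffineOpen V₂)
    (k : ℕ) (h : ∀ y ∈ ℳ.deg V₁ h₁ k, y = 0) : ∀ y ∈ ℳ.deg V₂ h₂ k, y = 0 := by
  subst e
  exact h

include hgen hft hℳ hF h0 in
/-- (TF) + `ℳ~ = 0` ⟹ (TN) over a quasi-compact base -/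
theorem isTN_of_isZero [CompactSpace Y] (hTF : ℳ.IsTF) : ℳ.IsTN := by
  classical
  obtain ⟨n₁, hTF⟩ := hTF
  choose K hK using fun (U : Y.affineOpens) =>
    chart_tn 𝒮 p chart hgen hft ℳ lam hF h0 n₁ hTF U.1 U.2
  have hcov : (Set.univ : Set Y) ⊆ ⋃ U : Y.affineOpens, ((U : Y.Opens) : Set Y) := by
    intro x _
    obtain ⟨U, hU, hxU, -⟩ := exists_isAffineOpen_mem_and_subset (X := Y) (x := x)
      (U := ⊤) trivial
    exact Set.mem_iUnion.mpr ⟨⟨U, hU⟩, hxU⟩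
  obtain ⟨t, ht⟩ := isCompact_univ.elim_finite_subcover
    (fun U : Y.affineOpens => ((U : Y.Opens) : Set Y)) (fun U => U.1.isOpen) hcov
  refine ⟨t.sup K, fun V hV k hk m hm => ?_⟩
  refine eq_of_locally_eq ((AMod.toOS 𝒮.toQCAlg).obj ℳ.mod)
    (show Γ((AMod.toOS 𝒮.toQCAlg).obj ℳ.mod, V) from m) 0 (fun x hx => ?_)
  have hxt := ht (Set.mem_univ x)
  simp only [Set.mem_iUnion, exists_prop] at hxt
  obtain ⟨U, hUt, hxU⟩ := hxt
  obtain ⟨f, g, hfg, hxf⟩ := exists_basicOpen_le_affine_inter U.2 hV x ⟨hxU, hx⟩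
  refine ⟨Y.basicOpen g, Y.basicOpen_le g, hfg ▸ hxf, ?_⟩
  rw [map_zero]
  have hKU : K U ≤ k := le_trans (Finset.le_sup (f := K) hUt) hk
  have hz := deg_congr 𝒮 ℳ hfg (U.2.basicOpen f) (hV.basicOpen g) k
    (tn_basicOpen 𝒮 ℳ hℳ U.1 U.2 f k (hK U k hKU))
  exact hz _ (ℳ.res_mem hV (hV.basicOpen g) (Y.basicOpen_le g) k m hm)

end

end Groth.Agent.H77.RelTN
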