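import Mathlib
import Groth.Prelude.Def_GrMod3
import Groth.Agent.H77.GrModExact
import Groth.Agent.H77.GrModComap

/-!
# The comparison map of twisting sheaves `O_A(n) ⟶ Φ_* O_B(n)` along `Φ = Proj.map ψ`

Port of `H77/GrModComap` to `GrTwist.comap`, with "eventually bijective" hypotheses.
-/

set_option autoImplicit false
universe u

open AlgebraicGeometry CategoryTheory TopologicalSpace Opposite
open scoped HomogeneousIdeal

namespace Groth.Agent.H77.TwistComap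

open DirectSum Groth.Agent.H77.GrModGlue Groth.Agent.H77.GrModExact

variable {A σ : Type u} [CommRing A] [SetLike σ A] [AddSubgroupClass σ A] {𝒜 : ℕ → σ} [GradedRing 𝒜]
variable {B σ' : Type u} [CommRing B] [SetLike σ' B] [AddSubgroupClass σ' B] {ℬ : ℕ → σ'} [GradedRing ℬ]
variable (ψ : 𝒜 →+*ᵍ ℬ) (hψ : ℬ₊ ≤ (𝒜₊).map ψ) (n : ℤ)

/-- the section `x ↦ a / f ^ K` of `O(n)` over `D₊(f)` -/
def twFrac (n : ℤ) {d : ℕ} {f : A} (hf : f ∈ 𝒜 d) (K i : ℕ) (m : 𝒜 i)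
    (hdeg : (i : ℤ) = K * d + n) :
    GrTwist.sectN (𝒜 := 𝒜) n (op (ProjectiveSpectrum.basicOpen 𝒜 f)) :=
  fracSect 𝒜 𝒜 n hf K i m hdeg

lemma twFrac_val (n : ℤ) {d : ℕ} {f : A} (hf : f ∈ 𝒜 d) (K i : ℕ) (m : 𝒜 i)
    (hdeg : (i : ℤ) = K * d + n) (x : ProjectiveSpectrum.basicOpen 𝒜 f) :
    (((twFrac n hf K i m hdeg).1 x : GrTwist.twistAt 𝒜 n x.1) : GrTwist.Loc 𝒜 x.1) =
      Localization.mk (m : A) (⟨f ^ K, fun h =>
        (ProjectiveSpectrum.mem_basicOpen 𝒜 f x.1).mp x.2 (x.1.isPrime.mem_of_pow_mem K h)⟩ :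
        x.1.asHomogeneousIdeal.toIdeal.primeCompl) := rfl

theorem exists_eq_twFrac (n : ℤ) {d : ℕ} (hd : 0 < d) {f : A} (hf : f ∈ 𝒜 d)
    (s : GrTwist.sectN (𝒜 := 𝒜) n (op (ProjectiveSpectrum.basicOpen 𝒜 f))) :
    ∃ (k i : ℕ) (m : 𝒜 i) (hdeg : (i : ℤ) = k * d + n), s = twFrac n hf k i m hdeg :=
  exists_eq_frac 𝒜 𝒜 n hd hf s

theorem comapApp_injective {d : ℕ} (hd : 0 < d) {f : A} (hf : f ∈ 𝒜 d) (d₀ : ℕ)
    (hinj : ∀ i, d₀ ≤ i → ∀ a ∈ 𝒜 i, ψ a = 0 → a = 0)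
    (V : Opens (ProjectiveSpectrum ℬ)) (hV : V = ProjectiveSpectrum.basicOpen ℬ (ψ f))
    (hUV : V.1 ⊆ ProjectiveSpectrum.comap ψ hψ ⁻¹' (ProjectiveSpectrum.basicOpen 𝒜 f).1) :
    Function.Injective (GrTwist.comapApp ψ hψ n (ProjectiveSpectrum.basicOpen 𝒜 f) V hUV) := by
  subst hV
  rw [injective_iff_map_eq_zero]
  intro s hs
  obtain ⟨k, i, m, hdeg, rfl⟩ := exists_eq_twFrac n hd hf s
  have hψf : ψ f ∈ ℬ d := ψ.map_mem hf
  have hloc : ∀ y : ProjectiveSpectrum ℬ, ψ f ∉ y.asHomogeneousIdeal →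
      ∃ t : B, t ∉ y.asHomogeneousIdeal ∧ t • ψ (m : A) = 0 := by
    intro y hy
    have hyV : y ∈ ProjectiveSpectrum.basicOpen ℬ (ψ f) :=
      (ProjectiveSpectrum.mem_basicOpen ℬ (ψ f) y).mpr hy
    have h1 := congrArg (fun s : GrTwist.sectN (𝒜 := ℬ) n (op (ProjectiveSpectrum.basicOpen ℬ (ψ f))) =>
      ((s.1 ⟨y, hyV⟩ : GrTwist.twistAt ℬ n y) : GrTwist.Loc ℬ y)) hs
    change GrTwist.locMap ψ hψ y (Localization.mk (m : A) ⟨f ^ k, _⟩) = 0 at h1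
    rw [GrTwist.locMap_mk, ← Localization.mk_zero (1 : y.asHomogeneousIdeal.toIdeal.primeCompl),
      Localization.mk_eq_mk_iff, Localization.r_iff_exists] at h1
    obtain ⟨t, ht⟩ := h1
    refine ⟨t.1, t.2, ?_⟩
    simpa using ht
  obtain ⟨K, hK⟩ := exists_pow_smul_eq_zero_of_forall_localized_eq_zero ℬ ℬ (ψ.map_mem m.2) hd hψf hloc
  have hmem : f ^ (K + d₀) * (m : A) ∈ 𝒜 ((K + d₀) • d + i) :=
    SetLike.mul_mem_graded (SetLike.pow_mem_graded _ hf) m.2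
  have hzero : f ^ (K + d₀) * (m : A) = 0 := by
    refine hinj _ ?_ _ hmem ?_
    · have : d₀ ≤ (K + d₀) * d := by nlinarith
      simp only [smul_eq_mul]
      omega
    · have hK' : ψ f ^ K * ψ (m : A) = 0 := hK
      rw [map_mul, map_pow, pow_add, mul_comm (ψ f ^ K), mul_assoc, hK', mul_zero]
  refine Subtype.ext (funext fun x => Subtype.ext ?_)
  rw [twFrac_val]
  have hxf : f ∉ x.1.asHomogeneousIdeal := (ProjectiveSpectrum.mem_basicOpen 𝒜 f x.1).mp x.2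
  have hfKx : f ^ (K + d₀) ∉ x.1.asHomogeneousIdeal := fun h => hxf (x.1.isPrime.mem_of_pow_mem _ h)
  change Localization.mk (m : A) _ = 0
  rw [← Localization.mk_zero (1 : x.1.asHomogeneousIdeal.toIdeal.primeCompl),
    Localization.mk_eq_mk_iff, Localization.r_iff_exists]
  refine ⟨⟨f ^ (K + d₀), hfKx⟩, ?_⟩
  simp only [OneMemClass.coe_one, one_mul, mul_zero]
  exact hzero

theorem comapApp_surjective {d : ℕ} (hd : 0 < d) {f : A} (hf : f ∈ 𝒜 d) (d₀ : ℕ)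
    (hsurj : ∀ i, d₀ ≤ i → ∀ b ∈ ℬ i, ∃ a ∈ 𝒜 i, ψ a = b)
    (V : Opens (ProjectiveSpectrum ℬ)) (hV : V = ProjectiveSpectrum.basicOpen ℬ (ψ f))
    (hUV : V.1 ⊆ ProjectiveSpectrum.comap ψ hψ ⁻¹' (ProjectiveSpectrum.basicOpen 𝒜 f).1) :
    Function.Surjective (GrTwist.comapApp ψ hψ n (ProjectiveSpectrum.basicOpen 𝒜 f) V hUV) := by
  subst hV
  intro t
  have hψf : ψ f ∈ ℬ d := ψ.map_mem hf
  obtain ⟨k, i, b, hdeg, rfl⟩ := exists_eq_twFrac n hd hψf t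
  have hmem : ψ f ^ d₀ * (b : B) ∈ ℬ (d₀ • d + i) :=
    SetLike.mul_mem_graded (SetLike.pow_mem_graded _ hψf) b.2
  have hge : d₀ ≤ d₀ • d + i := by
    have : d₀ ≤ d₀ * d := Nat.le_mul_of_pos_right _ hd
    simp only [smul_eq_mul]
    omega
  obtain ⟨a, ha, hab⟩ := hsurj _ hge _ hmem
  have hdeg' : ((d₀ • d + i : ℕ) : ℤ) = ((k + d₀ : ℕ) : ℤ) * d + n := by
    simp only [smul_eq_mul]
    push_cast
    rw [hdeg]
    ring
  refine ⟨twFrac n hf (k + d₀) (d₀ • d + i) ⟨a, ha⟩ hdeg', ?_⟩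
  refine Subtype.ext (funext fun y => Subtype.ext ?_)
  rw [twFrac_val]
  change GrTwist.locMap ψ hψ y.1 (Localization.mk a ⟨f ^ (k + d₀), _⟩) = _
  rw [GrTwist.locMap_mk, Localization.mk_eq_mk_iff, Localization.r_iff_exists]
  refine ⟨1, ?_⟩
  simp only [OneMemClass.coe_one, one_mul]
  rw [hab, map_pow, pow_add]
  ring

set_option backward.isDefEq.respectTransparency false in
theorem isIso_comap (d₀ : ℕ)
    (hinj : ∀ i, d₀ ≤ i → ∀ a ∈ 𝒜 i, ψ a = 0 → a = 0)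
    (hsurj : ∀ i, d₀ ≤ i → ∀ b ∈ ℬ i, ∃ a ∈ 𝒜 i, ψ a = b) :
    IsIso (GrTwist.comap ψ hψ n) := by
  rw [Scheme.Modules.Hom.isIso_iff_isIso_app]
  intro U
  let φ := GrTwist.comap ψ hψ n
  let F : TopCat.Sheaf Ab (Proj 𝒜) :=
    ⟨(GrTwist.twist 𝒜 n).presheaf, (GrTwist.twist 𝒜 n).isSheaf⟩
  let G : TopCat.Sheaf Ab (Proj 𝒜) :=
    ⟨((Scheme.Modules.pushforward (Proj.map ψ hψ)).obj (GrTwist.twist ℬ n)).presheaf,
      Scheme.Modules.isSheaf _⟩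
  let f : F ⟶ G := ⟨φ.mapPresheaf⟩
  have hB := Groth.Agent.H77.GrModComap.isBasis_posBasicOpen 𝒜
  have hbasis : ∀ W ∈ {U : Opens (ProjectiveSpectrum 𝒜) | ∃ (d : ℕ) (f : A), 0 < d ∧ f ∈ 𝒜 d ∧
      U = ProjectiveSpectrum.basicOpen 𝒜 f}, Function.Bijective (φ.mapPresheaf.app (op W)) := by
    rintro W ⟨d, g, hd, hg, rfl⟩
    have hV : (Proj.map ψ hψ ⁻¹ᵁ (ProjectiveSpectrum.basicOpen 𝒜 g) : Opens (ProjectiveSpectrum ℬ)) =
        ProjectiveSpectrum.basicOpen ℬ (ψ g) := by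
      ext y
      rfl
    exact ⟨comapApp_injective ψ hψ n hd hg d₀ hinj _ hV _,
      comapApp_surjective ψ hψ n hd hg d₀ hsurj _ hV _⟩
  have hb := TopCat.Presheaf.app_bijective_of_stalkFunctor_map_bijective f U (fun x _ =>
    ⟨TopCat.Presheaf.stalkFunctor_map_injective_of_isBasis hB (fun W hW => (hbasis W hW).1) x, ?_⟩)
  · rw [ConcreteCategory.isIso_iff_bijective]
    exact hb
  · intro t
    obtain ⟨W, hxW, hW, s, rfl⟩ := TopCat.Presheaf.exists_mem_germ_eq_of_isBasis hB G.1 x t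
    obtain ⟨s', rfl⟩ := (hbasis W hW).2 s
    exact ⟨TopCat.Presheaf.germ F.1 W x hxW s',
      TopCat.Presheaf.stalkFunctor_map_germ_apply W x hxW f.1 s'⟩

end Groth.Agent.H77.TwistComap
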