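import Mathlib
import Groth.Prelude.Def_GrMod3
import Groth.Agent.H77.TwistComap
import Groth.Agent.H77.SheafLocalBij
import Groth.Agent.H77.RestrictIso
import Groth.Agent.H41.ProjLoc

/-!
# `GrTwist.comap` for a graded localization at a degree-zero element

`ψ : A → B = A_g`, `g ∈ A_0`.  The comparison map `O_A(n) ⟶ Φ_* O_B(n)` (`Φ = Proj.map ψ`) is bijective on
sections over every open contained in `{x | g ∉ x}`, and its adjoint `Φ^* O_A(n) ⟶ O_B(n)` is an isomorphism.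
-/

set_option autoImplicit false
universe u

open AlgebraicGeometry CategoryTheory TopologicalSpace Opposite
open scoped HomogeneousIdeal

namespace Groth.Agent.H77.TwistComapLoc

open DirectSum Groth.Agent.H77.GrModGlue Groth.Agent.H77.GrModExact Groth.Agent.H77.TwistComap

variable {A σ : Type u} [CommRing A] [SetLike σ A] [AddSubgroupClass σ A] {𝒜 : ℕ → σ} [GradedRing 𝒜]
variable {B σ' : Type u} [CommRing B] [SetLike σ' B] [AddSubgroupClass σ' B] {ℬ : ℕ → σ'} [GradedRing ℬ]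
variable (ψ : 𝒜 →+*ᵍ ℬ) (hψ : ℬ₊ ≤ (𝒜₊).map ψ) (n : ℤ)

/-- injectivity of `comapApp` on `D₊(f)` when the kernel of `ψ` is killed by powers of `f` -/
theorem comapApp_injective' {d : ℕ} (hd : 0 < d) {f : A} (hf : f ∈ 𝒜 d)
    (hinj : ∀ i, ∀ a ∈ 𝒜 i, ψ a = 0 → ∃ j : ℕ, f ^ j * a = 0)
    (V : Opens (ProjectiveSpectrum ℬ)) (hV : V = ProjectiveSpectrum.basicOpen ℬ (ψ f))
    (hUV : V.1 ⊆ ProjectiveSpectrum.comap ψ hψ ⁻¹' (ProjectiveSpectrum.basicOpen 𝒜 f).1) :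
    Function.Injective (GrTwist.comapApp ψ hψ n (ProjectiveSpectrum.basicOpen 𝒜 f) V hUV) := by
  subst hV
  rw [injective_iff_map_eq_zero]
  intro s hs
  obtain ⟨k, i, m, hdeg, rfl⟩ := exists_eq_twFrac n hd hf s
  have hψf : ψ f ∈ ℬ d := ψ.map_mem hf
  have hloc : ∀ y : ProjectiveSpectrum ℬ, ψ f ∉ y.asHomogeneousIdeal →
      ∃ t : B, t ∉ y.asHomogeneousIdeal ∧ t • ψ (m : A) = 0 := by
    intro y hy
    have hyV : y ∈ ProjectiveSpectrum.basicOpen ℬ (ψ f) :=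
      (ProjectiveSpectrum.mem_basicOpen ℬ (ψ f) y).mpr hy
    have h1 := congrArg (fun s : GrTwist.sectN (𝒜 := ℬ) n (op (ProjectiveSpectrum.basicOpen ℬ (ψ f))) =>
      ((s.1 ⟨y, hyV⟩ : GrTwist.twistAt ℬ n y) : GrTwist.Loc ℬ y)) hs
    change GrTwist.locMap ψ hψ y (Localization.mk (m : A) ⟨f ^ k, _⟩) = 0 at h1
    rw [GrTwist.locMap_mk, ← Localization.mk_zero (1 : y.asHomogeneousIdeal.toIdeal.primeCompl),
      Localization.mk_eq_mk_iff, Localization.r_iff_exists] at h1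
    obtain ⟨t, ht⟩ := h1
    refine ⟨t.1, t.2, ?_⟩
    simpa using ht
  obtain ⟨K, hK⟩ := exists_pow_smul_eq_zero_of_forall_localized_eq_zero ℬ ℬ (ψ.map_mem m.2) hd hψf hloc
  have hmem : f ^ K * (m : A) ∈ 𝒜 (K • d + i) :=
    SetLike.mul_mem_graded (SetLike.pow_mem_graded _ hf) m.2
  obtain ⟨j, hj⟩ := hinj _ _ hmem (by
    have hK' : ψ f ^ K * ψ (m : A) = 0 := hK
    rw [map_mul, map_pow, hK'])
  have hzero : f ^ (j + K) * (m : A) = 0 := by
    rw [pow_add, mul_assoc, hj]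
  refine Subtype.ext (funext fun x => Subtype.ext ?_)
  rw [twFrac_val]
  have hxf : f ∉ x.1.asHomogeneousIdeal := (ProjectiveSpectrum.mem_basicOpen 𝒜 f x.1).mp x.2
  have hfKx : f ^ (j + K) ∉ x.1.asHomogeneousIdeal := fun h => hxf (x.1.isPrime.mem_of_pow_mem _ h)
  change Localization.mk (m : A) _ = 0
  rw [← Localization.mk_zero (1 : x.1.asHomogeneousIdeal.toIdeal.primeCompl),
    Localization.mk_eq_mk_iff, Localization.r_iff_exists]
  refine ⟨⟨f ^ (j + K), hfKx⟩, ?_⟩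
  simp only [OneMemClass.coe_one, one_mul, mul_zero]
  exact hzero

/-- surjectivity of `comapApp` on `D₊(f)` when every homogeneous `b` lifts after multiplying by a power of `ψ f` -/
theorem comapApp_surjective' {d : ℕ} (hd : 0 < d) {f : A} (hf : f ∈ 𝒜 d)
    (hsurj : ∀ i, ∀ b ∈ ℬ i, ∃ j : ℕ, ∃ a ∈ 𝒜 (j • d + i), ψ a = ψ f ^ j * b)
    (V : Opens (ProjectiveSpectrum ℬ)) (hV : V = ProjectiveSpectrum.basicOpen ℬ (ψ f))
    (hUV : V.1 ⊆ ProjectiveSpectrum.comap ψ hψ ⁻¹' (ProjectiveSpectrum.basicOpen 𝒜 f).1) :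
    Function.Surjective (GrTwist.comapApp ψ hψ n (ProjectiveSpectrum.basicOpen 𝒜 f) V hUV) := by
  subst hV
  intro t
  have hψf : ψ f ∈ ℬ d := ψ.map_mem hf
  obtain ⟨k, i, b, hdeg, rfl⟩ := exists_eq_twFrac n hd hψf t
  obtain ⟨j, a, ha, hab⟩ := hsurj _ _ b.2
  have hdeg' : ((j • d + i : ℕ) : ℤ) = ((k + j : ℕ) : ℤ) * d + n := by
    simp only [smul_eq_mul]
    push_cast
    rw [hdeg]
    ring
  refine ⟨twFrac n hf (k + j) (j • d + i) ⟨a, ha⟩ hdeg', ?_⟩
  refine Subtype.ext (funext fun y => Subtype.ext ?_)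
  rw [twFrac_val]
  change GrTwist.locMap ψ hψ y.1 (Localization.mk a ⟨f ^ (k + j), _⟩) = _
  rw [GrTwist.locMap_mk, Localization.mk_eq_mk_iff, Localization.r_iff_exists]
  refine ⟨1, ?_⟩
  simp only [OneMemClass.coe_one, one_mul]
  rw [hab, map_pow, pow_add]
  ring

section GrLoc

variable {ψ} {g : A} (h : Groth.Agent.H41.ProjLoc.IsGrLoc ψ g)

include h in
/-- `GrTwist.comap` is bijective on sections over `D₊(g f)` -/
theorem comapApp_bijective_of_isGrLoc {d : ℕ} (hd : 0 < d) {f : A} (hf : f ∈ 𝒜 d)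
    (V : Opens (ProjectiveSpectrum ℬ)) (hV : V = ProjectiveSpectrum.basicOpen ℬ (ψ (g * f)))
    (hUV : V.1 ⊆ ProjectiveSpectrum.comap ψ hψ ⁻¹' (ProjectiveSpectrum.basicOpen 𝒜 (g * f)).1) :
    Function.Bijective (GrTwist.comapApp ψ hψ n (ProjectiveSpectrum.basicOpen 𝒜 (g * f)) V hUV) := by
  have hgf : g * f ∈ 𝒜 d := by
    have := SetLike.mul_mem_graded h.mem hf
    rwa [zero_add] at this
  refine ⟨comapApp_injective' ψ hψ n hd hgf ?_ V hV hUV, comapApp_surjective' ψ hψ n hd hgf ?_ V hV hUV⟩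
  · intro i a _ ha0
    obtain ⟨j, hj⟩ := h.ker a ha0
    refine ⟨j, ?_⟩
    rw [mul_pow, mul_assoc, mul_comm (f ^ j), ← mul_assoc, hj, zero_mul]
  · intro i b hb
    obtain ⟨j, a, ha, hab⟩ := h.surj_hom hb
    refine ⟨j, f ^ j * a, SetLike.mul_mem_graded (SetLike.pow_mem_graded _ hf) ha, ?_⟩
    rw [map_mul, map_pow, ← hab, map_mul, mul_pow]
    ring

include h in
set_option backward.isDefEq.respectTransparency false in
/-- `GrTwist.comap` is bijective on sections over every open inside `{x | g ∉ x}` -/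
theorem comap_app_bijective_of_isGrLoc (U : (Proj 𝒜).Opens)
    (hU : ∀ x : ProjectiveSpectrum 𝒜, x ∈ (U : Opens (ProjectiveSpectrum 𝒜)) → g ∉ x.asHomogeneousIdeal) :
    Function.Bijective ((GrTwist.comap ψ hψ n).app U) := by
  let φ := GrTwist.comap ψ hψ n
  let F : TopCat.Sheaf Ab (Proj 𝒜) :=
    ⟨(GrTwist.twist 𝒜 n).presheaf, (GrTwist.twist 𝒜 n).isSheaf⟩
  let G : TopCat.Sheaf Ab (Proj 𝒜) :=
    ⟨((Scheme.Modules.pushforward (Proj.map ψ hψ)).obj (GrTwist.twist ℬ n)).presheaf,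
      Scheme.Modules.isSheaf _⟩
  let f : F ⟶ G := ⟨φ.mapPresheaf⟩
  have hB := Groth.Agent.H77.GrModComap.isBasis_posBasicOpen 𝒜
  refine Groth.Agent.H77.SheafLocalBij.app_bijective_of_local_basis f U
    {W : Opens (ProjectiveSpectrum 𝒜) | ∃ (d : ℕ) (f : A), 0 < d ∧ f ∈ 𝒜 d ∧
      W = ProjectiveSpectrum.basicOpen 𝒜 (g * f)} ?_ ?_ U le_rfl
  · intro x hx V hxV
    obtain ⟨_, ⟨d, f, hd, hf, rfl⟩, hxf, hfV⟩ :=
      (Opens.isBasis_iff_nbhd.mp hB) hxV
    refine ⟨ProjectiveSpectrum.basicOpen 𝒜 (g * f), ⟨d, f, hd, hf, rfl⟩, ?_, ?_⟩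
    · rw [ProjectiveSpectrum.mem_basicOpen]
      intro hmem
      rcases x.isPrime.mem_or_mem hmem with h1 | h1
      · exact hU x hx h1
      · exact (ProjectiveSpectrum.mem_basicOpen 𝒜 f x).mp hxf h1
    · refine le_trans ?_ hfV
      intro y hy
      rw [ProjectiveSpectrum.mem_basicOpen] at hy ⊢
      intro hfy
      exact hy (Ideal.mul_mem_left _ _ hfy)
  · rintro W ⟨d, f, hd, hf, rfl⟩
    have hV : (Proj.map ψ hψ ⁻¹ᵁ (ProjectiveSpectrum.basicOpen 𝒜 (g * f)) : Opens (ProjectiveSpectrum ℬ)) =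
        ProjectiveSpectrum.basicOpen ℬ (ψ (g * f)) := by
      ext y
      rfl
    exact comapApp_bijective_of_isGrLoc hψ n h hd hf _ hV _

include h in
/-- for a graded localization at a degree-zero element, the adjoint `Φ^* O_A(n) ⟶ O_B(n)` of `GrTwist.comap` is an
isomorphism -/
theorem isIso_adjunct_of_isGrLoc :
    IsIso (((Scheme.Modules.pullbackPushforwardAdjunction (Proj.map ψ hψ)).homEquiv _ _).symm
      (GrTwist.comap ψ hψ n)) := by
  haveI : IsOpenImmersion (Proj.map ψ hψ) := Groth.Agent.H41.ProjLoc.isOpenImmersion_projMap h hψ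
  rw [Groth.Agent.H77.SheafLocalBij.isIso_homEquiv_symm_iff
    (Scheme.Modules.restrictAdjunction (Proj.map ψ hψ))
    (Scheme.Modules.pullbackPushforwardAdjunction (Proj.map ψ hψ)), Adjunction.homEquiv_counit]
  refine Groth.Agent.H77.RestrictIso.isIso_adj (Proj.map ψ hψ) (GrTwist.comap ψ hψ n) ?_
  intro W hW
  refine comap_app_bijective_of_isGrLoc hψ n h W ?_
  intro x hx hgx
  obtain ⟨y, rfl⟩ := hW hx
  have hy : ψ g ∈ y.asHomogeneousIdeal := hgx
  exact y.isPrime.ne_top (Ideal.eq_top_of_isUnit_mem _ hy h.unit)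

end GrLoc

end Groth.Agent.H77.TwistComapLoc
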