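import Mathlib
import Groth.Prelude.Def_RelProj3
import Groth.Agent.H77.GlueFam
import Groth.Agent.H77.MultieqSections
import Groth.Agent.H77.RelTildeGlue
import Groth.Agent.H77.TwistComapLoc
import Groth.Agent.H41.ProjLoc

/-!
# Existence of the twisting sheaves `O_P(n)` on a relative `Proj`
-/

set_option autoImplicit false
universe u
open CategoryTheory CategoryTheory.Limits AlgebraicGeometry Opposite TopologicalSpace
open scoped HomogeneousIdeal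
noncomputable section

namespace Groth.Agent.H77.RelTwistExists

open Groth.Agent.H77.RelTildeCore Groth.Agent.H77.RelGlue Groth.Agent.H77.RelTildeGlue
  Groth.Agent.H77.GlueFam

variable {Y P : Scheme.{u}} (𝒮 : RelProj.QCGrAlg Y) (p : P ⟶ Y)
    (chart : ∀ (U : Y.Opens) (hU : IsAffineOpen U),
      (((p ⁻¹ᵁ U : P.Opens) : Scheme.{u}) ≅ Proj (𝒮.deg U hU)))

/-- `V` is a basic open of the affine open `U`, with the facts about the relative `Proj` this entails -/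
structure BasP (U V : Y.affineOpens) : Prop where
  le : V.1 ≤ U.1
  irr : (𝒮.deg V.1 V.2)₊ ≤ ((𝒮.deg U.1 U.2)₊).map (𝒮.res U.2 V.2 le)
  emb_eq : Proj.map (𝒮.res U.2 V.2 le) irr ≫ RelProj.emb p chart U.1 U.2 =
    RelProj.emb p chart V.1 V.2
  loc : ∃ g, Groth.Agent.H41.ProjLoc.IsGrLoc (𝒮.res U.2 V.2 le) g
  basic : ∃ r : Γ(Y, U.1), V.1 = Y.basicOpen r

variable {𝒮 p chart}

theorem basP_basicOpen (hP : RelProj.IsRelProj 𝒮 p chart) (U : Y.affineOpens) (r : Γ(Y, U.1)) :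
    BasP 𝒮 p chart U ⟨Y.basicOpen r, U.2.basicOpen r⟩ where
  le := Y.basicOpen_le r
  irr := 𝒮.irrelevant_le_map U.1 U.2 r
  emb_eq := RelProj.map_res_emb hP U.1 U.2 r
  loc := by
    refine ⟨(𝒮.str.app (op U.1)).hom r, ?_⟩
    refine Groth.Agent.H41.ProjLoc.IsGrLoc.of_isLocalization _ (𝒮.str_mem U.1 U.2 r) ?_
    exact 𝒮.isQC U.1 U.2 r
  basic := ⟨r, rfl⟩

theorem basP_of_eq (hP : RelProj.IsRelProj 𝒮 p chart) (U V : Y.affineOpens) (r : Γ(Y, U.1))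
    (h : V.1 = Y.basicOpen r) : BasP 𝒮 p chart U V := by
  obtain ⟨V, hV⟩ := V
  change V = Y.basicOpen r at h
  subst h
  exact basP_basicOpen hP U r

theorem basP_inter (hP : RelProj.IsRelProj 𝒮 p chart) (U U' : Y.affineOpens) (y : Y)
    (hy : y ∈ U.1) (hy' : y ∈ U'.1) :
    ∃ D : Y.affineOpens, y ∈ D.1 ∧ BasP 𝒮 p chart U D ∧ BasP 𝒮 p chart U' D := by
  obtain ⟨f, g, hfg, hyf⟩ := exists_basicOpen_le_affine_inter U.2 U'.2 y ⟨hy, hy'⟩
  exact ⟨⟨Y.basicOpen f, U.2.basicOpen f⟩, hyf, basP_basicOpen hP U f,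
    basP_of_eq hP U' _ g hfg⟩

theorem basP_trans (hP : RelProj.IsRelProj 𝒮 p chart) {U V V' : Y.affineOpens}
    (h : BasP 𝒮 p chart U V) (h' : BasP 𝒮 p chart V V') : BasP 𝒮 p chart U V' := by
  obtain ⟨r, hr⟩ := h.basic
  obtain ⟨r', hr'⟩ := h'.basic
  obtain ⟨V, hV⟩ := V
  change V = Y.basicOpen r at hr
  subst hr
  obtain ⟨f', hf'⟩ := U.2.basicOpen_basicOpen_is_basicOpen r r'
  exact basP_of_eq hP U V' f' (hr'.trans hf'.symm)

variable (𝒮 p chart) (n : ℤ)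

/-- the chartwise modules `(e_U)_* O_{𝒮(U)}(n)` -/
abbrev ET (U : Y.affineOpens) : P.Modules :=
  (Scheme.Modules.pushforward (RelProj.emb p chart U.1 U.2)).obj (GrTwist.twist (𝒮.deg U.1 U.2) n)

/-- the transition maps -/
def cT (U V : Y.affineOpens) (h : BasP 𝒮 p chart U V) : ET 𝒮 p chart n U ⟶ ET 𝒮 p chart n V :=
  (Scheme.Modules.pushforward (RelProj.emb p chart U.1 U.2)).map
      (GrTwist.comap (𝒮.res U.2 V.2 h.le) h.irr n) ≫
    (Scheme.Modules.pushforwardComp (Proj.map (𝒮.res U.2 V.2 h.le) h.irr)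
      (RelProj.emb p chart U.1 U.2)).hom.app _ ≫
    (Scheme.Modules.pushforwardCongr h.emb_eq).hom.app _

theorem cT_val (U V : Y.affineOpens) (h : BasP 𝒮 p chart U V) (W : P.Opens)
    (s : Γ(ET 𝒮 p chart n U, W)) (y : ProjectiveSpectrum (𝒮.deg V.1 V.2))
    (hy : (RelProj.emb p chart V.1 V.2).base y ∈ W)
    (hy' : (RelProj.emb p chart U.1 U.2).base
      (ProjectiveSpectrum.comap (𝒮.res U.2 V.2 h.le) h.irr y) ∈ W) :
    GrTwist.val (V := RelProj.emb p chart V.1 V.2 ⁻¹ᵁ W) ((cT 𝒮 p chart n U V h).app W s) ⟨y, hy⟩ =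
      GrTwist.locMap (𝒮.res U.2 V.2 h.le) h.irr y
        (GrTwist.val (V := RelProj.emb p chart U.1 U.2 ⁻¹ᵁ W) s ⟨_, hy'⟩) := rfl

section RingLevel
variable {A σ : Type u} [CommRing A] [SetLike σ A] [AddSubgroupClass σ A] {𝒜 : ℕ → σ} [GradedRing 𝒜]
variable {B τ : Type u} [CommRing B] [SetLike τ B] [AddSubgroupClass τ B] {ℬ : ℕ → τ} [GradedRing ℬ]
variable {C ρ : Type u} [CommRing C] [SetLike ρ C] [AddSubgroupClass ρ C] {𝒞 : ℕ → ρ} [GradedRing 𝒞]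
variable (ψ₁ : 𝒜 →+*ᵍ ℬ) (h₁ : ℬ₊ ≤ (𝒜₊).map ψ₁) (ψ₂ : ℬ →+*ᵍ 𝒞) (h₂ : 𝒞₊ ≤ (ℬ₊).map ψ₂)
  (ψ₃ : 𝒜 →+*ᵍ 𝒞) (h₃ : 𝒞₊ ≤ (𝒜₊).map ψ₃)
  (hc : ∀ a : A, ψ₂ (ψ₁ a) = ψ₃ a)

include hc in
theorem comap_comap_eq' (y : ProjectiveSpectrum 𝒞) :
    ProjectiveSpectrum.comap ψ₁ h₁ (ProjectiveSpectrum.comap ψ₂ h₂ y) =
      ProjectiveSpectrum.comap ψ₃ h₃ y := by
  apply ProjectiveSpectrum.ext
  apply HomogeneousIdeal.ext
  ext a
  change ψ₂ (ψ₁ a) ∈ y.asHomogeneousIdeal ↔ ψ₃ a ∈ y.asHomogeneousIdeal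
  rw [hc]

include hc in
theorem locMap_locMap_val_comp {n : ℤ} {V : Opens (ProjectiveSpectrum.top 𝒜)}
    (s : GrTwist.sectN (𝒜 := 𝒜) n (op V)) (y : ProjectiveSpectrum 𝒞)
    (hz₁ : ProjectiveSpectrum.comap ψ₁ h₁ (ProjectiveSpectrum.comap ψ₂ h₂ y) ∈ V)
    (hz₃ : ProjectiveSpectrum.comap ψ₃ h₃ y ∈ V) :
    GrTwist.locMap ψ₂ h₂ y (GrTwist.locMap ψ₁ h₁ (ProjectiveSpectrum.comap ψ₂ h₂ y)
        (s.1 ⟨_, hz₁⟩).1) =
      GrTwist.locMap ψ₃ h₃ y (s.1 ⟨_, hz₃⟩).1 := by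
  have heq := comap_comap_eq' ψ₁ h₁ ψ₂ h₂ ψ₃ h₃ hc y
  rcases s.2 ⟨_, hz₁⟩ with ⟨W, m, iWV, i, j, a, b, hb, -, h_frac⟩
  have m' : ProjectiveSpectrum.comap ψ₃ h₃ y ∈ W := heq ▸ m
  have e₁ := h_frac ⟨_, m⟩
  have e₂ := h_frac ⟨_, m'⟩
  change (s.1 ⟨_, hz₁⟩).1 = _ at e₁
  change (s.1 ⟨_, hz₃⟩).1 = _ at e₂
  rw [e₁, e₂, GrTwist.locMap_mk, GrTwist.locMap_mk, GrTwist.locMap_mk]
  congr 1
  · exact hc a
  · exact Subtype.ext (hc b)

end RingLevel

section Hyp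

variable {X : Scheme.{u}}

theorem mres_surjective_of_le (M : X.Modules) {W W' : X.Opens} (h : W' ≤ W) (h' : W ≤ W') :
    Function.Surjective (mres M h) := by
  intro t
  refine ⟨mres M h' t, ?_⟩
  rw [mres_mres, mres_self]

end Hyp

theorem mres_pushforward_surjective (U : Y.Opens) (hU : IsAffineOpen U)
    (T : (Proj (𝒮.deg U hU)).Modules) (W : P.Opens) :
    Function.Surjective (mres ((Scheme.Modules.pushforward (RelProj.emb p chart U hU)).obj T)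
      (inf_le_left : W ⊓ p ⁻¹ᵁ U ≤ W)) := by
  have h' : RelProj.emb p chart U hU ⁻¹ᵁ W ≤ RelProj.emb p chart U hU ⁻¹ᵁ (W ⊓ p ⁻¹ᵁ U) :=
    fun z hz => ⟨hz, emb_mem 𝒮 p chart U hU z⟩
  have h : RelProj.emb p chart U hU ⁻¹ᵁ (W ⊓ p ⁻¹ᵁ U) ≤ RelProj.emb p chart U hU ⁻¹ᵁ W :=
    fun z hz => hz.1
  exact mres_surjective_of_le T h h'

/-- the points of `Proj 𝒮(U)` lying over `V` avoid the localizing element -/
theorem not_mem_of_emb_mem (U V : Y.affineOpens) (h : BasP 𝒮 p chart U V) {g}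
    (hg : Groth.Agent.H41.ProjLoc.IsGrLoc (𝒮.res U.2 V.2 h.le) g)
    (x : ProjectiveSpectrum (𝒮.deg U.1 U.2))
    (hx : (RelProj.emb p chart U.1 U.2).base x ∈ p ⁻¹ᵁ V.1) : g ∉ x.asHomogeneousIdeal := by
  have hx' : (RelProj.emb p chart U.1 U.2).base x ∈ (RelProj.emb p chart V.1 V.2).opensRange := by
    rw [opensRange_emb]; exact hx
  obtain ⟨y, hy⟩ := hx'
  rw [← h.emb_eq] at hy
  have hy' : (RelProj.emb p chart U.1 U.2).base
      ((Proj.map (𝒮.res U.2 V.2 h.le) h.irr).base y) = (RelProj.emb p chart U.1 U.2).base x := hy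
  have hinj := (RelProj.emb p chart U.1 U.2).isOpenEmbedding.injective hy'
  intro hgx
  rw [← hinj] at hgx
  have hgy : (𝒮.res U.2 V.2 h.le) g ∈ y.asHomogeneousIdeal := hgx
  exact y.isPrime.ne_top (Ideal.eq_top_of_isUnit_mem _ hgy hg.unit)

theorem cT_bijective (U V : Y.affineOpens) (h : BasP 𝒮 p chart U V) (W : P.Opens)
    (hW : W ≤ p ⁻¹ᵁ V.1) : Function.Bijective ((cT 𝒮 p chart n U V h).app W) := by
  obtain ⟨g, hg⟩ := h.loc
  have hb1 := Groth.Agent.H77.TwistComapLoc.comap_app_bijective_of_isGrLoc h.irr n hg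
    (RelProj.emb p chart U.1 U.2 ⁻¹ᵁ W)
    (fun x hx => not_mem_of_emb_mem 𝒮 p chart U V h hg x (hW hx))
  have hb2 : Function.Bijective (((Scheme.Modules.pushforwardCongr h.emb_eq).hom.app
      (GrTwist.twist (𝒮.deg V.1 V.2) n)).app W) := by
    rw [← ConcreteCategory.isIso_iff_bijective]
    infer_instance
  exact hb2.comp hb1

theorem cT_comp (U V V' : Y.affineOpens) (h : BasP 𝒮 p chart U V) (h' : BasP 𝒮 p chart V V')
    (h'' : BasP 𝒮 p chart U V') :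
    cT 𝒮 p chart n U V h ≫ cT 𝒮 p chart n V V' h' = cT 𝒮 p chart n U V' h'' := by
  refine Scheme.Modules.hom_ext _ _ (fun W => ?_)
  ext s
  refine Subtype.ext (funext fun y => Subtype.ext ?_)
  refine locMap_locMap_val_comp (𝒮.res U.2 V.2 h.le) h.irr (𝒮.res V.2 V'.2 h'.le) h'.irr
    (𝒮.res U.2 V'.2 h''.le) h''.irr ?_ s y.1 _ _
  intro a
  simp only [RelProj.QCGrAlg.res_apply, ← ConcreteCategory.comp_apply, ← Functor.map_comp]
  rfl

theorem glueHyp (hP : RelProj.IsRelProj 𝒮 p chart) :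
    GlueHyp p (BasP 𝒮 p chart) (ET 𝒮 p chart n) (cT 𝒮 p chart n) where
  le := fun h => h.le
  inter := basP_inter hP
  trans := basP_trans hP
  supp_inj := fun U W => mres_pushforward_injective 𝒮 p chart U.1 U.2 _ W
  supp_surj := fun U W => mres_pushforward_surjective 𝒮 p chart U.1 U.2 _ W
  bij := cT_bijective 𝒮 p chart n
  comp := cT_comp 𝒮 p chart n

/-- the shape of the gluing diagram -/
def shape : MulticospanShape.{u, u} where
  L := Y.affineOpens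
  R := {t : Y.affineOpens × Y.affineOpens // BasP 𝒮 p chart t.1 t.2}
  fst j := j.1.2
  snd j := j.1.1

/-- the gluing diagram -/
def index : MulticospanIndex (shape 𝒮 p chart) P.Modules where
  left U := ET 𝒮 p chart n U
  right j := ET 𝒮 p chart n j.1.2
  fst _ := 𝟙 _
  snd j := cT 𝒮 p chart n j.1.1 j.1.2 j.2

/-- the glued module `O_P(n)` -/
def relTwist : P.Modules := multiequalizer (index 𝒮 p chart n)

/-- the chartwise identifications -/
def relLam (U : Y.Opens) (hU : IsAffineOpen U) :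
    relTwist 𝒮 p chart n ⟶ (Scheme.Modules.pushforward (RelProj.emb p chart U hU)).obj
      (GrTwist.twist (𝒮.deg U hU) n) :=
  Multiequalizer.ι (index 𝒮 p chart n) ⟨U, hU⟩

theorem relLam_cond (U V : Y.affineOpens) (h : BasP 𝒮 p chart U V) (W : P.Opens)
    (s : Γ(relTwist 𝒮 p chart n, W)) :
    (relLam 𝒮 p chart n V.1 V.2).app W s =
      (cT 𝒮 p chart n U V h).app W ((relLam 𝒮 p chart n U.1 U.2).app W s) := by
  have hc := Multiequalizer.condition (index 𝒮 p chart n) ⟨(U, V), h⟩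
  have := congrArg (fun f => (Scheme.Modules.Hom.app f W) s) hc
  exact this

theorem isRelTwist (hP : RelProj.IsRelProj 𝒮 p chart) :
    RelProj.IsRelTwist 𝒮 p chart n (relTwist 𝒮 p chart n) (relLam 𝒮 p chart n) where
  bijective := by
    intro U hU W hW
    have H := glueHyp 𝒮 p chart n hP
    constructor
    · intro s t hst
      refine Groth.Agent.H77.MultieqSections.modules_ext (index 𝒮 p chart n) W s t ?_
      have hfam : ∀ s : Γ(relTwist 𝒮 p chart n, W), IsFam (BasP 𝒮 p chart) (ET 𝒮 p chart n)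
          (cT 𝒮 p chart n) W (fun V => (relLam 𝒮 p chart n V.1 V.2).app W s) :=
        fun s V V' h => relLam_cond 𝒮 p chart n V V' h W s
      have := fam_ext H (U₀ := ⟨U, hU⟩) hW _ _ (hfam s) (hfam t) hst
      intro V
      exact congrFun this V
    · intro y
      obtain ⟨x, hx, hxU⟩ := fam_exists H (U₀ := ⟨U, hU⟩) hW y
      obtain ⟨s, hs⟩ := Groth.Agent.H77.MultieqSections.modules_exists (index 𝒮 p chart n) W x
        (fun j => hx j.1.1 j.1.2 j.2)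
      exact ⟨s, (hs ⟨U, hU⟩).trans hxU⟩
  compat := by
    intro U hU r W s y hy hy'
    have h := basP_basicOpen hP ⟨U, hU⟩ r
    have := relLam_cond 𝒮 p chart n ⟨U, hU⟩ ⟨Y.basicOpen r, hU.basicOpen r⟩ h W s
    have hv := congrArg (fun t : Γ(ET 𝒮 p chart n ⟨Y.basicOpen r, hU.basicOpen r⟩, W) =>
      GrTwist.val (V := RelProj.emb p chart (Y.basicOpen r) (hU.basicOpen r) ⁻¹ᵁ W) t ⟨y, hy⟩) this
    exact hv

end Groth.Agent.H77.RelTwistExists
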