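import Mathlib
import Groth.Prelude.Def_RelProj3
import Groth.Agent.H77.RelTwistExists
import Groth.Agent.H77.GrModComapLoc
import Groth.Agent.H18.QCohLocalize

/-!
# Existence of the modules `(ℳ(n))~` on a relative `Proj`, for `ℳ` quasi-coherent
-/

set_option autoImplicit false
universe u
open CategoryTheory CategoryTheory.Limits AlgebraicGeometry Opposite TopologicalSpace
open scoped HomogeneousIdeal
noncomputable section

namespace Groth.Agent.H77.RelTildeExists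

open Groth.Agent.H77.RelTildeCore Groth.Agent.H77.RelGlue Groth.Agent.H77.RelTildeGlue
  Groth.Agent.H77.GlueFam Groth.Agent.H77.RelTwistExists Groth.Agent.H77.GrModComapLoc

section RingLevel
variable {A σ : Type u} [CommRing A] [SetLike σ A] [AddSubgroupClass σ A] {𝒜 : ℕ → σ} [GradedRing 𝒜]
variable {B τ : Type u} [CommRing B] [SetLike τ B] [AddSubgroupClass τ B] {ℬ : ℕ → τ} [GradedRing ℬ]
variable {C ρ : Type u} [CommRing C] [SetLike ρ C] [AddSubgroupClass ρ C] {𝒞 : ℕ → ρ} [GradedRing 𝒞]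
variable {M μ : Type u} [AddCommGroup M] [Module A M] [SetLike μ M] [AddSubgroupClass μ M] {ℳ : ℕ → μ}
  [SetLike.GradedSMul 𝒜 ℳ]
variable {N : Type u} [AddCommGroup N] [Module B N]
variable {Q : Type u} [AddCommGroup Q] [Module C Q]
variable (ψ₁ : 𝒜 →+*ᵍ ℬ) (h₁ : ℬ₊ ≤ (𝒜₊).map ψ₁) (ψ₂ : ℬ →+*ᵍ 𝒞) (h₂ : 𝒞₊ ≤ (ℬ₊).map ψ₂)
  (ψ₃ : 𝒜 →+*ᵍ 𝒞) (h₃ : 𝒞₊ ≤ (𝒜₊).map ψ₃)
  (v₁ : M →ₛₗ[ψ₁.toRingHom] N) (v₂ : N →ₛₗ[ψ₂.toRingHom] Q) (v₃ : M →ₛₗ[ψ₃.toRingHom] Q)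
  (hc : ∀ a : A, ψ₂ (ψ₁ a) = ψ₃ a) (hcv : ∀ m : M, v₂ (v₁ m) = v₃ m)

include hc hcv in
theorem locModMap_locModMap_val_comp {n : ℤ} {V : Opens (ProjectiveSpectrum.top 𝒜)}
    (s : GrMod.sect 𝒜 ℳ n (op V)) (y : ProjectiveSpectrum 𝒞)
    (hz₁ : ProjectiveSpectrum.comap ψ₁ h₁ (ProjectiveSpectrum.comap ψ₂ h₂ y) ∈ V)
    (hz₃ : ProjectiveSpectrum.comap ψ₃ h₃ y ∈ V) :
    GrMod.locModMap ψ₂ h₂ v₂ y (GrMod.locModMap ψ₁ h₁ v₁ (ProjectiveSpectrum.comap ψ₂ h₂ y)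
        (s.1 ⟨_, hz₁⟩).1) =
      GrMod.locModMap ψ₃ h₃ v₃ y (s.1 ⟨_, hz₃⟩).1 := by
  have heq := comap_comap_eq' ψ₁ h₁ ψ₂ h₂ ψ₃ h₃ hc y
  rcases s.2 ⟨_, hz₁⟩ with ⟨W, m, iWV, i, j, a, b, hb, -, h_frac⟩
  have m' : ProjectiveSpectrum.comap ψ₃ h₃ y ∈ W := heq ▸ m
  have e₁ := h_frac ⟨_, m⟩
  have e₂ := h_frac ⟨_, m'⟩
  change (s.1 ⟨_, hz₁⟩).1 = _ at e₁
  change (s.1 ⟨_, hz₃⟩).1 = _ at e₂
  rw [e₁, e₂, GrMod.locModMap_mk, GrMod.locModMap_mk, GrMod.locModMap_mk]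
  congr 1
  · exact hcv a
  · exact Subtype.ext (hc b)

end RingLevel

variable {Y P : Scheme.{u}} (𝒮 : RelProj.QCGrAlg Y) (p : P ⟶ Y)
    (chart : ∀ (U : Y.Opens) (hU : IsAffineOpen U),
      (((p ⁻¹ᵁ U : P.Opens) : Scheme.{u}) ≅ Proj (𝒮.deg U hU)))
    (ℳ : RelProj.GrModule 𝒮) (n : ℤ)

/-- the chartwise modules `(e_U)_* (ℳ(U)(n))~` -/
abbrev EM (U : Y.affineOpens) : P.Modules :=
  (Scheme.Modules.pushforward (RelProj.emb p chart U.1 U.2)).obj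
    (GrMod.tilde (𝒮.deg U.1 U.2) (ℳ.deg U.1 U.2) n)

/-- the transition maps -/
def cM (U V : Y.affineOpens) (h : BasP 𝒮 p chart U V) :
    EM 𝒮 p chart ℳ n U ⟶ EM 𝒮 p chart ℳ n V :=
  (Scheme.Modules.pushforward (RelProj.emb p chart U.1 U.2)).map
      (GrMod.comap (𝒮.res U.2 V.2 h.le) h.irr (ℳ.res U.2 V.2 h.le) (ℳ.res_mem U.2 V.2 h.le) n) ≫
    (Scheme.Modules.pushforwardComp (Proj.map (𝒮.res U.2 V.2 h.le) h.irr)
      (RelProj.emb p chart U.1 U.2)).hom.app _ ≫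
    (Scheme.Modules.pushforwardCongr h.emb_eq).hom.app _

theorem cM_val (U V : Y.affineOpens) (h : BasP 𝒮 p chart U V) (W : P.Opens)
    (s : Γ(EM 𝒮 p chart ℳ n U, W)) (y : ProjectiveSpectrum (𝒮.deg V.1 V.2))
    (hy : (RelProj.emb p chart V.1 V.2).base y ∈ W)
    (hy' : (RelProj.emb p chart U.1 U.2).base
      (ProjectiveSpectrum.comap (𝒮.res U.2 V.2 h.le) h.irr y) ∈ W) :
    GrMod.val (V := RelProj.emb p chart V.1 V.2 ⁻¹ᵁ W) ((cM 𝒮 p chart ℳ n U V h).app W s) ⟨y, hy⟩ =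
      GrMod.locModMap (𝒮.res U.2 V.2 h.le) h.irr (ℳ.res U.2 V.2 h.le) y
        (GrMod.val (V := RelProj.emb p chart U.1 U.2 ⁻¹ᵁ W) s ⟨_, hy'⟩) := rfl

/-- the `O_Y`-module underlying `ℳ` -/
abbrev Mq : Y.Modules := (AMod.toOS 𝒮.toQCAlg).obj ℳ.mod

variable {𝒮 ℳ} in
/-- for quasi-coherent `ℳ`, the restriction `ℳ(U) → ℳ(D(r))` is a graded localization at `r` -/
theorem isGrLocMod_basicOpen (hℳ : (Mq 𝒮 ℳ).IsQuasicoherent) (U : Y.affineOpens) (r : Γ(Y, U.1)) :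
    IsGrLocMod (𝒮.res U.2 (U.2.basicOpen r) (Y.basicOpen_le r))
      (ℳ.res U.2 (U.2.basicOpen r) (Y.basicOpen_le r)) (ℳ.deg U.1 U.2)
      (ℳ.deg (Y.basicOpen r) (U.2.basicOpen r)) ((𝒮.str.app (op U.1)).hom r) where
  ker := by
    intro m hm
    obtain ⟨k, hk⟩ := Groth.Agent.H18.exists_pow_smul_eq_zero_of_isQuasicoherent (Mq 𝒮 ℳ) U.2 r m hm
    refine ⟨k, ?_⟩
    have hk' : ((𝒮.str.app (op U.1)).hom (r ^ k)) • m = 0 := hk
    rwa [map_pow] at hk'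
  surj_hom := by
    intro i n' hn'
    obtain ⟨k, x, hx⟩ := Groth.Agent.H18.exists_pow_smul_eq_res_of_isQuasicoherent (Mq 𝒮 ℳ) U.2 r n'
    have hnat : (𝒮.str.app (op (Y.basicOpen r))).hom
        ((Y.presheaf.map (homOfLE (Y.basicOpen_le r)).op).hom r) =
        𝒮.res U.2 (U.2.basicOpen r) (Y.basicOpen_le r) ((𝒮.str.app (op U.1)).hom r) := by
      have := 𝒮.str.naturality (homOfLE (Y.basicOpen_le r)).op
      exact congrArg (fun f => f.hom r) this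
    have hx' : (𝒮.res U.2 (U.2.basicOpen r) (Y.basicOpen_le r) ((𝒮.str.app (op U.1)).hom r)) ^ k • n' =
        ℳ.res U.2 (U.2.basicOpen r) (Y.basicOpen_le r) x := by
      rw [← hnat, ← map_pow]
      exact hx
    refine ⟨k, ((DirectSum.decompose (ℳ.deg U.1 U.2) x i : ℳ.deg U.1 U.2 i) : ℳ.mod.val.obj (op U.1)),
      Subtype.prop _, ?_⟩
    have hdec := Groth.Agent.H77.GrModComap.map_decompose_add (ℳ.deg U.1 U.2)
      (ℳ.deg (Y.basicOpen r) (U.2.basicOpen r))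
      (ℳ.res U.2 (U.2.basicOpen r) (Y.basicOpen_le r)).toAddMonoidHom
      (ℳ.res_mem U.2 (U.2.basicOpen r) (Y.basicOpen_le r)) x i
    change ℳ.res U.2 (U.2.basicOpen r) (Y.basicOpen_le r) _ = _ at hdec
    rw [hdec]
    change _ = ((DirectSum.decompose (ℳ.deg (Y.basicOpen r) (U.2.basicOpen r))
      (ℳ.res U.2 (U.2.basicOpen r) (Y.basicOpen_le r) x) i : ℳ.deg (Y.basicOpen r) (U.2.basicOpen r) i) :
        ℳ.mod.val.obj (op (Y.basicOpen r)))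
    rw [← hx']
    have hg0 : (𝒮.res U.2 (U.2.basicOpen r) (Y.basicOpen_le r) ((𝒮.str.app (op U.1)).hom r)) ^ k ∈
        𝒮.deg (Y.basicOpen r) (U.2.basicOpen r) 0 := by
      have h1 : 𝒮.res U.2 (U.2.basicOpen r) (Y.basicOpen_le r) ((𝒮.str.app (op U.1)).hom r) ∈
          𝒮.deg (Y.basicOpen r) (U.2.basicOpen r) 0 :=
        (𝒮.res U.2 (U.2.basicOpen r) (Y.basicOpen_le r)).map_mem (𝒮.str_mem U.1 U.2 r)
      have := SetLike.pow_mem_graded k h1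
      rwa [smul_zero] at this
    have hmem : (𝒮.res U.2 (U.2.basicOpen r) (Y.basicOpen_le r) ((𝒮.str.app (op U.1)).hom r)) ^ k • n' ∈
        ℳ.deg (Y.basicOpen r) (U.2.basicOpen r) i := by
      have := SetLike.GradedSMul.smul_mem hg0 hn'
      rwa [vadd_eq_add, zero_add] at this
    rw [DirectSum.decompose_of_mem_same _ hmem]

theorem cM_bijective (hℳ : (Mq 𝒮 ℳ).IsQuasicoherent) (U V : Y.affineOpens)
    (h : BasP 𝒮 p chart U V) (W : P.Opens)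
    (hW : W ≤ p ⁻¹ᵁ V.1) : Function.Bijective ((cM 𝒮 p chart ℳ n U V h).app W) := by
  obtain ⟨r, hr⟩ := h.basic
  obtain ⟨V, hV⟩ := V
  change V = Y.basicOpen r at hr
  subst hr
  have hgloc : Groth.Agent.H41.ProjLoc.IsGrLoc (𝒮.res U.2 hV h.le) ((𝒮.str.app (op U.1)).hom r) :=
    Groth.Agent.H41.ProjLoc.IsGrLoc.of_isLocalization _ (𝒮.str_mem U.1 U.2 r) (𝒮.isQC U.1 U.2 r)
  have hb1 := comap_app_bijective_of_isGrLocMod h.irr (ℳ.res_mem U.2 hV h.le) n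
    (𝒮.str_mem U.1 U.2 r) (isGrLocMod_basicOpen hℳ U r)
    (RelProj.emb p chart U.1 U.2 ⁻¹ᵁ W)
    (fun x hx => not_mem_of_emb_mem 𝒮 p chart U ⟨Y.basicOpen r, hV⟩ h hgloc x (hW hx))
  have hb2 : Function.Bijective (((Scheme.Modules.pushforwardCongr h.emb_eq).hom.app
      (GrMod.tilde (𝒮.deg (Y.basicOpen r) hV) (ℳ.deg (Y.basicOpen r) hV) n)).app W) := by
    rw [← ConcreteCategory.isIso_iff_bijective]
    infer_instance
  exact hb2.comp hb1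

theorem cM_comp (U V V' : Y.affineOpens) (h : BasP 𝒮 p chart U V) (h' : BasP 𝒮 p chart V V')
    (h'' : BasP 𝒮 p chart U V') :
    cM 𝒮 p chart ℳ n U V h ≫ cM 𝒮 p chart ℳ n V V' h' = cM 𝒮 p chart ℳ n U V' h'' := by
  refine Scheme.Modules.hom_ext _ _ (fun W => ?_)
  ext s
  refine Subtype.ext (funext fun y => Subtype.ext ?_)
  refine locModMap_locModMap_val_comp (𝒮.res U.2 V.2 h.le) h.irr (𝒮.res V.2 V'.2 h'.le) h'.irr
    (𝒮.res U.2 V'.2 h''.le) h''.irr (ℳ.res U.2 V.2 h.le) (ℳ.res V.2 V'.2 h'.le)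
    (ℳ.res U.2 V'.2 h''.le) ?_ ?_ s y.1 _ _
  · intro a
    simp only [RelProj.QCGrAlg.res_apply, ← ConcreteCategory.comp_apply, ← Functor.map_comp]
    rfl
  · intro m
    simp only [RelProj.GrModule.res_apply]
    exact (ℳ.mod.val.map_comp_apply (homOfLE h.le).op (homOfLE h'.le).op m).symm

theorem glueHypM (hP : RelProj.IsRelProj 𝒮 p chart) (hℳ : (Mq 𝒮 ℳ).IsQuasicoherent) :
    GlueHyp p (BasP 𝒮 p chart) (EM 𝒮 p chart ℳ n) (cM 𝒮 p chart ℳ n) where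
  le := fun h => h.le
  inter := basP_inter hP
  trans := basP_trans hP
  supp_inj := fun U W => mres_pushforward_injective 𝒮 p chart U.1 U.2 _ W
  supp_surj := fun U W => mres_pushforward_surjective 𝒮 p chart U.1 U.2 _ W
  bij := cM_bijective 𝒮 p chart ℳ n hℳ
  comp := cM_comp 𝒮 p chart ℳ n

/-- the gluing diagram -/
def indexM : MulticospanIndex (shape 𝒮 p chart) P.Modules where
  left U := EM 𝒮 p chart ℳ n U
  right j := EM 𝒮 p chart ℳ n j.1.2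
  fst _ := 𝟙 _
  snd j := cM 𝒮 p chart ℳ n j.1.1 j.1.2 j.2

/-- the glued module `(ℳ(n))~` -/
def relTilde : P.Modules := multiequalizer (indexM 𝒮 p chart ℳ n)

/-- the chartwise identifications -/
def relLamM (U : Y.Opens) (hU : IsAffineOpen U) :
    relTilde 𝒮 p chart ℳ n ⟶ (Scheme.Modules.pushforward (RelProj.emb p chart U hU)).obj
      (GrMod.tilde (𝒮.deg U hU) (ℳ.deg U hU) n) :=
  Multiequalizer.ι (indexM 𝒮 p chart ℳ n) ⟨U, hU⟩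

theorem relLamM_cond (U V : Y.affineOpens) (h : BasP 𝒮 p chart U V) (W : P.Opens)
    (s : Γ(relTilde 𝒮 p chart ℳ n, W)) :
    (relLamM 𝒮 p chart ℳ n V.1 V.2).app W s =
      (cM 𝒮 p chart ℳ n U V h).app W ((relLamM 𝒮 p chart ℳ n U.1 U.2).app W s) := by
  have hc := Multiequalizer.condition (indexM 𝒮 p chart ℳ n) ⟨(U, V), h⟩
  have := congrArg (fun f => (Scheme.Modules.Hom.app f W) s) hc
  exact this

theorem isRelTilde (hP : RelProj.IsRelProj 𝒮 p chart) (hℳ : (Mq 𝒮 ℳ).IsQuasicoherent) :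
    RelProj.IsRelTilde 𝒮 p chart ℳ n (relTilde 𝒮 p chart ℳ n) (relLamM 𝒮 p chart ℳ n) where
  bijective := by
    intro U hU W hW
    have H := glueHypM 𝒮 p chart ℳ n hP hℳ
    constructor
    · intro s t hst
      refine Groth.Agent.H77.MultieqSections.modules_ext (indexM 𝒮 p chart ℳ n) W s t ?_
      have hfam : ∀ s : Γ(relTilde 𝒮 p chart ℳ n, W), IsFam (BasP 𝒮 p chart) (EM 𝒮 p chart ℳ n)
          (cM 𝒮 p chart ℳ n) W (fun V => (relLamM 𝒮 p chart ℳ n V.1 V.2).app W s) :=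
        fun s V V' h => relLamM_cond 𝒮 p chart ℳ n V V' h W s
      have := fam_ext H (U₀ := ⟨U, hU⟩) hW _ _ (hfam s) (hfam t) hst
      intro V
      exact congrFun this V
    · intro y
      obtain ⟨x, hx, hxU⟩ := fam_exists H (U₀ := ⟨U, hU⟩) hW y
      obtain ⟨s, hs⟩ := Groth.Agent.H77.MultieqSections.modules_exists (indexM 𝒮 p chart ℳ n) W x
        (fun j => hx j.1.1 j.1.2 j.2)
      exact ⟨s, (hs ⟨U, hU⟩).trans hxU⟩
  compat := by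
    intro U hU r W s y hy hy'
    have h := basP_basicOpen hP ⟨U, hU⟩ r
    have := relLamM_cond 𝒮 p chart ℳ n ⟨U, hU⟩ ⟨Y.basicOpen r, hU.basicOpen r⟩ h W s
    have hv := congrArg (fun t : Γ(EM 𝒮 p chart ℳ n ⟨Y.basicOpen r, hU.basicOpen r⟩, W) =>
      GrMod.val (V := RelProj.emb p chart (Y.basicOpen r) (hU.basicOpen r) ⁻¹ᵁ W) t ⟨y, hy⟩) this
    exact hv

end Groth.Agent.H77.RelTildeExists
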