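import Groth.Agent.H77.GrModMulSect
import Groth.Agent.H41.RelTwistTriv
import Groth.Agent.H18.STL.Basic
import Groth.Prelude.Def_RelProj3

/-!
# The chartwise multiplication `(ℳ(k))~ ⊗ O_P(n) ⟶ (emb_U)_* (ℳ(U)(l))~`, `l = k + n` (helper77)

Module analogue of helper41's `H41.RelTwistMul`.
-/

set_option autoImplicit false
universe u

open CategoryTheory CategoryTheory.Limits AlgebraicGeometry TopologicalSpace Opposite TensorProduct

namespace Groth.Agent.H77.RelTildeMul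

open Groth.Agent.H18 Groth.Agent.H41.GrTwistTriv Groth.Agent.H77.GrModMulSect
  Groth.Agent.H41.RelTwistTriv

variable {Y P : Scheme.{u}} (𝒮 : RelProj.QCGrAlg Y) (p : P ⟶ Y)
  (chart : ∀ (U : Y.Opens) (hU : IsAffineOpen U),
    (((p ⁻¹ᵁ U : P.Opens) : Scheme.{u}) ≅ Proj (𝒮.deg U hU)))
  (ℳ : RelProj.GrModule 𝒮) {k n l : ℤ} (hk : k + n = l) {F L : P.Modules}
  (lam : ∀ (U : Y.Opens) (hU : IsAffineOpen U),
    F ⟶ (Scheme.Modules.pushforward (RelProj.emb p chart U hU)).obj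
      (GrMod.tilde (𝒮.deg U hU) (ℳ.deg U hU) k))
  (lamL : ∀ (U : Y.Opens) (hU : IsAffineOpen U),
    L ⟶ (Scheme.Modules.pushforward (RelProj.emb p chart U hU)).obj (GrTwist.twist (𝒮.deg U hU) n))
  (U : Y.Opens) (hU : IsAffineOpen U)

/-- the target of the chartwise multiplication -/
noncomputable abbrev T (l : ℤ) : P.Modules :=
  (Scheme.Modules.pushforward (RelProj.emb p chart U hU)).obj
    (GrMod.tilde (𝒮.deg U hU) (ℳ.deg U hU) l)

/-- the chartwise product of sections -/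
noncomputable def pair (W : P.Opens) (s : Γ(F, W)) (t : Γ(L, W)) : Γ(T 𝒮 p chart ℳ U hU l, W) :=
  mulSect (𝒮.deg U hU) (ℳ.deg U hU) hk (V := (RelProj.emb p chart U hU) ⁻¹ᵁ W)
    ((lam U hU).app W s) ((lamL U hU).app W t)

theorem pair_add_left (W : P.Opens) (s₁ s₂ : Γ(F, W)) (t : Γ(L, W)) :
    pair 𝒮 p chart ℳ hk lam lamL U hU W (s₁ + s₂) t =
      pair 𝒮 p chart ℳ hk lam lamL U hU W s₁ t + pair 𝒮 p chart ℳ hk lam lamL U hU W s₂ t := by
  unfold pair
  rw [map_add]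
  exact mulSect_add_left _ _ _ _ _ _

theorem pair_add_right (W : P.Opens) (s : Γ(F, W)) (t₁ t₂ : Γ(L, W)) :
    pair 𝒮 p chart ℳ hk lam lamL U hU W s (t₁ + t₂) =
      pair 𝒮 p chart ℳ hk lam lamL U hU W s t₁ + pair 𝒮 p chart ℳ hk lam lamL U hU W s t₂ := by
  unfold pair
  rw [map_add]
  exact mulSect_add_right _ _ _ _ _ _

theorem pair_smul_left (W : P.Opens) (r : Γ(P, W)) (s : Γ(F, W)) (t : Γ(L, W)) :
    pair 𝒮 p chart ℳ hk lam lamL U hU W (r • s) t =
      r • pair 𝒮 p chart ℳ hk lam lamL U hU W s t := by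
  unfold pair
  rw [Scheme.Modules.Hom.app_smul]
  exact mulSect_smul_left _ _ _ _ _ _

theorem pair_smul_right (W : P.Opens) (r : Γ(P, W)) (s : Γ(F, W)) (t : Γ(L, W)) :
    pair 𝒮 p chart ℳ hk lam lamL U hU W s (r • t) =
      r • pair 𝒮 p chart ℳ hk lam lamL U hU W s t := by
  unfold pair
  rw [Scheme.Modules.Hom.app_smul]
  exact mulSect_smul_right _ _ _ _ _ _

theorem mres_pair {W W' : P.Opens} (h : W' ≤ W) (s : Γ(F, W)) (t : Γ(L, W)) :
    mres (T 𝒮 p chart ℳ U hU l) h (pair 𝒮 p chart ℳ hk lam lamL U hU W s t) =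
      pair 𝒮 p chart ℳ hk lam lamL U hU W' (mres F h s) (mres L h t) := by
  unfold pair
  rw [app_mres, app_mres]
  rfl

/-- the pairing on the presheaf tensor product -/
noncomputable def pairPre :
    CohB1.tensorPre F L ⟶ CohB1.toPMod (T 𝒮 p chart ℳ U hU l) where
  app W := ModuleCat.MonoidalCategory.tensorLift
    (fun (s : Γ(F, W.unop)) (t : Γ(L, W.unop)) =>
      (pair 𝒮 p chart ℳ hk lam lamL U hU W.unop s t : Γ(T 𝒮 p chart ℳ U hU l, W.unop)))
    (fun s₁ s₂ t => pair_add_left 𝒮 p chart ℳ hk lam lamL U hU W.unop s₁ s₂ t)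
    (fun r s t => pair_smul_left 𝒮 p chart ℳ hk lam lamL U hU W.unop r s t)
    (fun s t₁ t₂ => pair_add_right 𝒮 p chart ℳ hk lam lamL U hU W.unop s t₁ t₂)
    (fun r s t => pair_smul_right 𝒮 p chart ℳ hk lam lamL U hU W.unop r s t)
  naturality {_ _} f := ModuleCat.MonoidalCategory.tensor_ext (fun s t =>
    (mres_pair 𝒮 p chart ℳ hk lam lamL U hU (leOfHom f.unop) s t).symm)

/-- the chartwise multiplication `F ⊗ L ⟶ (emb_U)_* (ℳ(U)(l))~` -/
noncomputable def chi : CohB1.tensorMod F L ⟶ T 𝒮 p chart ℳ U hU l :=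
  (PresheafOfModules.sheafificationHomEquiv (R := P.ringCatSheaf) (𝟙 P.ringCatSheaf.obj)
    (P := (CohB1.tensorPre F L : P.PresheafOfModules))
    (F := T 𝒮 p chart ℳ U hU l)).symm (pairPre 𝒮 p chart ℳ hk lam lamL U hU)

theorem chi_tmul (W : P.Opens) (s : Γ(F, W)) (t : Γ(L, W)) :
    (chi 𝒮 p chart ℳ hk lam lamL U hU).app W (SecTwist.tmul F L W s t) =
      pair 𝒮 p chart ℳ hk lam lamL U hU W s t := by
  have h0 : PresheafOfModules.sheafificationHomEquiv (R := P.ringCatSheaf) (𝟙 P.ringCatSheaf.obj)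
      (P := (CohB1.tensorPre F L : P.PresheafOfModules))
      (F := T 𝒮 p chart ℳ U hU l) (chi 𝒮 p chart ℳ hk lam lamL U hU) =
        pairPre 𝒮 p chart ℳ hk lam lamL U hU := Equiv.apply_symm_apply _ _
  have h1 := PresheafOfModules.toPresheaf_map_sheafificationHomEquiv_def (R := P.ringCatSheaf)
    (𝟙 P.ringCatSheaf.obj) (P := (CohB1.tensorPre F L : P.PresheafOfModules))
    (chi 𝒮 p chart ℳ hk lam lamL U hU)
  rw [h0] at h1
  have h3 := h1.trans (congrArg (fun ψ => ψ ≫ (PresheafOfModules.toPresheaf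
    P.ringCatSheaf.obj).map (chi 𝒮 p chart ℳ hk lam lamL U hU).val)
    (STL.toPresheaf_map_toTensor F L).symm)
  have h2 := congrArg (fun φ => (φ.app (op W)) (s ⊗ₜ t)) h3
  exact h2.symm

end Groth.Agent.H77.RelTildeMul
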