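import Groth.Agent.H77.RelTildeMul
import Groth.Agent.H41.RelTwistTensor
import Groth.Agent.H77.RelGlue
import Groth.Agent.H77.RelTildeGlue

/-!
# The multiplication `(ℳ(k))~ ⊗ O_P(n) ⟶ (ℳ(k + n))~` on a relative `Proj` (helper77)

Module analogue of helper41's `H41.RelTwistTensor`; isomorphism when `𝒮` is generated in degree one.
-/

set_option autoImplicit false
universe u

open CategoryTheory CategoryTheory.Limits AlgebraicGeometry TopologicalSpace Opposite TensorProduct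

namespace Groth.Agent.H77.RelTildeTensor

open Groth.Agent.H18 Groth.Agent.H18.PUP Groth.Agent.H41.GrTwistTriv Groth.Agent.H77.GrModMulSect
  Groth.Agent.H41.RelTwistTriv Groth.Agent.H77.RelTildeMul

variable {Y P : Scheme.{u}} (𝒮 : RelProj.QCGrAlg Y) (p : P ⟶ Y)
  (chart : ∀ (U : Y.Opens) (hU : IsAffineOpen U),
    (((p ⁻¹ᵁ U : P.Opens) : Scheme.{u}) ≅ Proj (𝒮.deg U hU)))
  (hP : RelProj.IsRelProj 𝒮 p chart)
  (ℳ : RelProj.GrModule 𝒮) {k n l : ℤ} (hk : k + n = l) {F F' L : P.Modules}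
  (lam : ∀ (U : Y.Opens) (hU : IsAffineOpen U),
    F ⟶ (Scheme.Modules.pushforward (RelProj.emb p chart U hU)).obj
      (GrMod.tilde (𝒮.deg U hU) (ℳ.deg U hU) k))
  (hF : RelProj.IsRelTilde 𝒮 p chart ℳ k F lam)
  (lam' : ∀ (U : Y.Opens) (hU : IsAffineOpen U),
    F' ⟶ (Scheme.Modules.pushforward (RelProj.emb p chart U hU)).obj
      (GrMod.tilde (𝒮.deg U hU) (ℳ.deg U hU) l))
  (hF' : RelProj.IsRelTilde 𝒮 p chart ℳ l F' lam')
  (lamL : ∀ (U : Y.Opens) (hU : IsAffineOpen U),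
    L ⟶ (Scheme.Modules.pushforward (RelProj.emb p chart U hU)).obj (GrTwist.twist (𝒮.deg U hU) n))
  (hL : RelProj.IsRelTwist 𝒮 p chart n L lamL)

include hP hF hF' hL in
/-- compatibility of the chartwise products with restriction to a basic open, on pure tensors -/
theorem pair_basicOpen (U : Y.Opens) (hU : IsAffineOpen U) (r : Γ(Y, U)) (W : P.Opens)
    (a : Γ(F, W)) (b : Γ(L, W)) (t : Γ(F', W))
    (h : (lam' U hU).app W t = RelTildeMul.pair 𝒮 p chart ℳ hk lam lamL U hU W a b) :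
    (lam' (Y.basicOpen r) (hU.basicOpen r)).app W t =
      RelTildeMul.pair 𝒮 p chart ℳ hk lam lamL (Y.basicOpen r) (hU.basicOpen r) W a b := by
  apply tilde_sect_ext
  intro y
  have hy' := Groth.Agent.H77.RelTildeGlue.emb_comap_mem 𝒮 p chart hP U hU r W y.1 y.2
  have c' := hF'.compat U hU r W t y.1 y.2 hy'
  have c := hF.compat U hU r W a y.1 y.2 hy'
  have cL := hL.compat U hU r W b y.1 y.2 hy'
  refine c'.trans ?_
  rw [h]
  unfold RelTildeMul.pair
  rw [mulSect_val, mulSect_val, GrMod.locModMap_smul, ← c, ← cL]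

include hP hF hF' hL in
/-- compatibility of the chartwise products with restriction to a basic open -/
theorem chi_basicOpen (U : Y.Opens) (hU : IsAffineOpen U) (r : Γ(Y, U)) (W : P.Opens)
    (hW : W ≤ p ⁻¹ᵁ (Y.basicOpen r))
    (s : Γ(CohB1.tensorMod F L, W)) (t : Γ(F', W))
    (h : (lam' U hU).app W t = (chi 𝒮 p chart ℳ hk lam lamL U hU).app W s) :
    (lam' (Y.basicOpen r) (hU.basicOpen r)).app W t =
      (chi 𝒮 p chart ℳ hk lam lamL (Y.basicOpen r) (hU.basicOpen r)).app W s := by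
  have hWU : W ≤ p ⁻¹ᵁ U := hW.trans (p.preimage_mono (Y.basicOpen_le r))
  refine Groth.Agent.H18.modules_eq_of_locally_eq _ _ _ fun x hx => ?_
  obtain ⟨W', hW', hxW', z, hz⟩ := STL.tmulLin_locally_surjective F L W s x hx
  refine ⟨W', hW', hxW', ?_⟩
  have key : ∀ (z : Γ(F, W') ⊗[Γ(P, W')] Γ(L, W')) (t' : Γ(F', W')),
      (lam' U hU).app W' t' = (chi 𝒮 p chart ℳ hk lam lamL U hU).app W' (STL.tmulLin F L W' z) →
      (lam' (Y.basicOpen r) (hU.basicOpen r)).app W' t' =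
        (chi 𝒮 p chart ℳ hk lam lamL (Y.basicOpen r) (hU.basicOpen r)).app W'
          (STL.tmulLin F L W' z) := by
    intro z
    induction z using TensorProduct.induction_on with
    | zero =>
      intro t' ht'
      rw [map_zero, map_zero] at ht' ⊢
      have : t' = 0 := (hF'.bijective U hU W' (hW'.trans hWU)).1 (ht'.trans (map_zero _).symm)
      rw [this, map_zero]
    | tmul a b =>
      intro t' ht'
      rw [← STL.tmul_eq, chi_tmul] at ht' ⊢
      exact pair_basicOpen 𝒮 p chart hP ℳ hk lam hF lam' hF' lamL hL U hU r W' a b t' ht'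
    | add z₁ z₂ h₁ h₂ =>
      intro t' ht'
      obtain ⟨t₁, ht₁⟩ := (hF'.bijective U hU W' (hW'.trans hWU)).2
        ((chi 𝒮 p chart ℳ hk lam lamL U hU).app W' (STL.tmulLin F L W' z₁))
      obtain ⟨t₂, ht₂⟩ := (hF'.bijective U hU W' (hW'.trans hWU)).2
        ((chi 𝒮 p chart ℳ hk lam lamL U hU).app W' (STL.tmulLin F L W' z₂))
      have : t' = t₁ + t₂ := (hF'.bijective U hU W' (hW'.trans hWU)).1 (by
        rw [ht', map_add, map_add, map_add, ht₁, ht₂])
      rw [this, map_add, map_add, map_add, h₁ t₁ ht₁, h₂ t₂ ht₂]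
  have h1 := key z (mres F' hW' t) (by
    rw [Groth.Agent.H41.RelTwistTriv.app_mres, h, ← Groth.Agent.H41.RelTwistTriv.app_mres, hz])
  rw [← Groth.Agent.H41.RelTwistTriv.app_mres, ← Groth.Agent.H41.RelTwistTriv.app_mres, h1, hz]

include hP hF hF' hL in
/-- the multiplication `(ℳ(k))~ ⊗ O_P(n) ⟶ (ℳ(l))~`, `l = k + n` -/
theorem exists_mul : ∃ μ : CohB1.tensorMod F L ⟶ F', ∀ (U : Y.Opens) (hU : IsAffineOpen U),
    μ ≫ lam' U hU = chi 𝒮 p chart ℳ hk lam lamL U hU := by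
  have key := Groth.Agent.H77.RelGlue.existsUnique_glue p (fun _ _ => CohB1.tensorMod F L)
    (fun U hU => T 𝒮 p chart ℳ U hU l) (fun U hU => chi 𝒮 p chart ℳ hk lam lamL U hU)
    (fun _ _ => 𝟙 _) lam' hF'.bijective
    (fun U hU r W hW s t hrel =>
      chi_basicOpen 𝒮 p chart hP ℳ hk lam hF lam' hF' lamL hL U hU r W hW s t hrel)
    (fun U hU W => Groth.Agent.H77.RelTildeGlue.mres_pushforward_injective 𝒮 p chart U hU _ W)
  obtain ⟨μ, hμ, -⟩ := key
  exact ⟨μ, fun U hU => by rw [hμ U hU, Category.id_comp]⟩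

end Groth.Agent.H77.RelTildeTensor
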