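import Groth.Agent.H77.RelTildeTensor

/-!
# `(ℳ(k))~ ⊗ O_P(n) ≅ (ℳ(k + n))~` on a relative `Proj` generated in degree one (helper77)
-/

set_option autoImplicit false
universe u

open CategoryTheory CategoryTheory.Limits AlgebraicGeometry TopologicalSpace Opposite TensorProduct

namespace Groth.Agent.H77.RelTildeTensorIso

open Groth.Agent.H18 Groth.Agent.H18.PUP Groth.Agent.H41.GrTwistTriv Groth.Agent.H77.GrModMulSect
  Groth.Agent.H41.RelTwistTriv Groth.Agent.H77.RelTildeMul Groth.Agent.H77.RelTildeTensor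

section Generic

variable {X : Scheme.{u}} {F L G : X.Modules} (μ : CohB1.tensorMod F L ⟶ G) {W : X.Opens}
  {σ : Γ(L, W)} (hσ : IsBasisOn L W σ)

include hσ in
/-- over an open where `L` has a basis `σ`, every element of the presheaf tensor product is of the form `s ⊗ σ` -/
theorem exists_tmul_eq {V : X.Opens} (hV : V ≤ W) (ζ : Γ(F, V) ⊗[Γ(X, V)] Γ(L, V)) :
    ∃ s : Γ(F, V), STL.tmulLin F L V ζ = SecTwist.tmul F L V s (mres L hV σ) := by
  induction ζ using TensorProduct.induction_on with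
  | zero => exact ⟨0, ((STL.tmulLin F L V).map_zero).trans (STL.tmul_zero_left F L V _).symm⟩
  | tmul a b =>
    obtain ⟨r, hr⟩ := (hσ V hV).2 b
    refine ⟨r • a, ?_⟩
    have hr' : r • mres L hV σ = b := hr
    rw [← STL.tmul_eq, ← hr', STL.tmul_smul_right, STL.tmul_smul_left]
  | add z₁ z₂ h₁ h₂ =>
    obtain ⟨s₁, hs₁⟩ := h₁
    obtain ⟨s₂, hs₂⟩ := h₂
    refine ⟨s₁ + s₂, ((STL.tmulLin F L V).map_add z₁ z₂).trans ?_⟩
    rw [hs₁, hs₂]
    exact (STL.tmul_add_left F L V s₁ s₂ _).symm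

theorem app_zero {M N : X.Modules} (φ : M ⟶ N) (V : X.Opens) : φ.app V (0 : Γ(M, V)) = 0 :=
  map_zero (φ.app V).hom

include hσ in
/-- If `L` has a basis `σ` over `W` and `s ↦ μ (s ⊗ σ)` is bijective over every open inside `W`, then
`μ : F ⊗ L ⟶ G` is bijective on sections over every open inside `W`. -/
theorem bijective_app_of_basis
    (h : ∀ (V : X.Opens) (hV : V ≤ W), Function.Bijective
      (fun s : Γ(F, V) => μ.app V (SecTwist.tmul F L V s (mres L hV σ))))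
    (V : X.Opens) (hV : V ≤ W) : Function.Bijective (μ.app V) := by
  constructor
  · refine (injective_iff_map_eq_zero (μ.app V).hom).mpr ?_
    intro z hz
    have hz' : μ.app V z = 0 := hz
    refine Groth.Agent.H18.modules_eq_of_locally_eq _ _ _ fun x hx => ?_
    obtain ⟨V', hV', hxV', ζ, hζ⟩ := STL.tmulLin_locally_surjective F L V z x hx
    refine ⟨V', hV', hxV', ?_⟩
    obtain ⟨s, hs⟩ := exists_tmul_eq hσ (hV'.trans hV) ζ
    have h1 : μ.app V' (SecTwist.tmul F L V' s (mres L (hV'.trans hV) σ)) = 0 := by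
      rw [← hs, hζ, Groth.Agent.H41.RelTwistTriv.app_mres, hz']
      exact map_zero (mres G hV').hom
    have h2 : μ.app V' (SecTwist.tmul F L V' 0 (mres L (hV'.trans hV) σ)) = 0 := by
      rw [STL.tmul_zero_left]
      exact app_zero μ V'
    have h3 : s = 0 := (h V' (hV'.trans hV)).1 (h1.trans h2.symm)
    rw [← hζ, hs, h3]
    exact (STL.tmul_zero_left F L V' _).trans (map_zero (mres (CohB1.tensorMod F L) hV').hom).symm
  · intro t
    obtain ⟨s, hs⟩ := (h V hV).2 t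
    exact ⟨_, hs⟩

end Generic

section Main

variable {Y P : Scheme.{u}} (𝒮 : RelProj.QCGrAlg Y) (p : P ⟶ Y)
  (chart : ∀ (U : Y.Opens) (hU : IsAffineOpen U),
    (((p ⁻¹ᵁ U : P.Opens) : Scheme.{u}) ≅ Proj (𝒮.deg U hU)))
  (hP : RelProj.IsRelProj 𝒮 p chart)
  (ℳ : RelProj.GrModule 𝒮) {k n l : ℤ} (hk : k + n = l) {F F' L : P.Modules}
  (lam : ∀ (U : Y.Opens) (hU : IsAffineOpen U),
    F ⟶ (Scheme.Modules.pushforward (RelProj.emb p chart U hU)).obj
      (GrMod.tilde (𝒮.deg U hU) (ℳ.deg U hU) k))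
  (hF : RelProj.IsRelTilde 𝒮 p chart ℳ k F lam)
  (lam' : ∀ (U : Y.Opens) (hU : IsAffineOpen U),
    F' ⟶ (Scheme.Modules.pushforward (RelProj.emb p chart U hU)).obj
      (GrMod.tilde (𝒮.deg U hU) (ℳ.deg U hU) l))
  (hF' : RelProj.IsRelTilde 𝒮 p chart ℳ l F' lam')
  (lamL : ∀ (U : Y.Opens) (hU : IsAffineOpen U),
    L ⟶ (Scheme.Modules.pushforward (RelProj.emb p chart U hU)).obj (GrTwist.twist (𝒮.deg U hU) n))
  (hL : RelProj.IsRelTwist 𝒮 p chart n L lamL)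

/-- multiplication by a nowhere vanishing fraction `a / b` of degree `n` is bijective `M(k)~ → M(l)~` -/
theorem bijective_mulSect_fracTw {A σ : Type u} [CommRing A] [SetLike σ A] [AddSubgroupClass σ A]
    (𝒜 : ℕ → σ) [GradedRing 𝒜] {M τ : Type u} [AddCommGroup M] [Module A M] [SetLike τ M]
    [AddSubgroupClass τ M] (ℳ : ℕ → τ) [SetLike.GradedSMul 𝒜 ℳ]
    {k n l : ℤ} (h : k + n = l) {i j : ℕ} {a b : A}
    (ha : a ∈ 𝒜 i) (hb : b ∈ 𝒜 j) (he : (i : ℤ) = j + n) (V : (Proj 𝒜).Opens)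
    (hVa : ∀ x : ProjectiveSpectrum 𝒜, x ∈ V → a ∉ x.asHomogeneousIdeal)
    (hVb : ∀ x : ProjectiveSpectrum 𝒜, x ∈ V → b ∉ x.asHomogeneousIdeal) :
    Function.Bijective (fun s : Γ(GrMod.tilde 𝒜 ℳ k, V) => mulSect 𝒜 ℳ h s (fracTw 𝒜 ha hb he V hVb)) := by
  have h' : l + (-n) = k := by omega
  have he' : (j : ℤ) = i + (-n) := by omega
  refine Function.bijective_iff_has_inverse.mpr
    ⟨fun s' => mulSect 𝒜 ℳ h' s' (fracTw 𝒜 hb ha he' V hVa), fun s => ?_, fun s' => ?_⟩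
  · exact mulSect_mulSect_fracTw 𝒜 ℳ h h' ha hb he he' V hVa hVb s
  · exact mulSect_mulSect_fracTw 𝒜 ℳ h' h hb ha he' he V hVb hVa s'

include hF hF' hL in
/-- If `𝒮` is generated in degree one, the multiplication `(ℳ(k))~ ⊗ O_P(n) ⟶ (ℳ(k + n))~` is an isomorphism. -/
theorem isIso_mul (hgen : 𝒮.IsGenDegOne) (μ : CohB1.tensorMod F L ⟶ F')
    (hμ : ∀ (U : Y.Opens) (hU : IsAffineOpen U),
      μ ≫ lam' U hU = chi 𝒮 p chart ℳ hk lam lamL U hU) : IsIso μ := by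
  refine Groth.Agent.H67.UnitIso.isIso_of_isIso_restrict μ fun x => ?_
  obtain ⟨_, ⟨U, hU : IsAffineOpen U, rfl⟩, hxU', -⟩ :=
    Y.isBasis_affineOpens.exists_subset_of_mem_open (show p x ∈ (⊤ : Y.Opens) from trivial)
      (⊤ : Y.Opens).2
  have hxU : x ∈ p ⁻¹ᵁ U := hxU'
  obtain ⟨g, hg1, hgx⟩ := Groth.Agent.H41.GenDegOne.exists_degOne_notMem (hgen U hU)
    ((chart U hU).hom ⟨x, hxU⟩)
  have hga : g ^ n.toNat ∈ 𝒮.deg U hU (n.toNat • 1) := SetLike.pow_mem_graded _ hg1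
  have hgb : g ^ (-n).toNat ∈ 𝒮.deg U hU ((-n).toNat • 1) := SetLike.pow_mem_graded _ hg1
  have he : ((n.toNat • 1 : ℕ) : ℤ) = ((-n).toNat • 1 : ℕ) + n := by
    simp only [smul_eq_mul, mul_one]
    omega
  have hWU : (RelProj.emb p chart U hU) ''ᵁ Proj.basicOpen (𝒮.deg U hU) g ≤ p ⁻¹ᵁ U := by
    rw [← opensRange_emb 𝒮 p chart U hU]
    exact Scheme.Hom.image_le_opensRange _ _
  have hxW : x ∈ (RelProj.emb p chart U hU) ''ᵁ Proj.basicOpen (𝒮.deg U hU) g :=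
    ⟨(chart U hU).hom ⟨x, hxU⟩, (Proj.mem_basicOpen _ _ _).mpr hgx,
      Groth.Agent.H41.RelPMap2.emb_chart_apply p chart U hU x hxU⟩
  have hpre : ∀ z : ProjectiveSpectrum (𝒮.deg U hU),
      z ∈ (RelProj.emb p chart U hU) ⁻¹ᵁ
        ((RelProj.emb p chart U hU) ''ᵁ Proj.basicOpen (𝒮.deg U hU) g) →
      g ∉ z.asHomogeneousIdeal := by
    intro z hz
    obtain ⟨z', hz', e'⟩ := hz
    have : z' = z := (RelProj.emb p chart U hU).isOpenEmbedding.injective e'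
    rw [← this]
    exact (Proj.mem_basicOpen _ _ _).mp hz'
  have hpow : ∀ k : ℕ, ∀ z : ProjectiveSpectrum (𝒮.deg U hU),
      z ∈ (RelProj.emb p chart U hU) ⁻¹ᵁ
        ((RelProj.emb p chart U hU) ''ᵁ Proj.basicOpen (𝒮.deg U hU) g) →
      g ^ k ∉ z.asHomogeneousIdeal := fun k z hz hk =>
    hpre z hz (z.isPrime.mem_of_pow_mem k hk)
  obtain ⟨σ, hσ⟩ := exists_section 𝒮 p chart n L lamL hL U hU hga hgb he _ hWU (hpow _)
  have hb : IsBasisOn L _ σ := fun V hV =>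
    bijective_smul_of_lam_eq 𝒮 p chart n L lamL hL U hU hga hgb he _ hWU (hpow _) (hpow _)
      σ hσ V hV
  refine ⟨_, hxW, ?_⟩
  rw [Groth.Agent.H67.GenLocusAffine.isIso_restrict_iff]
  intro V hV
  refine bijective_app_of_basis μ hb (fun V hV => ?_) V hV
  have hle : (RelProj.emb p chart U hU) ⁻¹ᵁ V ≤ (RelProj.emb p chart U hU) ⁻¹ᵁ
      ((RelProj.emb p chart U hU) ''ᵁ Proj.basicOpen (𝒮.deg U hU) g) :=
    (RelProj.emb p chart U hU).preimage_mono hV
  have hlam := hF.bijective U hU V (hV.trans hWU)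
  have hlam' := hF'.bijective U hU V (hV.trans hWU)
  have hτ : (lamL U hU).app V (mres L hV σ) =
      fracTw (𝒮.deg U hU) hga hgb he ((RelProj.emb p chart U hU) ⁻¹ᵁ V)
        (fun z hz => hpow _ z (hle hz)) := by
    rw [Groth.Agent.H41.RelTwistTriv.app_mres, hσ]
    rfl
  have hcomp : ((lam' U hU).app V : Γ(F', V) → _) ∘
      (fun s : Γ(F, V) => μ.app V (SecTwist.tmul F L V s (mres L hV σ))) =
      (fun s' : Γ(GrMod.tilde (𝒮.deg U hU) (ℳ.deg U hU) k, (RelProj.emb p chart U hU) ⁻¹ᵁ V) =>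
        mulSect (𝒮.deg U hU) (ℳ.deg U hU) hk s'
          (fracTw (𝒮.deg U hU) hga hgb he ((RelProj.emb p chart U hU) ⁻¹ᵁ V)
            (fun z hz => hpow _ z (hle hz)))) ∘ ((lam U hU).app V : Γ(F, V) → _) := by
    funext s
    have h2 := congrArg (fun f : CohB1.tensorMod F L ⟶ T 𝒮 p chart ℳ U hU l =>
      (Scheme.Modules.Hom.app f V) (SecTwist.tmul F L V s (mres L hV σ))) (hμ U hU)
    refine h2.trans ?_
    rw [chi_tmul]
    unfold RelTildeMul.pair
    rw [hτ]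
    rfl
  have h1 : Function.Bijective (((lam' U hU).app V : Γ(F', V) → _) ∘
      (fun s : Γ(F, V) => μ.app V (SecTwist.tmul F L V s (mres L hV σ)))) := by
    rw [hcomp]
    exact (bijective_mulSect_fracTw (𝒮.deg U hU) (ℳ.deg U hU) hk hga hgb he _
      (fun z hz => hpow _ z (hle hz)) (fun z hz => hpow _ z (hle hz))).comp hlam
  exact (Function.Bijective.of_comp_iff' hlam' _).mp h1

include hP hF hF' hL hk in
/-- If `𝒮` is generated in degree one, `(ℳ(k + n))~ ≅ (ℳ(k))~ ⊗ O_P(n)`. -/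
theorem nonempty_iso (hgen : 𝒮.IsGenDegOne) : Nonempty (F' ≅ CohB1.tensorMod F L) := by
  obtain ⟨μ, hμ⟩ := exists_mul 𝒮 p chart hP ℳ hk lam hF lam' hF' lamL hL
  have := isIso_mul 𝒮 p chart ℳ hk lam hF lam' hF' lamL hL hgen μ hμ
  exact ⟨(asIso μ).symm⟩

end Main

end Groth.Agent.H77.RelTildeTensorIso
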