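import Mathlib
import Groth.Prelude.Def_RelProj3
import Groth.Agent.H77.RelTildeGlue
import Groth.Agent.H41.RelProj

/-!
# The comparison map `O_{Proj 𝒜}(n) ⟶ h_* O_{Proj ℬ}(n)` attached to a morphism of relative Proj's
-/

set_option autoImplicit false
universe u
open CategoryTheory CategoryTheory.Limits AlgebraicGeometry Opposite TopologicalSpace
open scoped HomogeneousIdeal
noncomputable section

namespace Groth.Agent.H77.RelTwistMap

open Groth.Agent.H77.RelTildeCore Groth.Agent.H77.RelGlue Groth.Agent.H77.RelTildeGlue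

section RingLevel
variable {A σ : Type u} [CommRing A] [SetLike σ A] [AddSubgroupClass σ A] {𝒜 : ℕ → σ} [GradedRing 𝒜]
variable {B τ : Type u} [CommRing B] [SetLike τ B] [AddSubgroupClass τ B] {ℬ : ℕ → τ} [GradedRing ℬ]
variable {B' τ' : Type u} [CommRing B'] [SetLike τ' B'] [AddSubgroupClass τ' B'] {ℬ' : ℕ → τ'}
  [GradedRing ℬ']
variable {C ρ : Type u} [CommRing C] [SetLike ρ C] [AddSubgroupClass ρ C] {𝒞 : ℕ → ρ} [GradedRing 𝒞]
variable (ψ₁ : 𝒜 →+*ᵍ ℬ) (h₁ : ℬ₊ ≤ (𝒜₊).map ψ₁) (ψ₂ : ℬ →+*ᵍ 𝒞) (h₂ : 𝒞₊ ≤ (ℬ₊).map ψ₂)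
  (ψ₁' : 𝒜 →+*ᵍ ℬ') (h₁' : ℬ'₊ ≤ (𝒜₊).map ψ₁') (ψ₂' : ℬ' →+*ᵍ 𝒞) (h₂' : 𝒞₊ ≤ (ℬ'₊).map ψ₂')
  (hc : ∀ a : A, ψ₂ (ψ₁ a) = ψ₂' (ψ₁' a))

include hc in
theorem comap_comap_eq (y : ProjectiveSpectrum 𝒞) :
    ProjectiveSpectrum.comap ψ₁ h₁ (ProjectiveSpectrum.comap ψ₂ h₂ y) =
      ProjectiveSpectrum.comap ψ₁' h₁' (ProjectiveSpectrum.comap ψ₂' h₂' y) := by
  apply ProjectiveSpectrum.ext
  apply HomogeneousIdeal.ext
  ext a
  change ψ₂ (ψ₁ a) ∈ y.asHomogeneousIdeal ↔ ψ₂' (ψ₁' a) ∈ y.asHomogeneousIdeal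
  rw [hc]

include hc in
theorem locMap_locMap_val {n : ℤ} {V : Opens (ProjectiveSpectrum.top 𝒜)}
    (s : GrTwist.sectN (𝒜 := 𝒜) n (op V)) (y : ProjectiveSpectrum 𝒞)
    (hz₁ : ProjectiveSpectrum.comap ψ₁ h₁ (ProjectiveSpectrum.comap ψ₂ h₂ y) ∈ V)
    (hz₂ : ProjectiveSpectrum.comap ψ₁' h₁' (ProjectiveSpectrum.comap ψ₂' h₂' y) ∈ V) :
    GrTwist.locMap ψ₂ h₂ y (GrTwist.locMap ψ₁ h₁ (ProjectiveSpectrum.comap ψ₂ h₂ y)
        (s.1 ⟨_, hz₁⟩).1) =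
      GrTwist.locMap ψ₂' h₂' y (GrTwist.locMap ψ₁' h₁' (ProjectiveSpectrum.comap ψ₂' h₂' y)
        (s.1 ⟨_, hz₂⟩).1) := by
  have heq := comap_comap_eq ψ₁ h₁ ψ₂ h₂ ψ₁' h₁' ψ₂' h₂' hc y
  rcases s.2 ⟨_, hz₁⟩ with ⟨W, m, iWV, i, j, a, b, hb, -, h_frac⟩
  have m' : ProjectiveSpectrum.comap ψ₁' h₁' (ProjectiveSpectrum.comap ψ₂' h₂' y) ∈ W := heq ▸ m
  have e₁ := h_frac ⟨_, m⟩
  have e₂ := h_frac ⟨_, m'⟩
  change (s.1 ⟨_, hz₁⟩).1 = _ at e₁
  change (s.1 ⟨_, hz₂⟩).1 = _ at e₂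
  rw [e₁, e₂, GrTwist.locMap_mk, GrTwist.locMap_mk, GrTwist.locMap_mk, GrTwist.locMap_mk]
  congr 1
  · exact hc a
  · exact Subtype.ext (hc b)

end RingLevel

section Rel
variable {Y PA PB : Scheme.{u}} {𝒜 ℬ : RelProj.QCGrAlg Y}
    (φ : 𝒜.toQCAlg ⟶ ℬ.toQCAlg) (hφ : RelProj.IsGradedHom φ)
    (hirr : ∀ (U : Y.Opens) (hU : IsAffineOpen U),
      (ℬ.deg U hU)₊ ≤ ((𝒜.deg U hU)₊).map (RelProj.gradedHomAt φ hφ U hU))
    (pA : PA ⟶ Y) (pB : PB ⟶ Y)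
    (chartA : ∀ (U : Y.Opens) (hU : IsAffineOpen U),
      (((pA ⁻¹ᵁ U : PA.Opens) : Scheme.{u}) ≅ Proj (𝒜.deg U hU)))
    (chartB : ∀ (U : Y.Opens) (hU : IsAffineOpen U),
      (((pB ⁻¹ᵁ U : PB.Opens) : Scheme.{u}) ≅ Proj (ℬ.deg U hU)))
    (hA : RelProj.IsRelProj 𝒜 pA chartA) (hB : RelProj.IsRelProj ℬ pB chartB)
    (h : PB ⟶ PA) (hh : RelProj.IsRelProjMap φ hφ hirr chartA chartB h) (n : ℤ)

/-- `Proj.map φ(U)` -/
abbrev pim (U : Y.Opens) (hU : IsAffineOpen U) : Proj (ℬ.deg U hU) ⟶ Proj (𝒜.deg U hU) :=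
  Proj.map (RelProj.gradedHomAt φ hφ U hU) (hirr U hU)

include hh in
theorem emb_comp (U : Y.Opens) (hU : IsAffineOpen U) :
    RelProj.emb pB chartB U hU ≫ h = pim φ hφ hirr U hU ≫ RelProj.emb pA chartA U hU := by
  unfold RelProj.emb
  rw [Category.assoc, hh U hU, Iso.inv_hom_id_assoc]

/-- the chartwise source modules -/
abbrev E₁ (U : Y.Opens) (hU : IsAffineOpen U) : PA.Modules :=
  (Scheme.Modules.pushforward (RelProj.emb pA chartA U hU)).obj (GrTwist.twist (𝒜.deg U hU) n)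

/-- the chartwise target modules -/
abbrev E₂ (U : Y.Opens) (hU : IsAffineOpen U) : PA.Modules :=
  (Scheme.Modules.pushforward (RelProj.emb pA chartA U hU)).obj
    ((Scheme.Modules.pushforward (pim φ hφ hirr U hU)).obj (GrTwist.twist (ℬ.deg U hU) n))

/-- the chartwise maps -/
abbrev chiT (U : Y.Opens) (hU : IsAffineOpen U) :
    E₁ pA chartA n U hU ⟶ E₂ φ hφ hirr pA chartA n U hU :=
  (Scheme.Modules.pushforward (RelProj.emb pA chartA U hU)).map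
    (GrTwist.comap (RelProj.gradedHomAt φ hφ U hU) (hirr U hU) n)

/-- the identification `h_* (eB)_* T ≅ (eA)_* π_* T` -/
def iotaT (U : Y.Opens) (hU : IsAffineOpen U) :
    (Scheme.Modules.pushforward h).obj ((Scheme.Modules.pushforward (RelProj.emb pB chartB U hU)).obj
      (GrTwist.twist (ℬ.deg U hU) n)) ⟶ E₂ φ hφ hirr pA chartA n U hU :=
  (Scheme.Modules.pushforwardComp (RelProj.emb pB chartB U hU) h).hom.app _ ≫
    (Scheme.Modules.pushforwardCongr (emb_comp φ hφ hirr pA pB chartA chartB h hh U hU)).hom.app _ ≫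
      (Scheme.Modules.pushforwardComp (pim φ hφ hirr U hU) (RelProj.emb pA chartA U hU)).inv.app _

instance (U : Y.Opens) (hU : IsAffineOpen U) :
    IsIso (iotaT φ hφ hirr pA pB chartA chartB h hh n U hU) := by
  unfold iotaT
  infer_instance

variable {LA : PA.Modules}
    (lamA : ∀ (U : Y.Opens) (hU : IsAffineOpen U), LA ⟶ E₁ pA chartA n U hU)
    (hLA : RelProj.IsRelTwist 𝒜 pA chartA n LA lamA)
    {LB : PB.Modules}
    (lamB : ∀ (U : Y.Opens) (hU : IsAffineOpen U),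
      LB ⟶ (Scheme.Modules.pushforward (RelProj.emb pB chartB U hU)).obj
        (GrTwist.twist (ℬ.deg U hU) n))
    (hLB : RelProj.IsRelTwist ℬ pB chartB n LB lamB)

/-- the chartwise identifications of `h_* LB` -/
def lamT (U : Y.Opens) (hU : IsAffineOpen U) :
    (Scheme.Modules.pushforward h).obj LB ⟶ E₂ φ hφ hirr pA chartA n U hU :=
  (Scheme.Modules.pushforward h).map (lamB U hU) ≫ iotaT φ hφ hirr pA pB chartA chartB h hh n U hU

theorem val_lamT (U : Y.Opens) (hU : IsAffineOpen U) (W : PA.Opens)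
    (t : Γ((Scheme.Modules.pushforward h).obj LB, W)) (y : ProjectiveSpectrum (ℬ.deg U hU))
    (hy₁ : y ∈ pim φ hφ hirr U hU ⁻¹ᵁ (RelProj.emb pA chartA U hU ⁻¹ᵁ W))
    (hy₂ : y ∈ RelProj.emb pB chartB U hU ⁻¹ᵁ (h ⁻¹ᵁ W)) :
    GrTwist.val (V := pim φ hφ hirr U hU ⁻¹ᵁ (RelProj.emb pA chartA U hU ⁻¹ᵁ W))
        ((lamT φ hφ hirr pA pB chartA chartB h hh n lamB U hU).app W t) ⟨y, hy₁⟩ =
      GrTwist.val (V := RelProj.emb pB chartB U hU ⁻¹ᵁ (h ⁻¹ᵁ W))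
        ((lamB U hU).app (h ⁻¹ᵁ W) t) ⟨y, hy₂⟩ := rfl

end Rel

section Rel2
variable {Y PA PB : Scheme.{u}} {𝒜 ℬ : RelProj.QCGrAlg Y}
    (φ : 𝒜.toQCAlg ⟶ ℬ.toQCAlg) (hφ : RelProj.IsGradedHom φ)
    (hirr : ∀ (U : Y.Opens) (hU : IsAffineOpen U),
      (ℬ.deg U hU)₊ ≤ ((𝒜.deg U hU)₊).map (RelProj.gradedHomAt φ hφ U hU))
    (pA : PA ⟶ Y) (pB : PB ⟶ Y)
    (chartA : ∀ (U : Y.Opens) (hU : IsAffineOpen U),
      (((pA ⁻¹ᵁ U : PA.Opens) : Scheme.{u}) ≅ Proj (𝒜.deg U hU)))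
    (chartB : ∀ (U : Y.Opens) (hU : IsAffineOpen U),
      (((pB ⁻¹ᵁ U : PB.Opens) : Scheme.{u}) ≅ Proj (ℬ.deg U hU)))
    (hA : RelProj.IsRelProj 𝒜 pA chartA) (hB : RelProj.IsRelProj ℬ pB chartB)
    (h : PB ⟶ PA) (hh : RelProj.IsRelProjMap φ hφ hirr chartA chartB h) (n : ℤ)
    {LA : PA.Modules}
    (lamA : ∀ (U : Y.Opens) (hU : IsAffineOpen U), LA ⟶ E₁ pA chartA n U hU)
    (hLA : RelProj.IsRelTwist 𝒜 pA chartA n LA lamA)
    {LB : PB.Modules}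
    (lamB : ∀ (U : Y.Opens) (hU : IsAffineOpen U),
      LB ⟶ (Scheme.Modules.pushforward (RelProj.emb pB chartB U hU)).obj
        (GrTwist.twist (ℬ.deg U hU) n))
    (hLB : RelProj.IsRelTwist ℬ pB chartB n LB lamB)

include hh in
theorem embB_mem_iff (U : Y.Opens) (hU : IsAffineOpen U) (W : PA.Opens)
    (y : ProjectiveSpectrum (ℬ.deg U hU)) :
    (RelProj.emb pB chartB U hU).base y ∈ h ⁻¹ᵁ W ↔
      (RelProj.emb pA chartA U hU).base (ProjectiveSpectrum.comap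
        (RelProj.gradedHomAt φ hφ U hU) (hirr U hU) y) ∈ W := by
  have e := emb_comp φ hφ hirr pA pB chartA chartB h hh U hU
  have e' : (RelProj.emb pB chartB U hU ≫ h).base y =
      (pim φ hφ hirr U hU ≫ RelProj.emb pA chartA U hU).base y := by rw [e]
  exact (congrArg (· ∈ W) e').to_iff

/-- the valuewise condition of the statement -/
def ValCond (U : Y.Opens) (hU : IsAffineOpen U) (W : PA.Opens) (s : Γ(LA, W))
    (t : Γ((Scheme.Modules.pushforward h).obj LB, W)) : Prop :=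
  ∀ (y : ProjectiveSpectrum (ℬ.deg U hU))
    (hy : (RelProj.emb pB chartB U hU).base y ∈ h ⁻¹ᵁ W)
    (hy' : (RelProj.emb pA chartA U hU).base
      (ProjectiveSpectrum.comap (RelProj.gradedHomAt φ hφ U hU) (hirr U hU) y) ∈ W),
    GrTwist.val (V := RelProj.emb pB chartB U hU ⁻¹ᵁ (h ⁻¹ᵁ W))
        ((lamB U hU).app (h ⁻¹ᵁ W) t) ⟨y, hy⟩ =
      GrTwist.locMap (RelProj.gradedHomAt φ hφ U hU) (hirr U hU) y
        (GrTwist.val (V := RelProj.emb pA chartA U hU ⁻¹ᵁ W) ((lamA U hU).app W s) ⟨_, hy'⟩)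

theorem rel_iff (U : Y.Opens) (hU : IsAffineOpen U) (W : PA.Opens) (s : Γ(LA, W))
    (t : Γ((Scheme.Modules.pushforward h).obj LB, W)) :
    RelGlue.Rel (E₁ pA chartA n) (E₂ φ hφ hirr pA chartA n) (chiT φ hφ hirr pA chartA n) lamA
      (lamT φ hφ hirr pA pB chartA chartB h hh n lamB) U hU W s t ↔
    ValCond φ hφ hirr pA pB chartA chartB h n lamA lamB U hU W s t := by
  unfold RelGlue.Rel ValCond
  constructor
  · intro hrel y hy hy'
    have := congrArg (fun (σ : GrTwist.sectN (𝒜 := ℬ.deg U hU) n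
      (op (pim φ hφ hirr U hU ⁻¹ᵁ (RelProj.emb pA chartA U hU ⁻¹ᵁ W)))) =>
        ((σ.1 ⟨y, hy'⟩ : GrTwist.twistAt (ℬ.deg U hU) n y) : GrTwist.Loc (ℬ.deg U hU) y)) hrel
    exact this
  · intro hv
    refine Subtype.ext (funext fun y => Subtype.ext ?_)
    exact hv y.1 ((embB_mem_iff φ hφ hirr pA pB chartA chartB h hh U hU W y.1).mpr y.2) y.2

include hA hB hLB in
theorem bijective_lamT (U : Y.Opens) (hU : IsAffineOpen U) (W : PA.Opens) (hW : W ≤ pA ⁻¹ᵁ U) :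
    Function.Bijective ((lamT φ hφ hirr pA pB chartA chartB h hh n lamB U hU).app W) := by
  have hW' : h ⁻¹ᵁ W ≤ pB ⁻¹ᵁ U := by
    rw [← Groth.Agent.H41.RelProj.relProjMap_preimage φ hφ hirr chartA chartB hA hB h hh U]
    exact fun z hz => hW hz
  have b1 := hLB.bijective U hU (h ⁻¹ᵁ W) hW'
  have b2 : Function.Bijective ((iotaT φ hφ hirr pA pB chartA chartB h hh n U hU).app W) :=
    ConcreteCategory.bijective_of_isIso _
  exact b2.comp b1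

end Rel2

section Rel3
variable {Y PA PB : Scheme.{u}} {𝒜 ℬ : RelProj.QCGrAlg Y}
    (φ : 𝒜.toQCAlg ⟶ ℬ.toQCAlg) (hφ : RelProj.IsGradedHom φ)
    (hirr : ∀ (U : Y.Opens) (hU : IsAffineOpen U),
      (ℬ.deg U hU)₊ ≤ ((𝒜.deg U hU)₊).map (RelProj.gradedHomAt φ hφ U hU))
    (pA : PA ⟶ Y) (pB : PB ⟶ Y)
    (chartA : ∀ (U : Y.Opens) (hU : IsAffineOpen U),
      (((pA ⁻¹ᵁ U : PA.Opens) : Scheme.{u}) ≅ Proj (𝒜.deg U hU)))
    (chartB : ∀ (U : Y.Opens) (hU : IsAffineOpen U),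
      (((pB ⁻¹ᵁ U : PB.Opens) : Scheme.{u}) ≅ Proj (ℬ.deg U hU)))
    (hA : RelProj.IsRelProj 𝒜 pA chartA) (hB : RelProj.IsRelProj ℬ pB chartB)
    (h : PB ⟶ PA) (hh : RelProj.IsRelProjMap φ hφ hirr chartA chartB h) (n : ℤ)
    {LA : PA.Modules}
    (lamA : ∀ (U : Y.Opens) (hU : IsAffineOpen U), LA ⟶ E₁ pA chartA n U hU)
    (hLA : RelProj.IsRelTwist 𝒜 pA chartA n LA lamA)
    {LB : PB.Modules}
    (lamB : ∀ (U : Y.Opens) (hU : IsAffineOpen U),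
      LB ⟶ (Scheme.Modules.pushforward (RelProj.emb pB chartB U hU)).obj
        (GrTwist.twist (ℬ.deg U hU) n))
    (hLB : RelProj.IsRelTwist ℬ pB chartB n LB lamB)

omit hirr in
theorem gradedHomAt_res {U V : Y.Opens} (hU : IsAffineOpen U) (hV : IsAffineOpen V) (i : V ≤ U)
    (a : 𝒜.presheaf.obj (op U)) :
    ℬ.res hU hV i (RelProj.gradedHomAt φ hφ U hU a) =
      RelProj.gradedHomAt φ hφ V hV (𝒜.res hU hV i a) := by
  have := φ.hom.naturality (homOfLE i).op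
  exact (congrArg (fun f => f.hom a) this).symm

include hA hB hh hLA hLB in
theorem valCond_basicOpen (U : Y.Opens) (hU : IsAffineOpen U) (r : Γ(Y, U)) (W : PA.Opens)
    (s : Γ(LA, W)) (t : Γ((Scheme.Modules.pushforward h).obj LB, W))
    (hv : ValCond φ hφ hirr pA pB chartA chartB h n lamA lamB U hU W s t) :
    ValCond φ hφ hirr pA pB chartA chartB h n lamA lamB (Y.basicOpen r) (hU.basicOpen r) W s t := by
  intro y hy hy'
  have hyB := emb_comap_mem ℬ pB chartB hB U hU r (h ⁻¹ᵁ W) y hy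
  have hyA := emb_comap_mem 𝒜 pA chartA hA U hU r W _ hy'
  have hyA' := (embB_mem_iff φ hφ hirr pA pB chartA chartB h hh U hU W _).mp hyB
  have c1 := hLB.compat U hU r (h ⁻¹ᵁ W) t y hy hyB
  have c2 := hLA.compat U hU r W s _ hy' hyA
  have h1 := hv _ hyB hyA'
  refine c1.trans ?_
  rw [h1, c2]
  exact locMap_locMap_val (RelProj.gradedHomAt φ hφ U hU) (hirr U hU)
    (ℬ.res hU (hU.basicOpen r) (Y.basicOpen_le r)) (ℬ.irrelevant_le_map U hU r)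
    (𝒜.res hU (hU.basicOpen r) (Y.basicOpen_le r)) (𝒜.irrelevant_le_map U hU r)
    (RelProj.gradedHomAt φ hφ (Y.basicOpen r) (hU.basicOpen r))
    (hirr (Y.basicOpen r) (hU.basicOpen r))
    (fun a => gradedHomAt_res φ hφ hU (hU.basicOpen r) (Y.basicOpen_le r) a)
    ((lamA U hU).app W s) y hyA' hyA

include hA hB hh hLA hLB in
/-- existence and uniqueness of the comparison map -/
theorem existsUnique_theta :
    ∃! θ : LA ⟶ (Scheme.Modules.pushforward h).obj LB,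
      ∀ (U : Y.Opens) (hU : IsAffineOpen U) (W : PA.Opens) (s : Γ(LA, W)),
        ValCond φ hφ hirr pA pB chartA chartB h n lamA lamB U hU W s (θ.app W s) := by
  have key := existsUnique_glue pA (E₁ pA chartA n) (E₂ φ hφ hirr pA chartA n)
    (chiT φ hφ hirr pA chartA n) lamA (lamT φ hφ hirr pA pB chartA chartB h hh n lamB)
    (fun U hU W hW => bijective_lamT φ hφ hirr pA pB chartA chartB hA hB h hh n lamB hLB U hU W hW)
    (fun U hU r W _ s t hrel =>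
      (rel_iff φ hφ hirr pA pB chartA chartB h hh n lamA lamB _ _ W s t).mpr
        (valCond_basicOpen φ hφ hirr pA pB chartA chartB hA hB h hh n lamA hLA lamB hLB U hU r W s t
          ((rel_iff φ hφ hirr pA pB chartA chartB h hh n lamA lamB U hU W s t).mp hrel)))
    (fun U hU W => mres_pushforward_injective 𝒜 pA chartA U hU _ W)
  refine (existsUnique_congr fun θ => ?_).mp key
  constructor
  · intro hθ U hU W s
    refine (rel_iff φ hφ hirr pA pB chartA chartB h hh n lamA lamB U hU W s _).mp ?_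
    exact congrArg (fun f => (Scheme.Modules.Hom.app f W) s) (hθ U hU)
  · intro hθ U hU
    ext W s
    exact (rel_iff φ hφ hirr pA pB chartA chartB h hh n lamA lamB U hU W s _).mpr (hθ U hU W s)

end Rel3

end Groth.Agent.H77.RelTwistMap
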