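import Mathlib

/-!
# Normal form of a 2 × 2 skew-hermitian matrix once a root of a quadratic is available
-/

set_option autoImplicit false
set_option linter.unusedSectionVars false
set_option linter.style.haveILetI false
set_option linter.unusedSimpArgs false
set_option linter.unusedVariables false

namespace Groth.Agent.H77.Skew2

/-- abstract normal form: a skew-hermitian `2 × 2` matrix `[[a, b], [-L b, d]]` with `b` a unit is
congruent to `[[0, 1], [-1, 0]]` as soon as a certain quadratic has a fixed root `β`. -/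
theorem skew2_normal {A' : Type*} [CommRing A'] (L : A' →+* A') (hL : ∀ x, L (L x) = x)
    (a b d bi half β wi : A')
    (ha : L a = -a) (hd : L d = -d) (hb : b * bi = 1) (h2 : 2 * half = 1) (hβ : L β = β)
    (hw : (1 + a * (d * (bi * L bi))) * wi = 1)
    (hquad : (d * (bi * L bi)) * (d * (bi * L bi)) * β * β - (2 + a * (d * (bi * L bi))) * β
      + a * a * half * half = 0)
    (h' : Matrix (Fin 2) (Fin 2) A') (h00 : h' 0 0 = a) (h01 : h' 0 1 = b)
    (h10 : h' 1 0 = -L b) (h11 : h' 1 1 = d)
    (J : Matrix (Fin 2) (Fin 2) A') (J00 : J 0 0 = 0) (J01 : J 0 1 = 1) (J10 : J 1 0 = -1)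
    (J11 : J 1 1 = 0) :
    ∃ v : Matrix (Fin 2) (Fin 2) A', IsUnit v ∧ (v.map L).transpose * h' * v = J := by
  have hL2 : L 2 = 2 := map_ofNat L 2
  have hLhalf : L half = half := by
    have h3 : 2 * L half = 1 := by rw [← hL2, ← map_mul, h2, map_one]
    calc L half = L half * (2 * half) := by rw [h2, mul_one]
      _ = (2 * L half) * half := by ring
      _ = half := by rw [h3, one_mul]
  have hb' : L b * L bi = 1 := by rw [← map_mul, hb, map_one]
  obtain ⟨ni, hni⟩ : ∃ ni, ni = bi * L bi := ⟨_, rfl⟩
  have hLni : L ni = ni := by rw [hni, map_mul, hL]; ring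
  obtain ⟨d', hd'⟩ : ∃ d', d' = d * ni := ⟨_, rfl⟩
  have hLd' : L d' = -d' := by rw [hd', map_mul, hd, hLni]; ring
  rw [← hni, ← hd'] at hw hquad
  have hLwi : L wi = wi := by
    have h3 : (1 + a * d') * L wi = 1 := by
      have := congrArg L hw
      rw [map_mul, map_add, map_one, map_mul, ha, hLd'] at this
      linear_combination this
    calc L wi = L wi * ((1 + a * d') * wi) := by rw [hw, mul_one]
      _ = ((1 + a * d') * L wi) * wi := by ring
      _ = wi := by rw [h3, one_mul]
  obtain ⟨q, hq⟩ : ∃ q, q = -a * half + β * d' := ⟨_, rfl⟩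
  have hLq : L q = -q := by
    rw [hq, map_add, map_mul, map_mul, map_neg, ha, hLhalf, hβ, hLd']; ring
  have hrel : a + 2 * q - d' * q * q = 0 := by
    rw [hq]
    linear_combination (-d') * hquad + (-a + a * β * d' * d') * h2
  obtain ⟨z, hz⟩ : ∃ z, z = bi * q := ⟨_, rfl⟩
  have hLz : L z = - (L bi * q) := by rw [hz, map_mul, hLq]; ring
  have H11 : a + b * z + L z * (-L b) + L z * d * z = 0 := by
    rw [hLz, hz, hd', hni] at *
    linear_combination hrel + q * hb + q * hb'
  obtain ⟨t, ht⟩ : ∃ t, t = 1 - q * d' := ⟨_, rfl⟩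
  have ht2 : t * t = 1 + a * d' := by
    rw [ht]
    linear_combination (-d') * hrel
  have hLt : L t = t := by rw [ht, map_sub, map_one, map_mul, hLq, hLd']; ring
  obtain ⟨y, hy⟩ : ∃ y, y = bi * t * wi := ⟨_, rfl⟩
  have H12 : (b + L z * d) * y = 1 := by
    rw [hLz, hy]
    have e1 : (b + -(L bi * q) * d) * (bi * t * wi) =
        (b * bi - q * (d * (bi * L bi))) * (t * wi) := by ring
    rw [e1, ← hni, ← hd', hb, ← ht]
    linear_combination wi * ht2 + hw
  have H21 : L y * (-L b + d * z) = -1 := by
    have := congrArg L H12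
    rw [map_mul, map_add, map_mul, hL, hd, map_one] at this
    linear_combination -this
  obtain ⟨δ, hδ⟩ : ∃ δ, δ = L y * d * y := ⟨_, rfl⟩
  have hLδ : L δ = -δ := by rw [hδ, map_mul, map_mul, hL, hd]; ring
  obtain ⟨μ, hμ⟩ : ∃ μ, μ = δ * half := ⟨_, rfl⟩
  have hLμ : L μ = -μ := by rw [hμ, map_mul, hLδ, hLhalf]; ring
  have hμ2 : L μ - μ + δ = 0 := by
    rw [hLμ, hμ]
    linear_combination (-δ) * h2
  refine ⟨!![1, μ; z, y + μ * z], ?_, ?_⟩
  · rw [Matrix.isUnit_iff_isUnit_det, Matrix.det_fin_two_of]
    have : 1 * (y + μ * z) - μ * z = y := by ring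
    rw [this]
    exact IsUnit.of_mul_eq_one _ (by rw [mul_comm]; exact H12)
  · ext i j
    fin_cases i <;> fin_cases j
    · simp only [Matrix.mul_apply, Fin.sum_univ_two, Matrix.transpose_apply, Matrix.map_apply,
        Matrix.of_apply, Matrix.cons_val', Matrix.cons_val_zero, Matrix.cons_val_one,
        Fin.zero_eta, Fin.mk_one, Fin.isValue, h00, h01, h10, h11, J00, map_one]
      linear_combination H11
    · simp only [Matrix.mul_apply, Fin.sum_univ_two, Matrix.transpose_apply, Matrix.map_apply,
        Matrix.of_apply, Matrix.cons_val', Matrix.cons_val_zero, Matrix.cons_val_one,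
        Fin.zero_eta, Fin.mk_one, Fin.isValue, h00, h01, h10, h11, J01, map_one]
      linear_combination μ * H11 + H12
    · simp only [Matrix.mul_apply, Fin.sum_univ_two, Matrix.transpose_apply, Matrix.map_apply,
        Matrix.of_apply, Matrix.cons_val', Matrix.cons_val_zero, Matrix.cons_val_one,
        Fin.zero_eta, Fin.mk_one, Fin.isValue, h00, h01, h10, h11, J10, map_one, map_add,
        map_mul]
      linear_combination L μ * H11 + H21
    · simp only [Matrix.mul_apply, Fin.sum_univ_two, Matrix.transpose_apply, Matrix.map_apply,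
        Matrix.of_apply, Matrix.cons_val', Matrix.cons_val_zero, Matrix.cons_val_one,
        Fin.zero_eta, Fin.mk_one, Fin.isValue, h00, h01, h10, h11, J11, map_one, map_add,
        map_mul]
      rw [hδ] at hμ2
      linear_combination (μ * L μ) * H11 + L μ * H12 + μ * H21 + hμ2

end Groth.Agent.H77.Skew2
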