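import Groth.Agent.H77.Skew2

/-!
# Instantiating the 2 × 2 normal form over a base change `C ⊗[B] A`
-/

set_option autoImplicit false
set_option linter.unusedSectionVars false
set_option linter.style.haveILetI false
set_option linter.unusedSimpArgs false
set_option linter.unusedVariables false

open scoped TensorProduct

namespace Groth.Agent.H77.Skew2

universe u v w

theorem exists_v_of_root {B : Type u} {A : Type v} [CommRing B] [CommRing A] [Algebra B A]
    (lam : A ≃ₐ[B] A) (hlam : ∀ a, lam (lam a) = a)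
    (C : Type w) [CommRing C] [Algebra B C]
    (h : Matrix (Fin 2) (Fin 2) A) (herm : -(h.map lam).transpose = h)
    (bi half wi : A) (hb : h 0 1 * bi = 1) (h2 : 2 * half = 1)
    (hw : (1 + h 0 0 * (h 1 1 * (bi * lam bi))) * wi = 1)
    (p p₂ p₃ hB : B) (hp : algebraMap B A p = h 0 0 * (h 1 1 * (bi * lam bi)))
    (hp₂ : algebraMap B A p₂ = h 0 0 * h 0 0)
    (hp₃ : algebraMap B A p₃ = (h 1 1 * (bi * lam bi)) * (h 1 1 * (bi * lam bi)))
    (hhB : algebraMap B A hB = half)
    (β : C) (hβ : algebraMap B C p₃ * β * β - (2 + algebraMap B C p) * β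
      + algebraMap B C (p₂ * hB * hB) = 0) :
    ∃ v : Matrix (Fin 2) (Fin 2) (C ⊗[B] A), IsUnit v ∧
      (v.map (Algebra.TensorProduct.congr (AlgEquiv.refl : C ≃ₐ[C] C) lam)).transpose *
        h.map (Algebra.TensorProduct.includeRight : A →ₐ[B] C ⊗[B] A) * v
      = (Matrix.of ![![(0 : A), 1], ![-1, 0]]).map
          (Algebra.TensorProduct.includeRight : A →ₐ[B] C ⊗[B] A) := by
  obtain ⟨incl, hincl⟩ : ∃ incl : A →ₐ[B] C ⊗[B] A, incl = Algebra.TensorProduct.includeRight :=
    ⟨_, rfl⟩
  obtain ⟨L, hLdef⟩ : ∃ L : C ⊗[B] A →+* C ⊗[B] A,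
      L = ((Algebra.TensorProduct.congr (AlgEquiv.refl : C ≃ₐ[C] C) lam : C ⊗[B] A ≃ₐ[C] C ⊗[B] A)
        : C ⊗[B] A →+* C ⊗[B] A) := ⟨_, rfl⟩
  have hLtmul : ∀ (c : C) (x : A), L (c ⊗ₜ[B] x) = c ⊗ₜ[B] lam x := by
    intro c x
    rw [hLdef]
    simp
  have hL : ∀ x, L (L x) = x := by
    intro x
    induction x using TensorProduct.induction_on with
    | zero => simp
    | tmul c x => rw [hLtmul, hLtmul, hlam]
    | add x y hx hy => rw [map_add, map_add, hx, hy]
  have hLincl : ∀ x : A, L (incl x) = incl (lam x) := by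
    intro x
    rw [hincl]
    exact hLtmul 1 x
  have hcomp : ∀ x : B, (algebraMap B C x) ⊗ₜ[B] (1 : A) = incl (algebraMap B A x) := by
    intro x
    rw [hincl, Algebra.TensorProduct.includeRight_apply, Algebra.algebraMap_eq_smul_one,
      Algebra.algebraMap_eq_smul_one, TensorProduct.smul_tmul]
  -- entries
  have e00 : h 0 0 = - lam (h 0 0) := by
    have := congrFun (congrFun herm 0) 0
    simp only [Matrix.neg_apply, Matrix.transpose_apply, Matrix.map_apply] at this
    exact this.symm
  have e10 : h 1 0 = - lam (h 0 1) := by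
    have := congrFun (congrFun herm 1) 0
    simp only [Matrix.neg_apply, Matrix.transpose_apply, Matrix.map_apply] at this
    exact this.symm
  have e11 : h 1 1 = - lam (h 1 1) := by
    have := congrFun (congrFun herm 1) 1
    simp only [Matrix.neg_apply, Matrix.transpose_apply, Matrix.map_apply] at this
    exact this.symm
  have e00' : lam (h 0 0) = - h 0 0 := by
    rw [eq_comm, neg_eq_iff_eq_neg]; exact e00
  have e11' : lam (h 1 1) = - h 1 1 := by
    rw [eq_comm, neg_eq_iff_eq_neg]; exact e11
  have hquad' : (Algebra.TensorProduct.includeLeft : C →ₐ[B] C ⊗[B] A) (algebraMap B C p₃ * β * β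
      - (2 + algebraMap B C p) * β + algebraMap B C (p₂ * hB * hB)) = 0 := by
    rw [hβ, map_zero]
  simp only [map_add, map_sub, map_mul, Algebra.TensorProduct.includeLeft_apply, hcomp,
    hp, hp₂, hp₃, hhB] at hquad'
  have h2' : (Algebra.TensorProduct.includeLeft : C →ₐ[B] C ⊗[B] A) 2 = 2 := map_ofNat _ 2
  rw [Algebra.TensorProduct.includeLeft_apply] at h2'
  rw [h2'] at hquad'
  have key := skew2_normal L hL (incl (h 0 0)) (incl (h 0 1)) (incl (h 1 1)) (incl bi) (incl half)
    (β ⊗ₜ[B] (1 : A)) (incl wi)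
    (by rw [hLincl, e00', map_neg])
    (by rw [hLincl, e11', map_neg])
    (by rw [← map_mul, hb, map_one])
    (by
      have : (2 : C ⊗[B] A) = incl 2 := (map_ofNat incl 2).symm
      rw [this, ← map_mul, h2, map_one])
    (by rw [hLtmul, map_one])
    (by
      rw [hLincl]
      have := congrArg incl hw
      simp only [map_mul, map_add, map_one] at this
      exact this)
    (by
      rw [hLincl]
      linear_combination hquad')
    (h.map incl) rfl rfl
    (by
      change incl (h 1 0) = - L (incl (h 0 1))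
      rw [hLincl, ← map_neg, e10])
    rfl
    ((Matrix.of ![![(0 : A), 1], ![-1, 0]]).map incl)
    (by simp) (by simp) (by simp) (by simp)
  obtain ⟨v, hv, hveq⟩ := key
  refine ⟨v, hv, ?_⟩
  rw [hincl, hLdef] at hveq
  exact hveq

end Groth.Agent.H77.Skew2
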