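import Groth.Agent.H77.Skew2b
import Groth.Agent.H77.RInvBasic

/-!
# 2 × 2 skew-hermitian normal form after adjoining a square root and localising
-/

set_option autoImplicit false
set_option linter.unusedSectionVars false
set_option linter.style.haveILetI false
set_option linter.unusedSimpArgs false
set_option linter.unusedVariables false

open scoped TensorProduct

namespace Groth.Agent.H77.Skew2

open Groth.Agent.H77.RInvB

universe u v w

/-- the quadratic relation satisfied by `β = P₂ H / F` -/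
lemma quad_of_sum_prod {C : Type*} [CommRing C] (P P₂ P₃ H F G Fi : C) (hFi : F * Fi = 1)
    (hsum : F + G = 2 * (2 + P)) (hprod : F * G = P₂ * P₃) (hH : 2 * H = 1) :
    P₃ * (P₂ * H * Fi) * (P₂ * H * Fi) - (2 + P) * (P₂ * H * Fi) + P₂ * H * H = 0 := by
  linear_combination (P₂ * H * H) * (-Fi * Fi) * hprod + (P₂ * H * H * Fi) * hsum
    + (P₂ * H * H * (G * Fi - 1)) * hFi + ((2 + P) * P₂ * H * Fi) * hH

/-- one piece of the cover -/
theorem piece {B : Type u} {A : Type v} [CommRing B] [CommRing A] [Algebra B A]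
    (lam : A ≃ₐ[B] A) (hlam : ∀ a, lam (lam a) = a)
    (B' : Type w) [CommRing B'] [Algebra B B']
    (h : Matrix (Fin 2) (Fin 2) A) (herm : -(h.map lam).transpose = h)
    (bi half wi : A) (hb : h 0 1 * bi = 1) (h2 : 2 * half = 1)
    (hw : (1 + h 0 0 * (h 1 1 * (bi * lam bi))) * wi = 1)
    (p p₂ p₃ hB : B) (hp : algebraMap B A p = h 0 0 * (h 1 1 * (bi * lam bi)))
    (hp₂ : algebraMap B A p₂ = h 0 0 * h 0 0)
    (hp₃ : algebraMap B A p₃ = (h 1 1 * (bi * lam bi)) * (h 1 1 * (bi * lam bi)))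
    (hhB : algebraMap B A hB = half) (h2B : 2 * hB = 1)
    (F G : B') (hsum : F + G = algebraMap B B' (2 * (2 + p)))
    (hprod : F * G = algebraMap B B' (p₂ * p₃)) :
    ∃ v : Matrix (Fin 2) (Fin 2) (Localization.Away F ⊗[B] A), IsUnit v ∧
      (v.map (Algebra.TensorProduct.congr
        (AlgEquiv.refl : Localization.Away F ≃ₐ[Localization.Away F] Localization.Away F)
          lam)).transpose *
        h.map (Algebra.TensorProduct.includeRight : A →ₐ[B] Localization.Away F ⊗[B] A) * v
      = (Matrix.of ![![(0 : A), 1], ![-1, 0]]).map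
          (Algebra.TensorProduct.includeRight : A →ₐ[B] Localization.Away F ⊗[B] A) := by
  have hFi : algebraMap B' (Localization.Away F) F * IsLocalization.Away.invSelf F = 1 :=
    IsLocalization.Away.mul_invSelf F
  have hsum' : algebraMap B' (Localization.Away F) F + algebraMap B' (Localization.Away F) G
      = 2 * (2 + algebraMap B (Localization.Away F) p) := by
    rw [← map_add, hsum, ← IsScalarTower.algebraMap_apply, map_mul, map_add, map_ofNat]
  have hprod' : algebraMap B' (Localization.Away F) F * algebraMap B' (Localization.Away F) G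
      = algebraMap B (Localization.Away F) p₂ * algebraMap B (Localization.Away F) p₃ := by
    rw [← map_mul, hprod, ← IsScalarTower.algebraMap_apply, map_mul]
  have hH : 2 * algebraMap B (Localization.Away F) hB = 1 := by
    rw [← map_ofNat (algebraMap B (Localization.Away F)) 2, ← map_mul, h2B, map_one]
  refine exists_v_of_root lam hlam (Localization.Away F) h herm bi half wi hb h2 hw p p₂ p₃ hB
    hp hp₂ hp₃ hhB
    (algebraMap B (Localization.Away F) p₂ * algebraMap B (Localization.Away F) hB *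
      IsLocalization.Away.invSelf F) ?_
  have := quad_of_sum_prod (algebraMap B (Localization.Away F) p)
    (algebraMap B (Localization.Away F) p₂) (algebraMap B (Localization.Away F) p₃)
    (algebraMap B (Localization.Away F) hB) _ _ _ hFi hsum' hprod' hH
  rw [map_mul, map_mul]
  exact this

section Fixed

variable {S : Type u} {R : Type v} [CommRing S] [CommRing R] [Algebra S R]
  (lam : R ≃+* R) (hlam : Function.Involutive lam) (hS : RInv.IsFixedRing S R lam)
  [IsLocalRing S]
include hlam hS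

lemma isUnit_of_isUnit_algebraMap {x : S} (hx : IsUnit (algebraMap S R x)) : IsUnit x := by
  by_contra hnu
  have hxm : x ∈ IsLocalRing.maximalIdeal S := (IsLocalRing.mem_maximalIdeal _).mpr hnu
  haveI := RInvB.nontrivial lam hlam hS
  obtain ⟨M, hM⟩ := Ideal.exists_maximal R
  haveI := hM
  have := algebraMap_mem_of_mem_maximalIdeal lam hlam hS M hxm
  exact hM.ne_top (Ideal.eq_top_of_isUnit_mem _ this hx)

end Fixed


theorem main_skew2 {B : Type u} {A : Type v} [CommRing B] [CommRing A]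
    [Algebra B A] (lam : A ≃ₐ[B] A) (hlam : ∀ a, lam (lam a) = a)
    (hB : RInv.IsFixedRing B A lam.toRingEquiv)
    [IsLocalRing B] (hid : ∀ a : A, lam a - a ∈ Ring.jacobson A) (h2 : IsUnit (2 : A))
    (h : Matrix (Fin 2) (Fin 2) A) (hh : IsUnit h) (herm : -(h.map lam).transpose = h)
    (hJ : ∀ i j : Fin 2, h i j - Matrix.of ![![(0 : A), 1], ![-1, 0]] i j ∈ Ring.jacobson A) :
    ∃ (s t : Bˣ) (r : ℕ) (f : Fin r → (MvPolynomial (Fin 2) B ⧸ Ideal.span ({MvPolynomial.X 0 ^ 2 - MvPolynomial.C (s : B), MvPolynomial.X 1 ^ 2 - MvPolynomial.C (t : B)} : Set (MvPolynomial (Fin 2) B)))),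
      Ideal.span (Set.range f) = ⊤ ∧
      ∀ i : Fin r, ∃ v : Matrix (Fin 2) (Fin 2) (Localization.Away (f i) ⊗[B] A), IsUnit v ∧
        (v.map (Algebra.TensorProduct.congr (AlgEquiv.refl : Localization.Away (f i) ≃ₐ[Localization.Away (f i)] Localization.Away (f i)) lam)).transpose * h.map (Algebra.TensorProduct.includeRight : A →ₐ[B] Localization.Away (f i) ⊗[B] A) * v
          = (Matrix.of ![![(0 : A), 1], ![-1, 0]]).map (Algebra.TensorProduct.includeRight : A →ₐ[B] Localization.Away (f i) ⊗[B] A) := by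
  have hlam' : Function.Involutive lam.toRingEquiv := hlam
  have hJ00 : h 0 0 ∈ Ring.jacobson A := by simpa using hJ 0 0
  have hJ11 : h 1 1 ∈ Ring.jacobson A := by simpa using hJ 1 1
  have hJ01 : h 0 1 - 1 ∈ Ring.jacobson A := by simpa using hJ 0 1
  have hbu : IsUnit (h 0 1) := by
    have := (RInvB.mem_jacobson_iff lam.toRingEquiv hlam' hB _).mp hJ01 1
    simpa using this
  obtain ⟨bi, hb⟩ := hbu.exists_right_inv
  obtain ⟨half, hhalf⟩ := h2.exists_right_inv
  have hd'J : h 1 1 * (bi * lam bi) ∈ Ring.jacobson A := Ideal.mul_mem_right _ _ hJ11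
  have hadJ : h 0 0 * (h 1 1 * (bi * lam bi)) ∈ Ring.jacobson A := Ideal.mul_mem_right _ _ hJ00
  have hwu : IsUnit (1 + h 0 0 * (h 1 1 * (bi * lam bi))) := by
    have := (RInvB.mem_jacobson_iff lam.toRingEquiv hlam' hB _).mp hadJ 1
    rw [mul_one, add_comm] at this
    exact this
  obtain ⟨wi, hw⟩ := hwu.exists_right_inv
  have e00 : lam (h 0 0) = - h 0 0 := by
    have := congrFun (congrFun herm 0) 0
    simp only [Matrix.neg_apply, Matrix.transpose_apply, Matrix.map_apply] at this
    exact neg_eq_iff_eq_neg.mp this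
  have e11 : lam (h 1 1) = - h 1 1 := by
    have := congrFun (congrFun herm 1) 1
    simp only [Matrix.neg_apply, Matrix.transpose_apply, Matrix.map_apply] at this
    exact neg_eq_iff_eq_neg.mp this
  have fix_ni : lam (bi * lam bi) = bi * lam bi := by rw [map_mul, hlam]; ring
  have fix_d' : lam (h 1 1 * (bi * lam bi)) = -(h 1 1 * (bi * lam bi)) := by
    rw [map_mul, e11, fix_ni]; ring
  obtain ⟨p, hp⟩ : ∃ p : B, algebraMap B A p = h 0 0 * (h 1 1 * (bi * lam bi)) :=
    (hB.2 _).mp (by
      change lam (h 0 0 * (h 1 1 * (bi * lam bi))) = _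
      rw [map_mul, e00, fix_d']; ring)
  obtain ⟨p₂, hp₂⟩ : ∃ p₂ : B, algebraMap B A p₂ = h 0 0 * h 0 0 :=
    (hB.2 _).mp (by
      change lam (h 0 0 * h 0 0) = _
      rw [map_mul, e00]; ring)
  obtain ⟨p₃, hp₃⟩ : ∃ p₃ : B, algebraMap B A p₃ =
      (h 1 1 * (bi * lam bi)) * (h 1 1 * (bi * lam bi)) :=
    (hB.2 _).mp (by
      change lam ((h 1 1 * (bi * lam bi)) * (h 1 1 * (bi * lam bi))) = _
      rw [map_mul, fix_d']; ring)
  have hlamhalf : lam half = half := by
    have h3 : (2 : A) * lam half = 1 := by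
      rw [← map_ofNat lam 2, ← map_mul, hhalf, map_one]
    calc lam half = lam half * (2 * half) := by rw [hhalf, mul_one]
      _ = (2 * lam half) * half := by ring
      _ = half := by rw [h3, one_mul]
  obtain ⟨hB', hhB⟩ : ∃ hB' : B, algebraMap B A hB' = half := (hB.2 _).mp hlamhalf
  have h2B : (2 : B) * hB' = 1 := hB.1 (by rw [map_mul, map_ofNat, hhB, hhalf, map_one])
  have h2Bu : IsUnit (2 : B) := IsUnit.of_mul_eq_one _ h2B
  have hpu : IsUnit (1 + p) :=
    isUnit_of_isUnit_algebraMap lam.toRingEquiv hlam' hB (by rw [map_add, map_one, hp]; exact hwu)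
  have h2pu : IsUnit (2 + p) := by
    apply isUnit_of_isUnit_algebraMap lam.toRingEquiv hlam' hB
    rw [map_add, map_ofNat, hp]
    have h3 := (RInvB.mem_jacobson_iff lam.toRingEquiv hlam' hB _).mp hadJ half
    have h4 : (2 : A) + h 0 0 * (h 1 1 * (bi * lam bi)) =
        2 * (h 0 0 * (h 1 1 * (bi * lam bi)) * half + 1) := by
      linear_combination (- (h 0 0 * (h 1 1 * (bi * lam bi)))) * hhalf
    rw [h4]
    exact h2.mul h3
  have hsu : IsUnit (4 * (1 + p)) := by
    have : (4 : B) = 2 * 2 := by norm_num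
    rw [this]
    exact (h2Bu.mul h2Bu).mul hpu
  have hpp : p * p = p₂ * p₃ := hB.1 (by
    rw [map_mul, map_mul, hp, hp₂, hp₃]; ring)
  obtain ⟨I, hI⟩ : ∃ I : Ideal (MvPolynomial (Fin 2) B), I = Ideal.span
      ({MvPolynomial.X 0 ^ 2 - MvPolynomial.C (hsu.unit : B),
        MvPolynomial.X 1 ^ 2 - MvPolynomial.C ((1 : Bˣ) : B)} : Set (MvPolynomial (Fin 2) B)) :=
    ⟨_, rfl⟩
  have hX : Ideal.Quotient.mk I (MvPolynomial.X 0 ^ 2) =
      Ideal.Quotient.mk I (MvPolynomial.C (4 * (1 + p))) := by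
    rw [Ideal.Quotient.eq, hI]
    apply Ideal.subset_span
    left
    rw [IsUnit.unit_spec]
  have hsum : Ideal.Quotient.mk I (MvPolynomial.C (2 + p) + MvPolynomial.X 0) +
      Ideal.Quotient.mk I (MvPolynomial.C (2 + p) - MvPolynomial.X 0) =
      algebraMap B (MvPolynomial (Fin 2) B ⧸ I) (2 * (2 + p)) := by
    rw [← map_add]
    change _ = Ideal.Quotient.mk I (MvPolynomial.C (2 * (2 + p)))
    congr 1
    rw [map_mul, map_ofNat]
    ring
  have hprod : Ideal.Quotient.mk I (MvPolynomial.C (2 + p) + MvPolynomial.X 0) *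
      Ideal.Quotient.mk I (MvPolynomial.C (2 + p) - MvPolynomial.X 0) =
      algebraMap B (MvPolynomial (Fin 2) B ⧸ I) (p₂ * p₃) := by
    rw [← map_mul]
    have h5 : (MvPolynomial.C (2 + p) + MvPolynomial.X 0) *
        (MvPolynomial.C (2 + p) - MvPolynomial.X 0) =
        (MvPolynomial.C ((2 + p) * (2 + p)) - MvPolynomial.X 0 ^ 2 :
          MvPolynomial (Fin 2) B) := by
      rw [map_mul]; ring
    rw [h5, map_sub, hX, ← map_sub, ← map_sub]
    change _ = Ideal.Quotient.mk I (MvPolynomial.C (p₂ * p₃))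
    congr 2
    linear_combination hpp
  subst hI
  refine ⟨hsu.unit, 1, 2,
    ![Ideal.Quotient.mk _ (MvPolynomial.C (2 + p) + MvPolynomial.X 0),
      Ideal.Quotient.mk _ (MvPolynomial.C (2 + p) - MvPolynomial.X 0)], ?_, ?_⟩
  · apply Ideal.eq_top_of_isUnit_mem _ _ ((h2Bu.mul h2pu).map (algebraMap B _))
    rw [← hsum]
    exact Ideal.add_mem _ (Ideal.subset_span ⟨0, rfl⟩) (Ideal.subset_span ⟨1, rfl⟩)
  · intro i
    fin_cases i
    · exact piece lam hlam _ h herm bi half wi hb hhalf hw p p₂ p₃ hB' hp hp₂ hp₃ hhB h2B _ _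
        hsum hprod
    · exact piece lam hlam _ h herm bi half wi hb hhalf hw p p₂ p₃ hB' hp hp₂ hp₃ hhB h2B _ _
        ((add_comm _ _).trans hsum) ((mul_comm _ _).trans hprod)

end Groth.Agent.H77.Skew2
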