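import Mathlib
import Groth.Agent.H18.TorSplice

/-!
# Vanishing of maps on `L₁F` from an element-level criterion, and the Artin–Rees
consequence `Tor₁(M, R/I^m) → Tor₁(M, R/I^n)` is zero for `m ≫ n`.
-/

set_option autoImplicit false
universe u

namespace Groth.Agent.H77.TorAR

open CategoryTheory CategoryTheory.Limits

variable {R : Type u} [CommRing R]

/-- Let `F` be a right exact additive endofunctor of `R`-modules, and `α : S ⟶ S'` a morphism of short
exact sequences with projective middle terms. If `F(α.τ₁)` kills the kernel of `F(S.f)`, then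
`L₁F(α.τ₃) = 0`. -/
theorem leftDerived_one_map_eq_zero (F : ModuleCat.{u} R ⥤ ModuleCat.{u} R) [F.Additive]
    [PreservesFiniteColimits F]
    {S S' : ShortComplex (ModuleCat.{u} R)} (hS : S.ShortExact) (hS' : S'.ShortExact)
    [Projective S.X₂] [Projective S'.X₂] (α : S ⟶ S')
    (hα : ∀ x : F.obj S.X₁, (F.map S.f) x = 0 → (F.map α.τ₁) x = 0) :
    (F.leftDerived 1).map α.τ₃ = 0 := by
  have := hS.mono_f
  have := hS'.mono_f
  have := hS.epi_g
  have := hS'.epi_g
  let Q := projectiveResolution S.X₁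
  let Q' := projectiveResolution S'.X₁
  let P := H18.spliceResolution hS Q
  let P' := H18.spliceResolution hS' Q'
  let g : P.complex ⟶ P'.complex := ProjectiveResolution.lift α.τ₃ P P'
  have hg : g ≫ P'.π = P.π ≫ (ChainComplex.single₀ _).map α.τ₃ :=
    ProjectiveResolution.lift_commutes _ _ _
  rw [Functor.leftDerived_map_eq F 1 α.τ₃ g hg]
  suffices h : (F.mapHomologicalComplex _ ⋙ HomologicalComplex.homologyFunctor _ _ 1).map g = 0 by
    rw [h, zero_comp, comp_zero]
  -- notation
  let g0 : S.X₂ ⟶ S'.X₂ := g.f 0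
  let g1 : Q.complex.X 0 ⟶ Q'.complex.X 0 := g.f 1
  let p : Q.complex.X 0 ⟶ S.X₁ := H18.splicedP Q
  let p' : Q'.complex.X 0 ⟶ S'.X₁ := H18.splicedP Q'
  have hg0 : g0 ≫ S'.g = S.g ≫ α.τ₃ := by
    have h0 := congrArg (fun φ => HomologicalComplex.Hom.f φ 0) hg
    simp only [HomologicalComplex.comp_f, ChainComplex.single₀_map_f_zero] at h0
    exact h0
  have hg1 : g1 ≫ (p' ≫ S'.f) = (p ≫ S.f) ≫ g0 := g.comm 1 0
  -- g0 - τ₂ factors through S'.f
  have hdiff : (g0 - α.τ₂) ≫ S'.g = 0 := by
    rw [Preadditive.sub_comp, hg0, α.comm₂₃, sub_self]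
  obtain ⟨hh, hhh⟩ := hS'.exact.lift' (g0 - α.τ₂) hdiff
  let β : S.X₁ ⟶ S'.X₁ := α.τ₁ + S.f ≫ hh
  have hβ : β ≫ S'.f = S.f ≫ g0 := by
    simp only [β, Preadditive.add_comp, Category.assoc, hhh, Preadditive.comp_sub, α.comm₁₂]
    abel
  have hg1' : g1 ≫ p' = p ≫ β := by
    rw [← cancel_mono S'.f, Category.assoc, hg1, Category.assoc, Category.assoc, hβ]
  -- exactness after applying F
  have hex' : (ShortComplex.mk _ _ (H18.d_comp_splicedP Q')).Exact := H18.splicedP_exact Q'
  have hFex' : ((ShortComplex.mk _ _ (H18.d_comp_splicedP Q')).map F).Exact :=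
    hex'.map_of_epi_of_preservesCokernel F (H18.splicedP_epi Q') inferInstance
  -- the homology computation
  let K := (F.mapHomologicalComplex (ComplexShape.down ℕ)).obj P.complex
  let K' := (F.mapHomologicalComplex (ComplexShape.down ℕ)).obj P'.complex
  let ψ : K ⟶ K' := (F.mapHomologicalComplex (ComplexShape.down ℕ)).map g
  change HomologicalComplex.homologyMap ψ 1 = 0
  rw [← cancel_epi (K.homologyπ 1), HomologicalComplex.homologyπ_naturality, comp_zero]
  ext z
  have hz : (K.d 1 0) ((K.iCycles 1) z) = 0 := by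
    rw [← ModuleCat.comp_apply, HomologicalComplex.iCycles_d]
    rfl
  set zz : F.obj (Q.complex.X 0) := (K.iCycles 1) z with hzz
  have hz' : (F.map S.f) ((F.map p) zz) = 0 := by
    have : K.d 1 0 = F.map p ≫ F.map S.f := by
      change F.map (P.complex.d 1 0) = _
      rw [H18.spliceResolution_d_one_zero]
      exact F.map_comp _ _
    rw [this] at hz
    exact hz
  have h1 : (F.map p') ((F.map g1) zz) = 0 := by
    rw [← ModuleCat.comp_apply, ← F.map_comp, hg1', F.map_comp, ModuleCat.comp_apply]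
    have hx := hα ((F.map p) zz) hz'
    simp only [β, F.map_add, F.map_comp]
    have hadd : ∀ (a b : F.obj S.X₁ ⟶ F.obj S'.X₁) (y : F.obj S.X₁), (a + b) y = a y + b y :=
      fun a b y => rfl
    rw [hadd, hx, zero_add, ModuleCat.comp_apply, hz', map_zero]
  -- so F g1 zz is a boundary
  have h2 : ∃ w : F.obj (Q'.complex.X 1), (F.map (Q'.complex.d 1 0)) w = (F.map g1) zz := by
    have := (ShortComplex.moduleCat_exact_iff _).mp hFex' ((F.map g1) zz) h1
    exact this
  obtain ⟨w, hw⟩ := h2
  have h3 : (K'.toCycles 2 1) w = (HomologicalComplex.cyclesMap ψ 1) z := by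
    have hmono : Function.Injective (K'.iCycles 1) :=
      (ModuleCat.mono_iff_injective _).mp inferInstance
    apply hmono
    rw [← ModuleCat.comp_apply, HomologicalComplex.toCycles_i, ← ModuleCat.comp_apply,
      HomologicalComplex.cyclesMap_i, ModuleCat.comp_apply]
    exact hw
  rw [ModuleCat.comp_apply, ← h3, ← ModuleCat.comp_apply, HomologicalComplex.toCycles_comp_homologyπ]
  rfl


section ArtinRees

open TensorProduct

variable (R)
variable [IsNoetherianRing R] (I : Ideal R)
  (M : Type u) [AddCommGroup M] [Module R M] [Module.Finite R M]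

/-- Artin–Rees: there is `c` such that for all `n` the map `M ⊗ I^(n+c) → M ⊗ I^n` kills the kernel
of `M ⊗ I^(n+c) → M ⊗ R`. -/
theorem exists_lTensor_inclusion_eq_zero :
    ∃ c : ℕ, ∀ (n : ℕ) (h : I ^ (n + c) ≤ I ^ n) (x : M ⊗[R] ↥(I ^ (n + c))),
      LinearMap.lTensor M (Submodule.subtype (I ^ (n + c))) x = 0 →
      LinearMap.lTensor M (Submodule.inclusion h) x = 0 := by
  classical
  obtain ⟨k, π, hπ⟩ := Module.Finite.exists_fin' R M
  let K : Submodule R (Fin k → R) := LinearMap.ker π
  obtain ⟨c, hc⟩ := Ideal.exists_pow_inf_eq_pow_smul I K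
  refine ⟨c, fun n h x hx => ?_⟩
  obtain ⟨y, rfl⟩ := LinearMap.rTensor_surjective (↥(I ^ (n + c))) hπ x
  -- naturality of `rid`
  have hrid : ∀ u : (Fin k → R) ⊗[R] R,
      π (TensorProduct.rid R (Fin k → R) u) = TensorProduct.rid R M (LinearMap.rTensor R π u) := by
    intro u
    induction u using TensorProduct.induction_on with
    | zero => simp
    | tmul f r => simp
    | add a b ha hb => simp only [map_add, ha, hb]
  let v : Fin k → R :=
    TensorProduct.rid R (Fin k → R) (LinearMap.lTensor (Fin k → R) (Submodule.subtype (I ^ (n + c))) y)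
  have hcomm : LinearMap.rTensor R π (LinearMap.lTensor (Fin k → R) (Submodule.subtype (I ^ (n + c))) y)
      = LinearMap.lTensor M (Submodule.subtype (I ^ (n + c))) (LinearMap.rTensor (↥(I ^ (n + c))) π y) := by
    rw [← LinearMap.comp_apply, ← LinearMap.comp_apply, LinearMap.rTensor_comp_lTensor,
      LinearMap.lTensor_comp_rTensor]
  have hvK : v ∈ K := by
    rw [LinearMap.mem_ker, hrid, hcomm, hx, map_zero]
  have hvI : ∀ y' : (Fin k → R) ⊗[R] ↥(I ^ (n + c)),
      TensorProduct.rid R (Fin k → R)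
        (LinearMap.lTensor (Fin k → R) (Submodule.subtype (I ^ (n + c))) y') ∈
        (I ^ (n + c) • ⊤ : Submodule R (Fin k → R)) := by
    intro y'
    induction y' using TensorProduct.induction_on with
    | zero => simp
    | tmul f a =>
      simp only [LinearMap.lTensor_tmul, Submodule.subtype_apply, TensorProduct.rid_tmul]
      exact Submodule.smul_mem_smul a.2 Submodule.mem_top
    | add a b ha hb =>
      simp only [map_add]
      exact add_mem ha hb
  have hv1 : v ∈ (I ^ (n + c) • ⊤ ⊓ K : Submodule R (Fin k → R)) := ⟨hvI y, hvK⟩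
  rw [hc (n + c) (Nat.le_add_left c n), Nat.add_sub_cancel] at hv1
  have hv2 : v ∈ (I ^ n • K : Submodule R (Fin k → R)) :=
    (smul_mono_right _ inf_le_right : (I ^ n • (I ^ c • ⊤ ⊓ K) : Submodule R (Fin k → R)) ≤ I ^ n • K) hv1
  -- elements of `I^n • K` come from `K ⊗ I^n`
  have hw : ∃ w : (Fin k → R) ⊗[R] ↥(I ^ n),
      TensorProduct.rid R (Fin k → R)
        (LinearMap.lTensor (Fin k → R) (Submodule.subtype (I ^ n)) w) = v ∧
      LinearMap.rTensor (↥(I ^ n)) π w = 0 := by
    refine Submodule.smul_induction_on hv2 ?_ ?_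
    · intro b hb f hf
      refine ⟨f ⊗ₜ[R] ⟨b, hb⟩, ?_, ?_⟩
      · simp
      · rw [LinearMap.rTensor_tmul, LinearMap.mem_ker.mp hf, TensorProduct.zero_tmul]
    · rintro a b ⟨w₁, h₁, h₁'⟩ ⟨w₂, h₂, h₂'⟩
      exact ⟨w₁ + w₂, by rw [map_add, map_add, h₁, h₂], by rw [map_add, h₁', h₂', add_zero]⟩
  obtain ⟨w, hw1, hw2⟩ := hw
  have hinj : Function.Injective (LinearMap.lTensor (Fin k → R) (Submodule.subtype (I ^ n))) :=
    Module.Flat.lTensor_preserves_injective_linearMap _ (Submodule.injective_subtype _)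
  have hy' : LinearMap.lTensor (Fin k → R) (Submodule.inclusion h) y = w := by
    apply hinj
    apply (TensorProduct.rid R (Fin k → R)).injective
    rw [hw1, ← LinearMap.comp_apply, ← LinearMap.lTensor_comp, Submodule.subtype_comp_inclusion]
  calc LinearMap.lTensor M (Submodule.inclusion h) (LinearMap.rTensor (↥(I ^ (n + c))) π y)
      = LinearMap.rTensor (↥(I ^ n)) π (LinearMap.lTensor (Fin k → R) (Submodule.inclusion h) y) := by
        rw [← LinearMap.comp_apply, ← LinearMap.comp_apply, LinearMap.rTensor_comp_lTensor,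
          LinearMap.lTensor_comp_rTensor]
    _ = 0 := by rw [hy', hw2]

/-- the short exact sequence `0 → J → R → R/J → 0` -/
noncomputable abbrev idealSC (J : Ideal R) : ShortComplex (ModuleCat.{u} R) :=
  ModuleCat.shortComplexOfCompEqZero (Submodule.subtype J) (Submodule.mkQ J)
    (LinearMap.exact_subtype_mkQ J).linearMap_comp_eq_zero

omit [IsNoetherianRing R] in
theorem idealSC_shortExact (J : Ideal R) : (idealSC R J).ShortExact :=
  ModuleCat.shortComplex_shortExact _ (LinearMap.exact_subtype_mkQ J)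
    (Submodule.injective_subtype J) (Submodule.mkQ_surjective J)

instance (J : Ideal R) : Projective (idealSC R J).X₂ :=
  (IsProjective.iff_projective (R := R) R).mp inferInstance

/-- the morphism of short exact sequences induced by `J ≤ J'` -/
noncomputable def idealSCMap {J J' : Ideal R} (h : J ≤ J') : idealSC R J ⟶ idealSC R J' where
  τ₁ := ModuleCat.ofHom (Submodule.inclusion h)
  τ₂ := 𝟙 _
  τ₃ := ModuleCat.ofHom (Submodule.factor h)
  comm₁₂ := by
    ext x
    rfl
  comm₂₃ := by
    ext x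
    rfl

theorem main48 (n : ℕ) :
    ∃ m : ℕ, n ≤ m ∧ ∀ h : I ^ m ≤ I ^ n,
      ((CategoryTheory.Tor (ModuleCat.{u} R) 1).obj (ModuleCat.of R M)).map
        (ModuleCat.ofHom (Submodule.factor h)) = 0 := by
  obtain ⟨c, hc⟩ := exists_lTensor_inclusion_eq_zero R I M
  refine ⟨n + c, Nat.le_add_right n c, fun h => ?_⟩
  let F : ModuleCat.{u} R ⥤ ModuleCat.{u} R :=
    (MonoidalCategory.tensoringLeft (ModuleCat.{u} R)).obj (ModuleCat.of R M)
  have hF : PreservesFiniteColimits F :=
    inferInstanceAs (PreservesFiniteColimits (MonoidalCategory.tensorLeft (ModuleCat.of R M)))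
  exact leftDerived_one_map_eq_zero F (idealSC_shortExact R (I ^ (n + c)))
    (idealSC_shortExact R (I ^ n)) (idealSCMap R h) (fun x hx => hc n h x hx)

end ArtinRees

end Groth.Agent.H77.TorAR
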