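import Mathlib
open TensorProduct

namespace Groth.Agent.H77

lemma exists_smul_eq_zero_of_tmul_eq_zero {R M : Type*} [CommRing R] [IsReduced R] [AddCommGroup M]
    [Module R M] (p : Ideal R) [p.IsPrime] (hp : p ∈ minimalPrimes R) (t : M)
    (h : (1 : p.ResidueField) ⊗ₜ[R] t = 0) : ∃ s ∉ p, s • t = 0 := by
  let S := Localization.AtPrime p
  have : Ring.KrullDimLE 0 S := Ring.KrullDimLE.of_isLocalization p hp S
  have hfield : IsField S := Ring.KrullDimLE.isField_of_isReduced
  have hmax : IsLocalRing.maximalIdeal S = ⊥ := IsLocalRing.isField_iff_maximalIdeal_eq.mp hfield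
  let res : S →ₗ[R] p.ResidueField := (IsScalarTower.toAlgHom R S p.ResidueField).toLinearMap
  have hres : ∀ a, res a = IsLocalRing.residue S a := fun a => rfl
  have hres_inj : Function.Injective res := by
    intro a b hab
    have : IsLocalRing.residue S (a - b) = 0 := by
      rw [map_sub, ← hres, ← hres, hab, sub_self]
    rw [IsLocalRing.residue_eq_zero_iff, hmax] at this
    exact sub_eq_zero.mp this
  have hres_surj : Function.Surjective res := IsLocalRing.residue_surjective
  let e : S ≃ₗ[R] p.ResidueField := LinearEquiv.ofBijective res ⟨hres_inj, hres_surj⟩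
  have h1 : (1 : S) ⊗ₜ[R] t = 0 := by
    apply (LinearEquiv.rTensor M e).injective
    rw [LinearEquiv.rTensor_tmul, map_zero]
    have : e 1 = 1 := by
      change res 1 = 1
      rw [hres, map_one]
    rw [this, h]
  have h2 := (IsLocalizedModule.eq_zero_iff p.primeCompl (TensorProduct.mk R S M 1)).mp h1
  obtain ⟨s, hs⟩ := h2
  exact ⟨s.1, s.2, hs⟩

theorem main91 (R : Type*) [CommRing R] [IsReduced R] [IsNoetherianRing R]
    (M : Type*) [AddCommGroup M] [Module R M] [Module.IsTorsionFree R M]
    (t : M) (ht : ∀ p : PrimeSpectrum R, (1 : p.asIdeal.ResidueField) ⊗ₜ[R] t = (0 : p.asIdeal.ResidueField ⊗[R] M)) :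
    t = 0 := by
  classical
  have hfin : (minimalPrimes R).Finite := minimalPrimes.finite_of_isNoetherianRing R
  let I : Ideal R := (Submodule.span R {t}).annihilator
  have hI : ∀ s, s ∈ I ↔ s • t = 0 := by
    intro s
    simp only [I, Submodule.mem_annihilator_span_singleton]
  have hnot : ¬ ((I : Set R) ⊆ ⋃ i ∈ (↑hfin.toFinset : Set (Ideal R)), (id i : Ideal R)) := by
    rw [Ideal.subset_union_prime (R := R) (s := hfin.toFinset) (f := id) ⊥ ⊥]
    · rintro ⟨p, hp, hle⟩
      have hp' : p ∈ minimalPrimes R := hfin.mem_toFinset.mp hp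
      have : p.IsPrime := hp'.1.1
      obtain ⟨s, hs, hst⟩ := exists_smul_eq_zero_of_tmul_eq_zero p hp' t (ht ⟨p, this⟩)
      exact hs (hle ((hI s).mpr hst))
    · intro p hp _ _
      exact (hfin.mem_toFinset.mp hp).1.1
  rw [Set.not_subset] at hnot
  obtain ⟨s, hsI, hsU⟩ := hnot
  have hsp : ∀ p ∈ minimalPrimes R, s ∉ p := by
    intro p hp hsp
    apply hsU
    simp only [Set.mem_iUnion, Finset.mem_coe, Set.Finite.mem_toFinset, id]
    exact ⟨p, hp, hsp⟩
  have hreg : IsRegular s := by
    rw [isRegular_iff_mem_nonZeroDivisors]  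
    rw [mem_nonZeroDivisors_iff_right]
    intro x hx
    have hxnil : x ∈ nilradical R := by
      rw [nilradical, ← Ideal.sInf_minimalPrimes]
      rw [Ideal.mem_sInf]
      intro p hp
      have : p.IsPrime := hp.1.1
      have hmem : x * s ∈ p := by rw [hx]; exact p.zero_mem
      exact (this.mem_or_mem hmem).resolve_right (hsp p hp)
    rw [nilradical_eq_zero] at hxnil
    exact hxnil
  exact hreg.smul_eq_zero_iff_right.mp ((hI s).mp hsI)

end Groth.Agent.H77
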