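import Groth.Agent.H9.TorLES
import Groth.Agent.H12.Tor1Ker
import Groth.Prelude.Def_DRing2
import Mathlib

/-!
# Tor exact sequence of a two-term flat complex
-/

set_option autoImplicit false
universe u

noncomputable section

namespace Groth.Agent.H77.TorTwoTerm

open CategoryTheory CategoryTheory.Limits MonoidalCategory TensorProduct

variable {A : Type u} [CommRing A]

/-- dimension shifting in the first variable: `Tor_{n+2}(X₃, N) ≅ Tor_{n+1}(X₁, N)` for flat `X₂` -/
theorem tor_succ_succ_iso {S : ShortComplex (ModuleCat.{u} A)} (hS : S.ShortExact)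
    [Module.Flat A S.X₂] (N : ModuleCat.{u} A) (n : ℕ) :
    Nonempty (((Tor (ModuleCat.{u} A) (n + 2)).obj S.X₃).obj N ≅
      ((Tor (ModuleCat.{u} A) (n + 1)).obj S.X₁).obj N) := by
  let Q := ProjectiveResolution.of N
  have hK := Groth.Agent.H9.tKsc_shortExact Q.complex (Groth.Agent.H9.flat_of_projectiveResolution Q) hS
  have hrel : (ComplexShape.down ℕ).Rel (n + 2) (n + 1) := by simp
  have hiso : IsIso (hK.δ (n + 2) (n + 1) hrel) :=
    hK.isIso_δ _ _ _ (Groth.Agent.H9.isZero_homology_tK Q S.X₂ (n + 1))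
      (Groth.Agent.H9.isZero_homology_tK Q S.X₂ n)
  exact ⟨Groth.Agent.H9.torIsoHomology S.X₃ Q (n + 2) ≪≫ @asIso _ _ _ _ _ hiso ≪≫
    (Groth.Agent.H9.torIsoHomology S.X₁ Q (n + 1)).symm⟩

section

variable {P₁ P₀ : Type u} [AddCommGroup P₁] [Module A P₁] [AddCommGroup P₀] [Module A P₀]
  (d : P₁ →ₗ[A] P₀)

/-- `0 → ker d → P₁ → im d → 0` -/
def sc₁ : ShortComplex (ModuleCat.{u} A) :=
  ShortComplex.mk (ModuleCat.ofHom (LinearMap.ker d).subtype) (ModuleCat.ofHom d.rangeRestrict) (by
    ext x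
    exact x.2)

lemma sc₁_shortExact : (sc₁ d).ShortExact := by
  apply ModuleCat.shortComplex_shortExact
  · intro x
    change d.rangeRestrict x = 0 ↔ x ∈ Set.range (LinearMap.ker d).subtype
    constructor
    · intro hx
      have : d x = 0 := congrArg Subtype.val hx
      exact ⟨⟨x, this⟩, rfl⟩
    · rintro ⟨y, rfl⟩
      apply Subtype.ext
      exact y.2
  · exact Subtype.val_injective
  · exact d.surjective_rangeRestrict

/-- `0 → im d → P₀ → coker d → 0` -/
def sc₂ : ShortComplex (ModuleCat.{u} A) :=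
  ShortComplex.mk (ModuleCat.ofHom (LinearMap.range d).subtype)
    (ModuleCat.ofHom (LinearMap.range d).mkQ) (by
    ext x
    change (LinearMap.range d).mkQ x.1 = 0
    rw [Submodule.mkQ_apply, Submodule.Quotient.mk_eq_zero]
    exact x.2)

lemma sc₂_shortExact : (sc₂ d).ShortExact := by
  apply ModuleCat.shortComplex_shortExact
  · intro x
    change (LinearMap.range d).mkQ x = 0 ↔ x ∈ Set.range (LinearMap.range d).subtype
    rw [Submodule.mkQ_apply, Submodule.Quotient.mk_eq_zero]
    constructor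
    · intro hx
      exact ⟨⟨x, hx⟩, rfl⟩
    · rintro ⟨y, rfl⟩
      exact y.2
  · exact Subtype.val_injective
  · exact Submodule.mkQ_surjective _

end

/-- kernel of `M ◁ f` as the kernel of `rTensor` -/
def kernelWhiskerEquiv (M : ModuleCat.{u} A) {X Y : ModuleCat.{u} A} (f : X ⟶ Y) :
    (kernel (M ◁ f) : ModuleCat.{u} A) ≃ₗ[A] LinearMap.ker (LinearMap.rTensor M f.hom) :=
  (ModuleCat.kernelIsoKer (M ◁ f)).toLinearEquiv ≪≫ₗ
    LinearEquiv.ofSubmodules (TensorProduct.comm A M X)
      (LinearMap.ker (LinearMap.lTensor M f.hom)) (LinearMap.ker (LinearMap.rTensor M f.hom)) (by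
      ext z
      constructor
      · rintro ⟨w, hw, rfl⟩
        have hw' : LinearMap.lTensor M f.hom w = 0 := hw
        change LinearMap.rTensor M f.hom (TensorProduct.comm A M X w) = 0
        have : (LinearMap.rTensor M f.hom) ∘ₗ (TensorProduct.comm A M X).toLinearMap =
            (TensorProduct.comm A M Y).toLinearMap ∘ₗ LinearMap.lTensor M f.hom := by
          apply TensorProduct.ext'
          intro a b
          rfl
        have h2 := LinearMap.congr_fun this w
        simp only [LinearMap.comp_apply, LinearEquiv.coe_toLinearMap] at h2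
        rw [h2, hw', map_zero]
      · intro hz
        have hz' : LinearMap.rTensor M f.hom z = 0 := hz
        refine ⟨(TensorProduct.comm A M X).symm z, ?_, by simp⟩
        change LinearMap.lTensor M f.hom ((TensorProduct.comm A M X).symm z) = 0
        have : (LinearMap.lTensor M f.hom) ∘ₗ (TensorProduct.comm A M X).symm.toLinearMap =
            (TensorProduct.comm A M Y).symm.toLinearMap ∘ₗ LinearMap.rTensor M f.hom := by
          apply TensorProduct.ext'
          intro a b
          rfl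
        have h2 := LinearMap.congr_fun this z
        simp only [LinearMap.comp_apply, LinearEquiv.coe_toLinearMap] at h2
        rw [h2, hz', map_zero])


section LinAlg

variable {P₁ P₀ : Type u} [AddCommGroup P₁] [Module A P₁] [AddCommGroup P₀] [Module A P₀]
  (d : P₁ →ₗ[A] P₀) (k : Type u) [AddCommGroup k] [Module A k]

lemma range_le_ker :
    LinearMap.range ((LinearMap.ker d).subtype.rTensor k) ≤ LinearMap.ker (d.rTensor k) := by
  rintro _ ⟨z, rfl⟩
  rw [LinearMap.mem_ker, ← LinearMap.comp_apply, ← LinearMap.rTensor_comp]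
  have : d ∘ₗ (LinearMap.ker d).subtype = 0 := by
    ext x
    exact x.2
  rw [this, LinearMap.rTensor_zero, LinearMap.zero_apply]

lemma rTensor_factor :
    ((LinearMap.range d).subtype.rTensor k) ∘ₗ (d.rangeRestrict.rTensor k) = d.rTensor k := by
  rw [← LinearMap.rTensor_comp]
  rfl

lemma rTensor_exact_ker :
    Function.Exact ((LinearMap.ker d).subtype.rTensor k) (d.rangeRestrict.rTensor k) := by
  apply rTensor_exact k
  · intro x
    constructor
    · intro hx
      have : d x = 0 := congrArg Subtype.val hx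
      exact ⟨⟨x, this⟩, rfl⟩
    · rintro ⟨y, rfl⟩
      apply Subtype.ext
      exact y.2
  · exact d.surjective_rangeRestrict

lemma exists_phi :
    ∃ φ : ↥(LinearMap.ker (d.rTensor k)) →ₗ[A]
        LinearMap.ker ((LinearMap.range d).subtype.rTensor k),
      ∀ x, (φ x : ↥(LinearMap.range d) ⊗[A] k) = d.rangeRestrict.rTensor k x.1 := by
  refine ⟨LinearMap.codRestrict _
    ((d.rangeRestrict.rTensor k) ∘ₗ (LinearMap.ker (d.rTensor k)).subtype) ?_, ?_⟩
  · intro x
    rw [LinearMap.mem_ker, LinearMap.comp_apply, ← LinearMap.comp_apply, rTensor_factor]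
    exact x.2
  · intro x
    rfl

lemma phi_surjective
    (φ : ↥(LinearMap.ker (d.rTensor k)) →ₗ[A] LinearMap.ker ((LinearMap.range d).subtype.rTensor k))
    (hφ : ∀ x, (φ x : ↥(LinearMap.range d) ⊗[A] k) = d.rangeRestrict.rTensor k x.1) :
    Function.Surjective φ := by
  rintro ⟨y, hy⟩
  obtain ⟨x, rfl⟩ := LinearMap.rTensor_surjective k d.surjective_rangeRestrict y
  have hx : x ∈ LinearMap.ker (d.rTensor k) := by
    rw [LinearMap.mem_ker, ← rTensor_factor, LinearMap.comp_apply]
    exact hy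
  refine ⟨⟨x, hx⟩, ?_⟩
  apply Subtype.ext
  rw [hφ]

lemma phi_ker
    (φ : ↥(LinearMap.ker (d.rTensor k)) →ₗ[A] LinearMap.ker ((LinearMap.range d).subtype.rTensor k))
    (hφ : ∀ x, (φ x : ↥(LinearMap.range d) ⊗[A] k) = d.rangeRestrict.rTensor k x.1) :
    Submodule.comap (LinearMap.ker (d.rTensor k)).subtype
      (LinearMap.range ((LinearMap.ker d).subtype.rTensor k)) = LinearMap.ker φ := by
  ext x
  rw [Submodule.mem_comap, LinearMap.mem_ker, ← (LinearMap.exact_iff.mp (rTensor_exact_ker d k)),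
    LinearMap.mem_ker, Submodule.subtype_apply]
  constructor
  · intro h
    apply Subtype.ext
    rw [hφ, h]
    rfl
  · intro h
    rw [← hφ, h]
    rfl

/-- `ker(d ⊗ k) / im(ker d ⊗ k) ≅ ker(im d ⊗ k → P₀ ⊗ k)` -/
theorem quotEquiv :
    Nonempty ((↥(LinearMap.ker (d.rTensor k)) ⧸
        Submodule.comap (LinearMap.ker (d.rTensor k)).subtype
          (LinearMap.range ((LinearMap.ker d).subtype.rTensor k))) ≃ₗ[A]
      LinearMap.ker ((LinearMap.range d).subtype.rTensor k)) := by
  obtain ⟨φ, hφ⟩ := exists_phi d k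
  have e2 := @LinearMap.quotKerEquivOfSurjective A ↥(LinearMap.ker (d.rTensor k))
    ↥(LinearMap.ker ((LinearMap.range d).subtype.rTensor k)) _ _ _ _ _ φ (phi_surjective d k φ hφ)
  rw [phi_ker d k φ hφ]
  exact ⟨e2⟩

end LinAlg

section Main

variable {P₁ P₀ : Type u} [AddCommGroup P₁] [Module A P₁] [AddCommGroup P₀] [Module A P₀]
  [Module.Flat A P₁] [Module.Flat A P₀] (d : P₁ →ₗ[A] P₀) (k : Type u) [AddCommGroup k] [Module A k]

theorem main4499 :
    Nonempty (LinearMap.ker ((LinearMap.ker d).subtype.rTensor k) ≃ₗ[A]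
        DRing.Tor A 2 (P₀ ⧸ LinearMap.range d) k) ∧
      LinearMap.range ((LinearMap.ker d).subtype.rTensor k) ≤ LinearMap.ker (d.rTensor k) ∧
      Nonempty ((↥(LinearMap.ker (d.rTensor k)) ⧸
          Submodule.comap (LinearMap.ker (d.rTensor k)).subtype
            (LinearMap.range ((LinearMap.ker d).subtype.rTensor k))) ≃ₗ[A]
        DRing.Tor A 1 (P₀ ⧸ LinearMap.range d) k) := by
  have h1 : Module.Flat A (sc₁ d).X₂ := inferInstanceAs (Module.Flat A P₁)
  have h2 : Module.Flat A (sc₂ d).X₂ := inferInstanceAs (Module.Flat A P₀)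
  obtain ⟨e1⟩ := tor_succ_succ_iso (sc₂_shortExact d) (ModuleCat.of A k) 0
  obtain ⟨e2⟩ := Groth.Agent.H12.Tor1Ker.tor_one_iso_kernel (sc₁_shortExact d) (ModuleCat.of A k)
  obtain ⟨e4⟩ := Groth.Agent.H12.Tor1Ker.tor_one_iso_kernel (sc₂_shortExact d) (ModuleCat.of A k)
  refine ⟨⟨?_⟩, range_le_ker d k, ?_⟩
  · exact (kernelWhiskerEquiv (ModuleCat.of A k) (sc₁ d).f).symm ≪≫ₗ e2.symm.toLinearEquiv ≪≫ₗ
      e1.symm.toLinearEquiv
  · obtain ⟨e5⟩ := quotEquiv d k
    exact ⟨e5 ≪≫ₗ (kernelWhiskerEquiv (ModuleCat.of A k) (sc₂ d).f).symm ≪≫ₗ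
      e4.symm.toLinearEquiv⟩

end Main

end Groth.Agent.H77.TorTwoTerm
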