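import Mathlib
import Groth.Prelude.Def_GrMod3
import Groth.Agent.H77.GrModFT
import Groth.Agent.H77.TwistQC

/-!
# `O(n)` on `Proj A` is of finite type when `A` is generated over `A₀` by finitely many homogeneous elements
(of arbitrary degrees)

On `D₊(f)`, `deg f = d > 0`, the sections of `O(n)` are generated over `A_(f)` by the fractions
`f ^ a * x ^ ρ / f ^ K` with all exponents `ρ j < d`.
-/

set_option autoImplicit false
universe u

open CategoryTheory CategoryTheory.Limits AlgebraicGeometry TopologicalSpace Opposite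
open HomogeneousLocalization

namespace Groth.Agent.H77.TwistFT

open Groth.Agent.H77.GrModGlue Groth.Agent.H77.GrModExact Groth.Agent.H77.GrModLocal
  Groth.Agent.H77.GrModQC Groth.Agent.H77.GrModFT

section

variable {A σ : Type u} [CommRing A] [SetLike σ A] [AddSubgroupClass σ A] (𝒜 : ℕ → σ) [GradedRing 𝒜]
variable {ι : Type u} [Fintype ι] (x : ι → A) (δ : ι → ℕ)

/-- the monomial `∏ x j ^ α j` -/
def mono (α : ι → ℕ) : A := ∏ j, x j ^ α j

/-- the weight `∑ α j * δ j` of an exponent vector -/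
def wt (α : ι → ℕ) : ℕ := ∑ j, α j • δ j

variable {x δ} in
theorem mono_mem (hx : ∀ j, x j ∈ 𝒜 (δ j)) (α : ι → ℕ) : mono x α ∈ 𝒜 (wt δ α) :=
  SetLike.prod_pow_mem_graded 𝒜 δ x α (fun k _ => hx k)

/-- `A` is generated over `A₀` by the `x j`, in graded form -/
def Gen : Prop :=
  ∀ i, ∀ a ∈ 𝒜 i, a ∈ AddSubgroup.closure
    {z : A | ∃ (c : A) (α : ι → ℕ), c ∈ 𝒜 0 ∧ wt δ α = i ∧ z = c * mono x α}

theorem mono_divMod (d : ℕ) (α : ι → ℕ) :
    mono x α = (∏ j, (x j ^ d) ^ (α j / d)) * mono x (fun j => α j % d) := by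
  unfold mono
  rw [← Finset.prod_mul_distrib]
  refine Finset.prod_congr rfl fun j _ => ?_
  rw [← pow_mul, ← pow_add, Nat.div_add_mod]

theorem wt_divMod (d : ℕ) (α : ι → ℕ) :
    wt δ α = (∑ j, (α j / d) • δ j) • d + wt δ (fun j => α j % d) := by
  unfold wt
  rw [Finset.sum_smul, ← Finset.sum_add_distrib]
  refine Finset.sum_congr rfl fun j _ => ?_
  simp only [smul_eq_mul]
  conv_lhs => rw [← Nat.div_add_mod (α j) d]
  ring

variable {x δ} in
theorem prod_pow_mem (hx : ∀ j, x j ∈ 𝒜 (δ j)) (d : ℕ) (q : ι → ℕ) :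
    (∏ j, (x j ^ d) ^ q j) ∈ 𝒜 ((∑ j, q j • δ j) • d) := by
  have h := SetLike.prod_pow_mem_graded 𝒜 (fun j => d • δ j) (fun j => x j ^ d) q
    (F := Finset.univ) (fun k _ => SetLike.pow_mem_graded d (hx k))
  have e : (∑ k, q k • d • δ k) = (∑ j, q j • δ j) • d := by
    rw [Finset.sum_smul]
    refine Finset.sum_congr rfl fun j _ => ?_
    simp only [smul_eq_mul]
    ring
  rwa [e] at h

theorem wt_mod_le {d : ℕ} (hd : 0 < d) (α : ι → ℕ) : wt δ (fun j => α j % d) ≤ ∑ j, d * δ j := by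
  unfold wt
  refine Finset.sum_le_sum fun j _ => ?_
  simp only [smul_eq_mul]
  exact Nat.mul_le_mul_right _ (Nat.mod_lt _ hd).le

/-- index type of the generating sections over `D₊(f)` -/
abbrev Idx (d B : ℕ) (ι : Type u) : Type u := (ι → Fin d) × Fin (B + 1) × Fin (B + 1)

theorem gen_mem {d : ℕ} {f : A} (hf : f ∈ 𝒜 d) (hx : ∀ j, x j ∈ 𝒜 (δ j)) (a : ℕ) (ρ : ι → ℕ) :
    f ^ a • mono x ρ ∈ 𝒜 (a • d + wt δ ρ) :=
  SetLike.mul_mem_graded (SetLike.pow_mem_graded a hf) (mono_mem 𝒜 hx ρ)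

open Classical in
/-- the generating sections `f ^ a * x ^ ρ / f ^ K` of `O(n)` over `D₊(f)` -/
noncomputable def gen (n : ℤ) {d : ℕ} {f : A} (hf : f ∈ 𝒜 d) (hx : ∀ j, x j ∈ 𝒜 (δ j)) (B : ℕ)
    (t : Idx d B ι) : Γ(GrMod.tilde 𝒜 𝒜 n, Proj.basicOpen 𝒜 f) :=
  if h : ((((t.2.1 : ℕ) • d + wt δ (fun j => (t.1 j : ℕ)) : ℕ) : ℤ) = ((t.2.2 : ℕ) : ℤ) * d + n) then
    fracΓ 𝒜 𝒜 n hf (t.2.2 : ℕ) ((t.2.1 : ℕ) • d + wt δ (fun j => (t.1 j : ℕ)))
      ⟨f ^ (t.2.1 : ℕ) • mono x (fun j => (t.1 j : ℕ)), gen_mem 𝒜 x δ hf hx _ _⟩ h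
  else 0

theorem gen_eq (n : ℤ) {d : ℕ} (hd : 0 < d) {f : A} (hf : f ∈ 𝒜 d) (hx : ∀ j, x j ∈ 𝒜 (δ j)) (B : ℕ)
    (α : ι → ℕ) (a K : ℕ) (ha : a ≤ B) (hK : K ≤ B)
    (h : (((a • d + wt δ (fun j => α j % d) : ℕ) : ℤ) = (K : ℤ) * d + n)) :
    fracΓ 𝒜 𝒜 n hf K (a • d + wt δ (fun j => α j % d))
      ⟨f ^ a • mono x (fun j => α j % d), gen_mem 𝒜 x δ hf hx _ _⟩ h =
    gen 𝒜 x δ n hf hx B (fun j => ⟨α j % d, Nat.mod_lt _ hd⟩, ⟨a, Nat.lt_succ_of_le ha⟩,
      ⟨K, Nat.lt_succ_of_le hK⟩) := by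
  unfold gen
  rw [dif_pos h]

/-- the key computation: a fraction `c * x ^ α / f ^ K` lies in the span of the generating sections -/
theorem frac_term_mem (n : ℤ) {d : ℕ} (hd : 0 < d) {f : A} (hf : f ∈ 𝒜 d) (hx : ∀ j, x j ∈ 𝒜 (δ j))
    (B : ℕ) (hB : n.natAbs + ∑ j, d * δ j ≤ B)
    (K i : ℕ) (hdeg : (i : ℤ) = K * d + n) (c : A) (hc : c ∈ 𝒜 0) (α : ι → ℕ) (hα : wt δ α = i)
    (hmem : c * mono x α ∈ 𝒜 i) :
    fracΓ 𝒜 𝒜 n hf K i ⟨c * mono x α, hmem⟩ hdeg ∈
      Submodule.span Γ(Proj 𝒜, Proj.basicOpen 𝒜 f) (Set.range (gen 𝒜 x δ n hf hx B)) := by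
  set J := ∑ j, (α j / d) • δ j with hJ
  set ρ : ι → ℕ := fun j => α j % d with hρ
  have hwt : i = J • d + wt δ ρ := by rw [← hα]; exact wt_divMod δ d α
  have hρle : wt δ ρ ≤ ∑ j, d * δ j := wt_mod_le δ hd α
  set t := c * ∏ j, (x j ^ d) ^ (α j / d) with ht
  have htmem : t ∈ 𝒜 (J • d) := by
    have := SetLike.mul_mem_graded hc (prod_pow_mem 𝒜 hx d (fun j => α j / d))
    rwa [zero_add] at this
  have hmono : mono x α = (∏ j, (x j ^ d) ^ (α j / d)) * mono x ρ := mono_divMod x d α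
  -- the exponents
  obtain ⟨a', K', ha', hK', hsum, hdeg''⟩ : ∃ a' K' : ℕ, a' ≤ B ∧ K' ≤ B ∧ a' + K = J + K' ∧
      (((a' • d + wt δ ρ : ℕ) : ℤ) = (K' : ℤ) * d + n) := by
    simp only [smul_eq_mul] at hwt ⊢
    have hwt' : (i : ℤ) = (J : ℤ) * d + (wt δ ρ : ℤ) := by exact_mod_cast hwt
    rcases le_or_gt J K with hJK | hJK
    · refine ⟨0, K - J, Nat.zero_le _, ?_, by omega, ?_⟩
      · have h1 : K - J ≤ (K - J) * d := Nat.le_mul_of_pos_right _ hd
        have h2 : (((K - J) * d : ℕ) : ℤ) = (wt δ ρ : ℤ) - n := by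
          rw [Nat.sub_mul]
          have : J * d ≤ K * d := Nat.mul_le_mul_right _ hJK
          push_cast [Nat.cast_sub this]
          linarith
        have h3 : (n.natAbs : ℤ) = |n| := Int.natCast_natAbs n
        have h4 : -|n| ≤ n := neg_abs_le n
        have h5 : ((K - J : ℕ) : ℤ) ≤ (((K - J) * d : ℕ) : ℤ) := by exact_mod_cast h1
        have h6 : (wt δ ρ : ℤ) ≤ ((∑ j, d * δ j : ℕ) : ℤ) := by exact_mod_cast hρle
        have h7 : ((n.natAbs + ∑ j, d * δ j : ℕ) : ℤ) ≤ (B : ℤ) := by exact_mod_cast hB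
        have : ((K - J : ℕ) : ℤ) ≤ (B : ℤ) := by push_cast at h7; linarith
        exact_mod_cast this
      · push_cast [Nat.cast_sub hJK]
        linarith
    · refine ⟨J - K, 0, ?_, Nat.zero_le _, by omega, ?_⟩
      · have h1 : J - K ≤ (J - K) * d := Nat.le_mul_of_pos_right _ hd
        have h2 : (((J - K) * d : ℕ) : ℤ) = n - (wt δ ρ : ℤ) := by
          rw [Nat.sub_mul]
          have : K * d ≤ J * d := Nat.mul_le_mul_right _ hJK.le
          push_cast [Nat.cast_sub this]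
          linarith
        have h3 : (n.natAbs : ℤ) = |n| := Int.natCast_natAbs n
        have h4 : n ≤ |n| := le_abs_self n
        have h5 : ((J - K : ℕ) : ℤ) ≤ (((J - K) * d : ℕ) : ℤ) := by exact_mod_cast h1
        have h6 : (0 : ℤ) ≤ (wt δ ρ : ℤ) := Int.natCast_nonneg _
        have h6' : (0 : ℤ) ≤ ((∑ j, d * δ j : ℕ) : ℤ) := Int.natCast_nonneg _
        have h7 : ((n.natAbs + ∑ j, d * δ j : ℕ) : ℤ) ≤ (B : ℤ) := by exact_mod_cast hB
        have : ((J - K : ℕ) : ℤ) ≤ (B : ℤ) := by push_cast at h7; linarith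
        exact_mod_cast this
      · push_cast [Nat.cast_sub hJK.le]
        linarith
  -- the generator
  have hg := gen_eq 𝒜 x δ n hd hf hx B α a' K' ha' hK' hdeg''
  have hgen_mem : fracΓ 𝒜 𝒜 n hf K' (a' • d + wt δ ρ)
      ⟨f ^ a' • mono x ρ, gen_mem 𝒜 x δ hf hx _ _⟩ hdeg'' ∈
      Submodule.span Γ(Proj 𝒜, Proj.basicOpen 𝒜 f) (Set.range (gen 𝒜 x δ n hf hx B)) := by
    rw [hg]
    exact Submodule.subset_span ⟨_, rfl⟩
  -- rewrite the fraction
  have hdegR : ((a' • d + i : ℕ) : ℤ) = ((a' + K : ℕ) : ℤ) * d + n := by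
    simp only [smul_eq_mul]
    push_cast
    rw [hdeg]
    ring
  have hdegS : ((J • d + (a' • d + wt δ ρ) : ℕ) : ℤ) = ((J + K' : ℕ) : ℤ) * d + n := by
    have := hdeg''
    simp only [smul_eq_mul] at this ⊢
    push_cast at this ⊢
    linarith
  rw [← fracΓ_raise 𝒜 𝒜 n hf K i ⟨c * mono x α, hmem⟩ hdeg a' hdegR]
  have h2 := fracΓ_smul 𝒜 𝒜 n hf K' (a' • d + wt δ ρ)
    ⟨f ^ a' • mono x ρ, gen_mem 𝒜 x δ hf hx _ _⟩ hdeg'' J htmem hdegS
  have h3 : fracΓ 𝒜 𝒜 n hf (a' + K) (a' • d + i)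
      ⟨f ^ a' • (c * mono x α), SetLike.GradedSMul.smul_mem (SetLike.pow_mem_graded a' hf) hmem⟩
        (by exact_mod_cast hdegR) =
      fracΓ 𝒜 𝒜 n hf (J + K') (J • d + (a' • d + wt δ ρ))
        ⟨t • (f ^ a' • mono x ρ), SetLike.GradedSMul.smul_mem htmem (gen_mem 𝒜 x δ hf hx _ _)⟩
        (by exact_mod_cast hdegS) := by
    refine fracΓ_congr 𝒜 𝒜 n hf hsum ?_ _ _ ?_ _ _
    · rw [hwt]; ring
    · simp only [smul_eq_mul]
      rw [hmono, ht]
      ring
  rw [h3, ← h2]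
  exact Submodule.smul_mem _ _ hgen_mem

theorem fracΓ_neg' (n : ℤ) {d : ℕ} {f : A} (hf : f ∈ 𝒜 d) (K i : ℕ) (m : 𝒜 i)
    (hdeg : (i : ℤ) = K * d + n) :
    fracΓ 𝒜 𝒜 n hf K i (-m) hdeg = - fracΓ 𝒜 𝒜 n hf K i m hdeg := by
  rw [eq_neg_iff_add_eq_zero, ← fracΓ_add, neg_add_cancel, fracΓ_zero]

/-- over `D₊(f)` the sections of `O(n)` are spanned by the generating sections -/
theorem span_gen_eq_top (n : ℤ) {d : ℕ} (hd : 0 < d) {f : A} (hf : f ∈ 𝒜 d) (hx : ∀ j, x j ∈ 𝒜 (δ j))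
    (hgen : Gen 𝒜 x δ) (B : ℕ) (hB : n.natAbs + ∑ j, d * δ j ≤ B) :
    Submodule.span Γ(Proj 𝒜, Proj.basicOpen 𝒜 f) (Set.range (gen 𝒜 x δ n hf hx B)) = ⊤ := by
  rw [eq_top_iff]
  intro y _
  obtain ⟨K, i, m, hdegm, hy⟩ := exists_eq_frac 𝒜 𝒜 n hd hf y
  have hy' : y = fracΓ 𝒜 𝒜 n hf K i m hdegm := hy
  rw [hy']
  set S := Submodule.span Γ(Proj 𝒜, Proj.basicOpen 𝒜 f) (Set.range (gen 𝒜 x δ n hf hx B)) with hS
  have key : ∀ z ∈ AddSubgroup.closure
      {z : A | ∃ (c : A) (α : ι → ℕ), c ∈ 𝒜 0 ∧ wt δ α = i ∧ z = c * mono x α},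
      ∃ hz : z ∈ 𝒜 i, fracΓ 𝒜 𝒜 n hf K i ⟨z, hz⟩ hdegm ∈ S := by
    intro z hz
    induction hz using AddSubgroup.closure_induction with
    | mem z hz =>
      obtain ⟨c, α, hc, hα, rfl⟩ := hz
      have hmem : c * mono x α ∈ 𝒜 i := by
        have := SetLike.mul_mem_graded hc (mono_mem 𝒜 hx α)
        rwa [zero_add, hα] at this
      exact ⟨hmem, frac_term_mem 𝒜 x δ n hd hf hx B hB K i hdegm c hc α hα hmem⟩
    | zero =>
      refine ⟨zero_mem _, ?_⟩
      rw [show (⟨0, zero_mem _⟩ : 𝒜 i) = 0 from rfl, fracΓ_zero]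
      exact S.zero_mem
    | add a b _ _ h1 h2 =>
      obtain ⟨ha', h1⟩ := h1
      obtain ⟨hb', h2⟩ := h2
      refine ⟨add_mem ha' hb', ?_⟩
      rw [show (⟨a + b, add_mem ha' hb'⟩ : 𝒜 i) = ⟨a, ha'⟩ + ⟨b, hb'⟩ from rfl, fracΓ_add]
      exact S.add_mem h1 h2
    | neg a _ h1 =>
      obtain ⟨ha', h1⟩ := h1
      refine ⟨neg_mem ha', ?_⟩
      rw [show (⟨-a, neg_mem ha'⟩ : 𝒜 i) = -⟨a, ha'⟩ from rfl, fracΓ_neg']
      exact S.neg_mem h1
  obtain ⟨hz, h⟩ := key m.1 (hgen i m.1 m.2)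
  exact h

variable {x δ} in
/-- elements of positive degree lie in every homogeneous prime containing the generators of positive degree -/
theorem mem_of_pos (hx : ∀ j, x j ∈ 𝒜 (δ j)) (hgen : Gen 𝒜 x δ) (I : Ideal A)
    (hI : ∀ j, 0 < δ j → x j ∈ I) {i : ℕ} (hi : 0 < i) {a : A} (ha : a ∈ 𝒜 i) : a ∈ I := by
  have hle : AddSubgroup.closure
      {z : A | ∃ (c : A) (α : ι → ℕ), c ∈ 𝒜 0 ∧ wt δ α = i ∧ z = c * mono x α} ≤
      I.toAddSubgroup := by
    rw [AddSubgroup.closure_le]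
    rintro z ⟨c, α, -, hα, rfl⟩
    refine Ideal.mul_mem_left _ _ ?_
    -- some `j` with `α j > 0` and `δ j > 0`
    obtain ⟨j, hj⟩ : ∃ j, 0 < α j • δ j := by
      by_contra hcon
      push Not at hcon
      have : wt δ α = 0 := Finset.sum_eq_zero fun j _ => Nat.le_zero.mp (hcon j)
      omega
    have hαj : 0 < α j := by
      rcases Nat.eq_zero_or_pos (α j) with h | h
      · rw [h, zero_smul] at hj; exact absurd hj (lt_irrefl _)
      · exact h
    have hδj : 0 < δ j := by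
      rcases Nat.eq_zero_or_pos (δ j) with h | h
      · rw [h, smul_zero] at hj; exact absurd hj (lt_irrefl _)
      · exact h
    unfold mono
    refine Ideal.prod_mem I (Finset.mem_univ j) ?_
    exact Ideal.pow_mem_of_mem I (hI j hδj) _ hαj
  exact hle (hgen i a ha)

open Groth.Agent.H18 in
/-- `O(n)` is of finite type on `Proj A` when `A` is generated over `A₀` by finitely many homogeneous elements -/
theorem tilde_self_isFiniteType (hx : ∀ j, x j ∈ 𝒜 (δ j)) (hgen : Gen 𝒜 x δ) (n : ℤ) :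
    SheafOfModules.IsFiniteType (R := (Proj 𝒜).ringCatSheaf) (GrMod.tilde 𝒜 𝒜 n) := by
  classical
  haveI := tilde_isQuasicoherent 𝒜 𝒜 n
  have hcov : IsOpenCover (fun j : {j : ι // 0 < δ j} => Proj.basicOpen 𝒜 (x j.1)) := by
    refine IsOpenCover.mk (top_le_iff.mp ?_)
    intro y _
    by_contra hcon
    apply y.not_irrelevant_le
    intro a ha
    have hI : ∀ j, 0 < δ j → x j ∈ y.asHomogeneousIdeal.toIdeal := by
      intro j hj
      by_contra hjy
      exact hcon (Opens.mem_iSup.mpr ⟨⟨j, hj⟩, hjy⟩)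
    rw [← DirectSum.sum_support_decompose 𝒜 a]
    refine Ideal.sum_mem _ fun i _ => ?_
    rcases Nat.eq_zero_or_pos i with rfl | hi
    · have h3 : (DirectSum.decompose 𝒜 a 0 : A) = 0 := by
        have := (HomogeneousIdeal.mem_irrelevant_iff 𝒜 a).mp ha
        rwa [GradedRing.proj_apply] at this
      rw [h3]
      exact zero_mem _
    · exact mem_of_pos 𝒜 hx hgen _ hI hi (Subtype.prop _)
  refine isFiniteType_of_isQuasicoherent_of_span_eq_top (GrMod.tilde 𝒜 𝒜 n)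
    (fun j : {j : ι // 0 < δ j} => Proj.basicOpen 𝒜 (x j.1)) hcov
    (fun j => Proj.isAffineOpen_basicOpen 𝒜 (x j.1) (hx j.1) j.2)
    (fun j => Idx (δ j.1) (n.natAbs + ∑ k, δ j.1 * δ k) ι)
    (fun j => gen 𝒜 x δ n (hx j.1) hx _) ?_
  intro j
  exact span_gen_eq_top 𝒜 x δ n j.2 (hx j.1) hx hgen _ le_rfl

/-- `O(n)` is of finite type on `Proj A` when `A` is generated over `A₀` by finitely many homogeneous elements -/
theorem twist_isFiniteType (hx : ∀ j, x j ∈ 𝒜 (δ j)) (hgen : Gen 𝒜 x δ) (n : ℤ) :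
    SheafOfModules.IsFiniteType (R := (Proj 𝒜).ringCatSheaf) (GrTwist.twist 𝒜 n) :=
  tilde_self_isFiniteType 𝒜 x δ hx hgen n

end

section FiniteType

variable {A σ : Type u} [CommRing A] [SetLike σ A] [AddSubgroupClass σ A] (𝒜 : ℕ → σ) [GradedRing 𝒜]

theorem mono_single {ι : Type u} [Fintype ι] [DecidableEq ι] (x : ι → A) (j : ι) :
    mono x (Pi.single j 1) = x j := by
  unfold mono
  rw [Finset.prod_eq_single j]
  · simp
  · intro k _ hk
    simp [Pi.single_eq_of_ne hk]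
  · intro h
    exact absurd (Finset.mem_univ j) h

theorem mono_add {ι : Type u} [Fintype ι] (x : ι → A) (α β : ι → ℕ) :
    mono x (α + β) = mono x α * mono x β := by
  unfold mono
  rw [← Finset.prod_mul_distrib]
  refine Finset.prod_congr rfl fun j _ => ?_
  rw [Pi.add_apply, pow_add]

theorem mono_zero {ι : Type u} [Fintype ι] (x : ι → A) : mono x 0 = 1 := by
  unfold mono
  simp

/-- a finite-type algebra over a ring mapping into degree zero is generated (in graded form) by finitely many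
homogeneous elements -/
theorem exists_gen_of_finiteType {R : Type u} [CommRing R] (φ : R →+* A) (hφ0 : ∀ r, φ r ∈ 𝒜 0)
    (hft : φ.FiniteType) :
    ∃ (ι : Type u) (_ : Fintype ι) (x : ι → A) (δ : ι → ℕ), (∀ j, x j ∈ 𝒜 (δ j)) ∧ Gen 𝒜 x δ := by
  classical
  letI := φ.toAlgebra
  have hft' : Algebra.FiniteType R A := hft
  obtain ⟨s, hs⟩ := (hft'.out : (⊤ : Subalgebra R A).FG)
  set X : Finset A := s.biUnion (fun a => (DirectSum.decompose 𝒜 a).support.image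
    (fun i => ((DirectSum.decompose 𝒜 a i : 𝒜 i) : A))) with hX
  have hXhom : ∀ j : ↥X, ∃ i, (j : A) ∈ 𝒜 i := by
    rintro ⟨j, hj⟩
    rw [hX, Finset.mem_biUnion] at hj
    obtain ⟨a, -, hj⟩ := hj
    rw [Finset.mem_image] at hj
    obtain ⟨i, -, rfl⟩ := hj
    exact ⟨i, (DirectSum.decompose 𝒜 a i).2⟩
  choose δ hδ using hXhom
  refine ⟨↥X, inferInstance, fun j => j.1, δ, hδ, ?_⟩
  -- `adjoin R X = ⊤`
  have hadj : Algebra.adjoin R (X : Set A) = ⊤ := by
    rw [eq_top_iff, ← hs]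
    refine Algebra.adjoin_le ?_
    intro a ha
    rw [← DirectSum.sum_support_decompose 𝒜 a]
    refine Subalgebra.sum_mem _ fun i hi => ?_
    refine Algebra.subset_adjoin ?_
    rw [Finset.mem_coe, hX, Finset.mem_biUnion]
    exact ⟨a, ha, Finset.mem_image.mpr ⟨i, hi, rfl⟩⟩
  -- every monomial in `X` is a `mono`
  have hmon : ∀ μ ∈ Submonoid.closure (X : Set A), ∃ α : ↥X → ℕ, μ = mono (fun j : ↥X => j.1) α := by
    intro μ hμ
    induction hμ using Submonoid.closure_induction with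
    | mem z hz => exact ⟨Pi.single ⟨z, hz⟩ 1, (mono_single (fun j : ↥X => j.1) ⟨z, hz⟩).symm⟩
    | one => exact ⟨0, (mono_zero _).symm⟩
    | mul a b _ _ h1 h2 =>
      obtain ⟨α, rfl⟩ := h1
      obtain ⟨β, rfl⟩ := h2
      exact ⟨α + β, (mono_add _ α β).symm⟩
  -- every element is an additive combination of `φ r * mono α`
  set G : AddSubgroup A := AddSubgroup.closure
    {z : A | ∃ (r : R) (α : ↥X → ℕ), z = φ r * mono (fun j : ↥X => j.1) α} with hG
  have hall : ∀ a : A, a ∈ G := by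
    intro a
    have ha : a ∈ Subalgebra.toSubmodule (Algebra.adjoin R (X : Set A)) := by
      rw [hadj]; exact (Algebra.mem_top : a ∈ (⊤ : Subalgebra R A))
    rw [Algebra.adjoin_eq_span] at ha
    induction ha using Submodule.span_induction with
    | mem z hz =>
      obtain ⟨α, rfl⟩ := hmon z hz
      exact AddSubgroup.subset_closure ⟨1, α, by rw [map_one, one_mul]⟩
    | zero => exact zero_mem _
    | add a b _ _ h1 h2 => exact add_mem h1 h2
    | smul r a _ h =>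
      -- `r • a` with `a ∈ G`
      have : ∀ z ∈ G, r • z ∈ G := by
        intro z hz
        induction hz using AddSubgroup.closure_induction with
        | mem z hz =>
          obtain ⟨r', α, rfl⟩ := hz
          refine AddSubgroup.subset_closure ⟨r * r', α, ?_⟩
          rw [Algebra.smul_def, map_mul, mul_assoc]
          rfl
        | zero => rw [smul_zero]; exact zero_mem _
        | add a b _ _ h1 h2 => rw [smul_add]; exact add_mem h1 h2
        | neg a _ h1 => rw [smul_neg]; exact neg_mem h1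
      exact this a h
  -- take homogeneous components
  intro i a ha
  set Gi : AddSubgroup A := AddSubgroup.closure
    {z : A | ∃ (c : A) (α : ↥X → ℕ), c ∈ 𝒜 0 ∧ wt δ α = i ∧ z = c * mono (fun j : ↥X => j.1) α} with hGi
  have hproj : G ≤ Gi.comap (GradedRing.proj 𝒜 i) := by
    rw [hG, AddSubgroup.closure_le]
    rintro z ⟨r, α, rfl⟩
    change GradedRing.proj 𝒜 i (φ r * mono (fun j : ↥X => j.1) α) ∈ Gi
    have hmem : φ r * mono (fun j : ↥X => j.1) α ∈ 𝒜 (wt δ α) := by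
      have := SetLike.mul_mem_graded (hφ0 r) (mono_mem 𝒜 hδ α)
      rwa [zero_add] at this
    rw [GradedRing.proj_apply]
    by_cases hw : wt δ α = i
    · rw [← hw, DirectSum.decompose_of_mem_same 𝒜 hmem]
      exact AddSubgroup.subset_closure ⟨φ r, α, hφ0 r, hw, rfl⟩
    · rw [DirectSum.decompose_of_mem_ne 𝒜 hmem hw]
      exact zero_mem _
  have := hproj (hall a)
  change GradedRing.proj 𝒜 i a ∈ Gi at this
  rwa [GradedRing.proj_apply, DirectSum.decompose_of_mem_same 𝒜 ha] at this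

end FiniteType

end Groth.Agent.H77.TwistFT
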