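import Mathlib

namespace Groth.Agent.H77

open CategoryTheory CategoryTheory.Limits CategoricalPullback CategoryTheory.Functor

universe v u

variable {B A' B' A'' B'' : Type u} [Category.{v} B] [Category.{v} A'] [Category.{v} B']
  [Category.{v} A''] [Category.{v} B'']
  (r : B ⥤ B') (t' : A' ⥤ B') (l' : A' ⥤ A'') (r' : B' ⥤ B'') (t'' : A'' ⥤ B'')
  (e₂ : t' ⋙ r' ≅ l' ⋙ t'')

/-- Base change of the comparison functor of the lower square. -/
@[simps]
def pasteFunctor : r ⊡ t' ⥤ (r ⋙ r') ⊡ t'' where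
  obj x :=
    { fst := x.fst
      snd := l'.obj x.snd
      iso := r'.mapIso x.iso ≪≫ e₂.app x.snd }
  map {x y} f :=
    { fst := f.fst
      snd := l'.map f.snd
      w := by
        have h1 := congr_arg r'.map f.w
        simp only [CategoryTheory.Functor.map_comp] at h1
        have h2 := e₂.hom.naturality f.snd
        simp only [Functor.comp_map] at h2
        simp only [Functor.comp_obj, Functor.comp_map, Iso.trans_hom, Functor.mapIso_hom,
          Iso.app_hom, Category.assoc]
        rw [← h2, reassoc_of% h1] }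
  map_id x := by
    apply CategoricalPullback.hom_ext <;> simp
  map_comp f g := by
    apply CategoricalPullback.hom_ext <;> simp

/-- the comparison functor of the lower square -/
abbrev lowerFunctor : A' ⥤ r' ⊡ t'' :=
  (CatCommSqOver.toFunctorToCategoricalPullback r' t'' A').obj ⟨t', l', e₂⟩

instance pasteFunctor_faithful [(lowerFunctor t' l' r' t'' e₂).Faithful] :
    (pasteFunctor r t' l' r' t'' e₂).Faithful where
  map_injective {x y} f g h := by
    have h1' : ((pasteFunctor r t' l' r' t'' e₂).map f).fst =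
        ((pasteFunctor r t' l' r' t'' e₂).map g).fst := by rw [h]
    have h2' : ((pasteFunctor r t' l' r' t'' e₂).map f).snd =
        ((pasteFunctor r t' l' r' t'' e₂).map g).snd := by rw [h]
    have h1 : f.fst = g.fst := h1'
    have h2 : l'.map f.snd = l'.map g.snd := h2'
    apply CategoricalPullback.hom_ext h1
    apply (lowerFunctor t' l' r' t'' e₂).map_injective
    apply CategoricalPullback.hom_ext
    · change t'.map f.snd = t'.map g.snd
      have hf : t'.map f.snd = x.iso.inv ≫ r.map f.fst ≫ y.iso.hom := by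
        rw [f.w, Iso.inv_hom_id_assoc]
      have hg : t'.map g.snd = x.iso.inv ≫ r.map g.fst ≫ y.iso.hom := by
        rw [g.w, Iso.inv_hom_id_assoc]
      rw [hf, hg, h1]
    · exact h2

instance pasteFunctor_full [(lowerFunctor t' l' r' t'' e₂).Full] :
    (pasteFunctor r t' l' r' t'' e₂).Full where
  map_surjective {x y} h := by
    let hf : x.fst ⟶ y.fst := h.fst
    let hs : l'.obj x.snd ⟶ l'.obj y.snd := h.snd
    have hw : r'.map (r.map hf) ≫ r'.map y.iso.hom ≫ e₂.hom.app y.snd =
        r'.map x.iso.hom ≫ e₂.hom.app x.snd ≫ t''.map hs := by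
      have := h.w
      simp only [pasteFunctor_obj_iso, Functor.comp_map, Iso.trans_hom, Functor.mapIso_hom,
        Iso.app_hom] at this
      exact this.trans (Category.assoc _ _ _)
    let m : (lowerFunctor t' l' r' t'' e₂).obj x.snd ⟶ (lowerFunctor t' l' r' t'' e₂).obj y.snd :=
      { fst := x.iso.inv ≫ r.map hf ≫ y.iso.hom
        snd := hs
        w := by
          change r'.map (x.iso.inv ≫ r.map hf ≫ y.iso.hom) ≫ e₂.hom.app y.snd =
            e₂.hom.app x.snd ≫ t''.map hs
          rw [CategoryTheory.Functor.map_comp, CategoryTheory.Functor.map_comp, Category.assoc, Category.assoc, hw,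
            ← CategoryTheory.Functor.map_comp_assoc, Iso.inv_hom_id, CategoryTheory.Functor.map_id, Category.id_comp] }
    obtain ⟨v, hv⟩ := (lowerFunctor t' l' r' t'' e₂).map_surjective m
    have hv1' : ((lowerFunctor t' l' r' t'' e₂).map v).fst = m.fst := by rw [hv]
    have hv2' : ((lowerFunctor t' l' r' t'' e₂).map v).snd = m.snd := by rw [hv]
    have hv1 : t'.map v = x.iso.inv ≫ r.map hf ≫ y.iso.hom := hv1'
    have hv2 : l'.map v = hs := hv2'
    refine ⟨⟨hf, v, ?_⟩, ?_⟩
    · rw [hv1, Iso.hom_inv_id_assoc]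
    · apply CategoricalPullback.hom_ext
      · rfl
      · exact hv2

instance pasteFunctor_essSurj [(lowerFunctor t' l' r' t'' e₂).EssSurj] :
    (pasteFunctor r t' l' r' t'' e₂).EssSurj where
  mem_essImage z := by
    let z' : r' ⊡ t'' := ⟨r.obj z.fst, z.snd, z.iso⟩
    let a' := (lowerFunctor t' l' r' t'' e₂).objPreimage z'
    let i : (lowerFunctor t' l' r' t'' e₂).obj a' ≅ z' :=
      (lowerFunctor t' l' r' t'' e₂).objObjPreimageIso z'
    have hw := i.hom.w
    let i1 : t'.obj a' ≅ r.obj z.fst := (π₁ r' t'').mapIso i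
    let i2 : l'.obj a' ≅ z.snd := (π₂ r' t'').mapIso i
    have hw' : r'.map i1.hom ≫ z.iso.hom = e₂.hom.app a' ≫ t''.map i2.hom := hw
    refine ⟨⟨z.fst, a', i1.symm⟩, ⟨CategoricalPullback.mkIso (Iso.refl z.fst) i2 ?_⟩⟩
    change (r ⋙ r').map (𝟙 z.fst) ≫ z.iso.hom =
      (r'.map i1.inv ≫ e₂.hom.app a') ≫ t''.map i2.hom
    rw [CategoryTheory.Functor.map_id, Category.id_comp, Category.assoc, ← hw', ← CategoryTheory.Functor.map_comp_assoc,
      Iso.inv_hom_id, CategoryTheory.Functor.map_id, Category.id_comp]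

instance pasteFunctor_isEquivalence [(lowerFunctor t' l' r' t'' e₂).IsEquivalence] :
    (pasteFunctor r t' l' r' t'' e₂).IsEquivalence where

variable {A : Type u} [Category.{v} A] (t : A ⥤ B) (l : A ⥤ A') (e₁ : t ⋙ r ≅ l ⋙ t')

/-- the pasted isomorphism -/
abbrev pastedIso : t ⋙ (r ⋙ r') ≅ (l ⋙ l') ⋙ t'' :=
  (Functor.associator t r r').symm ≪≫ isoWhiskerRight e₁ r' ≪≫ Functor.associator l t' r' ≪≫
    isoWhiskerLeft l e₂ ≪≫ (Functor.associator l l' t'').symm

/-- The outer comparison functor is the composite. -/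
def outerIso :
    (CatCommSqOver.toFunctorToCategoricalPullback (r ⋙ r') t'' A).obj
        ⟨t, l ⋙ l', pastedIso r t' l' r' t'' e₂ t l e₁⟩ ≅
      (CatCommSqOver.toFunctorToCategoricalPullback r t' A).obj ⟨t, l, e₁⟩ ⋙
        pasteFunctor r t' l' r' t'' e₂ :=
  NatIso.ofComponents
    (fun a => CategoricalPullback.mkIso (Iso.refl (t.obj a)) (Iso.refl (l'.obj (l.obj a))) (by
      change (r ⋙ r').map (𝟙 (t.obj a)) ≫ (r'.map (e₁.hom.app a) ≫ e₂.hom.app (l.obj a)) =
        (pastedIso r t' l' r' t'' e₂ t l e₁).hom.app a ≫ t''.map (𝟙 (l'.obj (l.obj a)))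
      simp))
    (by
      intro a b f
      apply CategoricalPullback.hom_ext
      · change t.map f ≫ 𝟙 (t.obj b) = 𝟙 (t.obj a) ≫ t.map f
        simp
      · change l'.map (l.map f) ≫ 𝟙 (l'.obj (l.obj b)) = 𝟙 (l'.obj (l.obj a)) ≫ l'.map (l.map f)
        simp)

theorem paste_iff [(lowerFunctor t' l' r' t'' e₂).IsEquivalence] :
    ((CatCommSqOver.toFunctorToCategoricalPullback r t' A).obj ⟨t, l, e₁⟩).IsEquivalence ↔
      ((CatCommSqOver.toFunctorToCategoricalPullback (r ⋙ r') t'' A).obj
        ⟨t, l ⋙ l', pastedIso r t' l' r' t'' e₂ t l e₁⟩).IsEquivalence := by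
  rw [Functor.isEquivalence_iff_of_iso (outerIso r t' l' r' t'' e₂ t l e₁)]
  constructor
  · intro h
    infer_instance
  · intro h
    exact Functor.isEquivalence_of_comp_right _ (pasteFunctor r t' l' r' t'' e₂)

end Groth.Agent.H77
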