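import Mathlib

/-!
# A graded ring of finite type over its degree-zero part has a Veronese subring generated in degree one (helper77)

For a commutative ring `A` graded by additive subgroups `𝒜 n`, generated over `𝒜 0` by finitely many homogeneous
elements of positive degrees, there is `d₀ > 0` such that for every positive multiple `d` of `d₀`:
`𝒜 (n d) = (𝒜 d)^n` for all `n > 0`, and `𝒜 d` is a finitely generated `𝒜 0`-module
(Bourbaki, Alg. Comm. III §1 no. 3 Prop. 3).
-/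

set_option autoImplicit false

namespace Groth.Agent.H77.VeroneseGen

open scoped Pointwise

variable {A : Type*} [CommRing A] (𝒜 : ℕ → AddSubgroup A) [GradedRing 𝒜]

/-- the degree-`n` piece as a `ℤ`-submodule -/
abbrev P (n : ℕ) : Submodule ℤ A := AddSubgroup.toIntSubmodule (𝒜 n)

theorem P_mul_le (i j : ℕ) : P 𝒜 i * P 𝒜 j ≤ P 𝒜 (i + j) :=
  Submodule.mul_le.mpr fun a ha b hb =>
    (SetLike.mul_mem_graded (A := 𝒜) (show a ∈ 𝒜 i from ha) (show b ∈ 𝒜 j from hb) : a * b ∈ 𝒜 (i + j))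

omit [GradedRing 𝒜] in
theorem P_congr {i j : ℕ} (h : i = j) : P 𝒜 i = P 𝒜 j := by rw [h]

theorem P_zero_mul (n : ℕ) : P 𝒜 0 * P 𝒜 n = P 𝒜 n := by
  apply le_antisymm
  · exact (P_mul_le 𝒜 0 n).trans (P_congr 𝒜 (zero_add n)).le
  · intro x hx
    have : x = 1 * x := (one_mul x).symm
    rw [this]
    exact Submodule.mul_mem_mul (SetLike.GradedOne.one_mem : (1 : A) ∈ 𝒜 0) hx

theorem P_pow_le (d n : ℕ) : P 𝒜 d ^ n ≤ P 𝒜 (n * d) := by
  induction n with
  | zero =>
    rw [pow_zero, zero_mul, Submodule.one_le]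
    exact (SetLike.GradedOne.one_mem : (1 : A) ∈ 𝒜 0)
  | succ n ih =>
    rw [pow_succ]
    exact (mul_le_mul' ih le_rfl).trans ((P_mul_le 𝒜 (n * d) d).trans
      (P_congr 𝒜 (by ring)).le)

section Gen

variable (s : Finset A) (deg : s → ℕ)

/-- the monomial with exponent vector `e` -/
def mon (e : s → ℕ) : A := ∏ i : s, (i : A) ^ e i

/-- the weight of the exponent vector `e` -/
def wt (e : s → ℕ) : ℕ := ∑ i : s, e i • deg i

/-- the monomials of weight `n` -/
def Mon (n : ℕ) : Set A := {m | ∃ e : s → ℕ, wt s deg e = n ∧ m = mon s e}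

variable {s deg} (hdeg : ∀ i : s, (i : A) ∈ 𝒜 (deg i))

include hdeg in
theorem mon_mem (e : s → ℕ) : mon s e ∈ 𝒜 (wt s deg e) :=
  SetLike.prod_pow_mem_graded 𝒜 deg (fun i : s => (i : A)) e (fun i _ => hdeg i)

include hdeg in
theorem Mon_subset (n : ℕ) : Mon s deg n ⊆ (𝒜 n : Set A) := by
  rintro m ⟨e, he, rfl⟩
  exact he ▸ mon_mem 𝒜 hdeg e

include hdeg in
theorem P_le_span_Mon (hs : Algebra.adjoin (𝒜 0) (s : Set A) = ⊤) (n : ℕ) :
    P 𝒜 n ≤ P 𝒜 0 * Submodule.span ℤ (Mon s deg n) := by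
  intro x hx
  have hx0 : x ∈ 𝒜 n := hx
  have hx' : x ∈ Subalgebra.toSubmodule (Algebra.adjoin (𝒜 0) (s : Set A)) := by
    rw [hs]; trivial
  rw [Algebra.adjoin_eq_span] at hx'
  obtain ⟨c, hc, hsum⟩ := Submodule.mem_span_set.mp hx'
  have hx2 : x = GradedRing.proj 𝒜 n x := by
    rw [GradedRing.proj_apply, DirectSum.decompose_of_mem_same 𝒜 hx0]
  rw [hx2, ← hsum, Finsupp.sum, map_sum]
  refine Submodule.sum_mem _ fun m hm => ?_
  obtain ⟨e, rfl⟩ := Submonoid.mem_closure_finset'.mp (hc hm)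
  change GradedRing.proj 𝒜 n (c (mon s e) • mon s e) ∈ _
  have hsm : c (mon s e) • mon s e = ((c (mon s e) : 𝒜 0) : A) * mon s e := by
    rw [Algebra.smul_def]; rfl
  have hmem : ((c (mon s e) : 𝒜 0) : A) * mon s e ∈ 𝒜 (wt s deg e) := by
    have := SetLike.mul_mem_graded (c (mon s e)).2 (mon_mem 𝒜 hdeg e)
    rwa [zero_add] at this
  rw [hsm]
  by_cases hw : wt s deg e = n
  · rw [GradedRing.proj_apply, DirectSum.decompose_of_mem_same 𝒜 (hw ▸ hmem)]
    exact Submodule.mul_mem_mul (c (mon s e)).2 (Submodule.subset_span ⟨e, hw, rfl⟩)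
  · rw [GradedRing.proj_apply, DirectSum.decompose_of_mem_ne 𝒜 hmem hw]
    exact zero_mem _

include hdeg in
theorem P_eq_span_Mon (hs : Algebra.adjoin (𝒜 0) (s : Set A) = ⊤) (n : ℕ) :
    P 𝒜 n = P 𝒜 0 * Submodule.span ℤ (Mon s deg n) := by
  apply le_antisymm (P_le_span_Mon 𝒜 hdeg hs n)
  have h1 : Submodule.span ℤ (Mon s deg n) ≤ P 𝒜 n := Submodule.span_le.mpr (Mon_subset 𝒜 hdeg n)
  exact (mul_le_mul' le_rfl h1).trans (P_zero_mul 𝒜 n).le

theorem Mon_finite (hpos : ∀ i : s, 0 < deg i) (d : ℕ) : (Mon s deg d).Finite := by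
  refine (Set.finite_range (fun e' : s → Fin (d + 1) => mon s (fun i => (e' i : ℕ)))).subset ?_
  rintro m ⟨e, he, rfl⟩
  have hle : ∀ i : s, e i < d + 1 := by
    intro i
    have h1 : e i • deg i ≤ wt s deg e :=
      Finset.single_le_sum (f := fun i : s => e i • deg i) (fun _ _ => Nat.zero_le _) (Finset.mem_univ i)
    have h2 : e i ≤ e i • deg i := by
      rw [smul_eq_mul]
      exact Nat.le_mul_of_pos_right _ (hpos i)
    omega
  exact ⟨fun i => ⟨e i, hle i⟩, rfl⟩

/-- the product of the degrees of the generators -/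
def q (deg : s → ℕ) : ℕ := ∏ i : s, deg i

omit [CommRing A] in
theorem q_pos (hpos : ∀ i : s, 0 < deg i) : 0 < q deg := Finset.prod_pos fun i _ => hpos i

omit [GradedRing 𝒜] in
theorem mon_split (e e' : s → ℕ) (i₀ : s) (k : ℕ) (h1 : ∀ i, i ≠ i₀ → e i = e' i)
    (h2 : e i₀ = e' i₀ + k) : mon s e = (i₀ : A) ^ k * mon s e' := by
  classical
  unfold mon
  rw [← Finset.mul_prod_erase Finset.univ (fun i : s => (i : A) ^ e i) (Finset.mem_univ i₀),
    ← Finset.mul_prod_erase Finset.univ (fun i : s => (i : A) ^ e' i) (Finset.mem_univ i₀)]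
  have h3 : ∏ i ∈ Finset.univ.erase i₀, (i : A) ^ e i = ∏ i ∈ Finset.univ.erase i₀, (i : A) ^ e' i :=
    Finset.prod_congr rfl fun i hi => by rw [h1 i (Finset.ne_of_mem_erase hi)]
  rw [h3, h2, pow_add]
  ring

omit [CommRing A] in
theorem wt_split (e e' : s → ℕ) (i₀ : s) (k : ℕ) (h1 : ∀ i, i ≠ i₀ → e i = e' i)
    (h2 : e i₀ = e' i₀ + k) : wt s deg e = k * deg i₀ + wt s deg e' := by
  classical
  unfold wt
  rw [← Finset.add_sum_erase Finset.univ (fun i : s => e i • deg i) (Finset.mem_univ i₀),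
    ← Finset.add_sum_erase Finset.univ (fun i : s => e' i • deg i) (Finset.mem_univ i₀)]
  have h3 : ∑ i ∈ Finset.univ.erase i₀, e i • deg i = ∑ i ∈ Finset.univ.erase i₀, e' i • deg i :=
    Finset.sum_congr rfl fun i hi => by rw [h1 i (Finset.ne_of_mem_erase hi)]
  rw [h3, h2]
  simp only [smul_eq_mul]
  ring

include hdeg in
theorem P_add_q_le (hs : Algebra.adjoin (𝒜 0) (s : Set A) = ⊤) (hpos : ∀ i : s, 0 < deg i) (M : ℕ)
    (hM : max s.card 1 * q deg ≤ M + q deg) : P 𝒜 (M + q deg) ≤ P 𝒜 (q deg) * P 𝒜 M := by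
  classical
  refine (P_le_span_Mon 𝒜 hdeg hs (M + q deg)).trans ?_
  have h0 : P 𝒜 0 = Submodule.span ℤ ((𝒜 0 : Set A)) := (Submodule.span_eq (P 𝒜 0)).symm
  rw [h0, Submodule.span_mul_span, Submodule.span_le]
  rintro _ ⟨c, hc, m, ⟨e, he, rfl⟩, rfl⟩
  have hc0 : c ∈ 𝒜 0 := hc
  -- find a generator with a large exponent
  have hex : ∃ i₀ : s, q deg ≤ e i₀ * deg i₀ := by
    by_contra hcon
    push Not at hcon
    rcases Finset.univ.eq_empty_or_nonempty (α := s) with hemp | hne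
    · have hw : wt s deg e = 0 := by unfold wt; rw [hemp, Finset.sum_empty]
      have hq : q deg = 1 := by unfold q; rw [hemp, Finset.prod_empty]
      have : 1 ≤ max s.card 1 := le_max_right _ _
      rw [hw, hq] at he
      rw [hq] at hM
      omega
    · have hlt : wt s deg e < ∑ _i : s, q deg := by
        unfold wt
        exact Finset.sum_lt_sum_of_nonempty hne (fun i _ => by rw [smul_eq_mul]; exact hcon i)
      rw [Finset.sum_const, Finset.card_univ, Fintype.card_coe, smul_eq_mul] at hlt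
      have : s.card ≤ max s.card 1 := le_max_left _ _
      have h3 : s.card * q deg ≤ max s.card 1 * q deg := Nat.mul_le_mul_right _ this
      omega
  obtain ⟨i₀, hi₀⟩ := hex
  have hdvd : deg i₀ ∣ q deg := Finset.dvd_prod_of_mem deg (Finset.mem_univ i₀)
  obtain ⟨k, hk⟩ := hdvd
  have hk' : k * deg i₀ = q deg := by rw [hk, mul_comm]
  have hke : k ≤ e i₀ := by
    have : k * deg i₀ ≤ e i₀ * deg i₀ := hk' ▸ hi₀
    exact Nat.le_of_mul_le_mul_right this (hpos i₀)
  -- split the exponent vector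
  let e' : s → ℕ := fun i => if i = i₀ then e i₀ - k else e i
  have he1 : ∀ i, i ≠ i₀ → e i = e' i := fun i h => by simp only [e', if_neg h]
  have he2 : e i₀ = e' i₀ + k := by simp only [e', if_true]; omega
  have hmon : mon s e = (i₀ : A) ^ k * mon s e' := mon_split e e' i₀ k he1 he2
  have hwt : wt s deg e = k * deg i₀ + wt s deg e' := wt_split e e' i₀ k he1 he2
  have hwt' : wt s deg e' = M := by omega
  have h1 : (i₀ : A) ^ k ∈ 𝒜 (q deg) := by
    have := SetLike.pow_mem_graded k (hdeg i₀)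
    rwa [smul_eq_mul, hk'] at this
  have h2 : c * mon s e' ∈ 𝒜 M := by
    have := SetLike.mul_mem_graded hc0 (mon_mem 𝒜 hdeg e')
    rwa [zero_add, hwt'] at this
  have h3 : c * mon s e = (i₀ : A) ^ k * (c * mon s e') := by rw [hmon]; ring
  change c * mon s e ∈ _
  rw [h3]
  exact Submodule.mul_mem_mul h1 h2

include hdeg in
theorem P_add_mul_q_le (hs : Algebra.adjoin (𝒜 0) (s : Set A) = ⊤) (hpos : ∀ i : s, 0 < deg i) (M : ℕ)
    (hM : max s.card 1 * q deg ≤ M + q deg) (j : ℕ) :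
    P 𝒜 (M + j * q deg) ≤ P 𝒜 (q deg) ^ j * P 𝒜 M := by
  induction j with
  | zero => rw [zero_mul, add_zero, pow_zero, one_mul]
  | succ j ih =>
    have e1 : M + (j + 1) * q deg = (M + j * q deg) + q deg := by ring
    rw [P_congr 𝒜 e1, pow_succ', mul_assoc]
    refine (P_add_q_le 𝒜 hdeg hs hpos (M + j * q deg) ?_).trans (mul_le_mul' le_rfl ih)
    have : 0 ≤ j * q deg := Nat.zero_le _
    omega

include hdeg in
/-- the main statement for a given finite set of homogeneous generators of positive degrees -/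
theorem exists_good_of_gen (hs : Algebra.adjoin (𝒜 0) (s : Set A) = ⊤) (hpos : ∀ i : s, 0 < deg i) :
    ∃ d₀ : ℕ, 0 < d₀ ∧ ∀ t : ℕ, 0 < t →
      (∀ n : ℕ, 0 < n → P 𝒜 (n * (t * d₀)) = P 𝒜 (t * d₀) ^ n) ∧
      ∃ T : Finset A, (↑T : Set A) ⊆ (𝒜 (t * d₀) : Set A) ∧
        P 𝒜 (t * d₀) = P 𝒜 0 * Submodule.span ℤ (↑T : Set A) := by
  have hq := q_pos hpos
  have hr : 0 < max s.card 1 := lt_of_lt_of_le Nat.one_pos (le_max_right _ _)
  refine ⟨max s.card 1 * q deg, Nat.mul_pos hr hq, fun t ht => ⟨?_, ?_⟩⟩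
  · set d := t * (max s.card 1 * q deg) with hd
    have hdc : d = (t * max s.card 1) * q deg := by rw [hd]; ring
    have hcge : max s.card 1 ≤ t * max s.card 1 := Nat.le_mul_of_pos_left _ ht
    have hdge : max s.card 1 * q deg ≤ d := by
      rw [hdc]; exact Nat.mul_le_mul_right _ hcge
    -- the key step
    have key : ∀ k : ℕ, 0 < k → P 𝒜 ((k + 1) * d) ≤ P 𝒜 d * P 𝒜 (k * d) := by
      intro k hk
      have e1 : (k + 1) * d = k * d + (t * max s.card 1) * q deg := by rw [← hdc]; ring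
      rw [P_congr 𝒜 e1]
      have hkd : d ≤ k * d := Nat.le_mul_of_pos_left _ hk
      refine (P_add_mul_q_le 𝒜 hdeg hs hpos (k * d) (by omega) (t * max s.card 1)).trans ?_
      refine mul_le_mul' ?_ le_rfl
      exact (P_pow_le 𝒜 (q deg) (t * max s.card 1)).trans (P_congr 𝒜 hdc.symm).le
    intro n hn
    induction n with
    | zero => exact absurd hn (lt_irrefl 0)
    | succ n ih =>
      rcases Nat.eq_zero_or_pos n with h0 | hpos'
      · subst h0; rw [zero_add, one_mul, pow_one]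
      · apply le_antisymm
        · refine (key n hpos').trans ?_
          rw [ih hpos', pow_succ']
        · exact P_pow_le 𝒜 d (n + 1)
  · refine ⟨(Mon_finite hpos (t * (max s.card 1 * q deg))).toFinset, ?_, ?_⟩
    · rw [Set.Finite.coe_toFinset]
      exact Mon_subset 𝒜 hdeg _
    · rw [Set.Finite.coe_toFinset]
      exact P_eq_span_Mon 𝒜 hdeg hs _

end Gen

/-- finite type over a ring mapping into degree zero implies finite type over the degree-zero subring -/
theorem finiteType_zero_of_ringHom {R : Type*} [CommRing R] (f : R →+* A) (hf : f.FiniteType)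
    (h0 : ∀ r, f r ∈ 𝒜 0) : Algebra.FiniteType (𝒜 0) A := by
  let _ := f.toAlgebra
  obtain ⟨t, ht⟩ := (hf : Algebra.FiniteType R A).out
  refine ⟨⟨t, ?_⟩⟩
  have key : ∀ x : A, x ∈ Algebra.adjoin R (t : Set A) → x ∈ Algebra.adjoin (𝒜 0) (t : Set A) := by
    intro x hx
    induction hx using Algebra.adjoin_induction with
    | mem x hx => exact Algebra.subset_adjoin hx
    | algebraMap r =>
      exact Subalgebra.algebraMap_mem (Algebra.adjoin (𝒜 0) (t : Set A)) (⟨f r, h0 r⟩ : 𝒜 0)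
    | add x y _ _ hx hy => exact add_mem hx hy
    | mul x y _ _ hx hy => exact mul_mem hx hy
  rw [eq_top_iff]
  intro x _
  exact key x (by rw [ht]; trivial)

/-- the main statement for a ring of finite type over a ring mapping into degree zero -/
theorem exists_good {R : Type*} [CommRing R] (f : R →+* A) (hf : f.FiniteType)
    (h0 : ∀ r, f r ∈ 𝒜 0) :
    ∃ d₀ : ℕ, 0 < d₀ ∧ ∀ t : ℕ, 0 < t →
      (∀ n : ℕ, 0 < n → P 𝒜 (n * (t * d₀)) = P 𝒜 (t * d₀) ^ n) ∧
      ∃ T : Finset A, (↑T : Set A) ⊆ (𝒜 (t * d₀) : Set A) ∧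
        P 𝒜 (t * d₀) = P 𝒜 0 * Submodule.span ℤ (↑T : Set A) := by
  have := finiteType_zero_of_ringHom 𝒜 f hf h0
  obtain ⟨s, hs, hs'⟩ := GradedAlgebra.exists_finset_adjoin_eq_top_and_homogeneous_ne_zero 𝒜
  choose! n hn using hs'
  exact exists_good_of_gen 𝒜 (s := s) (deg := fun i => n i.1) (fun i => (hn i.1 i.2).2) hs
    (fun i => Nat.pos_of_ne_zero (hn i.1 i.2).1)

end Groth.Agent.H77.VeroneseGen
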